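import Mathlib

/-!
# Counting involutions in a 2-transitive group of odd degree with trivial 3-point stabilisers
(helper6)
-/

set_option autoImplicit false

namespace Cfsg.Agent.Lib.Helper6

open MulAction

variable {G Ω : Type*} [Group G] [MulAction G Ω]

/-- An involution of a group acting on an odd number of points, with at most two fixed points for
non-identity elements, has exactly one fixed point. -/
theorem involution_existsUnique_fixed [Fintype Ω] [DecidableEq Ω] (hodd : Odd (Fintype.card Ω))
    (h3 : ∀ g : G, ∀ a b c : Ω, a ≠ b → b ≠ c → a ≠ c → g • a = a → g • b = b → g • c = c → g = 1)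
    {t : G} (ht1 : t ≠ 1) (ht2 : t * t = 1) : ∃! c : Ω, t • c = c := by
  classical
  let F := Finset.univ.filter (fun c : Ω => t • c = c)
  have hFodd : Odd F.card := by
    have hσ : (MulAction.toPerm t : Equiv.Perm Ω) ^ 2 ^ 1 = 1 := by
      ext c
      simp [pow_two, ← mul_smul, ht2]
    have : Fact (Nat.Prime 2) := ⟨Nat.prime_two⟩
    have hmod := Equiv.Perm.card_compl_support_modEq (p := 2) (n := 1) hσ
    have hF : F = (MulAction.toPerm t : Equiv.Perm Ω).supportᶜ := by
      ext c
      simp [F, Equiv.Perm.mem_support]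
    rw [hF, Nat.odd_iff, hmod, ← Nat.odd_iff]
    exact hodd
  have hFle : F.card ≤ 2 := by
    by_contra h
    push Not at h
    obtain ⟨c1, c2, c3, h1, h2, h3', h12, h13, h23⟩ := Finset.two_lt_card_iff.mp h
    simp only [F, Finset.mem_filter, Finset.mem_univ, true_and] at h1 h2 h3'
    exact ht1 (h3 t c1 c2 c3 h12 h23 h13 h1 h2 h3')
  have hF1 : F.card = 1 := by
    obtain ⟨k, hk⟩ := hFodd
    omega
  obtain ⟨a1, ha1⟩ := Finset.card_eq_one.mp hF1
  have hfix : ∀ c, t • c = c ↔ c = a1 := by
    intro c
    have : c ∈ F ↔ c ∈ ({a1} : Finset Ω) := by rw [ha1]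
    simpa [F] using this
  exact ⟨a1, (hfix a1).mpr rfl, fun c hc => (hfix c).mp hc⟩

section Count

variable [Fintype G] [DecidableEq G] [Fintype Ω] [DecidableEq Ω]

/-- the involutions of `G` -/
def invs (G : Type*) [Group G] [Fintype G] [DecidableEq G] : Finset G :=
  Finset.univ.filter (fun t : G => t ≠ 1 ∧ t * t = 1)

/-- the involutions mapping `c` to `d` -/
def invsMap (c d : Ω) : Finset G := (invs G).filter (fun t => t • c = d)

theorem mem_invs {t : G} : t ∈ invs G ↔ t ≠ 1 ∧ t * t = 1 := by simp [invs]

theorem mem_invsMap {c d : Ω} {t : G} : t ∈ invsMap (G := G) c d ↔ (t ≠ 1 ∧ t * t = 1) ∧ t • c = d := by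
  simp [invsMap, mem_invs]

/-- Conjugation transports the involutions mapping `c` to `d`. -/
theorem card_invsMap_smul (g : G) (c d : Ω) :
    (invsMap (G := G) (g • c) (g • d)).card = (invsMap (G := G) c d).card := by
  symm
  apply Finset.card_bij' (fun t _ => g * t * g⁻¹) (fun t _ => g⁻¹ * t * g)
  · intro t ht
    rw [mem_invsMap] at ht ⊢
    refine ⟨⟨?_, ?_⟩, ?_⟩
    · intro h
      apply ht.1.1
      have := congrArg (fun z => g⁻¹ * z * g) h
      simpa [mul_assoc] using this
    · calc g * t * g⁻¹ * (g * t * g⁻¹) = g * (t * t) * g⁻¹ := by group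
        _ = 1 := by rw [ht.1.2]; group
    · rw [mul_smul, mul_smul, inv_smul_smul, ht.2]
  · intro t ht
    rw [mem_invsMap] at ht ⊢
    refine ⟨⟨?_, ?_⟩, ?_⟩
    · intro h
      apply ht.1.1
      have := congrArg (fun z => g * z * g⁻¹) h
      simpa [mul_assoc] using this
    · calc g⁻¹ * t * g * (g⁻¹ * t * g) = g⁻¹ * (t * t) * g := by group
        _ = 1 := by rw [ht.1.2]; group
    · rw [mul_smul, mul_smul, ht.2, inv_smul_smul]
  · intro t _
    group
  · intro t _
    group

/-- In a 2-transitive group of odd degree in which only the identity fixes three points, the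
number of involutions fixing a point `a` equals the number of involutions mapping `a` to a given
other point `b`. -/
theorem card_invsMap_self_eq (hodd : Odd (Fintype.card Ω))
    (h2 : ∀ a b c d : Ω, a ≠ b → c ≠ d → ∃ g : G, g • a = c ∧ g • b = d)
    (h3 : ∀ g : G, ∀ a b c : Ω, a ≠ b → b ≠ c → a ≠ c → g • a = a → g • b = b → g • c = c → g = 1)
    {a b : Ω} (hab : a ≠ b) :
    (invsMap (G := G) a a).card = (invsMap (G := G) a b).card := by
  have htrans : ∀ c : Ω, ∃ g : G, g • a = c := by
    intro c
    by_cases hc : c = a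
    · exact ⟨1, by rw [one_smul, hc]⟩
    · obtain ⟨g, hg, -⟩ := h2 a b c a hab hc
      exact ⟨g, hg⟩
  have hi : ∀ c : Ω, (invsMap (G := G) c c).card = (invsMap (G := G) a a).card := by
    intro c
    obtain ⟨g, rfl⟩ := htrans c
    exact card_invsMap_smul g a a
  have hj : ∀ c d : Ω, c ≠ d → (invsMap (G := G) c d).card = (invsMap (G := G) a b).card := by
    intro c d hcd
    obtain ⟨g, rfl, rfl⟩ := h2 a b c d hab hcd
    exact card_invsMap_smul g a b
  -- partition of the involutions by the image of `a`
  have h1 : (invs G).card = (invsMap (G := G) a a).card +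
      (Fintype.card Ω - 1) * (invsMap (G := G) a b).card := by
    rw [Finset.card_eq_sum_card_fiberwise (f := fun t : G => t • a) (s := invs G)
      (t := Finset.univ) (fun _ _ => Finset.mem_univ _)]
    rw [← Finset.add_sum_erase _ _ (Finset.mem_univ a)]
    congr 1
    rw [Finset.sum_const_nat (m := (invsMap (G := G) a b).card)]
    · rw [Finset.card_erase_of_mem (Finset.mem_univ a), Finset.card_univ]
    · intro d hd
      exact hj a d (Finset.ne_of_mem_erase hd).symm
  -- each involution has exactly one fixed point
  have h4 : (invs G).card = Fintype.card Ω * (invsMap (G := G) a a).card := by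
    have hdc := Finset.sum_card_bipartiteAbove_eq_sum_card_bipartiteBelow (s := invs G)
      (t := (Finset.univ : Finset Ω)) (r := fun t c => t • c = c)
    simp only [Finset.bipartiteAbove, Finset.bipartiteBelow] at hdc
    have hL : ∑ t ∈ invs G, (Finset.univ.filter (fun c : Ω => t • c = c)).card = (invs G).card := by
      rw [Finset.card_eq_sum_ones]
      apply Finset.sum_congr rfl
      intro t ht
      rw [mem_invs] at ht
      obtain ⟨c, hc, huniq⟩ := involution_existsUnique_fixed hodd h3 ht.1 ht.2
      rw [Finset.card_eq_one]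
      refine ⟨c, ?_⟩
      ext d
      simp only [Finset.mem_filter, Finset.mem_univ, true_and, Finset.mem_singleton]
      exact ⟨fun hd => huniq d hd, fun hd => hd ▸ hc⟩
    have hR : ∑ c : Ω, ((invs G).filter (fun t => t • c = c)).card =
        Fintype.card Ω * (invsMap (G := G) a a).card := by
      rw [Finset.sum_const_nat (m := (invsMap (G := G) a a).card)]
      · rw [Finset.card_univ]
      · intro c _
        exact hi c
    rw [← hL, hdc, hR]
  have hn : 2 ≤ Fintype.card Ω := by
    rw [← Finset.card_univ]
    have : ({a, b} : Finset Ω) ⊆ Finset.univ := Finset.subset_univ _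
    have h := Finset.card_le_card this
    rwa [Finset.card_pair hab] at h
  rw [h4] at h1
  obtain ⟨k, hk⟩ : ∃ k, Fintype.card Ω = k + 2 := ⟨Fintype.card Ω - 2, by omega⟩
  rw [hk] at h1
  have e1 : k + 2 - 1 = k + 1 := by omega
  rw [e1] at h1
  have : (k + 1) * (invsMap (G := G) a a).card = (k + 1) * (invsMap (G := G) a b).card := by
    have : (k + 2) * (invsMap (G := G) a a).card =
        (invsMap (G := G) a a).card + (k + 1) * (invsMap (G := G) a a).card := by ring
    omega
  exact Nat.eq_of_mul_eq_mul_left (by omega) this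

end Count

end Cfsg.Agent.Lib.Helper6
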