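import Mathlib
import Cfsg.Prelude.Def_GeometricClasses
import Cfsg.Agent.Lib.Helper99.AschDefs
import Cfsg.Agent.Lib.Helper20.AschU.Basic
import Cfsg.Agent.Lib.Helper20.AschU.Ctr

/-!
# ASCHU-[STDFORM] (helper6): the standard unitary forms and the frozen "form structure" predicates
-/

set_option autoImplicit false
set_option linter.unusedSectionVars false

namespace Cfsg.Agent.Lib.Helper6.AschU

open Cfsg Cfsg.Geo Cfsg.Agent.Lib.Helper99.Asch Cfsg.Agent.Lib.Helper5 Cfsg.Agent.Lib.Helper20.AschU
open scoped MatrixGroups Matrix Kronecker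

variable {n : ℕ} {F : Type*} [Field F] [Fintype F] {q : ℕ}

/-- the Gram matrix of the standard unitary form is the identity -/
theorem gramMatrix_hermForm (hF : Fintype.card F = q ^ 2) (d : ℕ) :
    gramMatrix (hermForm d F q) = (1 : Matrix (Fin d) (Fin d) F) := by
  ext a b
  rw [gramMatrix, hermForm_single_left, one_mul, Matrix.one_apply]
  by_cases h : a = b
  · subst h; simp
  · rw [if_neg h, Pi.single_apply, if_neg h, zero_pow (q_ne_zero hF)]

/-- the standard form of a reindexed vector -/
theorem hermForm_comp_equiv {κ : Type*} [Fintype κ] (idx : Fin n ≃ κ) (x y : κ → F) :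
    hermForm n F q (x ∘ idx) (y ∘ idx) = ∑ a, x a * (y a) ^ q := by
  rw [hermForm]
  exact Equiv.sum_comp idx (fun a => x a * (y a) ^ q)

end Cfsg.Agent.Lib.Helper6.AschU

namespace Cfsg.Agent.Lib.Helper20.AschU

open Cfsg Cfsg.Geo Cfsg.Agent.Lib.Helper99.Asch Cfsg.Agent.Lib.Helper5
open scoped MatrixGroups Matrix Kronecker

variable {n : ℕ} {F : Type*} [Field F] [Fintype F] {q : ℕ}

/-- ASCHU-[STDFORM] -/
theorem isUnitaryFormPow_hermForm (hF : Fintype.card F = q ^ 2) (d : ℕ) :
    IsUnitaryFormPow q (hermForm d F q) where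
  add_left x y v := hermForm_add_left x y v
  smul_left c x v := hermForm_smul_left c x v
  herm v w := (hermForm_conj hF w v).symm
  nondegenerate := by
    intro v hv
    constructor
    · by_contra hcon
      push Not at hcon
      exact hv (hermForm_eq_zero_right hF v hcon)
    · by_contra hcon
      push Not at hcon
      exact hv (hermForm_eq_zero_left hF v hcon)

/-- ASCHU-[STDFORM] -/
theorem isTensorFormStructure_std (hF : Fintype.card F = q ^ 2) (d e : ℕ) (idx : Fin n ≃ Fin d × Fin e)
    (P : GL (Fin n) F) (hP : P ∈ similarityGroup (hermForm n F q)) :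
    IsTensorFormStructure (fun x : F => x ^ q) (hermForm n F q) (hermForm d F q) (hermForm e F q) idx P := by
  obtain ⟨c, hc⟩ := hP
  refine ⟨c, c.ne_zero, fun x y => ?_⟩
  rw [hc, Cfsg.Agent.Lib.Helper6.AschU.hermForm_comp_equiv,
    Cfsg.Agent.Lib.Helper6.AschU.gramMatrix_hermForm hF, Cfsg.Agent.Lib.Helper6.AschU.gramMatrix_hermForm hF,
    Matrix.one_kronecker_one, formOfGram]
  congr 1
  refine Finset.sum_congr rfl (fun a _ => ?_)
  rw [Finset.sum_eq_single a]
  · rw [Matrix.one_apply_eq, mul_one]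
  · intro b _ hba
    rw [Matrix.one_apply_ne (Ne.symm hba), mul_zero, zero_mul]
  · intro h; exact absurd (Finset.mem_univ a) h

/-- ASCHU-[STDFORM] -/
theorem isTensorPowerFormStructure_std (hF : Fintype.card F = q ^ 2) (k t : ℕ) (e : Fin n ≃ (Fin t → Fin k))
    (P : GL (Fin n) F) (hP : P ∈ similarityGroup (hermForm n F q)) :
    IsTensorPowerFormStructure (fun x : F => x ^ q) (hermForm n F q) (hermForm k F q) e P := by
  obtain ⟨c, hc⟩ := hP
  refine ⟨c, c.ne_zero, fun x y => ?_⟩
  rw [hc, Cfsg.Agent.Lib.Helper6.AschU.hermForm_comp_equiv,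
    Cfsg.Agent.Lib.Helper6.AschU.gramMatrix_hermForm hF]
  congr 1
  refine Finset.sum_congr rfl (fun a _ => ?_)
  rw [Finset.sum_eq_single a]
  · have : (∏ i, (1 : Matrix (Fin k) (Fin k) F) (a i) (a i)) = 1 := by
      simp
    rw [this, mul_one]
  · intro b _ hba
    have : (∏ i, (1 : Matrix (Fin k) (Fin k) F) (a i) (b i)) = 0 := by
      have hne : ∃ i, a i ≠ b i := by
        by_contra hall
        push Not at hall
        exact hba (funext fun i => (hall i).symm)
      obtain ⟨i, hi⟩ := hne
      exact Finset.prod_eq_zero (Finset.mem_univ i) (Matrix.one_apply_ne hi)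
    rw [this, mul_zero, zero_mul]
  · intro h; exact absurd (Finset.mem_univ a) h

end Cfsg.Agent.Lib.Helper20.AschU
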