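import Cfsg.Agent.Lib.Helper6.BNBasic

set_option autoImplicit false

namespace Cfsg.Agent.Lib.Helper6

open Cfsg

variable {G : Type*} [Group G] (P : Cfsg.BNPair G)

/-- `l` is a word in the letters `K` -/
def IsWord (K : Set G) (l : List G) : Prop := ∀ s ∈ l, s ∈ K

theorem isWord_nil (K : Set G) : IsWord K ([] : List G) := by
  intro s hs; simp at hs

theorem isWord_cons {K : Set G} {s : G} {l : List G} :
    IsWord K (s :: l) ↔ s ∈ K ∧ IsWord K l := by
  unfold IsWord; simp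

theorem isWord_append {K : Set G} {l₁ l₂ : List G} :
    IsWord K (l₁ ++ l₂) ↔ IsWord K l₁ ∧ IsWord K l₂ := by
  unfold IsWord
  simp only [List.mem_append]
  constructor
  · intro h; exact ⟨fun s hs => h s (Or.inl hs), fun s hs => h s (Or.inr hs)⟩
  · rintro ⟨h1, h2⟩ s (hs | hs)
    · exact h1 s hs
    · exact h2 s hs

theorem isWord_mono {K K' : Set G} (h : K ⊆ K') {l : List G} (hl : IsWord K l) : IsWord K' l :=
  fun s hs => h (hl s hs)

theorem prod_mem_N {l : List G} (hl : IsWord P.S l) : l.prod ∈ P.N :=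
  P.N.list_prod_mem (fun s hs => P.subset (hl s hs))

theorem prod_mem_closure {K : Set G} {l : List G} (hl : IsWord K l) : l.prod ∈ Subgroup.closure K :=
  (Subgroup.closure K).list_prod_mem (fun s hs => Subgroup.subset_closure (hl s hs))

/-- `n ≡ n'` modulo `B` on the right. -/
def Rel (n n' : G) : Prop := n⁻¹ * n' ∈ P.B

theorem rel_refl (n : G) : Rel P n n := by unfold Rel; simp [P.B.one_mem]

theorem rel_symm {n n' : G} (h : Rel P n n') : Rel P n' n := by
  unfold Rel at *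
  have := P.B.inv_mem h
  simpa using this

theorem rel_trans {a b c : G} (h1 : Rel P a b) (h2 : Rel P b c) : Rel P a c := by
  unfold Rel at *
  have := P.B.mul_mem h1 h2
  have e : a⁻¹ * b * (b⁻¹ * c) = a⁻¹ * c := by group
  rwa [e] at this

/-- For elements of `N`, `Rel` is membership in `T`. -/
theorem rel_mem_T {n n' : G} (hn : n ∈ P.N) (hn' : n' ∈ P.N) (h : Rel P n n') :
    n⁻¹ * n' ∈ P.B ⊓ P.N := ⟨h, P.N.mul_mem (P.N.inv_mem hn) hn'⟩

/-- left multiplication preserves `Rel` (no hypothesis needed). -/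
theorem rel_mul_left (g : G) {n n' : G} (h : Rel P n n') : Rel P (g * n) (g * n') := by
  unfold Rel at *
  have e : (g * n)⁻¹ * (g * n') = n⁻¹ * n' := by group
  rwa [e]

/-- right multiplication by elements of `N` preserves `Rel` on `N`. -/
theorem rel_mul_right {n n' m : G} (hn : n ∈ P.N) (hn' : n' ∈ P.N) (hm : m ∈ P.N)
    (h : Rel P n n') : Rel P (n * m) (n' * m) := by
  have hT := rel_mem_T P hn hn' h
  have := conj_mem_T' P hm hT
  unfold Rel
  have e : (n * m)⁻¹ * (n' * m) = m⁻¹ * (n⁻¹ * n') * m := by group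
  rw [e]
  exact this.1

theorem rel_mul {a a' b b' : G} (ha : a ∈ P.N) (ha' : a' ∈ P.N) (hb : b ∈ P.N)
    (h1 : Rel P a a') (h2 : Rel P b b') : Rel P (a * b) (a' * b') :=
  rel_trans P (rel_mul_right P ha ha' hb h1) (rel_mul_left P a' h2)

theorem rel_inDC {n n' : G} (h : Rel P n n') : InDC P n n' := by
  refine ⟨1, P.B.one_mem, n⁻¹ * n', h, by group⟩

theorem inDC_congr_left {n n' g : G} (h : Rel P n n') : InDC P n g ↔ InDC P n' g :=
  ⟨inDC_of_rel P h, inDC_of_rel P (rel_symm P h)⟩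

/-- `s * s * n ≡ n` -/
theorem rel_sq_mul {s n : G} (hs : s ∈ P.S) (hn : n ∈ P.N) : Rel P (s * (s * n)) n := by
  unfold Rel
  have := conj_mem_T' P hn ((P.B ⊓ P.N).inv_mem (sq_mem_T P hs))
  have e : (s * (s * n))⁻¹ * n = n⁻¹ * (s * s)⁻¹ * n := by group
  rw [e]; exact this.1

theorem rel_mul_sq {s n : G} (hs : s ∈ P.S) : Rel P (n * s * s) n := by
  unfold Rel
  have e : (n * s * s)⁻¹ * n = (s * s)⁻¹ := by group
  rw [e]; exact P.B.inv_mem (P.sq_mem s hs)

/-- `s⁻¹ * n ≡ s * n` -/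
theorem rel_inv_mul {s n : G} (hs : s ∈ P.S) (hn : n ∈ P.N) : Rel P (s⁻¹ * n) (s * n) := by
  unfold Rel
  have := conj_mem_T' P hn (sq_mem_T P hs)
  have e : (s⁻¹ * n)⁻¹ * (s * n) = n⁻¹ * (s * s) * n := by group
  rw [e]; exact this.1

theorem rel_mul_inv {s n : G} (hs : s ∈ P.S) : Rel P (n * s⁻¹) (n * s) := by
  unfold Rel
  have e : (n * s⁻¹)⁻¹ * (n * s) = s * s := by group
  rw [e]; exact P.sq_mem s hs

/-- `l` represents `n` modulo `B`. -/
def Rep (l : List G) (n : G) : Prop := IsWord P.S l ∧ Rel P l.prod n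

/-- Every element of `closure K ⊔ T` is represented by a `K`-word (for `K ⊆ S`). -/
theorem exists_word_of_mem {K : Set G} (hK : K ⊆ P.S) {n : G}
    (hn : n ∈ Subgroup.closure K ⊔ (P.B ⊓ P.N)) :
    ∃ l, IsWord K l ∧ Rel P l.prod n := by
  -- the set of good elements is a subgroup of N
  let Y : Subgroup G :=
    { carrier := {g | g ∈ P.N ∧ ∃ l, IsWord K l ∧ Rel P l.prod g}
      one_mem' := ⟨P.N.one_mem, [], isWord_nil K, by simp [Rel, P.B.one_mem]⟩
      mul_mem' := by
        rintro a b ⟨ha, la, hla, ra⟩ ⟨hb, lb, hlb, rb⟩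
        refine ⟨P.N.mul_mem ha hb, la ++ lb, isWord_append.2 ⟨hla, hlb⟩, ?_⟩
        rw [List.prod_append]
        exact rel_mul P (prod_mem_N P (isWord_mono hK hla)) ha
          (prod_mem_N P (isWord_mono hK hlb)) ra rb
      inv_mem' := by
        rintro a ⟨ha, la, hla, ra⟩
        refine ⟨P.N.inv_mem ha, ?_⟩
        -- induction on la, generalizing a
        clear hn
        induction la generalizing a with
        | nil =>
          refine ⟨[], isWord_nil K, ?_⟩
          simp only [List.prod_nil, Rel, inv_one, one_mul] at ra ⊢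
          exact P.B.inv_mem ra
        | cons s l ih =>
          rw [isWord_cons] at hla
          have hsS : s ∈ P.S := hK hla.1
          have hlN : l.prod ∈ P.N := prod_mem_N P (isWord_mono hK hla.2)
          -- a ≡ s * l.prod, so a⁻¹ ≡ l.prod⁻¹ * s⁻¹ ≡ l.prod⁻¹ * s
          obtain ⟨l', hl', rl'⟩ := ih (a := l.prod) hlN hla.2 (rel_refl P _)
          refine ⟨l' ++ [s], isWord_append.2 ⟨hl', by intro x hx; simp at hx; rw [hx]; exact hla.1⟩, ?_⟩
          rw [List.prod_append, List.prod_singleton]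
          rw [List.prod_cons] at ra
          have hl'N : l'.prod ∈ P.N := prod_mem_N P (isWord_mono hK hl')
          have hsN : s ∈ P.N := P.subset hsS
          -- l'.prod * s ≡ l.prod⁻¹ * s ≡ l.prod⁻¹ * s⁻¹ = (s * l.prod)⁻¹ ≡ a⁻¹
          have h1 : Rel P (l'.prod * s) (l.prod⁻¹ * s) :=
            rel_mul_right P hl'N (P.N.inv_mem hlN) hsN rl'
          have h2 : Rel P (l.prod⁻¹ * s) (l.prod⁻¹ * s⁻¹) := rel_symm P (rel_mul_inv P hsS)
          have h3 : Rel P (l.prod⁻¹ * s⁻¹) a⁻¹ := by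
            have hT := rel_mem_T P (P.N.mul_mem hsN hlN) ha ra
            -- (s l)⁻¹ a ∈ T ; want ((s l)⁻¹)⁻¹ * a⁻¹ ... compute
            unfold Rel
            have e : (l.prod⁻¹ * s⁻¹)⁻¹ * a⁻¹ = a * ((s * l.prod)⁻¹ * a)⁻¹ * a⁻¹ := by group
            rw [e]
            exact (conj_mem_T P ha ((P.B ⊓ P.N).inv_mem hT)).1
          exact rel_trans P h1 (rel_trans P h2 h3) }
  have hle : Subgroup.closure K ⊔ (P.B ⊓ P.N) ≤ Y := by
    refine sup_le ?_ ?_
    · rw [Subgroup.closure_le]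
      intro s hs
      refine ⟨P.subset (hK hs), [s], ?_, ?_⟩
      · intro x hx; simp at hx; rw [hx]; exact hs
      · simp [Rel, P.B.one_mem]
    · intro t ht
      refine ⟨ht.2, [], isWord_nil K, ?_⟩
      simpa [Rel] using ht.1
  exact (hle hn).2

theorem exists_rep {n : G} (hn : n ∈ P.N) : ∃ l, Rep P l n := by
  have : n ∈ Subgroup.closure P.S ⊔ (P.B ⊓ P.N) := by rw [P.closure_sup]; exact hn
  exact exists_word_of_mem P (le_refl _) this

/-- the length of `n ∈ N` with respect to `S` (modulo `B`). -/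
noncomputable def len (n : G) : ℕ := sInf {k | ∃ l, Rep P l n ∧ l.length = k}

theorem len_le_of_rep {l : List G} {n : G} (h : Rep P l n) : len P n ≤ l.length :=
  Nat.sInf_le ⟨l, h, rfl⟩

theorem exists_rep_len {n : G} (hn : n ∈ P.N) : ∃ l, Rep P l n ∧ l.length = len P n := by
  obtain ⟨l, hl⟩ := exists_rep P hn
  have hne : {k | ∃ l, Rep P l n ∧ l.length = k}.Nonempty := ⟨l.length, l, hl, rfl⟩
  exact Nat.sInf_mem hne

theorem rep_congr {l : List G} {n n' : G} (h : Rel P n n') : Rep P l n ↔ Rep P l n' :=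
  ⟨fun ⟨h1, h2⟩ => ⟨h1, rel_trans P h2 h⟩, fun ⟨h1, h2⟩ => ⟨h1, rel_trans P h2 (rel_symm P h)⟩⟩

theorem len_congr {n n' : G} (h : Rel P n n') : len P n = len P n' := by
  unfold len
  congr 1
  ext k
  simp only [Set.mem_ofPred_eq]
  constructor
  · rintro ⟨l, hl, rfl⟩; exact ⟨l, (rep_congr P h).1 hl, rfl⟩
  · rintro ⟨l, hl, rfl⟩; exact ⟨l, (rep_congr P h).2 hl, rfl⟩

theorem rep_cons {l : List G} {n s : G} (hs : s ∈ P.S) (h : Rep P l n) : Rep P (s :: l) (s * n) := by
  refine ⟨isWord_cons.2 ⟨hs, h.1⟩, ?_⟩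
  rw [List.prod_cons]
  exact rel_mul_left P s h.2

theorem rep_snoc {l : List G} {n s : G} (hs : s ∈ P.S) (hn : n ∈ P.N) (h : Rep P l n) :
    Rep P (l ++ [s]) (n * s) := by
  refine ⟨isWord_append.2 ⟨h.1, by intro x hx; simp at hx; rw [hx]; exact hs⟩, ?_⟩
  rw [List.prod_append, List.prod_singleton]
  exact rel_mul_right P (prod_mem_N P h.1) hn (P.subset hs) h.2

theorem rep_prod {l : List G} (hl : IsWord P.S l) : Rep P l l.prod := ⟨hl, rel_refl P _⟩

theorem len_mul_left_le {s n : G} (hs : s ∈ P.S) (hn : n ∈ P.N) : len P (s * n) ≤ len P n + 1 := by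
  obtain ⟨l, hl, hlen⟩ := exists_rep_len P hn
  have := len_le_of_rep P (rep_cons P hs hl)
  simp only [List.length_cons] at this
  omega

theorem len_le_mul_left {s n : G} (hs : s ∈ P.S) (hn : n ∈ P.N) : len P n ≤ len P (s * n) + 1 := by
  have h1 := len_mul_left_le P hs (P.N.mul_mem (P.subset hs) hn)
  rw [len_congr P (rel_sq_mul P hs hn)] at h1
  exact h1

theorem len_mul_right_le {s n : G} (hs : s ∈ P.S) (hn : n ∈ P.N) : len P (n * s) ≤ len P n + 1 := by
  obtain ⟨l, hl, hlen⟩ := exists_rep_len P hn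
  have := len_le_of_rep P (rep_snoc P hs hn hl)
  simp only [List.length_append, List.length_singleton] at this
  omega

theorem len_le_mul_right {s n : G} (hs : s ∈ P.S) (hn : n ∈ P.N) : len P n ≤ len P (n * s) + 1 := by
  have h1 := len_mul_right_le P hs (P.N.mul_mem hn (P.subset hs))
  rw [len_congr P (rel_mul_sq P hs)] at h1
  exact h1

theorem len_eq_zero_iff {n : G} (hn : n ∈ P.N) : len P n = 0 ↔ n ∈ P.B := by
  constructor
  · intro h
    obtain ⟨l, hl, hlen⟩ := exists_rep_len P hn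
    rw [h] at hlen
    have : l = [] := List.length_eq_zero_iff.1 hlen
    subst this
    have := hl.2
    simpa [Rel] using this
  · intro h
    have : Rep P [] n := ⟨isWord_nil _, by simpa [Rel] using h⟩
    have := len_le_of_rep P this
    simpa using this

/-- `s ∉ B` for `s ∈ S`. -/
theorem S_not_mem_B {s : G} (hs : s ∈ P.S) : s ∉ P.B := by
  intro h
  apply P.conj_ne s hs
  ext g
  constructor
  · rintro ⟨b, hb, rfl⟩
    exact P.B.mul_mem (P.B.mul_mem h hb) h
  · intro hg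
    refine ⟨s⁻¹ * g * s⁻¹, P.B.mul_mem (P.B.mul_mem (P.B.inv_mem h) hg) (P.B.inv_mem h), ?_⟩
    simp only
    group

/-- there is `b ∈ B` with `s b s ∉ B`. -/
theorem exists_conj_not_mem {s : G} (hs : s ∈ P.S) : ∃ b ∈ P.B, s * b * s ∉ P.B := by
  by_contra hcon
  push Not at hcon
  apply P.conj_ne s hs
  ext g
  constructor
  · rintro ⟨b, hb, rfl⟩
    exact hcon b hb
  · intro hg
    -- g = s (s⁻¹ g s⁻¹) s and s⁻¹ g s⁻¹ = (ss)⁻¹ (s g s) (ss)⁻¹ ∈ B
    refine ⟨s⁻¹ * g * s⁻¹, ?_, ?_⟩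
    · have e : s⁻¹ * g * s⁻¹ = (s * s)⁻¹ * (s * g * s) * (s * s)⁻¹ := by group
      rw [e]
      exact P.B.mul_mem (P.B.mul_mem (P.B.inv_mem (P.sq_mem s hs)) (hcon g hg))
        (P.B.inv_mem (P.sq_mem s hs))
    · simp only
      group

theorem len_S {s : G} (hs : s ∈ P.S) : len P s = 1 := by
  have h1 : len P s ≤ 1 := by
    have : Rep P [s] s := ⟨by intro x hx; simp at hx; rw [hx]; exact hs, by simp [Rel, P.B.one_mem]⟩
    simpa using len_le_of_rep P this
  have h0 : len P s ≠ 0 := by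
    intro h
    exact S_not_mem_B P hs ((len_eq_zero_iff P (P.subset hs)).1 h)
  omega

end Cfsg.Agent.Lib.Helper6
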