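import Mathlib
import Cfsg.Prelude.Def_LieExceptional
import Cfsg.Agent.Lib.Helper74.FrobThm

/-!
# Zassenhaus groups: normal subgroups (helper6)

Frobenius' theorem in permutation-group form and its consequences for nontrivial normal
subgroups of a Zassenhaus group.
-/

set_option autoImplicit false

namespace Cfsg.Agent.Lib.Helper6

open MulAction
open scoped Pointwise

theorem mem_conj_smul_stabilizer {X Δ : Type*} [Group X] [MulAction X Δ] (c : Δ) (g x : X) :
    x ∈ MulAut.conj g • stabilizer X c ↔ x • (g • c) = g • c := by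
  rw [Subgroup.mem_pointwise_smul_iff_inv_smul_mem, MulAut.smul_def, MulAut.conj_inv_apply,
    mem_stabilizer_iff, mul_smul, mul_smul, inv_smul_eq_iff]

/-- Frobenius' theorem in permutation group form: a finite transitive permutation group in
which some point stabiliser is nontrivial and only the identity fixes two points has a regular
normal subgroup, consisting of the identity and the fixed-point-free elements. -/
theorem exists_regular_normal_of_frobenius_action {X Δ : Type*} [Group X] [Finite X]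
    [MulAction X Δ] [IsPretransitive X Δ] (c : Δ) (hne : stabilizer X c ≠ ⊥)
    (hnt : ∃ d, d ≠ c)
    (h2 : ∀ d e : Δ, d ≠ e → ∀ x : X, x • d = d → x • e = e → x = 1) :
    ∃ K : Subgroup X, K.Normal ∧ (∀ x, x ∈ K ↔ x = 1 ∨ ∀ d : Δ, x • d ≠ d) ∧
      (∀ d e : Δ, ∃ k ∈ K, k • d = e) := by
  have hF : Cfsg.IsFrobeniusComplement (stabilizer X c) := by
    refine ⟨hne, ?_, ?_⟩
    · obtain ⟨d, hd⟩ := hnt
      obtain ⟨x, hx⟩ := exists_smul_eq X c d
      intro htop
      have hx' : x ∈ stabilizer X c := htop ▸ Subgroup.mem_top x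
      rw [mem_stabilizer_iff] at hx'
      exact hd (hx ▸ hx')
    · intro g hg
      rw [eq_bot_iff]
      rintro x ⟨hx1, hx2⟩
      have hx2' := (mem_conj_smul_stabilizer c g x).mp hx2
      have hx1' : x • c = c := hx1
      have hgc : g • c ≠ c := fun h => hg h
      exact h2 _ _ hgc x hx2' hx1'
  obtain ⟨K, hK, hKn, hKc⟩ := Cfsg.Agent.Lib.Helper74.frobenius_theorem _ hF
  have hmem : ∀ x, x ∈ K ↔ x = 1 ∨ ∀ d : Δ, x • d ≠ d := by
    intro x
    have : x ∈ K ↔ x ∈ Cfsg.frobeniusKernel (stabilizer X c) := by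
      rw [← hK]; rfl
    rw [this]
    unfold Cfsg.frobeniusKernel
    simp only [Set.mem_ofPred_eq]
    constructor
    · rintro (h | h)
      · exact Or.inl h
      · right
        intro d hd
        obtain ⟨g, rfl⟩ := exists_smul_eq X c d
        exact h g ((mem_conj_smul_stabilizer c g x).mpr hd)
    · rintro (h | h)
      · exact Or.inl h
      · right
        intro g hg
        exact h _ ((mem_conj_smul_stabilizer c g x).mp hg)
  refine ⟨K, hKn, hmem, ?_⟩
  have htr : ∀ e : Δ, ∃ k ∈ K, k • c = e := by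
    intro e
    obtain ⟨x, hx⟩ := exists_smul_eq X c e
    obtain ⟨⟨⟨k, hk⟩, ⟨h, hh⟩⟩, hkh⟩ := hKc.2 x
    simp only at hkh
    refine ⟨k, hk, ?_⟩
    rw [← hx, ← hkh, mul_smul]
    congr 1
    exact hh.symm
  intro d e
  obtain ⟨k1, hk1, h1⟩ := htr d
  obtain ⟨k2, hk2, h2'⟩ := htr e
  refine ⟨k2 * k1⁻¹, K.mul_mem hk2 (K.inv_mem hk1), ?_⟩
  rw [mul_smul, ← h1, inv_smul_smul, h2']

section Zassenhaus

variable {G Ω : Type*} [Group G] [MulAction G Ω]

/-- A group acting faithfully on a finite set is finite. -/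
theorem finite_of_faithful [Finite Ω] [FaithfulSMul G Ω] : Finite G :=
  Finite.of_injective (MulAction.toPermHom G Ω) MulAction.toPerm_injective

theorem zass_finite [Finite Ω] (hZ : Cfsg.IsZassenhausGroup G Ω) : Finite G :=
  haveI := hZ.1
  finite_of_faithful (Ω := Ω)

/-- In a faithful action a non-identity element moves a point. -/
theorem exists_smul_ne_of_ne_one [FaithfulSMul G Ω] {x : G} (hx : x ≠ 1) : ∃ a : Ω, x • a ≠ a := by
  by_contra h
  push Not at h
  exact hx (FaithfulSMul.eq_of_smul_eq_smul (α := Ω) (fun a => by rw [h a, one_smul]))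

/-- A nontrivial normal subgroup of a faithful 2-transitive group is transitive. -/
theorem normal_transitive_of_two_pretransitive [FaithfulSMul G Ω]
    (h2 : IsMultiplyPretransitive G Ω 2) (N : Subgroup G) [hN : N.Normal] (hne : N ≠ ⊥)
    (c d : Ω) : ∃ x ∈ N, x • c = d := by
  by_cases hcd : c = d
  · exact ⟨1, N.one_mem, by rw [one_smul, hcd]⟩
  obtain ⟨x, hxN, hx1⟩ := (N.bot_or_exists_ne_one).resolve_left hne
  obtain ⟨a, ha⟩ := exists_smul_ne_of_ne_one (Ω := Ω) hx1
  rw [is_two_pretransitive_iff] at h2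
  obtain ⟨g, hg1, hg2⟩ := h2 (Ne.symm ha) hcd
  refine ⟨g * x * g⁻¹, hN.conj_mem x hxN g, ?_⟩
  rw [mul_smul, mul_smul, ← hg1, inv_smul_smul, hg2]

/-- Step 2: a nontrivial normal subgroup of a Zassenhaus group contains a non-identity element
fixing two points. -/
theorem zass_exists_two_point [Finite Ω] (hZ : Cfsg.IsZassenhausGroup G Ω) (N : Subgroup G)
    [hN : N.Normal] (hne : N ≠ ⊥) :
    ∃ a b : Ω, a ≠ b ∧ ∃ x ∈ N, x ≠ 1 ∧ x • a = a ∧ x • b = b := by
  obtain ⟨hfaith, h2, h3, ⟨g0, hg0, a0, b0, hab0, -, -⟩, hreg⟩ := hZ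
  have := hfaith
  have : Finite G := finite_of_faithful (Ω := Ω)
  by_contra hcon
  push Not at hcon
  have htrans := normal_transitive_of_two_pretransitive h2 N hne
  have : IsPretransitive N Ω := ⟨fun c d => by
    obtain ⟨x, hx, hxc⟩ := htrans c d
    exact ⟨⟨x, hx⟩, hxc⟩⟩
  obtain ⟨c, hc⟩ := hreg N hN inferInstance
  have hnt : ∃ d, d ≠ c := by
    by_cases h : a0 = c
    · exact ⟨b0, fun hb => hab0 (h.trans hb.symm)⟩
    · exact ⟨a0, h⟩
  obtain ⟨K, hKn, hKmem, hKtr⟩ := exists_regular_normal_of_frobenius_action (X := N) c hc hnt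
    (by
      intro d e hde x hxd hxe
      by_contra hx1
      have hx1' : (x : G) ≠ 1 := fun h => hx1 (Subtype.ext h)
      exact hcon d e hde x x.2 hx1' hxd hxe)
  -- K is normal in G
  have hKG : (K.map N.subtype).Normal := by
    constructor
    rintro _ ⟨k, hk, rfl⟩ g
    have hmemN : g * (k : G) * g⁻¹ ∈ N := hN.conj_mem _ k.2 g
    refine ⟨⟨g * (k : G) * g⁻¹, hmemN⟩, ?_, rfl⟩
    rw [SetLike.mem_coe, hKmem] at hk ⊢
    rcases hk with hk | hk
    · left
      apply Subtype.ext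
      simp [hk]
    · right
      intro d hd
      apply hk (g⁻¹ • d)
      have hd' : (g * (k : G) * g⁻¹) • d = d := hd
      show (k : G) • (g⁻¹ • d) = g⁻¹ • d
      rw [mul_smul, mul_smul] at hd'
      exact (smul_eq_iff_eq_inv_smul g).mp hd'
  have hKtrG : IsPretransitive (K.map N.subtype) Ω := ⟨fun d e => by
    obtain ⟨k, hk, hkd⟩ := hKtr d e
    exact ⟨⟨(k : G), ⟨k, hk, rfl⟩⟩, hkd⟩⟩
  obtain ⟨a, ha⟩ := hreg _ hKG hKtrG
  apply ha
  rw [eq_bot_iff]
  rintro ⟨y, k, hk, rfl⟩ hy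
  rw [SetLike.mem_coe, hKmem] at hk
  rcases hk with hk | hk
  · rw [Subgroup.mem_bot]
    apply Subtype.ext
    simp [hk]
  · exact absurd hy (hk a)

/-- Step 3: if `N` is normal in the Zassenhaus group `G` and some non-identity element of `N`
fixes `a` and `b`, then the stabiliser of `a` in `N` is transitive on the other points. -/
theorem zass_stabilizer_transitive [Finite Ω] (hZ : Cfsg.IsZassenhausGroup G Ω) (N : Subgroup G)
    [hN : N.Normal] {a b : Ω} (hab : a ≠ b) {x : G} (hxN : x ∈ N) (hx1 : x ≠ 1)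
    (hxa : x • a = a) (hxb : x • b = b) (c d : Ω) (hc : c ≠ a) (hd : d ≠ a) :
    ∃ y ∈ N, y • a = a ∧ y • c = d := by
  obtain ⟨hfaith, h2, h3, -, hreg⟩ := hZ
  have := hfaith
  have : Finite G := finite_of_faithful (Ω := Ω)
  rw [is_two_pretransitive_iff] at h2
  -- the action of the stabilizer on the remaining points
  let X := stabilizer G a
  let Δ := SubMulAction.ofStabilizer G a
  have hΔ : ∀ e : Δ, (e : Ω) ≠ a := fun e => (SubMulAction.mem_ofStabilizer_iff G a).mp e.2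
  have hsm : ∀ (g : X) (e : Δ), ((g • e : Δ) : Ω) = (g : G) • (e : Ω) := fun g e => rfl
  have : IsPretransitive X Δ := ⟨fun e f => by
    obtain ⟨g, hga, hge⟩ := h2 (a := a) (b := (e : Ω)) (c := a) (d := (f : Ω))
      (Ne.symm (hΔ e)) (Ne.symm (hΔ f))
    exact ⟨⟨g, hga⟩, Subtype.ext hge⟩⟩
  let b' : Δ := ⟨b, (SubMulAction.mem_ofStabilizer_iff G a).mpr (Ne.symm hab)⟩
  let x' : X := ⟨x, hxa⟩
  have hx'1 : x' ≠ 1 := fun h => hx1 (congrArg Subtype.val h)
  have hx'b : x' • b' = b' := Subtype.ext hxb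
  have hstab : stabilizer X b' ≠ ⊥ := by
    intro h
    have : x' ∈ stabilizer X b' := hx'b
    rw [h, Subgroup.mem_bot] at this
    exact hx'1 this
  have hnt : ∃ e : Δ, e ≠ b' := by
    obtain ⟨e, he⟩ := exists_smul_ne_of_ne_one (Ω := Ω) hx1
    have hea : e ≠ a := fun h => he (h ▸ hxa)
    have heb : e ≠ b := fun h => he (h ▸ hxb)
    exact ⟨⟨e, (SubMulAction.mem_ofStabilizer_iff G a).mpr hea⟩,
      fun h => heb (congrArg Subtype.val h)⟩
  have h2' : ∀ e f : Δ, e ≠ f → ∀ y : X, y • e = e → y • f = f → y = 1 := by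
    intro e f hef y hye hyf
    apply Subtype.ext
    have hef' : (e : Ω) ≠ (f : Ω) := fun h => hef (Subtype.ext h)
    exact h3 (y : G) a e f (Ne.symm (hΔ e)) hef' (Ne.symm (hΔ f)) y.2
      (congrArg Subtype.val hye) (congrArg Subtype.val hyf)
  obtain ⟨K, hKn, hKmem, hKtr⟩ :=
    exists_regular_normal_of_frobenius_action (X := X) b' hstab hnt h2'
  -- the commutator map
  let φ : K → K := fun k => ⟨x' * k * x'⁻¹ * (k : X)⁻¹,
    K.mul_mem (hKn.conj_mem _ k.2 x') (K.inv_mem k.2)⟩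
  have hφinj : Function.Injective φ := by
    intro k1 k2 h
    have h' : x' * (k1 : X) * x'⁻¹ * (k1 : X)⁻¹ = x' * (k2 : X) * x'⁻¹ * (k2 : X)⁻¹ :=
      congrArg Subtype.val h
    -- u = k2⁻¹ k1 commutes with x'
    have hu : ((k2 : X)⁻¹ * (k1 : X)) * x' = x' * ((k2 : X)⁻¹ * (k1 : X)) := by
      have h1 : (k1 : X) * x'⁻¹ * (k1 : X)⁻¹ = (k2 : X) * x'⁻¹ * (k2 : X)⁻¹ := by
        have := congrArg (fun z => x'⁻¹ * z) h'
        simpa [mul_assoc] using this
      have h2 : x'⁻¹ * ((k2 : X)⁻¹ * (k1 : X)) = ((k2 : X)⁻¹ * (k1 : X)) * x'⁻¹ := by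
        have := congrArg (fun z => (k2 : X)⁻¹ * z * (k1 : X)) h1
        simp only [mul_assoc, inv_mul_cancel, mul_one, inv_mul_cancel_left] at this
        rw [mul_assoc]
        exact this.symm
      have := congrArg (fun z => x' * z * x') h2
      simp only [mul_assoc, mul_inv_cancel_left, inv_mul_cancel, mul_one] at this
      rw [mul_assoc]
      exact this
    have huK : (k2 : X)⁻¹ * (k1 : X) ∈ K := K.mul_mem (K.inv_mem k2.2) k1.2
    rcases (hKmem _).mp huK with h1 | hfpf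
    · apply Subtype.ext
      have := congrArg (fun z => (k2 : X) * z) h1
      simpa using this
    · exfalso
      apply hx'1
      apply h2' b' (((k2 : X)⁻¹ * (k1 : X)) • b') (Ne.symm (hfpf b')) x' hx'b
      rw [← mul_smul, ← hu, mul_smul, hx'b]
  have hφsurj : Function.Surjective φ := Finite.injective_iff_surjective.mp hφinj
  have hKN : ∀ k ∈ K, ((k : X) : G) ∈ N := by
    intro k hk
    obtain ⟨k', hk'⟩ := hφsurj ⟨k, hk⟩
    have : x' * (k' : X) * x'⁻¹ * (k' : X)⁻¹ = k := congrArg Subtype.val hk'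
    rw [← this]
    show x * ((k' : X) : G) * x⁻¹ * ((k' : X) : G)⁻¹ ∈ N
    have h1 : ((k' : X) : G) * x⁻¹ * ((k' : X) : G)⁻¹ ∈ N := hN.conj_mem _ (N.inv_mem hxN) _
    have := N.mul_mem hxN h1
    simpa [mul_assoc] using this
  obtain ⟨k, hk, hkc⟩ := hKtr ⟨c, (SubMulAction.mem_ofStabilizer_iff G a).mpr hc⟩
    ⟨d, (SubMulAction.mem_ofStabilizer_iff G a).mpr hd⟩
  exact ⟨(k : G), hKN k hk, k.2, congrArg Subtype.val hkc⟩

/-- Step 4: a nontrivial normal subgroup of a Zassenhaus group is 2-transitive. -/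
theorem zass_normal_two_transitive [Finite Ω] (hZ : Cfsg.IsZassenhausGroup G Ω) (N : Subgroup G)
    [hN : N.Normal] (hne : N ≠ ⊥) {a' b' c' d' : Ω} (hab : a' ≠ b') (hcd : c' ≠ d') :
    ∃ y ∈ N, y • a' = c' ∧ y • b' = d' := by
  obtain ⟨a, b, hab0, x, hxN, hx1, hxa, hxb⟩ := zass_exists_two_point hZ N hne
  have := hZ.1
  have htr := normal_transitive_of_two_pretransitive hZ.2.1 N hne
  obtain ⟨y1, hy1, hy1a⟩ := htr a' a
  obtain ⟨y2, hy2, hy2c⟩ := htr c' a
  have h1 : y1 • b' ≠ a := by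
    intro h
    rw [← hy1a] at h
    exact hab (smul_left_cancel y1 h).symm
  have h2 : y2 • d' ≠ a := by
    intro h
    rw [← hy2c] at h
    exact hcd (smul_left_cancel y2 h).symm
  obtain ⟨y3, hy3, hy3a, hy3b⟩ :=
    zass_stabilizer_transitive hZ N hab0 hxN hx1 hxa hxb (y1 • b') (y2 • d') h1 h2
  refine ⟨y2⁻¹ * y3 * y1, N.mul_mem (N.mul_mem (N.inv_mem hy2) hy3) hy1, ?_, ?_⟩
  · rw [mul_smul, mul_smul, hy1a, hy3a, ← hy2c, inv_smul_smul]
  · rw [mul_smul, mul_smul, hy3b, inv_smul_smul]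

theorem zass_normal_isMultiplyPretransitive [Finite Ω] (hZ : Cfsg.IsZassenhausGroup G Ω)
    (N : Subgroup G) [hN : N.Normal] (hne : N ≠ ⊥) : IsMultiplyPretransitive N Ω 2 := by
  rw [is_two_pretransitive_iff]
  intro a b c d hab hcd
  obtain ⟨y, hy, h1, h2⟩ := zass_normal_two_transitive hZ N hne hab hcd
  exact ⟨⟨y, hy⟩, h1, h2⟩

end Zassenhaus

end Cfsg.Agent.Lib.Helper6
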