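import Mathlib
import Cfsg.Agent.Lib.Helper6.Zassenhaus
import Cfsg.Agent.S0042

/-!
# Frobenius' theorem in permutation form, with Thompson's nilpotency (helper6)
-/

set_option autoImplicit false

namespace Cfsg.Agent.Lib.Helper6

open MulAction
open scoped Pointwise

/-- Frobenius' and Thompson's theorems in permutation group form: a finite transitive permutation
group in which some point stabiliser is nontrivial and only the identity fixes two points has a
regular normal nilpotent subgroup, consisting of the identity and the fixed-point-free elements. -/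
theorem exists_regular_normal_nilpotent_of_frobenius_action {X Δ : Type*} [Group X] [Finite X]
    [MulAction X Δ] [IsPretransitive X Δ] (c : Δ) (hne : stabilizer X c ≠ ⊥)
    (hnt : ∃ d, d ≠ c)
    (h2 : ∀ d e : Δ, d ≠ e → ∀ x : X, x • d = d → x • e = e → x = 1) :
    ∃ K : Subgroup X, K.Normal ∧ Group.IsNilpotent K ∧
      (∀ x, x ∈ K ↔ x = 1 ∨ ∀ d : Δ, x • d ≠ d) ∧ (∀ d e : Δ, ∃ k ∈ K, k • d = e) := by
  have hF : Cfsg.IsFrobeniusComplement (stabilizer X c) := by
    refine ⟨hne, ?_, ?_⟩
    · obtain ⟨d, hd⟩ := hnt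
      obtain ⟨x, hx⟩ := exists_smul_eq X c d
      intro htop
      have hx' : x ∈ stabilizer X c := htop ▸ Subgroup.mem_top x
      rw [mem_stabilizer_iff] at hx'
      exact hd (hx ▸ hx')
    · intro g hg
      rw [eq_bot_iff]
      rintro x ⟨hx1, hx2⟩
      have hx2' := (mem_conj_smul_stabilizer c g x).mp hx2
      have hx1' : x • c = c := hx1
      have hgc : g • c ≠ c := fun h => hg h
      exact h2 _ _ hgc x hx2' hx1'
  obtain ⟨K, hKn, hmem, htr⟩ := exists_regular_normal_of_frobenius_action c hne hnt h2
  obtain ⟨N, hN, -, hNnil⟩ := Cfsg.Agent.S0042.result (stabilizer X c) hF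
  have hKN : K = N := by
    apply SetLike.coe_injective
    rw [hN]
    ext x
    rw [SetLike.mem_coe, hmem]
    unfold Cfsg.frobeniusKernel
    simp only [Set.mem_ofPred_eq]
    constructor
    · rintro (h | h)
      · exact Or.inl h
      · right
        intro g hg
        exact h _ ((mem_conj_smul_stabilizer c g x).mp hg)
    · rintro (h | h)
      · exact Or.inl h
      · right
        intro d hd
        obtain ⟨g, rfl⟩ := exists_smul_eq X c d
        exact h g ((mem_conj_smul_stabilizer c g x).mpr hd)
  exact ⟨K, hKn, hKN ▸ hNnil, hmem, htr⟩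

/-- In a finite nilpotent group of even order some involution commutes with every 2-element. -/
theorem exists_involution_commute_two_elements {K : Type*} [Group K] [Finite K]
    [Group.IsNilpotent K] (heven : ∃ x : K, x ≠ 1 ∧ x * x = 1) :
    ∃ z : K, z ≠ 1 ∧ z * z = 1 ∧ ∀ g : K, (∃ r : ℕ, g ^ (2 ^ r) = 1) → z * g = g * z := by
  have : Fact (Nat.Prime 2) := ⟨Nat.prime_two⟩
  let P : Sylow 2 K := default
  have hPn : (P : Subgroup K).Normal :=
    Sylow.normal_of_normalizerCondition Group.normalizerCondition_of_isNilpotent P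
  -- every 2-element lies in P
  have hmemP : ∀ g : K, (∃ r : ℕ, g ^ (2 ^ r) = 1) → g ∈ (P : Subgroup K) := by
    rintro g ⟨r, hr⟩
    have hpg : IsPGroup 2 (Subgroup.zpowers g) := by
      rw [IsPGroup.iff_card]
      have : orderOf g ∣ 2 ^ r := orderOf_dvd_of_pow_eq_one hr
      obtain ⟨k, -, hk⟩ := (Nat.dvd_prime_pow Nat.prime_two).mp this
      exact ⟨k, by rw [Nat.card_zpowers, hk]⟩
    obtain ⟨Q, hQ⟩ := hpg.exists_le_sylow
    have := Sylow.unique_of_normal P hPn
    have : Q = P := Subsingleton.elim Q P
    rw [← this]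
    exact hQ (Subgroup.mem_zpowers g)
  obtain ⟨x, hx1, hx2⟩ := heven
  have hxP : x ∈ (P : Subgroup K) := hmemP x ⟨1, by rw [pow_one, pow_two, hx2]⟩
  have : Nontrivial (P : Subgroup K) := ⟨⟨⟨x, hxP⟩, 1, fun h => hx1 (congrArg Subtype.val h)⟩⟩
  have hcn : Nontrivial (Subgroup.center (P : Subgroup K)) := P.isPGroup'.center_nontrivial
  -- an involution in the centre of P
  have h2dvd : 2 ∣ Nat.card (Subgroup.center (P : Subgroup K)) := by
    have hpc : IsPGroup 2 (Subgroup.center (P : Subgroup K)) := P.isPGroup'.to_subgroup _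
    obtain ⟨k, hk⟩ := IsPGroup.iff_card.mp hpc
    have hk0 : k ≠ 0 := by
      intro h
      rw [h, pow_zero] at hk
      have := (Nat.card_eq_one_iff_unique.mp hk).1
      exact not_subsingleton _ this
    rw [hk]
    exact dvd_pow_self 2 hk0
  obtain ⟨z, hz⟩ := exists_prime_orderOf_dvd_card' 2 h2dvd
  refine ⟨((z : (P : Subgroup K)) : K), ?_, ?_, ?_⟩
  · intro h
    have : z = 1 := Subtype.ext (Subtype.ext h)
    rw [this, orderOf_one] at hz
    norm_num at hz
  · have : z ^ 2 = 1 := orderOf_dvd_iff_pow_eq_one.mp (dvd_of_eq hz)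
    have := congrArg (fun w : Subgroup.center (P : Subgroup K) => ((w : (P : Subgroup K)) : K)) this
    simpa [pow_two] using this
  · intro g hg
    have hgP := hmemP g hg
    have hzc := z.2
    rw [Subgroup.mem_center_iff] at hzc
    have := hzc ⟨g, hgP⟩
    have := congrArg (fun w : (P : Subgroup K) => (w : K)) this
    simpa using this.symm

end Cfsg.Agent.Lib.Helper6
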