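import Mathlib
import Cfsg.Agent.Lib.Helper6.InvCount
import Cfsg.Agent.Lib.Helper25.ZassInv
import Cfsg.Agent.Lib.Helper25.InvPairs

/-!
# Suzuki's order theorem, module 0: the abstract counting system `ASys` (helper6)

`ASys H Λ N d`: `H` acts 2-transitively on `Λ` (`N + 1` points, `N` even), only the identity fixes
three points, two-point stabilisers have odd order `d`, every element interchanging two points is
an involution, and centralisers of involutions are 2-groups.
-/

set_option autoImplicit false
set_option linter.unusedSectionVars false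
set_option linter.style.haveILetI false

namespace Cfsg.Agent.Lib.Helper6.SuzOrd

open MulAction Cfsg.Agent.Lib.Helper6 Cfsg.Agent.Lib.Helper25.ZassInv

/-- the abstract counting system -/
structure ASys (H Λ : Type*) [Group H] [MulAction H Λ] (N d : ℕ) : Prop where
  card_pts : Nat.card Λ = N + 1
  N_even : Even N
  two_le : 2 ≤ N
  d_odd : Odd d
  h2 : ∀ a b c e : Λ, a ≠ b → c ≠ e → ∃ g : H, g • a = c ∧ g • b = e
  h3 : ∀ g : H, ∀ a b c : Λ, a ≠ b → b ≠ c → a ≠ c → g • a = a → g • b = b → g • c = c → g = 1
  card_stab2 : ∀ a b : Λ, a ≠ b → Nat.card ↥(stabilizer H a ⊓ stabilizer H b : Subgroup H) = d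
  swap_sq : ∀ (s : H) (a b : Λ), a ≠ b → s • a = b → s • b = a → s * s = 1
  cent_inv : ∀ t g : H, t ≠ 1 → t * t = 1 → g * t = t * g → ∃ k : ℕ, g ^ 2 ^ k = 1

namespace ASys

variable {H Λ : Type*} [Group H] [MulAction H Λ] {N d : ℕ} (S : ASys H Λ N d)
include S

theorem exists_pair [Finite Λ] : ∃ a b : Λ, a ≠ b := by
  have h1 : 1 < Nat.card Λ := by
    rw [S.card_pts]
    have := S.two_le
    omega
  haveI : Nontrivial Λ := (Finite.one_lt_card_iff_nontrivial).mp h1
  exact exists_pair_ne Λ

/-- every involution has exactly one fixed point -/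
theorem fix_unique [Finite Λ] {t : H} (ht1 : t ≠ 1) (ht2 : t * t = 1) : ∃! p : Λ, t • p = p := by
  classical
  haveI := Fintype.ofFinite Λ
  have hodd : Odd (Fintype.card Λ) := by
    rw [← Nat.card_eq_fintype_card, S.card_pts]
    exact S.N_even.add_one
  exact involution_existsUnique_fixed hodd S.h3 ht1 ht2

/-- the order of the group -/
theorem card_H [Finite H] [Finite Λ] : Nat.card H = (N + 1) * N * d := by
  classical
  haveI := Fintype.ofFinite Λ
  obtain ⟨a, b, hab⟩ := S.exists_pair
  have h := card_group_eq S.h2 hab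
  rw [S.card_stab2 a b hab, ← Nat.card_eq_fintype_card, S.card_pts] at h
  rw [h, Nat.add_sub_cancel]

/-- an element fixing two points and of order dividing a power of two is trivial -/
theorem eq_one_of_fix_two [Finite H] {g : H} {a b : Λ} (hab : a ≠ b) (ha : g • a = a) (hb : g • b = b)
    {k : ℕ} (hk : g ^ 2 ^ k = 1) : g = 1 := by
  have hmem : g ∈ (stabilizer H a ⊓ stabilizer H b : Subgroup H) := ⟨ha, hb⟩
  have h1 : orderOf (⟨g, hmem⟩ : ↥(stabilizer H a ⊓ stabilizer H b : Subgroup H)) ∣ d := by
    rw [← S.card_stab2 a b hab]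
    exact orderOf_dvd_natCard _
  rw [Subgroup.orderOf_mk] at h1
  have h2 : orderOf g ∣ 2 ^ k := orderOf_dvd_of_pow_eq_one hk
  have h3 : Nat.Coprime d (2 ^ k) := by
    apply Nat.Coprime.pow_right
    exact (Nat.coprime_two_right.mpr S.d_odd)
  have h4 : orderOf g ∣ 1 := by
    have := Nat.dvd_gcd h1 h2
    rwa [h3] at this
  exact orderOf_eq_one_iff.mp (Nat.dvd_one.mp h4)

section Fin

variable [Fintype H] [DecidableEq H] [Fintype Λ] [DecidableEq Λ]

/-- exactly `d` involutions interchange two given points -/
theorem card_invsMap_ne {a b : Λ} (hab : a ≠ b) : (invsMap (G := H) a b).card = d := by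
  classical
  apply le_antisymm
  · rw [← S.card_stab2 a b hab]
    exact card_invsMap_le
  · obtain ⟨g, hga, hgb⟩ := S.h2 a b b a hab (Ne.symm hab)
    let Ef : Finset H := Finset.univ.filter
      (fun η => η ∈ (stabilizer H a ⊓ stabilizer H b : Subgroup H))
    have hEf : Ef.card = d := by
      rw [← S.card_stab2 a b hab, Nat.card_eq_fintype_card, Fintype.card_subtype]
    rw [← hEf]
    apply Finset.card_le_card_of_injOn (fun η => g * η)
    · intro η hη
      simp only [Ef, Finset.coe_filter, Finset.mem_univ, true_and, Set.mem_ofPred_eq] at hη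
      have hηa : η • a = a := hη.1
      have hηb : η • b = b := hη.2
      rw [Finset.mem_coe, mem_invsMap]
      have h1 : (g * η) • a = b := by rw [mul_smul, hηa, hga]
      have h2 : (g * η) • b = a := by rw [mul_smul, hηb, hgb]
      refine ⟨⟨?_, S.swap_sq _ a b hab h1 h2⟩, h1⟩
      intro h
      have h' : g * η = 1 := h
      rw [h', one_smul] at h1
      exact hab h1
    · intro η _ η' _ h
      exact mul_left_cancel h

/-- exactly `d` involutions fix a given point -/
theorem card_invsMap_self (a : Λ) : (invsMap (G := H) a a).card = d := by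
  have hodd : Odd (Fintype.card Λ) := by
    rw [← Nat.card_eq_fintype_card, S.card_pts]
    exact S.N_even.add_one
  have hc : Fintype.card Λ = N + 1 := by rw [← Nat.card_eq_fintype_card, S.card_pts]
  have h1 : ∃ b : Λ, a ≠ b := by
    obtain ⟨x, y, hxy⟩ := S.exists_pair
    by_cases h : a = x
    · exact ⟨y, h ▸ hxy⟩
    · exact ⟨x, h⟩
  obtain ⟨b, hab⟩ := h1
  have e1 := card_invs_odd S.h2 S.h3 hodd hab
  have e2 := card_invs_eq_add (G := H) S.h2 hab
  rw [e1, hc, S.card_invsMap_ne hab, Nat.add_sub_cancel] at e2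
  have h2 : N * (invsMap (G := H) a a).card = N * d := by
    have : (N + 1) * (invsMap (G := H) a a).card = (invsMap (G := H) a a).card
        + N * (invsMap (G := H) a a).card := by ring
    omega
  have hN : 0 < N := by have := S.two_le; omega
  exact Nat.eq_of_mul_eq_mul_left hN h2

/-- the number of involutions -/
theorem card_invs : (invs H).card = (N + 1) * d := by
  have hodd : Odd (Fintype.card Λ) := by
    rw [← Nat.card_eq_fintype_card, S.card_pts]
    exact S.N_even.add_one
  have hc : Fintype.card Λ = N + 1 := by rw [← Nat.card_eq_fintype_card, S.card_pts]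
  obtain ⟨a, b, hab⟩ := S.exists_pair
  rw [card_invs_odd S.h2 S.h3 hodd hab, hc, S.card_invsMap_self a]

end Fin

end ASys

end Cfsg.Agent.Lib.Helper6.SuzOrd
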