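import Mathlib
import Cfsg.Prelude.Def_LieRecognition
import Cfsg.Agent.Lib.Helper6.SuzOrd0

/-!
# Suzuki's order theorem, module 1: the point stabiliser `U ⋊ K` with `U` a non-abelian 2-group
(helper6)
-/

set_option autoImplicit false
set_option linter.unusedSectionVars false
set_option linter.style.haveILetI false

namespace Cfsg.Agent.Lib.Helper6.SuzOrd

open MulAction Cfsg.Agent.Lib.Helper6 Cfsg.Agent.Lib.Helper25.ZassInv

/-- two-point stabilisers have odd order in odd degree -/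
theorem odd_card_stab2 {G Ω : Type*} [Group G] [Finite G] [MulAction G Ω] [Finite Ω]
    (h3 : ∀ g : G, ∀ x y z : Ω, x ≠ y → y ≠ z → x ≠ z → g • x = x → g • y = y → g • z = z → g = 1)
    (hodd : Odd (Nat.card Ω)) {x y : Ω} (hxy : x ≠ y) :
    Odd (Nat.card ↥(stabilizer G x ⊓ stabilizer G y : Subgroup G)) := by
  classical
  haveI := Fintype.ofFinite Ω
  by_contra hne
  rw [Nat.not_odd_iff_even] at hne
  have h2 : 2 ∣ Nat.card ↥(stabilizer G x ⊓ stabilizer G y : Subgroup G) := even_iff_two_dvd.mp hne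
  haveI : Fact (Nat.Prime 2) := ⟨Nat.prime_two⟩
  obtain ⟨t, ht⟩ := exists_prime_orderOf_dvd_card' 2 h2
  have ht1 : (t : G) ≠ 1 := by
    intro h
    have : t = 1 := Subtype.ext h
    rw [this, orderOf_one] at ht
    omega
  have ht2 : (t : G) * (t : G) = 1 := by
    have : t ^ 2 = 1 := by rw [← ht]; exact pow_orderOf_eq_one t
    have := congrArg Subtype.val this
    simpa [pow_two] using this
  have hodd' : Odd (Fintype.card Ω) := by rwa [← Nat.card_eq_fintype_card]
  obtain ⟨c, -, hc⟩ := involution_existsUnique_fixed hodd' h3 ht1 ht2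
  have hx : (t : G) • x = x := t.2.1
  have hy : (t : G) • y = y := t.2.2
  exact hxy ((hc x hx).trans (hc y hy).symm)

/-- the data: a 2-transitive group with trivial three-point stabilisers, whose point stabiliser
has a regular normal non-abelian 2-subgroup `U`, and whose two-point stabilisers are cyclic and
inverted by the elements interchanging the two points -/
structure KData (G Ω : Type*) [Group G] [MulAction G Ω] (a : Ω) (U : Subgroup G) : Prop where
  h2 : ∀ x y z w : Ω, x ≠ y → z ≠ w → ∃ g : G, g • x = z ∧ g • y = w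
  h3 : ∀ g : G, ∀ x y z : Ω, x ≠ y → y ≠ z → x ≠ z → g • x = x → g • y = y → g • z = z → g = 1
  hUa : U ≤ stabilizer G a
  hUn : ∀ h ∈ stabilizer G a, ∀ u ∈ U, h * u * h⁻¹ ∈ U
  hreg : ∀ c e : Ω, c ≠ a → e ≠ a → ∃! u : U, (u : G) • c = e
  hU2 : IsPGroup 2 U
  hUna : ∃ u ∈ U, ∃ v ∈ U, u * v ≠ v * u
  stab2_ne : ∃ g : G, g ≠ 1 ∧ ∃ x y : Ω, x ≠ y ∧ g • x = x ∧ g • y = y
  swap_inv : ∀ (s : G) (x y : Ω), x ≠ y → s • x = y → s • y = x →
    ∀ k : G, k • x = x → k • y = y → s * k * s⁻¹ = k⁻¹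
  stab2_cyclic : ∀ x y : Ω, x ≠ y → IsCyclic ↥(stabilizer G x ⊓ stabilizer G y : Subgroup G)

namespace KData

variable {G Ω : Type*} [Group G] [MulAction G Ω] {a : Ω} {U : Subgroup G} (D : KData G Ω a U)
include D

theorem exists_ne : ∃ b : Ω, b ≠ a := by
  obtain ⟨-, -, x, y, hxy, -, -⟩ := D.stab2_ne
  by_cases h : x = a
  · exact ⟨y, fun hy => hxy (h.trans hy.symm)⟩
  · exact ⟨x, h⟩

theorem smul_ne_a {g : G} (hg : g • a = a) {c : Ω} (hc : c ≠ a) : g • c ≠ a := by
  intro h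
  apply hc
  have : g • c = g • a := by rw [h, hg]
  exact smul_left_cancel g this

theorem U_fix {u : G} (hu : u ∈ U) : u • a = a := D.hUa hu

/-- the elements of `U` are determined by the image of one point -/
theorem U_inj {b : Ω} (hb : b ≠ a) {u v : G} (hu : u ∈ U) (hv : v ∈ U) (h : u • b = v • b) :
    u = v := by
  obtain ⟨w, -, hw⟩ := D.hreg b (u • b) hb (D.smul_ne_a (D.U_fix hu) hb)
  have h1 := hw ⟨u, hu⟩ rfl
  have h2 := hw ⟨v, hv⟩ h.symm
  exact congrArg Subtype.val (h1.trans h2.symm)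

theorem U_trans {b c : Ω} (hb : b ≠ a) (hc : c ≠ a) : ∃ u ∈ U, u • b = c := by
  obtain ⟨u, hu, -⟩ := D.hreg b c hb hc
  exact ⟨u, u.2, hu⟩

/-- non-identity elements of `U` fix only `a` -/
theorem U_free {u : G} (hu : u ∈ U) (hu1 : u ≠ 1) {c : Ω} (hc : u • c = c) : c = a := by
  by_contra hca
  apply hu1
  exact D.U_inj hca hu U.one_mem (by rw [hc, one_smul])

theorem card_pts [Finite G] [Finite Ω] : Nat.card Ω = Nat.card U + 1 := by
  classical
  haveI := Fintype.ofFinite Ω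
  obtain ⟨b, hb⟩ := D.exists_ne
  let f : U → {c : Ω // c ≠ a} := fun u => ⟨(u : G) • b, D.smul_ne_a (D.U_fix u.2) hb⟩
  have hbij : Function.Bijective f := by
    constructor
    · intro u v huv
      have h1 : (u : G) • b = (v : G) • b := congrArg Subtype.val huv
      exact Subtype.ext (D.U_inj hb u.2 v.2 h1)
    · rintro ⟨c, hc⟩
      obtain ⟨u, hu, huc⟩ := D.U_trans hb hc
      exact ⟨⟨u, hu⟩, Subtype.ext huc⟩
  have h1 : Nat.card U = Nat.card {c : Ω // c ≠ a} := Nat.card_congr (Equiv.ofBijective f hbij)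
  have h2 : Nat.card {c : Ω // c ≠ a} = Fintype.card Ω - 1 := by
    rw [Nat.card_eq_fintype_card, Fintype.card_subtype_compl, Fintype.card_subtype_eq]
  have h3 : 0 < Fintype.card Ω := Fintype.card_pos_iff.mpr ⟨a⟩
  rw [Nat.card_eq_fintype_card, h1, h2]
  omega

theorem U_nontrivial : ∃ u ∈ U, u ≠ 1 := by
  obtain ⟨u, hu, v, hv, huv⟩ := D.hUna
  refine ⟨u, hu, ?_⟩
  intro h
  apply huv
  rw [h, one_mul, mul_one]

theorem card_U_pow [Finite G] : ∃ e : ℕ, 1 ≤ e ∧ Nat.card U = 2 ^ e := by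
  haveI : Fact (Nat.Prime 2) := ⟨Nat.prime_two⟩
  obtain ⟨e, he⟩ := D.hU2.exists_card_eq
  refine ⟨e, ?_, he⟩
  by_contra h
  have he0 : e = 0 := by omega
  rw [he0, pow_zero] at he
  obtain ⟨u, hu, hu1⟩ := D.U_nontrivial
  have hsub : Subsingleton U := (Nat.card_eq_one_iff_unique.mp he).1
  apply hu1
  have := Subsingleton.elim (⟨u, hu⟩ : U) 1
  exact congrArg Subtype.val this

theorem card_U_even [Finite G] : Even (Nat.card U) := by
  obtain ⟨e, he1, he⟩ := D.card_U_pow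
  rw [he]
  exact (Nat.even_pow.mpr ⟨even_two, by omega⟩)

theorem two_le_card_U [Finite G] : 2 ≤ Nat.card U := by
  obtain ⟨e, he1, he⟩ := D.card_U_pow
  rw [he]
  calc 2 = 2 ^ 1 := by norm_num
    _ ≤ 2 ^ e := Nat.pow_le_pow_right (by norm_num) he1

theorem odd_pts [Finite G] [Finite Ω] : Odd (Nat.card Ω) := by
  rw [D.card_pts]
  exact D.card_U_even.add_one

theorem stab2_odd [Finite G] [Finite Ω] {x y : Ω} (hxy : x ≠ y) :
    Odd (Nat.card ↥(stabilizer G x ⊓ stabilizer G y : Subgroup G)) :=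
  odd_card_stab2 D.h3 D.odd_pts hxy

/-- every involution has exactly one fixed point -/
theorem inv_fix [Finite G] [Finite Ω] {t : G} (ht1 : t ≠ 1) (ht2 : t * t = 1) :
    ∃! p : Ω, t • p = p := by
  classical
  haveI := Fintype.ofFinite Ω
  have hodd : Odd (Fintype.card Ω) := by
    rw [← Nat.card_eq_fintype_card]
    exact D.odd_pts
  exact involution_existsUnique_fixed hodd D.h3 ht1 ht2

/-- an involution fixing `a` fixes no other point -/
theorem inv_fix_a [Finite G] [Finite Ω] {t : G} (ht1 : t ≠ 1) (ht2 : t * t = 1) (hta : t • a = a)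
    {c : Ω} (hc : t • c = c) : c = a := by
  obtain ⟨p, -, hp⟩ := D.inv_fix ht1 ht2
  exact (hp c hc).trans (hp a hta).symm

/-- the point stabiliser is `U · K` -/
theorem stab_eq_mul {b : Ω} (hb : b ≠ a) {g : G} (hg : g • a = a) :
    ∃ u ∈ U, (u⁻¹ * g) • a = a ∧ (u⁻¹ * g) • b = b := by
  obtain ⟨u, hu, hub⟩ := D.U_trans hb (D.smul_ne_a hg hb)
  refine ⟨u, hu, ?_, ?_⟩
  · rw [mul_smul, hg, inv_smul_eq_iff, D.U_fix hu]
  · rw [mul_smul, ← hub, inv_smul_smul]

/-- an element of a two-point stabiliser commuting with an involution fixing one of the two points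
is trivial -/
theorem eq_one_of_comm_inv [Finite G] [Finite Ω] {b : Ω} (hb : b ≠ a) {k t : G}
    (hka : k • a = a) (hkb : k • b = b)
    (ht1 : t ≠ 1) (ht2 : t * t = 1) (hta : t • a = a) (hkt : k * t = t * k) : k = 1 := by
  have htb : t • b ≠ b := fun h => hb (D.inv_fix_a ht1 ht2 hta h)
  have htba : t • b ≠ a := D.smul_ne_a hta hb
  have h3' : k • (t • b) = t • b := by
    rw [← mul_smul, hkt, mul_smul, hkb]
  exact D.h3 k a b (t • b) (Ne.symm hb) (Ne.symm htb) (Ne.symm htba) hka hkb h3'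

/-- `U` contains an involution -/
theorem exists_inv_U [Finite G] : ∃ x ∈ U, x ≠ 1 ∧ x * x = 1 := by
  haveI : Fact (Nat.Prime 2) := ⟨Nat.prime_two⟩
  have h2 : 2 ∣ Nat.card U := even_iff_two_dvd.mp D.card_U_even
  obtain ⟨t, ht⟩ := exists_prime_orderOf_dvd_card' 2 h2
  refine ⟨t, t.2, ?_, ?_⟩
  · intro h
    have : t = 1 := Subtype.ext h
    rw [this, orderOf_one] at ht
    omega
  · have : t ^ 2 = 1 := by rw [← ht]; exact pow_orderOf_eq_one t
    have := congrArg Subtype.val this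
    simpa [pow_two] using this

/-- the involutions fixing `a` form one orbit of `K` of length `|K|`, and lie in `U` -/
theorem inv_a_orbit [Finite G] [Finite Ω] {b : Ω} (hb : b ≠ a) {x t : G}
    (hx1 : x ≠ 1) (hx2 : x * x = 1) (hxa : x • a = a)
    (ht1 : t ≠ 1) (ht2 : t * t = 1) (hta : t • a = a) :
    ∃ η : G, η • a = a ∧ η • b = b ∧ η * x * η⁻¹ = t := by
  classical
  haveI := Fintype.ofFinite Ω
  haveI := Fintype.ofFinite G
  have hodd : Odd (Fintype.card Ω) := by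
    rw [← Nat.card_eq_fintype_card]
    exact D.odd_pts
  have hx : x ∈ invsMap (G := G) a a := mem_invsMap.mpr ⟨⟨hx1, hx2⟩, hxa⟩
  have ht : t ∈ invsMap (G := G) a a := mem_invsMap.mpr ⟨⟨ht1, ht2⟩, hta⟩
  obtain ⟨-, h⟩ := invsMap_self_odd D.h2 D.h3 hodd (Ne.symm hb) (D.stab2_odd (Ne.symm hb)) hx
  obtain ⟨η, hη, hηt⟩ := h t ht
  exact ⟨η, hη.1, hη.2, hηt⟩

/-- involutions fixing `a` lie in `U` -/
theorem inv_mem_U [Finite G] [Finite Ω] {t : G} (ht1 : t ≠ 1) (ht2 : t * t = 1) (hta : t • a = a) :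
    t ∈ U := by
  obtain ⟨b, hb⟩ := D.exists_ne
  obtain ⟨x, hxU, hx1, hx2⟩ := D.exists_inv_U
  obtain ⟨η, hηa, -, hη⟩ := D.inv_a_orbit hb hx1 hx2 (D.U_fix hxU) ht1 ht2 hta
  rw [← hη]
  exact D.hUn η hηa x hxU

end KData

end Cfsg.Agent.Lib.Helper6.SuzOrd
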