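import Mathlib
import Cfsg.Agent.Lib.Helper6.SuzOrd1
import Cfsg.Agent.S1137
import Cfsg.Agent.S1138

/-!
# Suzuki's order theorem, module 2: `U` is a Suzuki 2-group (helper6)
-/

set_option autoImplicit false
set_option linter.unusedSectionVars false
set_option linter.style.haveILetI false

namespace Cfsg.Agent.Lib.Helper6.SuzOrd

open MulAction Cfsg.Agent.Lib.Helper6 Cfsg.Agent.Lib.Helper25.ZassInv

namespace KData

variable {G Ω : Type*} [Group G] [MulAction G Ω] {a : Ω} {U : Subgroup G} (D : KData G Ω a U)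

/-- conjugation by an element of the point stabiliser, as an automorphism of `U` -/
def conjAut (k : stabilizer G a) : MulAut U where
  toFun u := ⟨(k : G) * u * (k : G)⁻¹, D.hUn k k.2 u u.2⟩
  invFun u := ⟨(k : G)⁻¹ * u * (k : G), by
    have := D.hUn (k : G)⁻¹ (inv_mem k.2) u u.2
    simpa using this⟩
  left_inv u := by
    apply Subtype.ext
    simp [mul_assoc]
  right_inv u := by
    apply Subtype.ext
    simp [mul_assoc]
  map_mul' u v := by
    apply Subtype.ext
    simp [mul_assoc]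

theorem conjAut_apply (k : stabilizer G a) (u : U) :
    ((D.conjAut k) u : G) = (k : G) * u * (k : G)⁻¹ := rfl

/-- conjugation, as a homomorphism from the two-point stabiliser to the automorphisms of `U` -/
def conjHom (b : Ω) : ↥(stabilizer G a ⊓ stabilizer G b : Subgroup G) →* MulAut U where
  toFun k := D.conjAut ⟨k, k.2.1⟩
  map_one' := by
    ext u
    simp [conjAut_apply]
  map_mul' k k' := by
    ext u
    simp [conjAut_apply, mul_assoc]

theorem conjHom_apply (b : Ω) (k : ↥(stabilizer G a ⊓ stabilizer G b : Subgroup G)) (u : U) :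
    ((D.conjHom b k) u : G) = (k : G) * u * (k : G)⁻¹ := rfl

include D

/-- the two-point stabilisers are non-trivial -/
theorem exists_stab2_ne_one [Finite G] {x y : Ω} (hxy : x ≠ y) :
    ∃ k : G, k ≠ 1 ∧ k • x = x ∧ k • y = y := by
  obtain ⟨g, hg1, x', y', hxy', hgx, hgy⟩ := D.stab2_ne
  have h1 := card_stab2_eq D.h2 hxy' hxy
  have h2 : 1 < Nat.card ↥(stabilizer G x' ⊓ stabilizer G y' : Subgroup G) := by
    rw [Finite.one_lt_card_iff_nontrivial]
    exact ⟨⟨⟨g, ⟨hgx, hgy⟩⟩, 1, fun h => hg1 (congrArg Subtype.val h)⟩⟩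
  rw [← h1, Finite.one_lt_card_iff_nontrivial] at h2
  obtain ⟨k, hk⟩ := _root_.exists_ne (1 : ↥(stabilizer G x ⊓ stabilizer G y : Subgroup G))
  exact ⟨k, fun h => hk (Subtype.ext h), k.2.1, k.2.2⟩

/-- `U` is a Suzuki 2-group -/
theorem isSuzukiTwoGroup [Finite G] [Finite Ω] : Cfsg.IsSuzukiTwoGroup U := by
  obtain ⟨b, hb⟩ := D.exists_ne
  refine ⟨inferInstance, D.hU2, ?_, ?_, ?_⟩
  · obtain ⟨u, hu, v, hv, huv⟩ := D.hUna
    refine ⟨⟨u, hu⟩, ⟨v, hv⟩, ?_⟩
    intro h
    exact huv (congrArg Subtype.val h)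
  · obtain ⟨x, hxU, hx1, hx2⟩ := D.exists_inv_U
    obtain ⟨η, hη1, hηa, hηb⟩ := D.exists_stab2_ne_one (Ne.symm hb)
    have hyU : η * x * η⁻¹ ∈ U := D.hUn η hηa x hxU
    refine ⟨⟨x, hxU⟩, ⟨η * x * η⁻¹, hyU⟩, ?_, ?_, ?_, ?_, ?_⟩
    · intro h
      have h' : x = η * x * η⁻¹ := congrArg Subtype.val h
      apply hη1
      apply D.eq_one_of_comm_inv hb hηa hηb hx1 hx2 (D.U_fix hxU)
      calc η * x = (η * x * η⁻¹) * η := by group
        _ = x * η := by rw [← h']
    · intro h
      exact hx1 (congrArg Subtype.val h)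
    · exact Subtype.ext hx2
    · intro h
      have h' : η * x * η⁻¹ = 1 := congrArg Subtype.val h
      apply hx1
      have := congrArg (fun z => η⁻¹ * z * η) h'
      simpa [mul_assoc] using this
    · apply Subtype.ext
      show η * x * η⁻¹ * (η * x * η⁻¹) = 1
      calc η * x * η⁻¹ * (η * x * η⁻¹) = η * (x * x) * η⁻¹ := by group
        _ = 1 := by rw [hx2]; group
  · refine ⟨(D.conjHom b).range, ?_, ?_⟩
    · haveI := D.stab2_cyclic a b (Ne.symm hb)
      exact isCyclic_of_surjective (D.conjHom b).rangeRestrict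
        (D.conjHom b).rangeRestrict_surjective
    · intro x y hx1 hx2 hy1 hy2
      have hx1' : (x : G) ≠ 1 := fun h => hx1 (Subtype.ext h)
      have hy1' : (y : G) ≠ 1 := fun h => hy1 (Subtype.ext h)
      have hx2' : (x : G) * (x : G) = 1 := congrArg Subtype.val hx2
      have hy2' : (y : G) * (y : G) = 1 := congrArg Subtype.val hy2
      obtain ⟨η, hηa, hηb, hη⟩ := D.inv_a_orbit hb hx1' hx2' (D.U_fix x.2) hy1' hy2' (D.U_fix y.2)
      refine ⟨⟨D.conjHom b ⟨η, ⟨hηa, hηb⟩⟩, ⟨_, rfl⟩⟩, ?_, ?_⟩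
      · apply Subtype.ext
        exact hη
      · rintro ⟨_, ⟨k, rfl⟩⟩ hk
        have hk' : (k : G) * x * (k : G)⁻¹ = y := congrArg Subtype.val hk
        have h1 : η⁻¹ * (k : G) = 1 := by
          apply D.eq_one_of_comm_inv hb (t := (x : G)) _ _ hx1' hx2' (D.U_fix x.2)
          · calc η⁻¹ * (k : G) * x = η⁻¹ * ((k : G) * x * (k : G)⁻¹) * k := by group
              _ = η⁻¹ * (η * x * η⁻¹) * k := by rw [hk', hη]
              _ = x * (η⁻¹ * k) := by group
          · rw [mul_smul, k.2.1, inv_smul_eq_iff, hηa]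
          · rw [mul_smul, k.2.2, inv_smul_eq_iff, hηb]
        have h2 : (k : G) = η := by
          have := congrArg (fun z => η * z) h1
          simpa using this
        apply Subtype.ext
        show D.conjHom b k = D.conjHom b ⟨η, ⟨hηa, hηb⟩⟩
        congr 1
        exact Subtype.ext h2

end KData

end Cfsg.Agent.Lib.Helper6.SuzOrd
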