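import Mathlib
import Cfsg.Agent.Lib.Helper6.SuzOrd2

/-!
# Suzuki's order theorem, module 3: the centre of `U`, and the counting system of `G` (helper6)
-/

set_option autoImplicit false
set_option linter.unusedSectionVars false
set_option linter.style.haveILetI false

namespace Cfsg.Agent.Lib.Helper6.SuzOrd

open MulAction Cfsg.Agent.Lib.Helper6 Cfsg.Agent.Lib.Helper25.ZassInv

/-- the centre of a subgroup, as a subgroup of the whole group -/
def cen {G : Type*} [Group G] (U : Subgroup G) : Subgroup G :=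
  U ⊓ Subgroup.centralizer (U : Set G)

theorem mem_cen {G : Type*} [Group G] {U : Subgroup G} {z : G} :
    z ∈ cen U ↔ z ∈ U ∧ ∀ u ∈ U, u * z = z * u := by
  unfold cen
  rw [Subgroup.mem_inf, Subgroup.mem_centralizer_iff]
  rfl

theorem mem_cen_iff_center {G : Type*} [Group G] {U : Subgroup G} (z : U) :
    (z : G) ∈ cen U ↔ z ∈ Subgroup.center U := by
  rw [mem_cen, Subgroup.mem_center_iff]
  constructor
  · intro h u
    apply Subtype.ext
    exact h.2 u u.2
  · intro h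
    refine ⟨z.2, fun u hu => ?_⟩
    exact congrArg Subtype.val (h ⟨u, hu⟩)

theorem card_cen {G : Type*} [Group G] (U : Subgroup G) :
    Nat.card (cen U) = Nat.card (Subgroup.center U) := by
  apply Nat.card_congr
  refine ⟨fun z => ⟨⟨z, (mem_cen.mp z.2).1⟩, (mem_cen_iff_center _).mp z.2⟩,
    fun z => ⟨z, (mem_cen_iff_center _).mpr z.2⟩, ?_, ?_⟩
  · intro z; rfl
  · intro z; rfl

namespace KData

variable {G Ω : Type*} [Group G] [MulAction G Ω] {a : Ω} {U : Subgroup G} (D : KData G Ω a U)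
include D

theorem cen_le : cen U ≤ U := inf_le_left

theorem cen_fix {z : G} (hz : z ∈ cen U) : z • a = a := D.U_fix (D.cen_le hz)

/-- the involutions fixing `a` are the non-identity elements of the centre of `U` -/
theorem inv_iff_cen [Finite G] [Finite Ω] {t : G} :
    (t ≠ 1 ∧ t * t = 1 ∧ t • a = a) ↔ (t ∈ cen U ∧ t ≠ 1) := by
  have hS := (Cfsg.Agent.S1137.result D.isSuzukiTwoGroup).1
  constructor
  · rintro ⟨h1, h2, h3⟩
    have htU := D.inv_mem_U h1 h2 h3
    have := (hS ⟨t, htU⟩).mp ⟨fun h => h1 (congrArg Subtype.val h), Subtype.ext h2⟩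
    exact ⟨(mem_cen_iff_center _).mpr this.1, h1⟩
  · rintro ⟨h1, h2⟩
    have htU := D.cen_le h1
    have := (hS ⟨t, htU⟩).mpr ⟨(mem_cen_iff_center ⟨t, htU⟩).mp h1,
      fun h => h2 (congrArg Subtype.val h)⟩
    exact ⟨h2, congrArg Subtype.val this.2, D.U_fix htU⟩

theorem cen_sq [Finite G] [Finite Ω] {z : G} (hz : z ∈ cen U) : z * z = 1 := by
  by_cases h : z = 1
  · rw [h, mul_one]
  · exact (D.inv_iff_cen.mpr ⟨hz, h⟩).2.1

theorem cen_inv_eq [Finite G] [Finite Ω] {z : G} (hz : z ∈ cen U) : z⁻¹ = z :=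
  inv_eq_of_mul_eq_one_left (D.cen_sq hz)

/-- squares of elements of `U` are central -/
theorem sq_mem_cen [Finite G] [Finite Ω] {u : G} (hu : u ∈ U) : u * u ∈ cen U := by
  have hS := (Cfsg.Agent.S1138.result D.isSuzukiTwoGroup).1
  exact (mem_cen_iff_center (⟨u, hu⟩ * ⟨u, hu⟩ : U)).mpr (hS ⟨u, hu⟩)

/-- the order of `U` is the square or the cube of the order of its centre -/
theorem card_U_cases [Finite G] [Finite Ω] :
    Nat.card U = Nat.card (cen U) ^ 2 ∨ Nat.card U = Nat.card (cen U) ^ 3 := by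
  rw [card_cen]
  exact (Cfsg.Agent.S1138.result D.isSuzukiTwoGroup).2.2.1

/-- the centre of `U` is normalised by the point stabiliser -/
theorem cen_conj {h : G} (hh : h • a = a) {z : G} (hz : z ∈ cen U) : h * z * h⁻¹ ∈ cen U := by
  rw [mem_cen] at hz ⊢
  refine ⟨D.hUn h hh z hz.1, fun u hu => ?_⟩
  have hinv : h⁻¹ • a = a := by rw [inv_smul_eq_iff, hh]
  have h1 : h⁻¹ * u * h ∈ U := by
    have := D.hUn h⁻¹ hinv u hu
    simpa using this
  have h2 := hz.2 _ h1
  calc u * (h * z * h⁻¹) = h * ((h⁻¹ * u * h) * z) * h⁻¹ := by group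
    _ = h * (z * (h⁻¹ * u * h)) * h⁻¹ := by rw [h2]
    _ = h * z * h⁻¹ * u := by group

/-- the two-point stabiliser is transitive on the non-identity elements of the centre -/
theorem cen_trans [Finite G] [Finite Ω] {b : Ω} (hb : b ≠ a) {z z' : G}
    (hz : z ∈ cen U) (hz1 : z ≠ 1) (hz' : z' ∈ cen U) (hz1' : z' ≠ 1) :
    ∃ η : G, η • a = a ∧ η • b = b ∧ η * z * η⁻¹ = z' := by
  obtain ⟨h1, h2, h3⟩ := D.inv_iff_cen.mpr ⟨hz, hz1⟩
  obtain ⟨h1', h2', h3'⟩ := D.inv_iff_cen.mpr ⟨hz', hz1'⟩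
  exact D.inv_a_orbit hb h1 h2 h3 h1' h2' h3'

/-- the centraliser of a central involution of `U` is `U` -/
theorem cent_le_U [Finite G] [Finite Ω] {t g : G} (ht : t ∈ cen U) (ht1 : t ≠ 1)
    (hg : g * t = t * g) : g ∈ U := by
  obtain ⟨b, hb⟩ := D.exists_ne
  obtain ⟨-, ht2, hta⟩ := D.inv_iff_cen.mpr ⟨ht, ht1⟩
  have hga : g • a = a := by
    apply D.U_free (D.cen_le ht) ht1
    rw [← mul_smul, ← hg, mul_smul, hta]
  obtain ⟨u, hu, hka, hkb⟩ := D.stab_eq_mul hb hga
  have hut : u⁻¹ * t = t * u⁻¹ := (mem_cen.mp ht).2 u⁻¹ (U.inv_mem hu)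
  have hk : u⁻¹ * g = 1 := by
    apply D.eq_one_of_comm_inv hb hka hkb ht1 ht2 hta
    calc u⁻¹ * g * t = u⁻¹ * (g * t) := by group
      _ = u⁻¹ * (t * g) := by rw [hg]
      _ = (u⁻¹ * t) * g := by group
      _ = t * u⁻¹ * g := by rw [hut]
      _ = t * (u⁻¹ * g) := by group
  have : g = u := by
    have := congrArg (fun z => u * z) hk
    simpa using this
  rw [this]
  exact hu

/-- the centraliser of an involution is a 2-group -/
theorem cent_inv_two [Finite G] [Finite Ω] {t g : G} (ht1 : t ≠ 1) (ht2 : t * t = 1)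
    (hg : g * t = t * g) : ∃ k : ℕ, g ^ 2 ^ k = 1 := by
  obtain ⟨b, hb⟩ := D.exists_ne
  obtain ⟨c, hc, -⟩ := D.inv_fix ht1 ht2
  have htr : ∃ h : G, h • a = c := by
    by_cases hca : c = a
    · exact ⟨1, by rw [one_smul, hca]⟩
    · obtain ⟨h, hh, -⟩ := D.h2 a b c a (Ne.symm hb) hca
      exact ⟨h, hh⟩
  obtain ⟨h, hh⟩ := htr
  have ht' : h⁻¹ * t * h ∈ cen U ∧ h⁻¹ * t * h ≠ 1 := by
    apply D.inv_iff_cen.mp
    refine ⟨?_, ?_, ?_⟩
    · intro h'
      apply ht1
      have := congrArg (fun z => h * z * h⁻¹) h'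
      simpa [mul_assoc] using this
    · calc h⁻¹ * t * h * (h⁻¹ * t * h) = h⁻¹ * (t * t) * h := by group
        _ = 1 := by rw [ht2]; group
    · rw [mul_smul, mul_smul, hh, hc, inv_smul_eq_iff, hh]
  have hg' : h⁻¹ * g * h ∈ U := by
    apply D.cent_le_U ht'.1 ht'.2
    calc h⁻¹ * g * h * (h⁻¹ * t * h) = h⁻¹ * (g * t) * h := by group
      _ = h⁻¹ * (t * g) * h := by rw [hg]
      _ = h⁻¹ * t * h * (h⁻¹ * g * h) := by group
  obtain ⟨k, hk⟩ := D.hU2 ⟨_, hg'⟩
  refine ⟨k, ?_⟩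
  have hk' : (h⁻¹ * g * h) ^ 2 ^ k = 1 := by
    have := congrArg Subtype.val hk
    simpa using this
  have e : (h⁻¹ * g * h) ^ 2 ^ k = h⁻¹ * g ^ 2 ^ k * h := by
    have := conj_pow (a := h⁻¹) (b := g) (i := 2 ^ k)
    simpa using this
  rw [e] at hk'
  have := congrArg (fun z => h * z * h⁻¹) hk'
  simpa [mul_assoc] using this

/-- elements interchanging two points are involutions -/
theorem swap_sq [Finite G] [Finite Ω] {s : G} {x y : Ω} (hxy : x ≠ y) (hx : s • x = y)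
    (hy : s • y = x) : s * s = 1 := by
  have h1 : (s * s) • x = x := by rw [mul_smul, hx, hy]
  have h2 : (s * s) • y = y := by rw [mul_smul, hy, hx]
  have h3 := D.swap_inv s x y hxy hx hy (s * s) h1 h2
  have h4 : (s * s) * (s * s) = 1 := by
    have : s * (s * s) * s⁻¹ = s * s := by group
    rw [this] at h3
    calc (s * s) * (s * s) = (s * s) * (s * s)⁻¹ := by rw [← h3]
      _ = 1 := by group
  have hmem : s * s ∈ (stabilizer G x ⊓ stabilizer G y : Subgroup G) := ⟨h1, h2⟩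
  have hd : orderOf (⟨s * s, hmem⟩ : ↥(stabilizer G x ⊓ stabilizer G y : Subgroup G)) ∣
      Nat.card ↥(stabilizer G x ⊓ stabilizer G y : Subgroup G) := orderOf_dvd_natCard _
  rw [Subgroup.orderOf_mk] at hd
  have h5 : orderOf (s * s) ∣ 2 := orderOf_dvd_of_pow_eq_one (by rw [pow_two]; exact h4)
  have hodd := D.stab2_odd hxy
  have h6 : Nat.Coprime (Nat.card ↥(stabilizer G x ⊓ stabilizer G y : Subgroup G)) 2 :=
    Nat.coprime_two_right.mpr hodd
  have h7 : orderOf (s * s) ∣ 1 := by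
    have := Nat.dvd_gcd hd h5
    rwa [h6] at this
  exact orderOf_eq_one_iff.mp (Nat.dvd_one.mp h7)

/-- the number of central involutions of `U` is the order of a two-point stabiliser -/
theorem card_cen_eq [Finite G] [Finite Ω] {b : Ω} (hb : b ≠ a) :
    Nat.card (cen U) = Nat.card ↥(stabilizer G a ⊓ stabilizer G b : Subgroup G) + 1 := by
  classical
  haveI := Fintype.ofFinite Ω
  haveI := Fintype.ofFinite G
  have hodd : Odd (Fintype.card Ω) := by
    rw [← Nat.card_eq_fintype_card]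
    exact D.odd_pts
  obtain ⟨x, hxU, hx1, hx2⟩ := D.exists_inv_U
  have hx : x ∈ invsMap (G := G) a a := mem_invsMap.mpr ⟨⟨hx1, hx2⟩, D.U_fix hxU⟩
  obtain ⟨h, -⟩ := invsMap_self_odd D.h2 D.h3 hodd (Ne.symm hb) (D.stab2_odd (Ne.symm hb)) hx
  rw [← h]
  have h1 : Nat.card (cen U) = (Finset.univ.filter (fun z : G => z ∈ cen U)).card := by
    rw [Nat.card_eq_fintype_card, Fintype.card_subtype]
  have h2 : Finset.univ.filter (fun z : G => z ∈ cen U) = insert 1 (invsMap (G := G) a a) := by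
    ext z
    simp only [Finset.mem_filter, Finset.mem_univ, true_and, Finset.mem_insert, mem_invsMap]
    constructor
    · intro hz
      by_cases hz1 : z = 1
      · exact Or.inl hz1
      · obtain ⟨e1, e2, e3⟩ := D.inv_iff_cen.mpr ⟨hz, hz1⟩
        exact Or.inr ⟨⟨e1, e2⟩, e3⟩
    · rintro (rfl | ⟨⟨e1, e2⟩, e3⟩)
      · exact (cen U).one_mem
      · exact (D.inv_iff_cen.mp ⟨e1, e2, e3⟩).1
  rw [h1, h2, Finset.card_insert_of_notMem]
  rw [mem_invsMap]
  exact fun h => h.1.1 rfl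

/-- the counting system of `G` -/
theorem toASys [Finite G] [Finite Ω] :
    ASys G Ω (Nat.card U) (Nat.card (cen U) - 1) := by
  obtain ⟨b, hb⟩ := D.exists_ne
  have hq := D.card_cen_eq hb
  refine ⟨D.card_pts, D.card_U_even, D.two_le_card_U, ?_, D.h2, D.h3, ?_, ?_, ?_⟩
  · rw [hq, Nat.add_sub_cancel]
    exact D.stab2_odd (Ne.symm hb)
  · intro x y hxy
    rw [hq, Nat.add_sub_cancel]
    exact card_stab2_eq D.h2 (Ne.symm hb) hxy
  · intro s x y hxy hx hy
    exact D.swap_sq hxy hx hy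
  · intro t g ht1 ht2 hg
    exact D.cent_inv_two ht1 ht2 hg

end KData

end Cfsg.Agent.Lib.Helper6.SuzOrd
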