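import Mathlib

set_option autoImplicit false

namespace Cfsg.Agent.Lib.Helper6

/-- Recognition of dihedral groups: a group consisting of the elements `ρ i` and `τ * ρ i`, where
`ρ` is an injective homomorphism from a cyclic group of order `N` and `τ` is an involution outside
the image of `ρ` that inverts it, is isomorphic to `DihedralGroup N`. -/
theorem nonempty_mulEquiv_dihedral {G : Type*} [Group G] {N : ℕ}
    (ρ : Multiplicative (ZMod N) →* G) (hρ : Function.Injective ρ) (τ : G) (hτ : τ * τ = 1)
    (hconj : ∀ i, τ * ρ i * τ = ρ i⁻¹) (hτn : ∀ i, τ ≠ ρ i)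
    (hall : ∀ g : G, (∃ i, g = ρ i) ∨ (∃ i, g = τ * ρ i)) :
    Nonempty (G ≃* DihedralGroup N) := by
  let r : ZMod N → G := fun i => ρ (Multiplicative.ofAdd i)
  have hr_add : ∀ i j, r (i + j) = r i * r j := fun i j => by
    simp only [r, ofAdd_add, map_mul]
  have hr_zero : r 0 = 1 := by simp [r]
  have hr_neg : ∀ i, r (-i) = (r i)⁻¹ := fun i => by
    simp only [r, ofAdd_neg, map_inv]
  have hr_conj : ∀ i, τ * r i * τ = r (-i) := fun i => by
    rw [hr_neg]
    have := hconj (Multiplicative.ofAdd i)
    rw [map_inv] at this
    exact this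
  have hr_conj' : ∀ i, r i * τ = τ * r (-i) := fun i => by
    have h := hr_conj i
    calc r i * τ = (τ * τ) * (r i * τ) := by rw [hτ, one_mul]
      _ = τ * (τ * r i * τ) := by group
      _ = τ * r (-i) := by rw [h]
  let f : DihedralGroup N → G := fun x =>
    match x with
    | DihedralGroup.r i => r i
    | DihedralGroup.sr i => τ * r i
  have hf_mul : ∀ x y, f (x * y) = f x * f y := by
    intro x y
    rcases x with i | i <;> rcases y with j | j
    · show r (i + j) = r i * r j
      exact hr_add i j
    · show τ * r (j - i) = r i * (τ * r j)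
      rw [← mul_assoc, hr_conj', mul_assoc, ← hr_add, neg_add_eq_sub]
    · show τ * r (i + j) = τ * r i * r j
      rw [hr_add, mul_assoc]
    · show r (j - i) = τ * r i * (τ * r j)
      have : τ * r i * (τ * r j) = (τ * r i * τ) * r j := by group
      rw [this, hr_conj, ← hr_add, neg_add_eq_sub]
  have hf_inj : Function.Injective f := by
    intro x y h
    rcases x with i | i <;> rcases y with j | j
    · have : r i = r j := h
      have := hρ this
      rw [Multiplicative.ofAdd.injective this]
    · exfalso
      have : r i = τ * r j := h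
      have h2 : τ = r i * (r j)⁻¹ := by rw [this]; group
      rw [← hr_neg, ← hr_add] at h2
      exact hτn _ h2
    · exfalso
      have : τ * r i = r j := h
      have h2 : τ = r j * (r i)⁻¹ := by rw [← this]; group
      rw [← hr_neg, ← hr_add] at h2
      exact hτn _ h2
    · have : τ * r i = τ * r j := h
      have := hρ (mul_left_cancel this)
      rw [Multiplicative.ofAdd.injective this]
  have hf_surj : Function.Surjective f := by
    intro g
    rcases hall g with ⟨i, rfl⟩ | ⟨i, rfl⟩
    · exact ⟨DihedralGroup.r (Multiplicative.toAdd i), rfl⟩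
    · exact ⟨DihedralGroup.sr (Multiplicative.toAdd i), rfl⟩
  exact ⟨(MulEquiv.ofBijective (MonoidHom.mk' f hf_mul) ⟨hf_inj, hf_surj⟩).symm⟩

end Cfsg.Agent.Lib.Helper6
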