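import Mathlib

/-!
# Module [INV-A] for S0999 / S4701 (helper79, Lib/Helper79/BrauerN/SPINE.md)

Involutions in the normalizer `N` of a self-centralizing Sylow `p`-subgroup `P` of order `p`
(`p` odd, `|N| = p q`, `q` even).
-/

set_option autoImplicit false
set_option linter.unusedSectionVars false
set_option linter.unusedVariables false
set_option linter.style.haveILetI false

namespace Cfsg.Agent.Lib.Helper6.BrauerNInv

/-- A subgroup `B` normalizing the cyclic group generated by an element `g` of prime order `p`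
acts on it through a character `B →* (ZMod p)ˣ`. -/
theorem exists_powHom' {G : Type*} [Group G] (p : ℕ) [Fact p.Prime] (B : Subgroup G) (g : G)
    (hg : orderOf g = p)
    (hB : ∀ b ∈ B, b * g * b⁻¹ ∈ Subgroup.zpowers g) :
    ∃ κ : ↥B →* (ZMod p)ˣ, ∀ b : ↥B, (b : G) * g * (b : G)⁻¹ = g ^ ((κ b : ZMod p).val) := by
  have h1 : ∀ b : ↥B, ∃ n : ℕ, (b : G) * g * (b : G)⁻¹ = g ^ n := by
    intro b
    obtain ⟨k, hk⟩ := Subgroup.mem_zpowers_iff.mp (hB b b.2)
    refine ⟨(k % (p : ℤ)).toNat, ?_⟩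
    have hp0 : (p : ℤ) ≠ 0 := by exact_mod_cast (Fact.out : p.Prime).ne_zero
    rw [← hk, ← zpow_natCast, Int.toNat_of_nonneg (Int.emod_nonneg _ hp0), ← hg, zpow_mod_orderOf]
  choose f hf using h1
  have key : ∀ (m n : ℕ), g ^ m = g ^ n → (m : ZMod p) = (n : ZMod p) := by
    intro m n h
    rw [pow_eq_pow_iff_modEq, hg] at h
    exact (ZMod.natCast_eq_natCast_iff m n p).mpr h
  have hF : ∀ b : ↥B, (b : G) * g * (b : G)⁻¹ = g ^ ((f b : ZMod p)).val := by
    intro b
    rw [hf b, ZMod.val_natCast]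
    conv_rhs => rw [← hg]
    rw [pow_mod_orderOf]
  have hconj_pow : ∀ (c : G) (n : ℕ), c * g ^ n * c⁻¹ = (c * g * c⁻¹) ^ n := by
    intro c n
    rw [conj_pow]
  let F : ↥B →* ZMod p :=
    { toFun := fun b => (f b : ZMod p)
      map_one' := by
        have h := hF 1
        simp only [Subgroup.coe_one, one_mul, inv_one, mul_one] at h
        have h2 : g ^ 1 = g ^ ((f 1 : ZMod p)).val := by rw [pow_one]; exact h
        have h3 := key _ _ h2
        rw [ZMod.natCast_zmod_val] at h3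
        rw [← h3]; simp
      map_mul' := by
        intro b b'
        have h : g ^ ((f (b * b') : ZMod p)).val
            = g ^ (((f b : ZMod p)).val * ((f b' : ZMod p)).val) := by
          rw [← hF (b * b'), pow_mul, ← hF b, ← hconj_pow, ← hF b']
          simp only [Subgroup.coe_mul, mul_inv_rev]
          group
        have h3 := key _ _ h
        rw [ZMod.natCast_zmod_val, Nat.cast_mul, ZMod.natCast_zmod_val, ZMod.natCast_zmod_val] at h3
        exact h3 }
  refine ⟨F.toHomUnits, ?_⟩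
  intro b
  rw [MonoidHom.coe_toHomUnits]
  exact hF b

theorem involution_normalizer {G : Type*} [Group G] [Finite G] (p q : ℕ) [Fact p.Prime]
    (hp2 : p ≠ 2) (P : Sylow p G) (hPcard : Nat.card (P : Subgroup G) = p)
    (hcent : ∀ x : G, x ∈ (P : Subgroup G) → x ≠ 1 →
      Subgroup.centralizer ({x} : Set G) = (P : Subgroup G))
    (hN : Nat.card (Subgroup.normalizer ((P : Subgroup G) : Set G)) = p * q) (hq : Even q) :
    ∃ s : G, s ∈ Subgroup.normalizer ((P : Subgroup G) : Set G) ∧ orderOf s = 2 ∧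
      (∀ s' : G, s' ∈ Subgroup.normalizer ((P : Subgroup G) : Set G) → orderOf s' = 2 →
        ∃ x ∈ (P : Subgroup G), s' = x * s) ∧
      Nat.card {y : G // y⁻¹ * s * y ∈ Subgroup.normalizer ((P : Subgroup G) : Set G)} =
        Nat.card (Subgroup.centralizer ({s} : Set G)) * p ∧
      (∀ x : G, x ∈ (P : Subgroup G) → x ≠ 1 →
        Nat.card {ab : G × G // ab.1 * s * ab.1⁻¹ * (ab.2 * s * ab.2⁻¹) = x} =
          Nat.card (Subgroup.centralizer ({s} : Set G)) ^ 2 * p) ∧
      ∃ Z : Subgroup G, Z ≤ Subgroup.centralizer ({s} : Set G) ∧ IsCyclic Z ∧ Nat.card Z = q ∧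
        s ∈ Z := by
  classical
  have hp : p.Prime := Fact.out
  set N : Subgroup G := Subgroup.normalizer ((P : Subgroup G) : Set G) with hNdef
  have hnorm : ∀ n ∈ N, ∀ a ∈ (P : Subgroup G), n * a * n⁻¹ ∈ (P : Subgroup G) :=
    fun n hn a ha => (Subgroup.mem_normalizer_iff.mp hn a).mp ha
  have hPN : (P : Subgroup G) ≤ N := Subgroup.le_normalizer
  -- `P` is commutative
  have hPcomm : ∀ a ∈ (P : Subgroup G), ∀ b ∈ (P : Subgroup G), a * b = b * a := by
    intro a ha b hb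
    by_cases h1 : a = 1
    · rw [h1]; simp
    · have h2 : b ∈ Subgroup.centralizer ({a} : Set G) := by rw [hcent a ha h1]; exact hb
      rw [Subgroup.mem_centralizer_iff] at h2
      exact h2 a (Set.mem_singleton a)
  -- exponent `p`
  have hPexp : ∀ a ∈ (P : Subgroup G), a ^ p = 1 := by
    intro a ha
    have h1 : (⟨a, ha⟩ : (P : Subgroup G)) ^ Nat.card (P : Subgroup G) = 1 := pow_card_eq_one'
    rw [hPcard] at h1
    have h2 := congrArg Subtype.val h1
    simpa using h2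
  -- a nontrivial element
  obtain ⟨x₀, hx₀P, hx₀1⟩ : ∃ x₀ ∈ (P : Subgroup G), x₀ ≠ 1 := by
    by_contra h
    push Not at h
    have h1 : (P : Subgroup G) = ⊥ := (Subgroup.eq_bot_iff_forall _).mpr h
    rw [h1] at hPcard
    simp at hPcard
    exact hp.one_lt.ne hPcard
  -- involutions are not in `P`
  have hinvP : ∀ g : G, orderOf g = 2 → g ∉ (P : Subgroup G) := by
    intro g hg hgP
    have h1 := hPexp g hgP
    have h2 : 2 ∣ p := by rw [← hg]; exact orderOf_dvd_of_pow_eq_one h1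
    have h3 := (Nat.prime_dvd_prime_iff_eq Nat.prime_two hp).mp h2
    exact hp2 h3.symm
  have hinv_of : ∀ g : G, orderOf g = 2 → g * g = 1 ∧ g⁻¹ = g ∧ g ≠ 1 := by
    intro g hg
    have h1 : g * g = 1 := by rw [← pow_two, ← hg]; exact pow_orderOf_eq_one g
    refine ⟨h1, inv_eq_of_mul_eq_one_left h1, ?_⟩
    intro h; rw [h, orderOf_one] at hg; norm_num at hg
  -- Cauchy
  have h2N : 2 ∣ Nat.card N := by rw [hN]; exact dvd_mul_of_dvd_right hq.two_dvd p
  haveI : Fact (Nat.Prime 2) := ⟨Nat.prime_two⟩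
  obtain ⟨s₀, hs₀⟩ := exists_prime_orderOf_dvd_card' 2 h2N
  obtain ⟨s, hsN⟩ := s₀
  have hs : orderOf s = 2 := by rw [← hs₀, Subgroup.orderOf_mk]
  obtain ⟨hs2, hsinv, hs1⟩ := hinv_of s hs
  -- conjugates of `s` are involutions
  have hcjord : ∀ a : G, orderOf (a * s * a⁻¹) = 2 := by
    intro a
    refine orderOf_eq_prime ?_ ?_
    · rw [pow_two]
      calc (a * s * a⁻¹) * (a * s * a⁻¹) = a * (s * s) * a⁻¹ := by group
        _ = 1 := by rw [hs2]; group
    · intro h
      apply hs1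
      have : s = a⁻¹ * (a * s * a⁻¹) * a := by group
      rw [this, h]; group
  -- Claim 1: involutions of `N` invert `P`
  have hinverts : ∀ s' ∈ N, orderOf s' = 2 → ∀ x ∈ (P : Subgroup G), s' * x * s'⁻¹ = x⁻¹ := by
    intro s' hs'N hs' x hx
    obtain ⟨h2, hinv, h1⟩ := hinv_of s' hs'
    have hx'P : s' * x * s'⁻¹ ∈ (P : Subgroup G) := hnorm s' hs'N x hx
    by_contra hne
    have hy1 : x * (s' * x * s'⁻¹) ≠ 1 := by
      intro h; apply hne; exact eq_inv_of_mul_eq_one_right h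
    have hyP : x * (s' * x * s'⁻¹) ∈ (P : Subgroup G) := mul_mem hx hx'P
    have e1 : s' * (s' * x * s'⁻¹) * s'⁻¹ = x := by
      calc s' * (s' * x * s'⁻¹) * s'⁻¹ = (s' * s') * x * (s' * s')⁻¹ := by group
        _ = x := by rw [h2]; group
    have hfix : s' * (x * (s' * x * s'⁻¹)) * s'⁻¹ = x * (s' * x * s'⁻¹) := by
      calc s' * (x * (s' * x * s'⁻¹)) * s'⁻¹
          = (s' * x * s'⁻¹) * (s' * (s' * x * s'⁻¹) * s'⁻¹) := by group
        _ = (s' * x * s'⁻¹) * x := by rw [e1]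
        _ = x * (s' * x * s'⁻¹) := hPcomm _ hx'P _ hx
    have hmem : s' ∈ (P : Subgroup G) := by
      rw [← hcent _ hyP hy1, Subgroup.mem_centralizer_iff]
      intro h hh
      rw [Set.mem_singleton_iff.mp hh]
      have : x * (s' * x * s'⁻¹) * s' = s' * (x * (s' * x * s'⁻¹)) * s'⁻¹ * s' := by
        rw [hfix]
      rw [this]; group
    exact hinvP s' hs' hmem
  -- Claim 2: involutions of `N` lie in `P s`
  have hcoset : ∀ s' ∈ N, orderOf s' = 2 → ∃ x ∈ (P : Subgroup G), s' = x * s := by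
    intro s' hs'N hs'
    refine ⟨s' * s, ?_, ?_⟩
    · rw [← hcent x₀ hx₀P hx₀1, Subgroup.mem_centralizer_iff]
      intro h hh
      rw [Set.mem_singleton_iff.mp hh]
      have e1 := hinverts s hsN hs x₀ hx₀P
      have e2 := hinverts s' hs'N hs' x₀⁻¹ (inv_mem hx₀P)
      symm
      calc s' * s * x₀ = s' * (s * x₀ * s⁻¹) * s := by group
        _ = s' * x₀⁻¹ * s := by rw [e1]
        _ = (s' * x₀⁻¹ * s'⁻¹) * (s' * s) := by group
        _ = x₀ * (s' * s) := by rw [e2, inv_inv]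
    · rw [mul_assoc, hs2, mul_one]
  -- square roots in `P`
  obtain ⟨k, hk⟩ : ∃ k, p = 2 * k + 1 := by
    rcases hp.eq_two_or_odd' with h | ⟨k, hk⟩
    · exact absurd h hp2
    · exact ⟨k, hk⟩
  let r : G → G := fun u => u ^ (k + 1)
  have hrP : ∀ u ∈ (P : Subgroup G), r u ∈ (P : Subgroup G) := fun u hu => pow_mem hu _
  have hr2 : ∀ u ∈ (P : Subgroup G), r u * r u = u := by
    intro u hu
    show u ^ (k + 1) * u ^ (k + 1) = u
    rw [← pow_add]
    have h1 : k + 1 + (k + 1) = p + 1 := by omega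
    rw [h1, pow_succ, hPexp u hu, one_mul]
  have hconjP : ∀ u ∈ (P : Subgroup G), u * s * u⁻¹ = u * u * s := by
    intro u hu
    have e := hinverts s hsN hs u⁻¹ (inv_mem hu)
    rw [inv_inv] at e
    calc u * s * u⁻¹ = u * (s * u⁻¹ * s⁻¹) * s := by group
      _ = u * u * s := by rw [e]
  have hconjr : ∀ w ∈ (P : Subgroup G), r w * s * (r w)⁻¹ = w * s := by
    intro w hw
    rw [hconjP (r w) (hrP w hw), hr2 w hw]
  -- the centralizer of `s`
  set C : Subgroup G := Subgroup.centralizer ({s} : Set G) with hCdef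
  have hmemC : ∀ g : G, g ∈ C ↔ s * g = g * s := by
    intro g
    rw [hCdef, Subgroup.mem_centralizer_iff]
    constructor
    · intro h; exact h s (Set.mem_singleton s)
    · intro h x hx
      rw [Set.mem_singleton_iff.mp hx]; exact h
  have hCP : ∀ w ∈ (P : Subgroup G), w ∈ C → w = 1 := by
    intro w hwP hwC
    by_contra h1
    have h2 : s ∈ (P : Subgroup G) := by
      rw [← hcent w hwP h1, Subgroup.mem_centralizer_iff]
      intro h hh
      rw [Set.mem_singleton_iff.mp hh]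
      exact ((hmemC w).mp hwC).symm
    exact hinvP s hs h2
  have hconjrc : ∀ w ∈ (P : Subgroup G), ∀ c ∈ C, (r w * c) * s * (r w * c)⁻¹ = w * s := by
    intro w hw c hc
    have h1 : s * c = c * s := (hmemC c).mp hc
    calc (r w * c) * s * (r w * c)⁻¹ = r w * (c * s) * c⁻¹ * (r w)⁻¹ := by group
      _ = r w * (s * c) * c⁻¹ * (r w)⁻¹ := by rw [h1]
      _ = r w * s * (r w)⁻¹ := by group
      _ = w * s := hconjr w hw
  have hC_of : ∀ w ∈ (P : Subgroup G), ∀ a : G, a * s * a⁻¹ = w * s → (r w)⁻¹ * a ∈ C := by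
    intro w hw a ha
    rw [hmemC]
    have e2 : a * s * a⁻¹ = r w * s * (r w)⁻¹ := by rw [hconjr w hw, ha]
    calc s * ((r w)⁻¹ * a) = (r w)⁻¹ * (r w * s * (r w)⁻¹) * a := by group
      _ = (r w)⁻¹ * (a * s * a⁻¹) * a := by rw [e2]
      _ = (r w)⁻¹ * a * s := by group
  -- Part 3
  have part3 : Nat.card {y : G // y⁻¹ * s * y ∈ N} = Nat.card C * p := by
    rw [← hPcard, ← Nat.card_prod]
    symm
    let f : C × ↥(P : Subgroup G) → {y : G // y⁻¹ * s * y ∈ N} := fun cu =>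
      ⟨cu.1.1 * cu.2.1, by
        have hc : s * cu.1.1 = cu.1.1 * s := (hmemC _).mp cu.1.2
        have h1 : (cu.1.1 * cu.2.1)⁻¹ * s * (cu.1.1 * cu.2.1) = cu.2.1⁻¹ * s * cu.2.1 := by
          calc (cu.1.1 * cu.2.1)⁻¹ * s * (cu.1.1 * cu.2.1)
              = cu.2.1⁻¹ * (cu.1.1⁻¹ * (s * cu.1.1)) * cu.2.1 := by group
            _ = cu.2.1⁻¹ * (cu.1.1⁻¹ * (cu.1.1 * s)) * cu.2.1 := by rw [hc]
            _ = cu.2.1⁻¹ * s * cu.2.1 := by group
        rw [h1]
        exact N.mul_mem (N.mul_mem (N.inv_mem (hPN cu.2.2)) hsN) (hPN cu.2.2)⟩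
    apply Nat.card_congr (Equiv.ofBijective f ⟨?_, ?_⟩)
    · rintro ⟨c, u⟩ ⟨c', u'⟩ h
      have h1 : c.1 * u.1 = c'.1 * u'.1 := congrArg Subtype.val h
      have h2 : c'.1⁻¹ * c.1 = u'.1 * u.1⁻¹ := by
        calc c'.1⁻¹ * c.1 = c'.1⁻¹ * (c.1 * u.1) * u.1⁻¹ := by group
          _ = c'.1⁻¹ * (c'.1 * u'.1) * u.1⁻¹ := by rw [h1]
          _ = u'.1 * u.1⁻¹ := by group
      have h3 : u'.1 * u.1⁻¹ = 1 :=
        hCP _ (mul_mem u'.2 (inv_mem u.2)) (by rw [← h2]; exact C.mul_mem (C.inv_mem c'.2) c.2)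
      have hu : u = u' := by
        apply Subtype.ext; exact (mul_inv_eq_one.mp h3).symm
      have hc : c = c' := by
        apply Subtype.ext; rw [h3] at h2; exact (inv_mul_eq_one.mp h2).symm
      rw [hu, hc]
    · rintro ⟨y, hy⟩
      have hord : orderOf (y⁻¹ * s * y) = 2 := by
        have := hcjord y⁻¹
        rw [inv_inv] at this
        exact this
      obtain ⟨w, hwP, hw⟩ := hcoset _ hy hord
      refine ⟨(⟨y * r w, ?_⟩, ⟨(r w)⁻¹, inv_mem (hrP w hwP)⟩), ?_⟩
      · rw [hmemC]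
        have e2 : y⁻¹ * s * y = r w * s * (r w)⁻¹ := by rw [hconjr w hwP, hw]
        calc s * (y * r w) = y * (y⁻¹ * s * y) * r w := by group
          _ = y * (r w * s * (r w)⁻¹) * r w := by rw [e2]
          _ = y * r w * s := by group
      · apply Subtype.ext
        show y * r w * (r w)⁻¹ = y
        group
  -- Part 4
  have part4 : ∀ x : G, x ∈ (P : Subgroup G) → x ≠ 1 →
      Nat.card {ab : G × G // ab.1 * s * ab.1⁻¹ * (ab.2 * s * ab.2⁻¹) = x} =
        Nat.card C ^ 2 * p := by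
    intro x hxP hx1
    have hcard : Nat.card (↥(P : Subgroup G) × C × C) = Nat.card C ^ 2 * p := by
      rw [Nat.card_prod, Nat.card_prod, hPcard]; ring
    rw [← hcard]
    symm
    have hprod : ∀ w ∈ (P : Subgroup G), w * s * (w * x⁻¹ * s) = x := by
      intro w hw
      calc w * s * (w * x⁻¹ * s) = w * (s * (w * x⁻¹) * s⁻¹) * (s * s) := by group
        _ = w * (w * x⁻¹)⁻¹ := by
          rw [hinverts s hsN hs _ (mul_mem hw (inv_mem hxP)), hs2, mul_one]
        _ = w * x * w⁻¹ := by group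
        _ = x := by rw [hPcomm w hw x hxP]; group
    let f : ↥(P : Subgroup G) × C × C →
        {ab : G × G // ab.1 * s * ab.1⁻¹ * (ab.2 * s * ab.2⁻¹) = x} := fun t =>
      ⟨(r t.1.1 * t.2.1.1, r (t.1.1 * x⁻¹) * t.2.2.1), by
        show (r t.1.1 * t.2.1.1) * s * (r t.1.1 * t.2.1.1)⁻¹ *
          ((r (t.1.1 * x⁻¹) * t.2.2.1) * s * (r (t.1.1 * x⁻¹) * t.2.2.1)⁻¹) = x
        rw [hconjrc t.1.1 t.1.2 t.2.1.1 t.2.1.2,
          hconjrc (t.1.1 * x⁻¹) (mul_mem t.1.2 (inv_mem hxP)) t.2.2.1 t.2.2.2]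
        exact hprod t.1.1 t.1.2⟩
    apply Nat.card_congr (Equiv.ofBijective f ⟨?_, ?_⟩)
    · rintro ⟨w, c1, c2⟩ ⟨w', c1', c2'⟩ h
      have h0 := congrArg Subtype.val h
      have h1 : r w.1 * c1.1 = r w'.1 * c1'.1 := congrArg Prod.fst h0
      have h2 : r (w.1 * x⁻¹) * c2.1 = r (w'.1 * x⁻¹) * c2'.1 := congrArg Prod.snd h0
      have e1 := hconjrc w.1 w.2 c1.1 c1.2
      have e2 := hconjrc w'.1 w'.2 c1'.1 c1'.2
      rw [h1, e2] at e1
      have hw : w = w' := by
        apply Subtype.ext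
        exact (mul_right_cancel e1).symm
      subst hw
      have hc1 : c1 = c1' := by
        apply Subtype.ext
        exact mul_left_cancel h1
      have hc2 : c2 = c2' := by
        apply Subtype.ext
        exact mul_left_cancel h2
      rw [hc1, hc2]
    · rintro ⟨⟨a, b⟩, hab⟩
      have hab' : a * s * a⁻¹ * (b * s * b⁻¹) = x := hab
      obtain ⟨ha2, hainv, ha1⟩ := hinv_of _ (hcjord a)
      obtain ⟨hb2, hbinv, hb1⟩ := hinv_of _ (hcjord b)
      have hxinv : x⁻¹ = b * s * b⁻¹ * (a * s * a⁻¹) := by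
        rw [← hab', mul_inv_rev, hainv, hbinv]
      have hinvx : (a * s * a⁻¹) * x * (a * s * a⁻¹)⁻¹ = x⁻¹ := by
        rw [hainv, hxinv, ← hab']
        calc a * s * a⁻¹ * (a * s * a⁻¹ * (b * s * b⁻¹)) * (a * s * a⁻¹)
            = ((a * s * a⁻¹) * (a * s * a⁻¹)) * (b * s * b⁻¹) * (a * s * a⁻¹) := by group
          _ = b * s * b⁻¹ * (a * s * a⁻¹) := by rw [ha2, one_mul]
      have hinvx' : (a * s * a⁻¹)⁻¹ * x * (a * s * a⁻¹) = x⁻¹ := by
        have := hinvx
        rw [hainv] at this ⊢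
        exact this
      -- `a s a⁻¹ ∈ N`
      have hfwd : ∀ h ∈ (P : Subgroup G), (a * s * a⁻¹) * h * (a * s * a⁻¹)⁻¹ ∈ (P : Subgroup G) := by
        intro h hh
        rw [← hcent x hxP hx1, Subgroup.mem_centralizer_iff]
        intro y hy
        rw [Set.mem_singleton_iff.mp hy]
        have hxh : x⁻¹ * h = h * x⁻¹ := hPcomm _ (inv_mem hxP) h hh
        set g := a * s * a⁻¹ with hg
        have hx_eq : x = g * x⁻¹ * g⁻¹ := by
          have : g * x⁻¹ * g⁻¹ = (g * x * g⁻¹)⁻¹ := by group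
          rw [this, hinvx, inv_inv]
        calc x * (g * h * g⁻¹) = (g * x⁻¹ * g⁻¹) * (g * h * g⁻¹) := by rw [← hx_eq]
          _ = g * (x⁻¹ * h) * g⁻¹ := by group
          _ = g * (h * x⁻¹) * g⁻¹ := by rw [hxh]
          _ = (g * h * g⁻¹) * (g * x⁻¹ * g⁻¹) := by group
          _ = g * h * g⁻¹ * x := by rw [← hx_eq]
      have hs1N : a * s * a⁻¹ ∈ N := by
        rw [hNdef, Subgroup.mem_normalizer_iff]
        intro h
        constructor
        · exact hfwd h
        · intro hh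
          have h3 := hfwd _ hh
          have e : (a * s * a⁻¹) * ((a * s * a⁻¹) * h * (a * s * a⁻¹)⁻¹) * (a * s * a⁻¹)⁻¹ = h := by
            calc (a * s * a⁻¹) * ((a * s * a⁻¹) * h * (a * s * a⁻¹)⁻¹) * (a * s * a⁻¹)⁻¹
                = ((a * s * a⁻¹) * (a * s * a⁻¹)) * h * ((a * s * a⁻¹) * (a * s * a⁻¹))⁻¹ := by
                  group
              _ = h := by rw [ha2]; group
          rw [e] at h3
          exact h3
      obtain ⟨w, hwP, hw⟩ := hcoset _ hs1N (hcjord a)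
      have hs2eq : b * s * b⁻¹ = w * x⁻¹ * s := by
        have h1 : b * s * b⁻¹ = (a * s * a⁻¹)⁻¹ * x := by rw [← hab']; group
        rw [h1, hainv, hw]
        have e := hinverts s hsN hs x hxP
        calc w * s * x = w * (s * x * s⁻¹) * s := by group
          _ = w * x⁻¹ * s := by rw [e]
      have hwx : w * x⁻¹ ∈ (P : Subgroup G) := mul_mem hwP (inv_mem hxP)
      refine ⟨(⟨w, hwP⟩, ⟨(r w)⁻¹ * a, hC_of w hwP a hw⟩,
        ⟨(r (w * x⁻¹))⁻¹ * b, hC_of _ hwx b hs2eq⟩), ?_⟩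
      apply Subtype.ext
      apply Prod.ext
      · show r w * ((r w)⁻¹ * a) = a
        group
      · show r (w * x⁻¹) * ((r (w * x⁻¹))⁻¹ * b) = b
        group
  -- Part 5
  have hZcard : Nat.card (N ⊓ C : Subgroup G) = q := by
    have hbij : Nat.card (↥(P : Subgroup G) × ↥(N ⊓ C : Subgroup G)) = Nat.card N := by
      let f : ↥(P : Subgroup G) × ↥(N ⊓ C : Subgroup G) → N := fun uz =>
        ⟨uz.1.1 * uz.2.1, N.mul_mem (hPN uz.1.2) (Subgroup.mem_inf.mp uz.2.2).1⟩
      apply Nat.card_congr (Equiv.ofBijective f ⟨?_, ?_⟩)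
      · rintro ⟨u, z⟩ ⟨u', z'⟩ h
        have h1 : u.1 * z.1 = u'.1 * z'.1 := congrArg Subtype.val h
        have h2 : u'.1⁻¹ * u.1 = z'.1 * z.1⁻¹ := by
          calc u'.1⁻¹ * u.1 = u'.1⁻¹ * (u.1 * z.1) * z.1⁻¹ := by group
            _ = u'.1⁻¹ * (u'.1 * z'.1) * z.1⁻¹ := by rw [h1]
            _ = z'.1 * z.1⁻¹ := by group
        have h3 : u'.1⁻¹ * u.1 = 1 :=
          hCP _ (mul_mem (inv_mem u'.2) u.2) (by
            rw [h2]
            exact C.mul_mem (Subgroup.mem_inf.mp z'.2).2 (C.inv_mem (Subgroup.mem_inf.mp z.2).2))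
        have hu : u = u' := by
          apply Subtype.ext; exact (inv_mul_eq_one.mp h3).symm
        have hz : z = z' := by
          apply Subtype.ext; rw [h3] at h2; exact (mul_inv_eq_one.mp h2.symm).symm
        rw [hu, hz]
      · rintro ⟨n, hn⟩
        have hmem : n * s * n⁻¹ ∈ N := N.mul_mem (N.mul_mem hn hsN) (N.inv_mem hn)
        obtain ⟨w, hwP, hw⟩ := hcoset _ hmem (hcjord n)
        refine ⟨(⟨r w, hrP w hwP⟩, ⟨(r w)⁻¹ * n, Subgroup.mem_inf.mpr ⟨?_, ?_⟩⟩), ?_⟩
        · exact N.mul_mem (N.inv_mem (hPN (hrP w hwP))) hn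
        · exact hC_of w hwP n hw
        · apply Subtype.ext
          show r w * ((r w)⁻¹ * n) = n
          group
    rw [Nat.card_prod, hPcard, hN] at hbij
    exact Nat.eq_of_mul_eq_mul_left hp.pos hbij
  have hZcyc : IsCyclic (N ⊓ C : Subgroup G) := by
    have hord : orderOf x₀ = p := orderOf_eq_prime (hPexp x₀ hx₀P) hx₀1
    have hzp : Subgroup.zpowers x₀ = (P : Subgroup G) := by
      apply Subgroup.eq_of_le_of_card_ge
      · rw [Subgroup.zpowers_le]; exact hx₀P
      · rw [Nat.card_zpowers, hord, hPcard]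
    obtain ⟨κ, hκ⟩ := exists_powHom' p (N ⊓ C : Subgroup G) x₀ hord (by
      intro b hb
      rw [hzp]
      exact hnorm b (Subgroup.mem_inf.mp hb).1 x₀ hx₀P)
    have hinj : Function.Injective κ := by
      rw [injective_iff_map_eq_one]
      intro b hb
      have h1 := hκ b
      rw [hb, Units.val_one, ZMod.val_one_eq_one_mod, Nat.mod_eq_of_lt hp.one_lt, pow_one] at h1
      have h2 : (b : G) ∈ (P : Subgroup G) := by
        rw [← hcent x₀ hx₀P hx₀1, Subgroup.mem_centralizer_iff]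
        intro h hh
        rw [Set.mem_singleton_iff.mp hh]
        have : x₀ * (b : G) = (b : G) * x₀ * (b : G)⁻¹ * (b : G) := by rw [h1]
        rw [this]; group
      have h3 := hCP _ h2 (Subgroup.mem_inf.mp b.2).2
      exact Subtype.ext h3
    exact isCyclic_of_injective κ hinj
  refine ⟨s, hsN, hs, hcoset, part3, part4, N ⊓ C, inf_le_right, hZcyc, hZcard, ?_⟩
  exact Subgroup.mem_inf.mpr ⟨hsN, (hmemC s).mpr rfl⟩

end Cfsg.Agent.Lib.Helper6.BrauerNInv
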