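import Mathlib
import Cfsg.Agent.Lib.Helper6.BrauerNInvA

/-!
# Module [N-GT] for S0999 / S4701 (helper79, board #3555)

The normalizer `N` of a self-centralizing Sylow `p`-subgroup `P` of order `p`: commutators of `N`
lie in `P`, and `x⁻¹ x₀ x ∈ N` with `1 ≠ x₀ ∈ P` forces `x ∈ N`.
-/

set_option autoImplicit false
set_option linter.unusedSectionVars false
set_option linter.unusedVariables false
set_option linter.style.haveILetI false

namespace Cfsg.Agent.Lib.Helper6.BrauerNInv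

theorem normalizer_sylow_facts {G : Type*} [Group G] [Finite G] (p : ℕ) [Fact p.Prime]
    (P : Sylow p G)
    (hPcard : Nat.card (P : Subgroup G) = p)
    (hcent : ∀ x : G, x ∈ (P : Subgroup G) → x ≠ 1 →
      Subgroup.centralizer ({x} : Set G) = (P : Subgroup G)) :
    (∀ a b : G, a ∈ Subgroup.normalizer ((P : Subgroup G) : Set G) →
      b ∈ Subgroup.normalizer ((P : Subgroup G) : Set G) → a * b * a⁻¹ * b⁻¹ ∈ (P : Subgroup G)) ∧
    (∀ x₀ x : G, x₀ ∈ (P : Subgroup G) → x₀ ≠ 1 →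
      x⁻¹ * x₀ * x ∈ Subgroup.normalizer ((P : Subgroup G) : Set G) →
      x ∈ Subgroup.normalizer ((P : Subgroup G) : Set G)) := by
  classical
  have hp : p.Prime := Fact.out
  set N : Subgroup G := Subgroup.normalizer ((P : Subgroup G) : Set G) with hNdef
  have hnorm : ∀ n ∈ N, ∀ a ∈ (P : Subgroup G), n * a * n⁻¹ ∈ (P : Subgroup G) :=
    fun n hn a ha => (Subgroup.mem_normalizer_iff.mp hn a).mp ha
  have hPexp : ∀ a ∈ (P : Subgroup G), a ^ p = 1 := by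
    intro a ha
    have h1 : (⟨a, ha⟩ : (P : Subgroup G)) ^ Nat.card (P : Subgroup G) = 1 := pow_card_eq_one'
    rw [hPcard] at h1
    have h2 := congrArg Subtype.val h1
    simpa using h2
  have hκ : ∀ x₀ ∈ (P : Subgroup G), x₀ ≠ 1 →
      ∃ κ : ↥N →* (ZMod p)ˣ, ∀ b : ↥N, κ b = 1 → (b : G) ∈ (P : Subgroup G) := by
    intro x₀ hx₀P hx₀1
    have hord : orderOf x₀ = p := orderOf_eq_prime (hPexp x₀ hx₀P) hx₀1
    have hzp : Subgroup.zpowers x₀ = (P : Subgroup G) := by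
      apply Subgroup.eq_of_le_of_card_ge
      · rw [Subgroup.zpowers_le]; exact hx₀P
      · rw [Nat.card_zpowers, hord, hPcard]
    obtain ⟨κ, hκ⟩ := exists_powHom' p N x₀ hord (by
      intro b hb
      rw [hzp]
      exact hnorm b hb x₀ hx₀P)
    refine ⟨κ, ?_⟩
    intro b hb
    have h1 := hκ b
    rw [hb, Units.val_one, ZMod.val_one_eq_one_mod, Nat.mod_eq_of_lt hp.one_lt, pow_one] at h1
    rw [← hcent x₀ hx₀P hx₀1, Subgroup.mem_centralizer_iff]
    intro h hh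
    rw [Set.mem_singleton_iff.mp hh]
    have : x₀ * (b : G) = (b : G) * x₀ * (b : G)⁻¹ * (b : G) := by rw [h1]
    rw [this]; group
  constructor
  · intro a b ha hb
    obtain ⟨x₀, hx₀P, hx₀1⟩ : ∃ x₀ ∈ (P : Subgroup G), x₀ ≠ 1 := by
      by_contra h
      push Not at h
      have h1 : (P : Subgroup G) = ⊥ := (Subgroup.eq_bot_iff_forall _).mpr h
      rw [h1] at hPcard
      simp at hPcard
      exact hp.one_lt.ne hPcard
    obtain ⟨κ, hκ⟩ := hκ x₀ hx₀P hx₀1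
    have h1 := hκ ((⟨a, ha⟩ : ↥N) * ⟨b, hb⟩ * (⟨a, ha⟩ : ↥N)⁻¹ * (⟨b, hb⟩ : ↥N)⁻¹) (by
      rw [map_mul, map_mul, map_mul, map_inv, map_inv, mul_comm (κ ⟨a, ha⟩) (κ ⟨b, hb⟩),
        mul_inv_cancel_right, mul_inv_cancel])
    exact h1
  · intro x₀ x hx₀P hx₀1 hy
    obtain ⟨κ, hκ⟩ := hκ x₀ hx₀P hx₀1
    have hyp : (x⁻¹ * x₀ * x) ^ p = 1 := by
      have h1 : x⁻¹ * x₀ * x = x⁻¹ * x₀ * x⁻¹⁻¹ := by rw [inv_inv]
      rw [h1, conj_pow, hPexp x₀ hx₀P]; group
    have hκy : κ ⟨x⁻¹ * x₀ * x, hy⟩ = 1 := by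
      have h1 : (κ ⟨x⁻¹ * x₀ * x, hy⟩) ^ p = 1 := by
        rw [← map_pow]
        have : (⟨x⁻¹ * x₀ * x, hy⟩ : ↥N) ^ p = 1 := Subtype.ext (by simpa using hyp)
        rw [this, map_one]
      have h2 : (κ ⟨x⁻¹ * x₀ * x, hy⟩) ^ (p - 1) = 1 := ZMod.units_pow_card_sub_one_eq_one p _
      have hcop : Nat.Coprime p (p - 1) := by
        rw [Nat.Prime.coprime_iff_not_dvd hp]
        have := hp.two_le
        exact Nat.not_dvd_of_pos_of_lt (by omega) (by omega)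
      have h3 : orderOf (κ ⟨x⁻¹ * x₀ * x, hy⟩) ∣ Nat.gcd p (p - 1) :=
        Nat.dvd_gcd (orderOf_dvd_of_pow_eq_one h1) (orderOf_dvd_of_pow_eq_one h2)
      rw [hcop.gcd_eq_one, Nat.dvd_one, orderOf_eq_one_iff] at h3
      exact h3
    have hyP : x⁻¹ * x₀ * x ∈ (P : Subgroup G) := hκ ⟨x⁻¹ * x₀ * x, hy⟩ hκy
    have hy1 : x⁻¹ * x₀ * x ≠ 1 := by
      intro h
      apply hx₀1
      have : x₀ = x * (x⁻¹ * x₀ * x) * x⁻¹ := by group
      rw [this, h]; group
    have hCy := hcent _ hyP hy1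
    have hCx := hcent x₀ hx₀P hx₀1
    rw [← inv_mem_iff, Subgroup.mem_normalizer_iff]
    intro h
    rw [inv_inv]
    constructor
    · intro hh
      have h1 : x₀ * h = h * x₀ := by
        have : h ∈ Subgroup.centralizer ({x₀} : Set G) := by rw [hCx]; exact hh
        exact (Subgroup.mem_centralizer_iff.mp this) x₀ rfl
      rw [← hCy, Subgroup.mem_centralizer_iff]
      intro z hz
      rw [Set.mem_singleton_iff.mp hz]
      calc x⁻¹ * x₀ * x * (x⁻¹ * h * x) = x⁻¹ * (x₀ * h) * x := by group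
        _ = x⁻¹ * (h * x₀) * x := by rw [h1]
        _ = x⁻¹ * h * x * (x⁻¹ * x₀ * x) := by group
    · intro hh
      have h1 : x⁻¹ * x₀ * x * (x⁻¹ * h * x) = (x⁻¹ * h * x) * (x⁻¹ * x₀ * x) := by
        have : x⁻¹ * h * x ∈ Subgroup.centralizer ({x⁻¹ * x₀ * x} : Set G) := by
          rw [hCy]; exact hh
        exact (Subgroup.mem_centralizer_iff.mp this) _ rfl
      rw [← hCx, Subgroup.mem_centralizer_iff]
      intro z hz
      rw [Set.mem_singleton_iff.mp hz]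
      calc x₀ * h = x * (x⁻¹ * x₀ * x * (x⁻¹ * h * x)) * x⁻¹ := by group
        _ = x * ((x⁻¹ * h * x) * (x⁻¹ * x₀ * x)) * x⁻¹ := by rw [h1]
        _ = h * x₀ := by group

end Cfsg.Agent.Lib.Helper6.BrauerNInv
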