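import Cfsg.Agent.Lib.Helper6.BNWords

set_option autoImplicit false

namespace Cfsg.Agent.Lib.Helper6

open Cfsg

variable {G : Type*} [Group G] (P : Cfsg.BNPair G)

/-- the union of the double cosets `B n B` for `n` in a subgroup `M ≤ N` is stable under left
multiplication by `B`, by `s ∈ S ∩ M` and by their inverses; hence under the subgroup they
generate. -/
theorem mul_mem_dcUnion {M : Subgroup G} (hM : M ≤ P.N) {J : Set G} (hJS : J ⊆ P.S)
    (hJM : J ⊆ (M : Set G)) {g : G} (hg : g ∈ P.B ⊔ Subgroup.closure J) {h : G}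
    (hh : ∃ n ∈ M, InDC P n h) : ∃ n ∈ M, InDC P n (g * h) := by
  let Y : Subgroup G :=
    { carrier := {g | ∀ h, (∃ n ∈ M, InDC P n h) → (∃ n ∈ M, InDC P n (g * h)) ∧
        (∃ n ∈ M, InDC P n (g⁻¹ * h))}
      one_mem' := by
        intro h hh
        simpa using hh
      mul_mem' := by
        intro a b ha hb h hh
        constructor
        · have := (ha _ (hb h hh).1).1
          rwa [← mul_assoc] at this
        · have := (hb _ (ha h hh).2).2
          rwa [← mul_assoc, ← mul_inv_rev] at this
      inv_mem' := by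
        intro a ha h hh
        refine ⟨(ha h hh).2, ?_⟩
        rw [inv_inv]
        exact (ha h hh).1 }
  have hle : P.B ⊔ Subgroup.closure J ≤ Y := by
    refine sup_le ?_ ?_
    · intro b hb h hh
      obtain ⟨n, hn, hnh⟩ := hh
      exact ⟨⟨n, hn, inDC_mul_left P hb hnh⟩, ⟨n, hn, inDC_mul_left P (P.B.inv_mem hb) hnh⟩⟩
    · rw [Subgroup.closure_le]
      intro s hs h hh
      have key : ∀ h, (∃ n ∈ M, InDC P n h) → ∃ n ∈ M, InDC P n (s * h) := by
        intro h hh
        obtain ⟨n, hn, hnh⟩ := hh
        rcases dc_mul_left P (hJS hs) (hM hn) (inDC_self P s) hnh with k | k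
        · exact ⟨s * n, M.mul_mem (hJM hs) hn, k⟩
        · exact ⟨n, hn, k⟩
      refine ⟨key h hh, ?_⟩
      obtain ⟨t, ht, e⟩ := S_inv_eq P (hJS hs)
      rw [e, mul_assoc]
      apply key
      obtain ⟨n, hn, hnh⟩ := hh
      exact ⟨n, hn, inDC_mul_left P ht.1 hnh⟩
  exact (hle hg h hh).1

/-- Bruhat decomposition, existence. -/
theorem bruhat_exists (g : G) : ∃ n ∈ P.N, InDC P n g := by
  have hg : g ∈ P.B ⊔ Subgroup.closure P.S := by
    have h1 : P.B ⊔ P.N ≤ P.B ⊔ Subgroup.closure P.S := by
      refine sup_le le_sup_left ?_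
      rw [← P.closure_sup]
      refine sup_le le_sup_right ?_
      exact le_trans inf_le_left le_sup_left
    apply h1
    rw [P.sup_eq_top]
    exact Subgroup.mem_top g
  have := mul_mem_dcUnion P (le_refl P.N) (le_refl P.S) P.subset hg
    (h := 1) ⟨1, P.N.one_mem, inDC_self P 1⟩
  simpa using this

/-- key step for Bruhat uniqueness -/
theorem bruhat_unique_aux : ∀ k : ℕ, ∀ n n' : G, n ∈ P.N → n' ∈ P.N → len P n = k →
    k ≤ len P n' → InDC P n n' → Rel P n n' := by
  intro k
  induction k with
  | zero =>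
    intro n n' hn hn' hlen _ hdc
    have hnB : n ∈ P.B := (len_eq_zero_iff P hn).1 hlen
    have hn'B : n' ∈ P.B := (inDC_of_mem_B P hnB).1 hdc
    exact P.B.mul_mem (P.B.inv_mem hnB) hn'B
  | succ k ih =>
    intro n n' hn hn' hlen hle hdc
    obtain ⟨l, hl, hll⟩ := exists_rep_len P hn
    rw [hlen] at hll
    match l, hl, hll with
    | [], _, hll => simp at hll
    | s :: l', hl, hll =>
      have hsS : s ∈ P.S := (isWord_cons.1 hl.1).1
      have hl'W : IsWord P.S l' := (isWord_cons.1 hl.1).2
      have hsN : s ∈ P.N := P.subset hsS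
      set m := l'.prod with hm
      have hmN : m ∈ P.N := prod_mem_N P hl'W
      have hrel : Rel P (s * m) n := by
        have := hl.2
        rwa [List.prod_cons] at this
      have hlm_le : len P m ≤ k := by
        have h0 : len P m ≤ l'.length := len_le_of_rep P (rep_prod P hl'W)
        simp only [List.length_cons] at hll
        omega
      have hlm_ge : k ≤ len P m := by
        have h1 := len_mul_left_le P hsS hmN
        rw [len_congr P hrel, hlen] at h1
        omega
      have hlm : len P m = k := le_antisymm hlm_le hlm_ge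
      -- n' ∈ C(s m)
      have hdc' : InDC P (s * m) n' := inDC_of_rel P (rel_symm P hrel) hdc
      obtain ⟨x, hx, y, hy, e⟩ := hdc'
      -- m = s⁻¹ x⁻¹ n' y⁻¹
      have em : m = (s⁻¹ * x⁻¹) * (n' * y⁻¹) := by rw [e]; group
      have h1 : InDC P s (s⁻¹ * x⁻¹) := inDC_mul_right P (P.B.inv_mem hx) (inDC_S_inv P hsS)
      have h2 : InDC P n' (n' * y⁻¹) := inDC_mul_right P (P.B.inv_mem hy) (inDC_self P n')
      rcases dc_mul_left P hsS hn' h1 h2 with c | c
      · -- m ∈ C(s n')
        rw [← em] at c
        have hsn'N : s * n' ∈ P.N := P.N.mul_mem hsN hn'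
        have hle' : k ≤ len P (s * n') := by
          have := len_le_mul_left P hsS hn'
          omega
        have r := ih m (s * n') hmN hsn'N hlm hle' (inDC_symm P c)
        -- m⁻¹ s n' ∈ B ; want n⁻¹ n' ∈ B
        have r1 : Rel P (s * m) (s * (s * n')) := rel_mul_left P s r
        have r2 : Rel P (s * (s * n')) n' := rel_sq_mul P hsS hn'
        exact rel_trans P (rel_symm P hrel) (rel_trans P r1 r2)
      · -- m ∈ C(n')
        rw [← em] at c
        have r := ih m n' hmN hn' hlm (by omega) (inDC_symm P c)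
        have := len_congr P r
        omega

/-- Bruhat decomposition, uniqueness: `B n B = B n' B` forces `n ≡ n'`. -/
theorem bruhat_unique {n n' : G} (hn : n ∈ P.N) (hn' : n' ∈ P.N) (h : InDC P n n') : Rel P n n' := by
  rcases le_total (len P n) (len P n') with hle | hle
  · exact bruhat_unique_aux P _ n n' hn hn' rfl hle h
  · exact rel_symm P (bruhat_unique_aux P _ n' n hn' hn rfl hle (inDC_symm P h))

/-- `s n` and `n` are never in the same double coset. -/
theorem not_inDC_mul_S {s n : G} (hs : s ∈ P.S) (hn : n ∈ P.N) : ¬ InDC P n (s * n) := by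
  intro h
  have r := bruhat_unique P hn (P.N.mul_mem (P.subset hs) hn) h
  -- n⁻¹ s n ∈ T so s ∈ T
  have hT := rel_mem_T P hn (P.N.mul_mem (P.subset hs) hn) r
  have := conj_mem_T P hn hT
  have e : n * (n⁻¹ * (s * n)) * n⁻¹ = s := by group
  rw [e] at this
  exact S_not_mem_B P hs this.1

/-- `Q s n`: `C(s) C(n) = C(s n)`. -/
def Good (s n : G) : Prop := ∀ b ∈ P.B, InDC P (s * n) (s * b * n)

theorem good_congr {s n n' : G} (_hs : s ∈ P.S) (hn : n ∈ P.N) (hn' : n' ∈ P.N) (h : Rel P n n')
    (hg : Good P s n) : Good P s n' := by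
  intro b hb
  have hT := rel_mem_T P hn hn' h
  have := hg b hb
  -- s b n' = s b n (n⁻¹ n')
  have e : s * b * n' = s * b * n * (n⁻¹ * n') := by group
  rw [e]
  refine inDC_mul_right P h ?_
  exact inDC_of_rel P (rel_mul_left P s h) this

theorem good_one {s : G} : Good P s 1 := by
  intro b hb
  simp only [mul_one]
  exact inDC_mul_right P hb (inDC_self P s)

/-- property (C): if `m` is good and `m s'` is not, then `s m ≡ m s'`. -/
theorem rel_of_good_of_not_good {s s' m : G} (hs : s ∈ P.S) (hs' : s' ∈ P.S) (hm : m ∈ P.N)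
    (hg : Good P s m) (hng : ¬ Good P s (m * s')) : Rel P (s * m) (m * s') := by
  unfold Good at hng
  push Not at hng
  obtain ⟨b, hb, hnb⟩ := hng
  have hs'N := P.subset hs'
  have hsN := P.subset hs
  have hms'N : m * s' ∈ P.N := P.N.mul_mem hm hs'N
  have h1 : InDC P (m * s') (s * b * (m * s')) := by
    rcases axiom_left P hs hms'N hb with c | c
    · exact absurd c hnb
    · exact c
  -- s b m = (s b m s') s'⁻¹ ∈ C(m s') C(s') ⊆ C(m s' s') ∪ C(m s')
  have h2 : InDC P s' s'⁻¹ := inDC_S_inv P hs'
  have e : s * b * m = (s * b * (m * s')) * s'⁻¹ := by group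
  have h3 := hg b hb
  rcases dc_mul_right P hs' hms'N h2 h1 with c | c
  · rw [← e] at c
    -- s b m ∈ C(m s' s') = C(m), and ∈ C(s m): contradiction
    have c' : InDC P m (s * b * m) := inDC_of_rel P (rel_mul_sq P hs') c
    have : InDC P m (s * m) := inDC_trans P c' (inDC_symm P h3)
    exact absurd this (not_inDC_mul_S P hs hm)
  · rw [← e] at c
    have : InDC P (s * m) (m * s') := inDC_trans P h3 (inDC_symm P c)
    exact bruhat_unique P (P.N.mul_mem hsN hm) hms'N this

/-- L1: if `ℓ(s n) ≥ ℓ(n)` then `C(s) C(n) = C(s n)`. -/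
theorem good_of_len_le : ∀ k : ℕ, ∀ n s : G, n ∈ P.N → s ∈ P.S → len P n = k →
    len P n ≤ len P (s * n) → Good P s n := by
  intro k
  induction k with
  | zero =>
    intro n s hn _ hlen _ b hb
    have hnB : n ∈ P.B := (len_eq_zero_iff P hn).1 hlen
    refine ⟨1, P.B.one_mem, n⁻¹ * b * n, P.B.mul_mem (P.B.mul_mem (P.B.inv_mem hnB) hb) hnB, ?_⟩
    group
  | succ k ih =>
    intro n s hn hs hlen hle
    obtain ⟨l, hl, hll⟩ := exists_rep_len P hn
    rw [hlen] at hll
    have hsN := P.subset hs
    -- split off the last letter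
    rcases List.eq_nil_or_concat l with hnil | ⟨l', s', hl's'⟩
    · subst hnil; simp at hll
    · subst hl's'
      rw [List.concat_eq_append] at hl hll
      have hW := isWord_append.1 hl.1
      have hl'W : IsWord P.S l' := hW.1
      have hs'S : s' ∈ P.S := hW.2 s' (by simp)
      have hs'N := P.subset hs'S
      set m := l'.prod with hm
      have hmN : m ∈ P.N := prod_mem_N P hl'W
      have hrel : Rel P (m * s') n := by
        have := hl.2
        rwa [List.prod_append, List.prod_singleton] at this
      have hlm_le : len P m ≤ k := by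
        have h0 : len P m ≤ l'.length := len_le_of_rep P (rep_prod P hl'W)
        simp only [List.length_append, List.length_singleton] at hll
        omega
      have hlm_ge : k ≤ len P m := by
        have h1 := len_mul_right_le P hs'S hmN
        rw [len_congr P hrel, hlen] at h1
        omega
      have hlm : len P m = k := le_antisymm hlm_le hlm_ge
      -- ℓ(s m) ≥ ℓ(m)
      have hsm : len P m ≤ len P (s * m) := by
        have h1 : len P (s * m * s') ≤ len P (s * m) + 1 :=
          len_mul_right_le P hs'S (P.N.mul_mem hsN hmN)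
        have h2 : len P (s * m * s') = len P (s * n) := by
          rw [mul_assoc]
          exact len_congr P (rel_mul_left P s hrel)
        omega
      have hgm : Good P s m := ih m s hmN hs hlm hsm
      by_contra hng
      have hng' : ¬ Good P s (m * s') := fun h =>
        hng (good_congr P hs (P.N.mul_mem hmN hs'N) hn hrel h)
      have r := rel_of_good_of_not_good P hs hs'S hmN hgm hng'
      -- s m ≡ m s' ≡ n, so s n ≡ s s m ≡ m: ℓ(s n) = k < k + 1
      have r2 : Rel P (s * m) n := rel_trans P r hrel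
      have r3 : Rel P (s * (s * m)) (s * n) := rel_mul_left P s r2
      have r4 : Rel P (s * (s * m)) m := rel_sq_mul P hs hmN
      have : len P (s * n) = len P m := by
        rw [← len_congr P r3, len_congr P r4]
      omega

theorem good_of_len_le' {n s : G} (hn : n ∈ P.N) (hs : s ∈ P.S)
    (h : len P n ≤ len P (s * n)) : Good P s n :=
  good_of_len_le P _ n s hn hs rfl h

/-- there is `b ∈ B` with `s b s⁻¹ ∈ C(s)`. -/
theorem exists_conj_inDC {s : G} (hs : s ∈ P.S) : ∃ b ∈ P.B, InDC P s (s * b * s⁻¹) := by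
  obtain ⟨b, hb, hnb⟩ := exists_conj_not_mem P hs
  refine ⟨b, hb, ?_⟩
  obtain ⟨t, ht, e⟩ := S_inv_eq P hs
  have h1 : InDC P s (s * b * s) := by
    rcases axiom_left P hs (P.subset hs) hb with c | c
    · exfalso
      have : InDC P 1 (s * b * s) := inDC_of_rel P (by
        simpa using P.B.inv_mem (P.sq_mem s hs)) c
      exact hnb ((inDC_one_iff P).1 this)
    · exact c
  rw [e, ← mul_assoc]
  exact inDC_mul_right P ht.1 h1

/-- L2: if `ℓ(s n) ≤ ℓ(n)` then `C(s) C(n)` meets `C(n)`. -/
theorem exists_inDC_of_len_le {n s : G} (hn : n ∈ P.N) (hs : s ∈ P.S)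
    (h : len P (s * n) ≤ len P n) : ∃ b ∈ P.B, InDC P n (s * b * n) := by
  have hsN := P.subset hs
  have hn'N : s * n ∈ P.N := P.N.mul_mem hsN hn
  have hlen : len P (s * n) ≤ len P (s * (s * n)) := by
    rw [len_congr P (rel_sq_mul P hs hn)]; exact h
  have hg : Good P s (s * n) := good_of_len_le' P hn'N hs hlen
  obtain ⟨b, hb, hdc⟩ := exists_conj_inDC P hs
  refine ⟨b, hb, ?_⟩
  obtain ⟨x, hx, y, hy, e⟩ := hdc
  -- s b n = (s b s⁻¹) (s n) = x s y (s n)
  have e2 : s * b * n = x * (s * y * (s * n)) := by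
    have : s * b * n = (s * b * s⁻¹) * (s * n) := by group
    rw [this, e]; group
  rw [e2]
  refine inDC_mul_left P hx ?_
  have := hg y hy
  exact inDC_of_rel P (rel_sq_mul P hs hn) this

/-- If `ℓ(s n) ≤ ℓ(n)` then `n` is not good for `s`. -/
theorem not_good_of_len_le {n s : G} (hn : n ∈ P.N) (hs : s ∈ P.S)
    (h : len P (s * n) ≤ len P n) : ¬ Good P s n := by
  intro hg
  obtain ⟨b, hb, hdc⟩ := exists_inDC_of_len_le P hn hs h
  have := hg b hb
  exact not_inDC_mul_S P hs hn (inDC_trans P hdc (inDC_symm P this))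

/-- strictness: lengths of `s n` and `n` differ. -/
theorem len_mul_S_ne {n s : G} (hn : n ∈ P.N) (hs : s ∈ P.S) : len P (s * n) ≠ len P n := by
  intro h
  exact not_good_of_len_le P hn hs h.le (good_of_len_le' P hn hs h.ge)

end Cfsg.Agent.Lib.Helper6
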