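import Cfsg.Agent.Lib.Helper6.BNBruhat

set_option autoImplicit false

namespace Cfsg.Agent.Lib.Helper6

open Cfsg

variable {G : Type*} [Group G] (P : Cfsg.BNPair G)

/-- Exchange, raw form: walking along the prefixes of a word whose product is not good for `s`. -/
theorem exchange_aux {s : G} (hs : s ∈ P.S) : ∀ l : List G, IsWord P.S l → ¬ Good P s l.prod →
    ∃ l₁ s' l₂, l = l₁ ++ s' :: l₂ ∧ Rel P (s * l₁.prod) (l₁.prod * s') := by
  intro l
  induction l using List.reverseRecOn with
  | nil =>
    intro _ h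
    exact absurd (good_one P) (by simpa using h)
  | append_singleton l' s' ih =>
    intro hl hng
    have hW := isWord_append.1 hl
    have hs'S : s' ∈ P.S := hW.2 s' (by simp)
    by_cases hg : Good P s l'.prod
    · refine ⟨l', s', [], rfl, ?_⟩
      rw [List.prod_append, List.prod_singleton] at hng
      exact rel_of_good_of_not_good P hs hs'S (prod_mem_N P hW.1) hg hng
    · obtain ⟨l₁, s'', l₂, e, r⟩ := ih hW.1 hg
      refine ⟨l₁, s'', l₂ ++ [s'], ?_, r⟩
      rw [e]; simp

/-- The exchange condition (strong form: the word need not be reduced). -/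
theorem exchange {s : G} (hs : s ∈ P.S) {l : List G} (hl : IsWord P.S l)
    (h : len P (s * l.prod) ≤ len P l.prod) :
    ∃ l₁ s' l₂, l = l₁ ++ s' :: l₂ ∧ Rel P (s * l₁.prod) (l₁.prod * s') :=
  exchange_aux P hs l hl (not_good_of_len_le P (prod_mem_N P hl) hs h)

theorem exchange_prod {l₁ l₂ : List G} {s s' : G} (hl₁ : IsWord P.S l₁) (hl₂ : IsWord P.S l₂)
    (hs : s ∈ P.S) (hs' : s' ∈ P.S) (h : Rel P (s * l₁.prod) (l₁.prod * s')) :
    Rel P (s * (l₁ ++ s' :: l₂).prod) (l₁ ++ l₂).prod := by
  rw [List.prod_append, List.prod_cons, List.prod_append]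
  have h1N := prod_mem_N P hl₁
  have h2N := prod_mem_N P hl₂
  have hsN := P.subset hs
  have hs'N := P.subset hs'
  have r1 : Rel P (s * l₁.prod * (s' * l₂.prod)) (l₁.prod * s' * (s' * l₂.prod)) :=
    rel_mul_right P (P.N.mul_mem hsN h1N) (P.N.mul_mem h1N hs'N) (P.N.mul_mem hs'N h2N) h
  have r2 : Rel P (l₁.prod * (s' * (s' * l₂.prod))) (l₁.prod * l₂.prod) :=
    rel_mul_left P _ (rel_sq_mul P hs' h2N)
  have e1 : s * (l₁.prod * (s' * l₂.prod)) = s * l₁.prod * (s' * l₂.prod) := by group
  have e2 : l₁.prod * s' * (s' * l₂.prod) = l₁.prod * (s' * (s' * l₂.prod)) := by group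
  rw [e1]
  rw [e2] at r1
  exact rel_trans P r1 r2

/-- A non-reduced `K`-word can be shortened. -/
theorem shorten {K : Set G} (hK : K ⊆ P.S) : ∀ l : List G, IsWord K l → len P l.prod < l.length →
    ∃ l', IsWord K l' ∧ l'.length < l.length ∧ Rel P l'.prod l.prod := by
  intro l
  induction l with
  | nil => intro _ h; simp at h
  | cons a l ih =>
    intro hl hlt
    have hW := isWord_cons.1 hl
    have haS : a ∈ P.S := hK hW.1
    have hlS : IsWord P.S l := isWord_mono hK hW.2
    by_cases hred : len P l.prod < l.length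
    · obtain ⟨l', hl', hlen, r⟩ := ih hW.2 hred
      refine ⟨a :: l', isWord_cons.2 ⟨hW.1, hl'⟩, by simp; omega, ?_⟩
      rw [List.prod_cons, List.prod_cons]
      exact rel_mul_left P a r
    · have hle : len P l.prod ≤ l.length := len_le_of_rep P (rep_prod P hlS)
      have heq : len P l.prod = l.length := by omega
      rw [List.prod_cons, List.length_cons] at hlt
      have hlt' : len P (a * l.prod) ≤ len P l.prod := by omega
      obtain ⟨l₁, s', l₂, e, r⟩ := exchange P haS hlS hlt'
      subst e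
      have hW2 := isWord_append.1 hW.2
      have hW3 := isWord_cons.1 hW2.2
      refine ⟨l₁ ++ l₂, isWord_append.2 ⟨hW2.1, hW3.2⟩, by simp, ?_⟩
      rw [List.prod_cons]
      exact rel_symm P (exchange_prod P (isWord_mono hK hW2.1) (isWord_mono hK hW3.2) haS
        (hK hW3.1) r)

/-- An element represented by a `K`-word is represented by a reduced `K`-word. -/
theorem exists_reduced_word {K : Set G} (hK : K ⊆ P.S) : ∀ (k : ℕ) (l : List G) (n : G),
    l.length ≤ k → IsWord K l → Rel P l.prod n →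
    ∃ l', IsWord K l' ∧ Rel P l'.prod n ∧ l'.length = len P n := by
  intro k
  induction k with
  | zero =>
    intro l n hk hl r
    have : l = [] := List.length_eq_zero_iff.1 (by omega)
    subst this
    refine ⟨[], hl, r, ?_⟩
    have := len_le_of_rep P (⟨isWord_nil _, r⟩ : Rep P [] n)
    simp at this ⊢
    omega
  | succ k ih =>
    intro l n hk hl r
    have hle : len P n ≤ l.length := len_le_of_rep P ⟨isWord_mono hK hl, r⟩
    by_cases heq : l.length = len P n
    · exact ⟨l, hl, r, heq⟩
    · have hlt : len P l.prod < l.length := by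
        rw [len_congr P r]; omega
      obtain ⟨l', hl', hlen, r'⟩ := shorten P hK l hl hlt
      exact ih l' n (by omega) hl' (rel_trans P r' r)

/-- `W_K ∩ S = K`. -/
theorem mem_of_rel_word {K : Set G} (hK : K ⊆ P.S) {s : G} (hs : s ∈ P.S) {l : List G}
    (hl : IsWord K l) (r : Rel P l.prod s) : s ∈ K := by
  obtain ⟨l', hl', r', hlen⟩ := exists_reduced_word P hK l.length l s (le_refl _) hl r
  rw [len_S P hs] at hlen
  match l', hl', r', hlen with
  | [k], hl', r', _ =>
    have hk : k ∈ K := hl' k (by simp)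
    simp only [List.prod_singleton] at r'
    have := P.inj k (hK hk) s hs r'
    rw [← this]; exact hk

/-- Letters of a reduced word for `n` lie in every subgroup containing `B` and `n`. -/
theorem letters_mem {H : Subgroup G} (hB : P.B ≤ H) : ∀ (l : List G) (n : G), n ∈ P.N → n ∈ H →
    Rep P l n → l.length = len P n → ∀ s ∈ l, s ∈ H := by
  intro l
  induction l with
  | nil => intro n _ _ _ _ s hs; simp at hs
  | cons a l ih =>
    intro n hn hnH hrep hlen
    have hW := isWord_cons.1 hrep.1
    have haS : a ∈ P.S := hW.1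
    have haN := P.subset haS
    have hlN : l.prod ∈ P.N := prod_mem_N P hW.2
    have hrel : Rel P (a * l.prod) n := by
      have := hrep.2; rwa [List.prod_cons] at this
    -- ℓ(a n) ≤ ℓ(l.prod) ≤ l.length < ℓ(n)
    have h1 : len P (a * n) = len P l.prod := by
      have r1 : Rel P (a * (a * l.prod)) (a * n) := rel_mul_left P a hrel
      rw [← len_congr P r1, len_congr P (rel_sq_mul P haS hlN)]
    have h2 : len P l.prod ≤ l.length := len_le_of_rep P (rep_prod P hW.2)
    simp only [List.length_cons] at hlen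
    obtain ⟨b, hb, hdc⟩ := exists_inDC_of_len_le P hn haS (by omega)
    obtain ⟨x, hx, y, hy, e⟩ := hdc
    have haH : a ∈ H := by
      have : a = x * n * y * n⁻¹ * b⁻¹ := by rw [← e]; group
      rw [this]
      exact H.mul_mem (H.mul_mem (H.mul_mem (H.mul_mem (hB hx) hnH) (hB hy)) (H.inv_mem hnH))
        (H.inv_mem (hB hb))
    have hlH : l.prod ∈ H := by
      have : l.prod = a⁻¹ * n * (n⁻¹ * (a * l.prod)) := by group
      rw [this]
      exact H.mul_mem (H.mul_mem (H.inv_mem haH) hnH) (hB (rel_symm P hrel))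
    have hlen' : l.length = len P l.prod := by
      have := len_mul_left_le P haS hlN
      rw [len_congr P hrel] at this
      omega
    intro s hs
    rcases List.mem_cons.1 hs with rfl | hs
    · exact haH
    · exact ih l.prod hlN hlH (rep_prod P hW.2) hlen' s hs

/-- `n ∈ N` lies in every subgroup containing `B` and `n B n⁻¹`. -/
theorem mem_of_conj_le_aux {H : Subgroup G} (hB : P.B ≤ H) : ∀ (l : List G) (n : G), n ∈ P.N →
    Rep P l n → l.length = len P n → (∀ b ∈ P.B, n * b * n⁻¹ ∈ H) → n ∈ H := by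
  intro l
  induction l with
  | nil =>
    intro n hn hrep hlen _
    have : len P n = 0 := by simpa using hlen.symm
    exact hB ((len_eq_zero_iff P hn).1 this)
  | cons a l ih =>
    intro n hn hrep hlen hconj
    have hW := isWord_cons.1 hrep.1
    have haS : a ∈ P.S := hW.1
    have haN := P.subset haS
    have hlN : l.prod ∈ P.N := prod_mem_N P hW.2
    have hrel : Rel P (a * l.prod) n := by
      have := hrep.2; rwa [List.prod_cons] at this
    have h1 : len P (a * n) = len P l.prod := by
      have r1 : Rel P (a * (a * l.prod)) (a * n) := rel_mul_left P a hrel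
      rw [← len_congr P r1, len_congr P (rel_sq_mul P haS hlN)]
    have h2 : len P l.prod ≤ l.length := len_le_of_rep P (rep_prod P hW.2)
    simp only [List.length_cons] at hlen
    obtain ⟨b, hb, hdc⟩ := exists_inDC_of_len_le P hn haS (by omega)
    obtain ⟨x, hx, y, hy, e⟩ := hdc
    have haH : a ∈ H := by
      have : a = x * (n * y * n⁻¹) * b⁻¹ := by
        have : a = (a * b * n) * n⁻¹ * b⁻¹ := by group
        rw [this, e]; group
      rw [this]
      exact H.mul_mem (H.mul_mem (hB hx) (hconj y hy)) (H.inv_mem (hB hb))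
    -- n' = a⁻¹ n
    have hn'N : a⁻¹ * n ∈ P.N := P.N.mul_mem (P.N.inv_mem haN) hn
    have hrel' : Rel P l.prod (a⁻¹ * n) := by
      have := rel_mul_left P a⁻¹ hrel
      simpa using this
    have hlen' : l.length = len P (a⁻¹ * n) := by
      rw [← len_congr P hrel']
      have := len_mul_left_le P haS hlN
      rw [len_congr P hrel] at this
      omega
    have hconj' : ∀ b ∈ P.B, (a⁻¹ * n) * b * (a⁻¹ * n)⁻¹ ∈ H := by
      intro b hb
      have : (a⁻¹ * n) * b * (a⁻¹ * n)⁻¹ = a⁻¹ * (n * b * n⁻¹) * a := by group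
      rw [this]
      exact H.mul_mem (H.mul_mem (H.inv_mem haH) (hconj b hb)) haH
    have := ih (a⁻¹ * n) hn'N ⟨hW.2, hrel'⟩ hlen' hconj'
    have e2 : n = a * (a⁻¹ * n) := by group
    rw [e2]
    exact H.mul_mem haH this

theorem mem_of_conj_le_N {H : Subgroup G} (hB : P.B ≤ H) {n : G} (hn : n ∈ P.N)
    (h : ∀ b ∈ P.B, n * b * n⁻¹ ∈ H) : n ∈ H := by
  obtain ⟨l, hl, hlen⟩ := exists_rep_len P hn
  exact mem_of_conj_le_aux P hB l n hn hl hlen h

/-- If `g B g⁻¹ ≤ H` and `B ≤ H` then `g ∈ H`. -/
theorem mem_of_conj_le {H : Subgroup G} (hB : P.B ≤ H) {g : G}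
    (h : ∀ b ∈ P.B, g * b * g⁻¹ ∈ H) : g ∈ H := by
  obtain ⟨n, hn, x, hx, y, hy, e⟩ := bruhat_exists P g
  have hnH : n ∈ H := by
    apply mem_of_conj_le_N P hB hn
    intro b hb
    have : n * b * n⁻¹ = x⁻¹ * (g * (y⁻¹ * b * y) * g⁻¹) * x := by rw [e]; group
    rw [this]
    exact H.mul_mem (H.mul_mem (H.inv_mem (hB hx))
      (h _ (P.B.mul_mem (P.B.mul_mem (P.B.inv_mem hy) hb) hy))) (hB hx)
  rw [e]
  exact H.mul_mem (H.mul_mem (hB hx) hnH) (hB hy)

theorem B_le_parabolic (J : Set G) : P.B ≤ P.parabolic J := le_sup_left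

theorem closure_le_parabolic (J : Set G) : Subgroup.closure J ≤ P.parabolic J := le_sup_right

theorem parabolic_mono {J K : Set G} (h : J ⊆ K) : P.parabolic J ≤ P.parabolic K :=
  sup_le_sup_left (Subgroup.closure_mono h) _

theorem closure_le_N {J : Set G} (hJ : J ⊆ P.S) : Subgroup.closure J ≤ P.N := by
  rw [Subgroup.closure_le]
  exact fun s hs => P.subset (hJ hs)

/-- `P_J = B W_J B`. -/
theorem mem_parabolic_iff {J : Set G} (hJ : J ⊆ P.S) (g : G) :
    g ∈ P.parabolic J ↔ ∃ n ∈ Subgroup.closure J, InDC P n g := by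
  constructor
  · intro hg
    have := mul_mem_dcUnion P (closure_le_N P hJ) hJ Subgroup.subset_closure hg
      (h := 1) ⟨1, Subgroup.one_mem _, inDC_self P 1⟩
    simpa using this
  · rintro ⟨n, hn, x, hx, y, hy, rfl⟩
    exact (P.parabolic J).mul_mem ((P.parabolic J).mul_mem (B_le_parabolic P J hx)
      (closure_le_parabolic P J hn)) (B_le_parabolic P J hy)

/-- `S ∩ P_K = K`. -/
theorem mem_of_mem_parabolic {K : Set G} (hK : K ⊆ P.S) {s : G} (hs : s ∈ P.S)
    (h : s ∈ P.parabolic K) : s ∈ K := by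
  obtain ⟨n, hn, hdc⟩ := (mem_parabolic_iff P hK s).1 h
  have hnN : n ∈ P.N := closure_le_N P hK hn
  have r : Rel P n s := bruhat_unique P hnN (P.subset hs) hdc
  obtain ⟨l, hl, rl⟩ := exists_word_of_mem P hK (n := n) (Subgroup.mem_sup_left hn)
  exact mem_of_rel_word P hK hs hl (rel_trans P rl r)

/-- Every subgroup containing `B` is a standard parabolic subgroup. -/
theorem eq_parabolic_of_B_le {M : Subgroup G} (hM : P.B ≤ M) :
    M = P.parabolic {s | s ∈ P.S ∧ s ∈ M} := by
  apply le_antisymm
  · intro g hg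
    obtain ⟨n, hn, x, hx, y, hy, e⟩ := bruhat_exists P g
    have hnM : n ∈ M := by
      have : n = x⁻¹ * g * y⁻¹ := by rw [e]; group
      rw [this]
      exact M.mul_mem (M.mul_mem (M.inv_mem (hM hx)) hg) (M.inv_mem (hM hy))
    obtain ⟨l, hl, hlen⟩ := exists_rep_len P hn
    have hletters := letters_mem P hM l n hn hnM hl hlen
    have hlW : IsWord {s | s ∈ P.S ∧ s ∈ M} l := fun s hs => ⟨hl.1 s hs, hletters s hs⟩
    have hlp : l.prod ∈ P.parabolic {s | s ∈ P.S ∧ s ∈ M} :=
      closure_le_parabolic P _ (prod_mem_closure hlW)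
    have hnP : n ∈ P.parabolic {s | s ∈ P.S ∧ s ∈ M} := by
      have : n = l.prod * (l.prod⁻¹ * n) := by group
      rw [this]
      exact Subgroup.mul_mem _ hlp (B_le_parabolic P _ hl.2)
    rw [e]
    exact Subgroup.mul_mem _ (Subgroup.mul_mem _ (B_le_parabolic P _ hx) hnP) (B_le_parabolic P _ hy)
  · refine sup_le hM ?_
    rw [Subgroup.closure_le]
    exact fun s hs => hs.2

end Cfsg.Agent.Lib.Helper6
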