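import Cfsg.Agent.Lib.Helper6.BNRankOne

set_option autoImplicit false

namespace Cfsg.Agent.Lib.Helper6

open Cfsg

variable {G : Type*} [Group G] (P : Cfsg.BNPair G)

/-- Key step of Tits' simplicity criterion: if `M = B H` with `H` normal, `s ∈ S ∩ M`,
`s' ∈ S ∖ M`, then `s` and `s'` commute modulo `B`. -/
theorem comm_of_normal {H : Subgroup G} [hH : H.Normal] {s s' : G} (hs : s ∈ P.S) (hs' : s' ∈ P.S)
    (hsM : s ∈ P.B ⊔ H) (hs'M : s' ∉ P.B ⊔ H) : s * s' * s⁻¹ * s'⁻¹ ∈ P.B := by
  set M := P.B ⊔ H with hM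
  have hBM : P.B ≤ M := le_sup_left
  have hHM : H ≤ M := le_sup_right
  have hsN := P.subset hs
  have hs'N := P.subset hs'
  obtain ⟨b, hb, h, hh, e⟩ := Subgroup.mem_sup_of_normal_right.1 hsM
  -- h = b⁻¹ s ∈ C(s)
  have hdc : InDC P s h := ⟨b⁻¹, P.B.inv_mem hb, 1, P.B.one_mem, by rw [← e]; group⟩
  have hne : s ≠ s' := by
    intro heq; rw [heq] at hsM; exact hs'M hsM
  -- membership transfer: if u ∈ M and InDC n u then n ∈ M
  have transfer : ∀ {n u : G}, u ∈ M → InDC P n u → n ∈ M := by
    rintro n u hu ⟨x, hx, y, hy, rfl⟩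
    have : n = x⁻¹ * (x * n * y) * y⁻¹ := by group
    rw [this]
    exact M.mul_mem (M.mul_mem (M.inv_mem (hBM hx)) hu) (M.inv_mem (hBM hy))
  have hs'h : s' * h ∉ M := fun hc => hs'M (by
    have : s' = s' * h * h⁻¹ := by group
    rw [this]; exact M.mul_mem hc (M.inv_mem (hHM hh)))
  have hu : s' * h * s'⁻¹ ∈ H := hH.conj_mem h hh s'
  have huM : s' * h * s'⁻¹ ∈ M := hHM hu
  -- s' s ∉ M
  have hs's : s' * s ∉ M := fun hc => hs'M (by
    have : s' = s' * s * s⁻¹ := by group
    rw [this]; exact M.mul_mem hc (M.inv_mem hsM))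
  rcases dc_mul_left P hs' hsN (inDC_self P s') hdc with c | c
  swap
  · -- s' h ∈ C(s): then s' h ∈ M
    exfalso
    obtain ⟨x, hx, y, hy, e2⟩ := c
    apply hs'h
    rw [e2]
    exact M.mul_mem (M.mul_mem (hBM hx) hsM) (hBM hy)
  have hs'sN : s' * s ∈ P.N := P.N.mul_mem hs'N hsN
  rcases dc_mul_right P hs' hs'sN (inDC_S_inv P hs') c with c2 | c2
  swap
  · exfalso
    exact hs's (transfer huM c2)
  -- w = s' s s' ∈ M
  have hwM : s' * s * s' ∈ M := transfer huM c2
  have hwN : s' * s * s' ∈ P.N := P.N.mul_mem hs'sN hs'N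
  -- the word [s', s, s'] is not reduced
  have hW : IsWord P.S [s', s, s'] := by
    intro x hx
    simp at hx
    rcases hx with rfl | rfl | rfl <;> assumption
  have hrep : Rep P [s', s, s'] (s' * s * s') := ⟨hW, by simp [Rel, mul_assoc, P.B.one_mem]⟩
  have hlen3 : len P (s' * s * s') ≠ 3 := by
    intro h3
    have := letters_mem P hBM [s', s, s'] (s' * s * s') hwN hwM hrep (by simp [h3]) s' (by simp)
    exact hs'M this
  have hle3 : len P (s' * s * s') ≤ 3 := by simpa using len_le_of_rep P hrep
  -- v = s s'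
  have hvN : s * s' ∈ P.N := P.N.mul_mem hsN hs'N
  have hv_ne : len P (s * s') ≠ len P s' := len_mul_S_ne P hs'N hs
  have hrel_comm : Rel P (s' * s) (s * s') := by
    by_cases hlt : len P (s' * (s * s')) ≤ len P (s * s')
    · have hW2 : IsWord P.S [s, s'] := by
        intro x hx
        simp at hx
        rcases hx with rfl | rfl <;> assumption
      have hp : ([s, s'] : List G).prod = s * s' := by simp
      obtain ⟨l₁, a, l₂, el, r⟩ := exchange P hs' hW2 (by rw [hp]; exact hlt)
      match l₁, el with
      | [], el =>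
        simp only [List.nil_append, List.cons.injEq] at el
        obtain ⟨rfl, _⟩ := el
        simp only [List.prod_nil, mul_one, one_mul] at r
        exact absurd (P.inj s' hs' s hs r).symm hne
      | [x], el =>
        simp only [List.cons_append, List.nil_append, List.cons.injEq] at el
        obtain ⟨rfl, rfl, _⟩ := el
        simpa using r
      | x :: y :: l, el =>
        simp at el
    · exfalso
      have h1 : len P (s' * (s * s')) ≠ len P (s * s') := len_mul_S_ne P hvN hs'
      have h2 : len P (s' * (s * s')) ≤ 2 := by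
        rw [← mul_assoc]; omega
      have h3 : len P s' = 1 := len_S P hs'
      have h4 : len P (s * s') = 0 := by omega
      have h5 : s * s' ∈ P.B := (len_eq_zero_iff P hvN).1 h4
      have h6 : s⁻¹ * s' ∈ P.B := by
        have : s⁻¹ * s' = (s * s)⁻¹ * (s * s') := by group
        rw [this]; exact P.B.mul_mem (P.B.inv_mem (P.sq_mem s hs)) h5
      exact hne (P.inj s hs s' hs' h6)
  -- conclude
  have hT := rel_mem_T P hs'sN hvN hrel_comm
  have := conj_mem_T P hs'sN hT
  have e3 : s' * s * ((s' * s)⁻¹ * (s * s')) * (s' * s)⁻¹ = s * s' * s⁻¹ * s'⁻¹ := by group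
  rw [e3] at this
  exact this.1

/-- Tits' simplicity criterion. -/
theorem isSimpleGroup_of_irreducible [Nontrivial G] (hirr : P.Irreducible)
    (hsolv : Group.IsSolvable P.B) (hperf : commutator G = ⊤) (hcore : P.B.normalCore = ⊥) :
    IsSimpleGroup G := by
  refine ⟨fun H hH => ?_⟩
  set M := P.B ⊔ H with hM
  have hBM : P.B ≤ M := le_sup_left
  set J : Set G := {s | s ∈ P.S ∧ s ∈ M} with hJ
  have hJS : J ⊆ P.S := fun s hs => hs.1
  have hMJ : M = P.parabolic J := eq_parabolic_of_B_le P hBM
  by_cases h1 : J.Nonempty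
  · by_cases h2 : (P.S \ J).Nonempty
    · exfalso
      obtain ⟨s, hs, s', hs', hn⟩ := hirr J hJS h1 h2
      apply hn
      have hs'M : s' ∉ M := fun hc => hs'.2 ⟨hs'.1, hc⟩
      exact comm_of_normal P hs.1 hs'.1 hs.2 hs'M
    · -- S ⊆ J so M = ⊤
      right
      have hSJ : P.S ⊆ J := by
        intro s hs
        by_contra hc
        exact h2 ⟨s, hs, hc⟩
      have hMtop : M = ⊤ := by
        rw [eq_top_iff, ← P.sup_eq_top]
        refine sup_le hBM ?_
        rw [← P.closure_sup]
        refine sup_le ?_ (le_trans inf_le_left hBM)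
        rw [Subgroup.closure_le]
        exact fun s hs => (hSJ hs).2
      -- G ⧸ H is a quotient of B
      have hsurj : Function.Surjective ((QuotientGroup.mk' H).comp P.B.subtype) := by
        intro q
        obtain ⟨g, rfl⟩ := QuotientGroup.mk'_surjective H q
        have hg : g ∈ P.B ⊔ H := by rw [← hM, hMtop]; exact Subgroup.mem_top g
        obtain ⟨b, hb, h, hh, rfl⟩ := Subgroup.mem_sup_of_normal_right.1 hg
        refine ⟨⟨b, hb⟩, ?_⟩
        simp only [MonoidHom.coe_comp, Subgroup.coe_subtype, Function.comp_apply,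
          QuotientGroup.mk'_apply]
        rw [QuotientGroup.eq]
        simpa using hh
      have hsolvQ : Group.IsSolvable (G ⧸ H) := Group.isSolvable_of_surjective hsurj
      have hperfQ : commutator (G ⧸ H) = ⊤ := by
        have h3 : Subgroup.map (QuotientGroup.mk' H) (commutator G) = commutator (G ⧸ H) := by
          rw [commutator_def, commutator_def, Subgroup.map_commutator,
            Subgroup.map_top_of_surjective _ (QuotientGroup.mk'_surjective H)]
        rw [← h3, hperf, Subgroup.map_top_of_surjective _ (QuotientGroup.mk'_surjective H)]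
      have hsub : Subsingleton (G ⧸ H) := by
        by_contra hns
        rw [not_subsingleton_iff_nontrivial] at hns
        have := Group.IsSolvable.commutator_lt_top_of_nontrivial (G ⧸ H)
        rw [hperfQ] at this
        exact lt_irrefl _ this
      exact QuotientGroup.subgroup_eq_top_of_subsingleton H hsub
  · -- J = ∅, so M = B and H ≤ core B = ⊥
    left
    have hJe : J = ∅ := Set.not_nonempty_iff_eq_empty.1 h1
    have hMB : M = P.B := by
      rw [hMJ, hJe]
      unfold BNPair.parabolic
      simp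
    have hHB : H ≤ P.B := by
      rw [← hMB]; exact le_sup_right
    have : H ≤ P.B.normalCore := Subgroup.normal_le_normalCore.2 hHB
    rw [hcore] at this
    exact le_bot_iff.1 this

end Cfsg.Agent.Lib.Helper6
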