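import Mathlib
import Cfsg.Prelude.Def_GeometricClasses
import Cfsg.Agent.Lib.Helper99.AschDefs
import Cfsg.Agent.Lib.Helper20.AschU.Basic
import Cfsg.Agent.Lib.Helper20.AschU.Ctr

/-!
# ASCHU-[U2STAR] (helper6): the adjoint `ctr q` permutes a system of minimal idempotents
-/

set_option autoImplicit false

namespace Cfsg.Agent.Lib.Helper20.AschU

open Cfsg Cfsg.Geo Cfsg.Agent.Lib.Helper99.Asch
open scoped MatrixGroups Matrix Kronecker

variable {n : ℕ} {F : Type*} [Field F] [Fintype F] {q : ℕ}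

/-- ASCHU-[U2STAR] -/
theorem exists_star_of_idempotents (hF : Fintype.card F = q ^ 2)
    (K : Subalgebra F (Matrix (Fin n) (Fin n) F)) (hcomm : ∀ x ∈ K, ∀ y ∈ K, x * y = y * x)
    (hstar : ∀ x ∈ K, ctr q x ∈ K) (t : ℕ) (ε : Fin t → Matrix (Fin n) (Fin n) F)
    (hK : ∀ i, ε i ∈ K) (hne : ∀ i, ε i ≠ 0) (hid : ∀ i, ε i * ε i = ε i)
    (horth : ∀ i j, i ≠ j → ε i * ε j = 0) (hsum : ∑ i, ε i = 1)
    (hmin : ∀ x ∈ K, x * x = x → ∀ i, ε i * x = 0 ∨ ε i * x = ε i) :
    ∃ s : Fin t → Fin t, (∀ i, s (s i) = i) ∧ ∀ i, ctr q (ε i) = ε (s i) := by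
  -- `ε` is injective
  have hinj : Function.Injective ε := by
    intro a b hab
    by_contra hne'
    have h1 := horth a b hne'
    rw [← hab, hid a] at h1
    exact hne a h1
  -- each `ctr (ε i)` is some `ε j`
  have key : ∀ i, ∃ j, ctr q (ε i) = ε j := by
    intro i
    set c := ctr q (ε i) with hc
    have hcK : c ∈ K := hstar _ (hK i)
    have hcid : c * c = c := by
      rw [hc, ← ctr_mul hF, hid i]
    have hcne : c ≠ 0 := by
      intro h0
      apply hne i
      have := ctr_ctr hF (ε i)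
      rw [← hc, h0, ctr_zero hF] at this
      exact this.symm
    -- minimality of `c`
    have hcmin : ∀ x ∈ K, x * x = x → c * x = 0 ∨ c * x = c := by
      intro x hx hxx
      have hx' : ctr q x ∈ K := hstar x hx
      have hxx' : ctr q x * ctr q x = ctr q x := by rw [← ctr_mul hF, hxx]
      have e1 : c * x = ctr q (ctr q x * ε i) := by
        rw [ctr_mul hF, ctr_ctr hF]
      have e2 : ctr q x * ε i = ε i * ctr q x := hcomm _ hx' _ (hK i)
      rcases hmin _ hx' hxx' i with h | h
      · left; rw [e1, e2, h, ctr_zero hF]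
      · right; rw [e1, e2, h]
    -- some `ε j * c ≠ 0`
    have hex : ∃ j, ε j * c ≠ 0 := by
      by_contra hall
      push Not at hall
      apply hcne
      calc c = (∑ j, ε j) * c := by rw [hsum, one_mul]
        _ = ∑ j, ε j * c := by rw [Finset.sum_mul]
        _ = 0 := Finset.sum_eq_zero (fun j _ => hall j)
    obtain ⟨j, hj⟩ := hex
    have hj1 : ε j * c = ε j := by
      rcases hmin c hcK hcid j with h | h
      · exact absurd h hj
      · exact h
    have hj2 : c * ε j = ε j := by rw [hcomm c hcK _ (hK j), hj1]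
    refine ⟨j, ?_⟩
    rcases hcmin (ε j) (hK j) (hid j) with h | h
    · rw [hj2] at h; exact absurd h (hne j)
    · rw [hj2] at h; exact h.symm
  choose s hs using key
  refine ⟨s, ?_, hs⟩
  intro i
  apply hinj
  rw [← hs (s i), ← hs i, ctr_ctr hF]

end Cfsg.Agent.Lib.Helper20.AschU
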