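import Mathlib
import Cfsg.Prelude.Def_GeometricClasses
import Cfsg.Agent.Lib.Helper99.AschDefs
import Cfsg.Agent.Lib.Helper23.AschSpDefs
import Cfsg.Agent.Lib.Helper11.AschUKronEq

/-!
# ASCHSP-[TDSIM] (helper6): the tensor factors of an isometry are similitudes of the factor forms
(self-contained: the needed case `0 < d`, `0 < e` of [TSIM] is proved here from ASCHU-[KRONEQ]).
-/

set_option autoImplicit false
set_option linter.unusedSectionVars false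

namespace Cfsg.Agent.Lib.Helper6.AschSp

open Cfsg Cfsg.Geo Cfsg.Agent.Lib.Helper99.Asch Cfsg.Agent.Lib.Helper23.AschSp
open scoped MatrixGroups Matrix Kronecker

variable {F : Type*} [Field F]

/-- `formOfGram id G x y = x ⬝ᵥ G *ᵥ y` -/
theorem formOfGram_id_eq {κ : Type} [Fintype κ] (G : Matrix κ κ F) (x y : κ → F) :
    formOfGram id G x y = x ⬝ᵥ (G *ᵥ y) := by
  simp only [formOfGram, id, dotProduct, Matrix.mulVec, Finset.mul_sum, mul_assoc]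

/-- a matrix is determined by its bilinear form -/
theorem matrix_eq_of_forall_dot {κ : Type} [Fintype κ] [DecidableEq κ] (G G' : Matrix κ κ F)
    (h : ∀ x y : κ → F, x ⬝ᵥ (G *ᵥ y) = x ⬝ᵥ (G' *ᵥ y)) : G = G' := by
  ext a b
  have := h (Pi.single a 1) (Pi.single b 1)
  simpa using this

/-- invariance of the bilinear form of `G` under `M` means `Mᵀ G M = G` -/
theorem transpose_mul_mul_eq_of_invariant {κ : Type} [Fintype κ] [DecidableEq κ] (G M : Matrix κ κ F)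
    (h : ∀ x y : κ → F, (M *ᵥ x) ⬝ᵥ (G *ᵥ (M *ᵥ y)) = x ⬝ᵥ (G *ᵥ y)) : Mᵀ * G * M = G := by
  apply matrix_eq_of_forall_dot
  intro x y
  calc x ⬝ᵥ ((Mᵀ * G * M) *ᵥ y) = x ⬝ᵥ (Mᵀ *ᵥ (G *ᵥ (M *ᵥ y))) := by
        rw [Matrix.mulVec_mulVec, Matrix.mulVec_mulVec, Matrix.mul_assoc]
    _ = (M *ᵥ x) ⬝ᵥ (G *ᵥ (M *ᵥ y)) := by
        rw [Matrix.dotProduct_mulVec, Matrix.vecMul_transpose]
    _ = x ⬝ᵥ (G *ᵥ y) := h x y

/-- the case `0 < d`, `0 < e` of ASCHSP-[TSIM] -/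
theorem kronecker_similitude_pos {d e : ℕ} (hd : 0 < d) (he : 0 < e) (J₁ : Matrix (Fin d) (Fin d) F)
    (C : Matrix (Fin e) (Fin e) F) (hJ : J₁.det ≠ 0) (hC : C.det ≠ 0)
    (a : Matrix (Fin d) (Fin d) F) (b : Matrix (Fin e) (Fin e) F)
    (h : (a ⊗ₖ b)ᵀ * (J₁ ⊗ₖ C) * (a ⊗ₖ b) = J₁ ⊗ₖ C) :
    ∃ c : F, c ≠ 0 ∧ aᵀ * J₁ * a = c • J₁ ∧ bᵀ * C * b = c⁻¹ • C := by
  have h1 : (aᵀ * J₁ * a) ⊗ₖ (bᵀ * C * b) = J₁ ⊗ₖ C := by
    rw [Matrix.mul_kronecker_mul, Matrix.mul_kronecker_mul, Matrix.kroneckerMap_transpose, h]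
  have h0 : J₁ ⊗ₖ C ≠ 0 := by
    intro h0
    have hJ0 : J₁ ≠ 0 := by
      rintro rfl
      have : Nonempty (Fin d) := ⟨⟨0, hd⟩⟩
      exact hJ Matrix.det_zero
    have hC0 : C ≠ 0 := by
      rintro rfl
      have : Nonempty (Fin e) := ⟨⟨0, he⟩⟩
      exact hC Matrix.det_zero
    obtain ⟨i, j, hij⟩ : ∃ i j, J₁ i j ≠ 0 := by
      by_contra hcon
      push Not at hcon
      exact hJ0 (by ext i j; exact hcon i j)
    obtain ⟨k, l, hkl⟩ : ∃ k l, C k l ≠ 0 := by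
      by_contra hcon
      push Not at hcon
      exact hC0 (by ext i j; exact hcon i j)
    have := congrFun (congrFun h0 (i, k)) (j, l)
    rw [Matrix.kroneckerMap_apply, Matrix.zero_apply] at this
    exact mul_ne_zero hij hkl this
  obtain ⟨c, hc0, hA, hB⟩ := Cfsg.Agent.Lib.Helper20.AschU.kronecker_eq_kronecker J₁ (aᵀ * J₁ * a) C
    (bᵀ * C * b) h1.symm h0
  refine ⟨c, hc0, hA, ?_⟩
  have : c⁻¹ • C = bᵀ * C * b := by
    conv_lhs => rw [hB]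
    rw [smul_smul, inv_mul_cancel₀ hc0, one_smul]
  exact this.symm

/-- `reindex idx.symm idx.symm M` applied to `x ∘ idx` -/
theorem reindex_mulVec_comp {n : ℕ} {κ : Type} [Fintype κ] (idx : Fin n ≃ κ) (M : Matrix κ κ F)
    (x : κ → F) : Matrix.reindex idx.symm idx.symm M *ᵥ (x ∘ idx) = (M *ᵥ x) ∘ idx := by
  ext i
  simp only [Matrix.reindex_apply, Equiv.symm_symm, Matrix.mulVec, dotProduct, Function.comp_apply,
    Matrix.submatrix_apply]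
  exact Equiv.sum_comp idx (fun k => M (idx i) k * x k)

end Cfsg.Agent.Lib.Helper6.AschSp

namespace Cfsg.Agent.Lib.Helper23.AschSp

open Cfsg Cfsg.Geo Cfsg.Agent.Lib.Helper99.Asch
open scoped MatrixGroups Matrix Kronecker

variable {n m : ℕ} {F : Type*} [Field F] [Fintype F] {f : (Fin n → F) → (Fin n → F) → F}

/-- ASCHSP-[TDSIM] -/
theorem tensorFormData_similitude (H : Subgroup (GL (Fin n) F)) (hH : H ≤ isoGL f) {d e : ℕ}
    (idx : Fin n ≃ Fin d × Fin e) (B : GL (Fin n) F) (J₁ : Matrix (Fin d) (Fin d) F) (C : Matrix (Fin e) (Fin e) F)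
    (hD : TensorFormData f H d e idx B J₁ C) :
    ∀ h ∈ H, ∃ (a : GL (Fin d) F) (b : GL (Fin e) F) (c : F),
      ((B * h * B⁻¹ : GL (Fin n) F) : Matrix (Fin n) (Fin n) F) =
        Matrix.reindex idx.symm idx.symm ((a : Matrix (Fin d) (Fin d) F) ⊗ₖ (b : Matrix (Fin e) (Fin e) F)) ∧ c ≠ 0 ∧
      (a : Matrix (Fin d) (Fin d) F)ᵀ * J₁ * (a : Matrix (Fin d) (Fin d) F) = c • J₁ ∧
      (b : Matrix (Fin e) (Fin e) F)ᵀ * C * (b : Matrix (Fin e) (Fin e) F) = c⁻¹ • C := by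
  intro h hh
  by_cases hn : n = 0
  · -- degenerate case: all matrices over `Fin 0` are equal
    subst hn
    refine ⟨1, 1, 1, Subsingleton.elim _ _, one_ne_zero, ?_, ?_⟩
    · simp
    · simp
  have hde : n = d * e := by
    have := Fintype.card_congr idx
    simpa using this
  have hd : 0 < d := by
    rcases Nat.eq_zero_or_pos d with h0 | h0
    · rw [h0, zero_mul] at hde; exact absurd hde hn
    · exact h0
  have he : 0 < e := by
    rcases Nat.eq_zero_or_pos e with h0 | h0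
    · rw [h0, mul_zero] at hde; exact absurd hde hn
    · exact h0
  obtain ⟨a, b, hab⟩ := hD.kron h hh
  set M : Matrix (Fin d × Fin e) (Fin d × Fin e) F :=
    (a : Matrix (Fin d) (Fin d) F) ⊗ₖ (b : Matrix (Fin e) (Fin e) F) with hM
  -- `h B⁻¹ (x ∘ idx) = B⁻¹ ((M x) ∘ idx)`
  have hmove : ∀ x : Fin d × Fin e → F,
      (h : Matrix (Fin n) (Fin n) F) *ᵥ
        (((B⁻¹ : GL (Fin n) F) : Matrix (Fin n) (Fin n) F) *ᵥ (x ∘ idx)) =
      ((B⁻¹ : GL (Fin n) F) : Matrix (Fin n) (Fin n) F) *ᵥ ((M *ᵥ x) ∘ idx) := by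
    intro x
    rw [← Cfsg.Agent.Lib.Helper6.AschSp.reindex_mulVec_comp, ← hab, Matrix.mulVec_mulVec,
      Matrix.mulVec_mulVec]
    congr 1
    have : (B⁻¹ * (B * h * B⁻¹) : GL (Fin n) F) = h * B⁻¹ := by group
    rw [← Units.val_mul, ← Units.val_mul, this]
  have hinv : ∀ x y : Fin d × Fin e → F,
      (M *ᵥ x) ⬝ᵥ ((J₁ ⊗ₖ C) *ᵥ (M *ᵥ y)) = x ⬝ᵥ ((J₁ ⊗ₖ C) *ᵥ y) := by
    intro x y
    rw [← Cfsg.Agent.Lib.Helper6.AschSp.formOfGram_id_eq, ← Cfsg.Agent.Lib.Helper6.AschSp.formOfGram_id_eq,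
      ← hD.gram, ← hD.gram, ← hmove, ← hmove]
    exact (mem_isoGL.mp (hH hh)) _ _
  have hkey := Cfsg.Agent.Lib.Helper6.AschSp.transpose_mul_mul_eq_of_invariant (J₁ ⊗ₖ C) M hinv
  obtain ⟨c, hc0, h1, h2⟩ := Cfsg.Agent.Lib.Helper6.AschSp.kronecker_similitude_pos hd he J₁ C hD.det₁ hD.det₂
    (a : Matrix (Fin d) (Fin d) F) (b : Matrix (Fin e) (Fin e) F) hkey
  exact ⟨a, b, c, hab, hc0, h1, h2⟩

end Cfsg.Agent.Lib.Helper23.AschSp
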