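import Mathlib
import Cfsg.Prelude.Def_GeometricClasses
import Cfsg.Agent.Lib.Helper99.AschDefs
import Cfsg.Agent.Lib.Helper23.AschSpDefs
import Cfsg.Agent.Lib.Helper6.AschSpTdSim

/-!
# ASCHSP-[C4-EVEN-RED] (helper6): in characteristic 2 a tensor decomposition whose first factor form is
symmetric but not alternating makes `H` reducible.

The quadratic map `u ↦ uᵀ J₁ u` is additive in characteristic 2 (for symmetric `J₁`), so its zero set `V⁰` is a
subspace; it is proper (`J₁ i i ≠ 0`), nonzero (`d ≥ 2`, square roots exist in a finite field of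
characteristic 2) and stable under all similitudes of `J₁`.
-/

set_option autoImplicit false
set_option linter.unusedSectionVars false

namespace Cfsg.Agent.Lib.Helper6.AschSp

open Cfsg Cfsg.Geo Cfsg.Agent.Lib.Helper99.Asch Cfsg.Agent.Lib.Helper23.AschSp
open scoped MatrixGroups Matrix Kronecker

variable {F : Type*} [Field F]

/-- in characteristic 2 the quadratic map of a symmetric matrix is additive -/
theorem quad_add_of_two_eq_zero {κ : Type} [Fintype κ] (J : Matrix κ κ F) (hJ : Jᵀ = J) (h2 : (2 : F) = 0)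
    (u v : κ → F) :
    (u + v) ⬝ᵥ (J *ᵥ (u + v)) = u ⬝ᵥ (J *ᵥ u) + v ⬝ᵥ (J *ᵥ v) := by
  have hsymm : v ⬝ᵥ (J *ᵥ u) = u ⬝ᵥ (J *ᵥ v) := by
    rw [Matrix.dotProduct_mulVec, ← Matrix.mulVec_transpose, hJ, dotProduct_comm]
  rw [Matrix.mulVec_add, add_dotProduct, dotProduct_add, dotProduct_add, hsymm]
  linear_combination (u ⬝ᵥ (J *ᵥ v)) * h2

theorem quad_smul {κ : Type} [Fintype κ] (J : Matrix κ κ F) (c : F) (u : κ → F) :
    (c • u) ⬝ᵥ (J *ᵥ (c • u)) = c * c * (u ⬝ᵥ (J *ᵥ u)) := by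
  rw [Matrix.mulVec_smul, smul_dotProduct, dotProduct_smul, smul_eq_mul, smul_eq_mul, mul_assoc]

/-- the zero set of the quadratic map of a symmetric matrix in characteristic 2 -/
def quadKer {κ : Type} [Fintype κ] (J : Matrix κ κ F) (hJ : Jᵀ = J) (h2 : (2 : F) = 0) :
    Submodule F (κ → F) where
  carrier := {u | u ⬝ᵥ (J *ᵥ u) = 0}
  add_mem' := by
    intro u v hu hv
    simp only [Set.mem_ofPred_eq] at hu hv ⊢
    rw [quad_add_of_two_eq_zero J hJ h2, hu, hv, add_zero]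
  zero_mem' := by simp
  smul_mem' := by
    intro c u hu
    simp only [Set.mem_ofPred_eq] at hu ⊢
    rw [quad_smul, hu, mul_zero]

theorem mem_quadKer {κ : Type} [Fintype κ] (J : Matrix κ κ F) (hJ : Jᵀ = J) (h2 : (2 : F) = 0)
    (u : κ → F) : u ∈ quadKer J hJ h2 ↔ u ⬝ᵥ (J *ᵥ u) = 0 := Iff.rfl

/-- similitudes of `J` stabilise `quadKer J` -/
theorem mulVec_mem_quadKer {κ : Type} [Fintype κ] (J : Matrix κ κ F) (hJ : Jᵀ = J) (h2 : (2 : F) = 0)
    (a : Matrix κ κ F) (c : F) (ha : aᵀ * J * a = c • J) (u : κ → F) (hu : u ∈ quadKer J hJ h2) :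
    a *ᵥ u ∈ quadKer J hJ h2 := by
  rw [mem_quadKer] at hu ⊢
  have : (a *ᵥ u) ⬝ᵥ (J *ᵥ (a *ᵥ u)) = u ⬝ᵥ ((aᵀ * J * a) *ᵥ u) := by
    rw [← Matrix.mulVec_mulVec, ← Matrix.mulVec_mulVec, Matrix.dotProduct_mulVec u aᵀ,
      Matrix.vecMul_transpose]
  rw [this, ha, Matrix.smul_mulVec, dotProduct_smul, hu, smul_zero]

/-- the sections `x (·, k)` of `x` all lie in `V` -/
def sectionSub {d e : ℕ} (V : Submodule F (Fin d → F)) : Submodule F (Fin d × Fin e → F) where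
  carrier := {x | ∀ k, (fun i => x (i, k)) ∈ V}
  add_mem' := by
    intro x y hx hy k
    exact V.add_mem (hx k) (hy k)
  zero_mem' := by
    intro k
    exact V.zero_mem
  smul_mem' := by
    intro c x hx k
    exact V.smul_mem c (hx k)

theorem mem_sectionSub {d e : ℕ} (V : Submodule F (Fin d → F)) (x : Fin d × Fin e → F) :
    x ∈ sectionSub (e := e) V ↔ ∀ k, (fun i => x (i, k)) ∈ V := Iff.rfl

/-- the sections of `(a ⊗ₖ b) x` -/
theorem kronecker_mulVec_section {d e : ℕ} (a : Matrix (Fin d) (Fin d) F) (b : Matrix (Fin e) (Fin e) F)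
    (x : Fin d × Fin e → F) (k : Fin e) :
    (fun i => ((a ⊗ₖ b) *ᵥ x) (i, k)) = a *ᵥ (∑ l, b k l • fun j => x (j, l)) := by
  ext i
  simp only [Matrix.mulVec, dotProduct, Fintype.sum_prod_type, Matrix.kroneckerMap_apply, Finset.sum_apply,
    Pi.smul_apply, smul_eq_mul, Finset.mul_sum]
  refine Finset.sum_congr rfl fun j _ => Finset.sum_congr rfl fun l _ => ?_
  ring

theorem kronecker_mulVec_mem_sectionSub {d e : ℕ} (V : Submodule F (Fin d → F))
    (a : Matrix (Fin d) (Fin d) F) (b : Matrix (Fin e) (Fin e) F)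
    (ha : ∀ u ∈ V, a *ᵥ u ∈ V) (x : Fin d × Fin e → F) (hx : x ∈ sectionSub (e := e) V) :
    (a ⊗ₖ b) *ᵥ x ∈ sectionSub (e := e) V := by
  intro k
  rw [kronecker_mulVec_section]
  exact ha _ (V.sum_mem fun l _ => V.smul_mem _ (hx l))

end Cfsg.Agent.Lib.Helper6.AschSp

namespace Cfsg.Agent.Lib.Helper23.AschSp

open Cfsg Cfsg.Geo Cfsg.Agent.Lib.Helper99.Asch
open scoped MatrixGroups Matrix Kronecker

variable {n m : ℕ} {F : Type*} [Field F] [Fintype F] {f : (Fin n → F) → (Fin n → F) → F}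

/-- ASCHSP-[C4-EVEN-RED] -/
theorem not_irreducible_of_tensor_nonalt (heven : ¬ Odd (Fintype.card F)) (H : Subgroup (GL (Fin n) F)) (hH : H ≤ isoGL f)
    {d e : ℕ} (hd : 2 ≤ d) (he : 1 ≤ e)
    (idx : Fin n ≃ Fin d × Fin e) (B : GL (Fin n) F) (J₁ : Matrix (Fin d) (Fin d) F) (C : Matrix (Fin e) (Fin e) F)
    (hD : TensorFormData f H d e idx B J₁ C) (hJ : J₁ᵀ = J₁) (hdiag : ∃ i, J₁ i i ≠ 0) :
    ¬ ActsIrreducibly (matrixSet H) := by
  classical
  -- characteristic 2 and square roots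
  have hevenc : Even (Fintype.card F) := Nat.not_odd_iff_even.mp heven
  obtain ⟨k₂, hk₂⟩ := hevenc
  have h2 : (2 : F) = 0 := by
    have h := (FiniteField.even_card_iff_char_two (F := F)).mpr (by omega)
    have : CharP F 2 := by
      have := ringChar.charP F
      rwa [h] at this
    exact CharP.ofNat_eq_zero F 2
  have hsqrt : ∀ x : F, ∃ c : F, c * c = x := by
    intro x
    refine ⟨x ^ k₂, ?_⟩
    rw [← pow_add, ← hk₂, FiniteField.pow_card]
  obtain ⟨i₀, hi₀⟩ := hdiag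
  set V := Cfsg.Agent.Lib.Helper6.AschSp.quadKer J₁ hJ h2 with hV
  have hquad_single : ∀ i : Fin d, (Pi.single i (1 : F) : Fin d → F) ⬝ᵥ (J₁ *ᵥ Pi.single i 1) = J₁ i i := by
    intro i
    simp
  -- V is proper
  have hVtop : (Pi.single i₀ (1 : F) : Fin d → F) ∉ V := by
    rw [hV, Cfsg.Agent.Lib.Helper6.AschSp.mem_quadKer, hquad_single]
    exact hi₀
  -- V is nonzero
  obtain ⟨u₀, hu₀V, hu₀⟩ : ∃ u : Fin d → F, u ∈ V ∧ u ≠ 0 := by
    obtain ⟨j₀, hj₀⟩ : ∃ j : Fin d, j ≠ i₀ := by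
      by_cases h0 : i₀ = ⟨0, by omega⟩
      · exact ⟨⟨1, by omega⟩, by rw [h0]; simp [Fin.ext_iff]⟩
      · exact ⟨⟨0, by omega⟩, fun h => h0 h.symm⟩
    obtain ⟨c, hc⟩ := hsqrt (J₁ j₀ j₀ / J₁ i₀ i₀)
    refine ⟨c • Pi.single i₀ 1 + Pi.single j₀ 1, ?_, ?_⟩
    · rw [hV, Cfsg.Agent.Lib.Helper6.AschSp.mem_quadKer,
        Cfsg.Agent.Lib.Helper6.AschSp.quad_add_of_two_eq_zero J₁ hJ h2,
        Cfsg.Agent.Lib.Helper6.AschSp.quad_smul, hquad_single, hquad_single, hc, div_mul_cancel₀ _ hi₀]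
      linear_combination (J₁ j₀ j₀) * h2
    · intro h
      have := congrFun h j₀
      simp [hj₀] at this
  -- the subspace
  set W' : Submodule F (Fin d × Fin e → F) := Cfsg.Agent.Lib.Helper6.AschSp.sectionSub (e := e) V with hW'
  set L : (Fin d × Fin e → F) →ₗ[F] (Fin n → F) :=
    (Matrix.toLin' ((B⁻¹ : GL (Fin n) F) : Matrix (Fin n) (Fin n) F)).comp (LinearMap.funLeft F F idx) with hL
  have hLapp : ∀ x, L x = ((B⁻¹ : GL (Fin n) F) : Matrix (Fin n) (Fin n) F) *ᵥ (x ∘ idx) := by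
    intro x
    simp [hL, LinearMap.funLeft]
  have hLinj : Function.Injective L := by
    intro x y hxy
    rw [hLapp, hLapp] at hxy
    have h1 : (B : Matrix (Fin n) (Fin n) F) *ᵥ (((B⁻¹ : GL (Fin n) F) : Matrix (Fin n) (Fin n) F) *ᵥ (x ∘ idx)) =
        (B : Matrix (Fin n) (Fin n) F) *ᵥ (((B⁻¹ : GL (Fin n) F) : Matrix (Fin n) (Fin n) F) *ᵥ (y ∘ idx)) := by
      rw [hxy]
    rw [Matrix.mulVec_mulVec, Matrix.mulVec_mulVec, ← Units.val_mul, mul_inv_cancel, Units.val_one,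
      Matrix.one_mulVec, Matrix.one_mulVec] at h1
    funext p
    have := congrFun h1 (idx.symm p)
    simpa using this
  intro hirr
  have hk₀ : 0 < e := he
  have hinv : ∀ s ∈ matrixSet H, (W'.map L).map (Matrix.toLin' s) ≤ W'.map L := by
    rintro s ⟨h, hh, rfl⟩
    obtain ⟨a, b, c, hab, hc0, h1, h2'⟩ := tensorFormData_similitude H hH idx B J₁ C hD h hh
    rintro v ⟨w, ⟨x, hx, rfl⟩, rfl⟩
    refine ⟨((a : Matrix (Fin d) (Fin d) F) ⊗ₖ (b : Matrix (Fin e) (Fin e) F)) *ᵥ x, ?_, ?_⟩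
    · exact Cfsg.Agent.Lib.Helper6.AschSp.kronecker_mulVec_mem_sectionSub V _ _
        (fun u hu => Cfsg.Agent.Lib.Helper6.AschSp.mulVec_mem_quadKer J₁ hJ h2 _ c h1 u hu) x hx
    · rw [hLapp, hLapp, Matrix.toLin'_apply, ← Cfsg.Agent.Lib.Helper6.AschSp.reindex_mulVec_comp, ← hab,
        Matrix.mulVec_mulVec, Matrix.mulVec_mulVec]
      congr 1
      have : (B⁻¹ * (B * h * B⁻¹) : GL (Fin n) F) = h * B⁻¹ := by group
      rw [← Units.val_mul, ← Units.val_mul, this]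
  rcases hirr (W'.map L) hinv with hbot | htop
  · -- W ≠ ⊥
    have hx : (fun p : Fin d × Fin e => u₀ p.1) ∈ W' := by
      intro k
      exact hu₀V
    have hLx : L (fun p : Fin d × Fin e => u₀ p.1) ∈ W'.map L := Submodule.mem_map_of_mem hx
    rw [hbot, Submodule.mem_bot] at hLx
    have hzero := hLinj (hLx.trans (map_zero L).symm)
    apply hu₀
    funext i
    exact congrFun hzero (i, ⟨0, hk₀⟩)
  · -- W ≠ ⊤
    have hmem : L (fun p : Fin d × Fin e => (Pi.single i₀ (1 : F) : Fin d → F) p.1) ∈ W'.map L := by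
      rw [htop]; exact Submodule.mem_top
    obtain ⟨x, hx, hxe⟩ := hmem
    have hxeq := hLinj hxe
    apply hVtop
    have := hx ⟨0, hk₀⟩
    rw [hxeq] at this
    exact this

end Cfsg.Agent.Lib.Helper23.AschSp
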