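import Mathlib
import Cfsg.Prelude.Def_GeometricClasses
import Cfsg.Agent.Lib.Helper99.AschDefs
import Cfsg.Agent.Lib.Helper23.AschSpDefs
import Cfsg.Agent.Lib.Helper6.AschSpTdSim
import Cfsg.Agent.Lib.Helper10.AschSpC2BOdd

/-!
# ASCHSP-[C4-TWO-ISO] (helper6): tensor decomposition with second factor a hyperbolic plane, `|F|` odd.

The two isotropic lines `F w₁`, `F w₂` of the plane are fixed or swapped by the similitudes of `C`, so `H`
permutes the two totally singular subspaces `D i = {B⁻¹ ((u ⊗ wᵢ) ∘ idx)}`; then ASCHSP-[C2B-ODD] applies.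
-/

set_option autoImplicit false
set_option linter.unusedSectionVars false

namespace Cfsg.Agent.Lib.Helper6.AschSp

open Cfsg Cfsg.Geo Cfsg.Agent.Lib.Helper99.Asch Cfsg.Agent.Lib.Helper23.AschSp
open scoped MatrixGroups Matrix Kronecker

variable {F : Type*} [Field F]

/-- pure tensor `u ⊗ w` as a vector indexed by pairs -/
def pureT {d e : ℕ} (u : Fin d → F) (w : Fin e → F) : Fin d × Fin e → F := fun p => u p.1 * w p.2

theorem pureT_apply {d e : ℕ} (u : Fin d → F) (w : Fin e → F) (i : Fin d) (k : Fin e) :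
    pureT u w (i, k) = u i * w k := rfl

theorem pureT_add_left {d e : ℕ} (u v : Fin d → F) (w : Fin e → F) :
    pureT (u + v) w = pureT u w + pureT v w := by
  ext p; simp [pureT, add_mul]

theorem pureT_add_right {d e : ℕ} (u : Fin d → F) (w z : Fin e → F) :
    pureT u (w + z) = pureT u w + pureT u z := by
  ext p; simp [pureT, mul_add]

theorem pureT_smul_left {d e : ℕ} (c : F) (u : Fin d → F) (w : Fin e → F) :
    pureT (c • u) w = c • pureT u w := by
  ext p; simp [pureT, mul_assoc]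

theorem pureT_smul_right {d e : ℕ} (c : F) (u : Fin d → F) (w : Fin e → F) :
    pureT u (c • w) = c • pureT u w := by
  ext p; simp [pureT, mul_left_comm]

theorem kronecker_mulVec_pureT {d e : ℕ} (a : Matrix (Fin d) (Fin d) F) (b : Matrix (Fin e) (Fin e) F)
    (u : Fin d → F) (w : Fin e → F) :
    (a ⊗ₖ b) *ᵥ pureT u w = pureT (a *ᵥ u) (b *ᵥ w) := by
  ext ⟨i, k⟩
  simp only [pureT, Matrix.mulVec, dotProduct, Fintype.sum_prod_type, Matrix.kroneckerMap_apply,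
    Finset.sum_mul_sum]
  refine Finset.sum_congr rfl fun j _ => Finset.sum_congr rfl fun l _ => ?_
  ring

theorem pureT_dotProduct {d e : ℕ} (u v : Fin d → F) (w z : Fin e → F) :
    pureT u w ⬝ᵥ pureT v z = (u ⬝ᵥ v) * (w ⬝ᵥ z) := by
  simp only [pureT, dotProduct, Fintype.sum_prod_type, Finset.sum_mul_sum]
  refine Finset.sum_congr rfl fun j _ => Finset.sum_congr rfl fun l _ => ?_
  ring

theorem formOfGram_pureT {d e : ℕ} (J : Matrix (Fin d) (Fin d) F) (C : Matrix (Fin e) (Fin e) F)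
    (u v : Fin d → F) (w z : Fin e → F) :
    formOfGram id (J ⊗ₖ C) (pureT u w) (pureT v z) = (u ⬝ᵥ (J *ᵥ v)) * (w ⬝ᵥ (C *ᵥ z)) := by
  rw [formOfGram_id_eq, kronecker_mulVec_pureT, pureT_dotProduct]

/-- the linear map `u ↦ B⁻¹ ((u ⊗ w) ∘ idx)` -/
def tmap {n d e : ℕ} (idx : Fin n ≃ Fin d × Fin e) (B : GL (Fin n) F) (w : Fin e → F) :
    (Fin d → F) →ₗ[F] (Fin n → F) where
  toFun u := ((B⁻¹ : GL (Fin n) F) : Matrix (Fin n) (Fin n) F) *ᵥ (pureT u w ∘ idx)
  map_add' u v := by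
    rw [pureT_add_left]
    exact Matrix.mulVec_add _ _ _
  map_smul' c u := by
    rw [pureT_smul_left]
    exact Matrix.mulVec_smul _ _ _

theorem tmap_apply {n d e : ℕ} (idx : Fin n ≃ Fin d × Fin e) (B : GL (Fin n) F) (w : Fin e → F)
    (u : Fin d → F) :
    tmap idx B w u = ((B⁻¹ : GL (Fin n) F) : Matrix (Fin n) (Fin n) F) *ᵥ (pureT u w ∘ idx) := rfl

theorem tmap_smul {n d e : ℕ} (idx : Fin n ≃ Fin d × Fin e) (B : GL (Fin n) F) (c : F) (w : Fin e → F)
    (u : Fin d → F) : tmap idx B (c • w) u = tmap idx B w (c • u) := by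
  rw [tmap_apply, tmap_apply, pureT_smul_right, pureT_smul_left]

theorem range_tmap_smul {n d e : ℕ} (idx : Fin n ≃ Fin d × Fin e) (B : GL (Fin n) F) (c : F) (hc : c ≠ 0)
    (w : Fin e → F) : LinearMap.range (tmap (d := d) idx B (c • w)) = LinearMap.range (tmap (d := d) idx B w) := by
  ext v
  constructor
  · rintro ⟨u, rfl⟩
    exact ⟨c • u, (tmap_smul idx B c w u).symm⟩
  · rintro ⟨u, rfl⟩
    refine ⟨c⁻¹ • u, ?_⟩
    rw [tmap_smul, smul_smul, mul_inv_cancel₀ hc, one_smul]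

/-- how `h` moves `tmap` when `B h B⁻¹ = reindex (a ⊗ₖ b)` -/
theorem toLin'_tmap {n d e : ℕ} (idx : Fin n ≃ Fin d × Fin e) (B h : GL (Fin n) F)
    (a : Matrix (Fin d) (Fin d) F) (b : Matrix (Fin e) (Fin e) F)
    (hab : ((B * h * B⁻¹ : GL (Fin n) F) : Matrix (Fin n) (Fin n) F) =
      Matrix.reindex idx.symm idx.symm (a ⊗ₖ b)) (w : Fin e → F) (u : Fin d → F) :
    Matrix.toLin' (h : Matrix (Fin n) (Fin n) F) (tmap idx B w u) = tmap idx B (b *ᵥ w) (a *ᵥ u) := by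
  rw [tmap_apply, tmap_apply, Matrix.toLin'_apply, ← kronecker_mulVec_pureT, ← reindex_mulVec_comp, ← hab,
    Matrix.mulVec_mulVec, Matrix.mulVec_mulVec]
  congr 1
  have : (B⁻¹ * (B * h * B⁻¹) : GL (Fin n) F) = h * B⁻¹ := by group
  rw [← Units.val_mul, ← Units.val_mul, this]

theorem map_range_tmap {n d e : ℕ} (idx : Fin n ≃ Fin d × Fin e) (B h : GL (Fin n) F)
    (a : GL (Fin d) F) (b : Matrix (Fin e) (Fin e) F)
    (hab : ((B * h * B⁻¹ : GL (Fin n) F) : Matrix (Fin n) (Fin n) F) =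
      Matrix.reindex idx.symm idx.symm ((a : Matrix (Fin d) (Fin d) F) ⊗ₖ b)) (w : Fin e → F) :
    (LinearMap.range (tmap (d := d) idx B w)).map (Matrix.toLin' (h : Matrix (Fin n) (Fin n) F)) =
      LinearMap.range (tmap (d := d) idx B (b *ᵥ w)) := by
  ext v
  constructor
  · rintro ⟨_, ⟨u, rfl⟩, rfl⟩
    exact ⟨(a : Matrix (Fin d) (Fin d) F) *ᵥ u, (toLin'_tmap idx B h _ b hab w u).symm⟩
  · rintro ⟨u, rfl⟩
    refine ⟨tmap idx B w (((a⁻¹ : GL (Fin d) F) : Matrix (Fin d) (Fin d) F) *ᵥ u), ⟨_, rfl⟩, ?_⟩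
    rw [toLin'_tmap idx B h _ b hab, Matrix.mulVec_mulVec, ← Units.val_mul, mul_inv_cancel, Units.val_one,
      Matrix.one_mulVec]

theorem tmap_injective {n d e : ℕ} (idx : Fin n ≃ Fin d × Fin e) (B : GL (Fin n) F) (w : Fin e → F)
    (k : Fin e) (hk : w k ≠ 0) : Function.Injective (tmap (d := d) idx B w) := by
  intro u v huv
  rw [tmap_apply, tmap_apply] at huv
  have h1 : (B : Matrix (Fin n) (Fin n) F) *ᵥ
      (((B⁻¹ : GL (Fin n) F) : Matrix (Fin n) (Fin n) F) *ᵥ (pureT u w ∘ idx)) =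
      (B : Matrix (Fin n) (Fin n) F) *ᵥ
      (((B⁻¹ : GL (Fin n) F) : Matrix (Fin n) (Fin n) F) *ᵥ (pureT v w ∘ idx)) := by
    rw [huv]
  rw [Matrix.mulVec_mulVec, Matrix.mulVec_mulVec, ← Units.val_mul, mul_inv_cancel, Units.val_one,
    Matrix.one_mulVec, Matrix.one_mulVec] at h1
  funext i
  have := congrFun h1 (idx.symm (i, k))
  simp only [Function.comp_apply, Equiv.apply_symm_apply, pureT_apply] at this
  exact mul_right_cancel₀ hk this

/-- every vector is `B⁻¹ (x ∘ idx)` -/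
theorem exists_eq_mulVec_comp {n : ℕ} {κ : Type} (idx : Fin n ≃ κ) (B : GL (Fin n) F) (v : Fin n → F) :
    ∃ x : κ → F, v = ((B⁻¹ : GL (Fin n) F) : Matrix (Fin n) (Fin n) F) *ᵥ (x ∘ idx) := by
  refine ⟨((B : Matrix (Fin n) (Fin n) F) *ᵥ v) ∘ idx.symm, ?_⟩
  have : (((B : Matrix (Fin n) (Fin n) F) *ᵥ v) ∘ idx.symm) ∘ idx = (B : Matrix (Fin n) (Fin n) F) *ᵥ v := by
    funext i; simp
  rw [this, Matrix.mulVec_mulVec, ← Units.val_mul, inv_mul_cancel, Units.val_one, Matrix.one_mulVec]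

end Cfsg.Agent.Lib.Helper6.AschSp

namespace Cfsg.Agent.Lib.Helper23.AschSp

open Cfsg Cfsg.Geo Cfsg.Agent.Lib.Helper99.Asch
open scoped MatrixGroups Matrix Kronecker

variable {n m : ℕ} {F : Type*} [Field F] [Fintype F] {f : (Fin n → F) → (Fin n → F) → F}

open Cfsg.Agent.Lib.Helper6.AschSp in
/-- ASCHSP-[C4-TWO-ISO] -/
theorem sgeo_of_tensor_two_isotropic (hf : IsSymplecticForm f) (hnm : n = 2 * m) (hodd : Odd (Fintype.card F))
    (H : Subgroup (GL (Fin n) F)) (hH : H ≤ isoGL f) {d : ℕ} (hd : 1 ≤ d)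
    (idx : Fin n ≃ Fin d × Fin 2) (B : GL (Fin n) F) (J₁ : Matrix (Fin d) (Fin d) F) (C : Matrix (Fin 2) (Fin 2) F)
    (hD : TensorFormData f H d 2 idx B J₁ C) (hC : Cᵀ = C)
    (hw : ∃ w : Fin 2 → F, w ≠ 0 ∧ w ⬝ᵥ (C *ᵥ w) = 0) : SGeo m f H := by
  classical
  -- characteristic ≠ 2
  have h2 : (2 : F) ≠ 0 := by
    intro h
    have hchar : ringChar F = 2 := by
      have := ringChar.charP F
      have h2' : ((2 : ℕ) : F) = 0 := by exact_mod_cast h
      have hdvd := (ringChar.spec F 2).mp h2'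
      rcases (Nat.dvd_prime Nat.prime_two).mp hdvd with h1 | h1
      · exact absurd h1 (CharP.ringChar_ne_one)
      · exact h1
    have := (FiniteField.even_card_iff_char_two (F := F)).mp hchar
    rcases hodd with ⟨k, hk⟩
    omega
  obtain ⟨w₁, hw₁0, h11⟩ := hw
  have hsymm : ∀ x y : Fin 2 → F, x ⬝ᵥ (C *ᵥ y) = y ⬝ᵥ (C *ᵥ x) := by
    intro x y
    rw [Matrix.dotProduct_mulVec, ← Matrix.mulVec_transpose, hC, dotProduct_comm]
  -- a vector `w` with `w ⬝ C w₁ = 1`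
  have hCw₁ : C *ᵥ w₁ ≠ 0 := fun h => hw₁0 (Matrix.eq_zero_of_mulVec_eq_zero hD.det₂ h)
  obtain ⟨k, hk⟩ : ∃ k, (C *ᵥ w₁) k ≠ 0 := by
    by_contra hcon
    push Not at hcon
    exact hCw₁ (funext hcon)
  obtain ⟨w, hww₁⟩ : ∃ w : Fin 2 → F, w ⬝ᵥ (C *ᵥ w₁) = 1 := by
    refine ⟨((C *ᵥ w₁) k)⁻¹ • Pi.single k 1, ?_⟩
    rw [smul_dotProduct, single_dotProduct, one_mul, smul_eq_mul, inv_mul_cancel₀ hk]
  obtain ⟨w₂, h12, h22⟩ : ∃ w₂ : Fin 2 → F, w₁ ⬝ᵥ (C *ᵥ w₂) = 1 ∧ w₂ ⬝ᵥ (C *ᵥ w₂) = 0 := by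
    refine ⟨w - ((w ⬝ᵥ (C *ᵥ w)) / 2) • w₁, ?_, ?_⟩
    · rw [Matrix.mulVec_sub, Matrix.mulVec_smul, dotProduct_sub, dotProduct_smul, h11, hsymm w₁ w, hww₁]
      simp
    · simp only [Matrix.mulVec_sub, Matrix.mulVec_smul, dotProduct_sub, dotProduct_smul, sub_dotProduct,
        smul_dotProduct, smul_eq_mul, h11, hsymm w₁ w, hww₁]
      field_simp
      ring
  have h21 : w₂ ⬝ᵥ (C *ᵥ w₁) = 1 := by rw [hsymm, h12]
  -- bilinear expansion
  have hbil : ∀ α β α' β' : F, (α • w₁ + β • w₂) ⬝ᵥ (C *ᵥ (α' • w₁ + β' • w₂)) = α * β' + β * α' := by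
    intro α β α' β'
    simp only [Matrix.mulVec_add, Matrix.mulVec_smul, add_dotProduct, dotProduct_add, smul_dotProduct,
      dotProduct_smul, smul_eq_mul, h11, h12, h21, h22]
    ring
  -- the matrix with columns `w₁`, `w₂`
  set P : Matrix (Fin 2) (Fin 2) F := Matrix.of fun k j => (![w₁, w₂] j) k with hP
  have hPmul : ∀ z : Fin 2 → F, P *ᵥ z = z 0 • w₁ + z 1 • w₂ := by
    intro z
    ext k
    simp [hP, Matrix.mulVec, dotProduct, Fin.sum_univ_two, mul_comm]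
  have hPdet : P.det ≠ 0 := by
    intro hdet
    obtain ⟨z, hz0, hz⟩ := (Matrix.exists_mulVec_eq_zero_iff (M := P)).mpr hdet
    rw [hPmul] at hz
    apply hz0
    have e1 : w₂ ⬝ᵥ (C *ᵥ (z 0 • w₁ + z 1 • w₂)) = z 0 := by
      have := hbil 0 1 (z 0) (z 1)
      simpa using this
    have e2 : w₁ ⬝ᵥ (C *ᵥ (z 0 • w₁ + z 1 • w₂)) = z 1 := by
      have := hbil 1 0 (z 0) (z 1)
      simpa using this
    rw [hz] at e1 e2
    funext j
    fin_cases j
    · simpa using e1.symm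
    · simpa using e2.symm
  have hspan : ∀ x : Fin 2 → F, ∃ α β : F, x = α • w₁ + β • w₂ := by
    intro x
    refine ⟨(P⁻¹ *ᵥ x) 0, (P⁻¹ *ᵥ x) 1, ?_⟩
    rw [← hPmul, Matrix.mulVec_mulVec, Matrix.mul_nonsing_inv _ (Ne.isUnit hPdet), Matrix.one_mulVec]
  have hw₂0 : w₂ ≠ 0 := by
    intro h
    rw [h] at h12
    simp at h12
  -- the decomposition
  set wv : Fin 2 → (Fin 2 → F) := ![w₁, w₂] with hwv
  set D : Fin 2 → Submodule F (Fin n → F) := fun i => LinearMap.range (tmap (d := d) idx B (wv i)) with hDdef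
  have hwv0 : ∀ i, wv i ≠ 0 := by
    intro i; fin_cases i
    · exact hw₁0
    · exact hw₂0
  have hwvq : ∀ i, wv i ⬝ᵥ (C *ᵥ wv i) = 0 := by
    intro i; fin_cases i
    · exact h11
    · exact h22
  have hne : ∀ i, D i ≠ ⊥ := by
    intro i hbot
    obtain ⟨k, hk⟩ : ∃ k, wv i k ≠ 0 := by
      by_contra hcon
      push Not at hcon
      exact hwv0 i (funext hcon)
    have hmem : tmap (d := d) idx B (wv i) (Pi.single ⟨0, hd⟩ 1) ∈ D i := ⟨_, rfl⟩
    rw [hbot, Submodule.mem_bot] at hmem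
    have := tmap_injective idx B (wv i) k hk (hmem.trans (map_zero _).symm)
    have h0 := congrFun this ⟨0, hd⟩
    simp at h0
  have hdisj : Disjoint (D 0) (D 1) := by
    rw [Submodule.disjoint_def]
    rintro v ⟨u, hu⟩ ⟨u', hu'⟩
    -- `u ⊗ w₁ = u' ⊗ w₂`
    have heq : tmap (d := d) idx B w₁ u = tmap (d := d) idx B w₂ u' := by
      have e0 : wv 0 = w₁ := rfl
      have e1 : wv 1 = w₂ := rfl
      rw [← e0, ← e1]
      exact hu.trans hu'.symm
    rw [tmap_apply, tmap_apply] at heq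
    have h1 : (B : Matrix (Fin n) (Fin n) F) *ᵥ
        (((B⁻¹ : GL (Fin n) F) : Matrix (Fin n) (Fin n) F) *ᵥ (pureT u w₁ ∘ idx)) =
        (B : Matrix (Fin n) (Fin n) F) *ᵥ
        (((B⁻¹ : GL (Fin n) F) : Matrix (Fin n) (Fin n) F) *ᵥ (pureT u' w₂ ∘ idx)) := by
      rw [heq]
    rw [Matrix.mulVec_mulVec, Matrix.mulVec_mulVec, ← Units.val_mul, mul_inv_cancel, Units.val_one,
      Matrix.one_mulVec, Matrix.one_mulVec] at h1
    have hu0 : u = 0 := by
      funext i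
      have hvec : u i • w₁ = u' i • w₂ := by
        funext k
        have := congrFun h1 (idx.symm (i, k))
        simpa [pureT_apply] using this
      have e1 : w₂ ⬝ᵥ (C *ᵥ (u i • w₁)) = u i := by
        rw [Matrix.mulVec_smul, dotProduct_smul, h21]; simp
      have e2 : w₂ ⬝ᵥ (C *ᵥ (u' i • w₂)) = 0 := by
        rw [Matrix.mulVec_smul, dotProduct_smul, h22]; simp
      rw [hvec, e2] at e1
      exact e1.symm
    rw [← hu]
    have e0 : wv 0 = w₁ := rfl
    rw [e0, hu0, map_zero]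
  have hind : iSupIndep D := by
    rw [iSupIndep_pair (i := (0 : Fin 2)) (j := 1) (by decide) (by decide)]
    exact hdisj
  have htop : iSup D = ⊤ := by
    rw [eq_top_iff]
    intro v _
    obtain ⟨x, rfl⟩ := exists_eq_mulVec_comp idx B v
    -- coefficients of the sections of `x`
    choose α β hαβ using fun i : Fin d => hspan (fun k => x (i, k))
    have hx : x = pureT α w₁ + pureT β w₂ := by
      funext ⟨i, k⟩
      have := congrFun (hαβ i) k
      simp only [Pi.add_apply, Pi.smul_apply, smul_eq_mul] at this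
      simp only [Pi.add_apply, pureT_apply]
      exact this
    have hsum : ((B⁻¹ : GL (Fin n) F) : Matrix (Fin n) (Fin n) F) *ᵥ (x ∘ idx) =
        tmap idx B w₁ α + tmap idx B w₂ β := by
      rw [tmap_apply, tmap_apply, ← Matrix.mulVec_add, hx]
      rfl
    rw [hsum]
    refine Submodule.add_mem _ ?_ ?_
    · exact (le_iSup D 0) ⟨α, rfl⟩
    · exact (le_iSup D 1) ⟨β, rfl⟩
  have hsing : ∀ i, IsTotallySingularFor f (D i) := by
    rintro i _ ⟨u, rfl⟩ _ ⟨u', rfl⟩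
    rw [tmap_apply, tmap_apply, hD.gram, formOfGram_pureT, hwvq i, mul_zero]
  have hperm : ∀ h ∈ H, ∃ σ : Equiv.Perm (Fin 2), ∀ i,
      (D i).map (Matrix.toLin' (h : Matrix (Fin n) (Fin n) F)) = D (σ i) := by
    intro h hh
    obtain ⟨a, b, c, hab, hc0, _, hb⟩ := tensorFormData_similitude H hH idx B J₁ C hD h hh
    have hbform : ∀ x y : Fin 2 → F,
        ((b : Matrix (Fin 2) (Fin 2) F) *ᵥ x) ⬝ᵥ (C *ᵥ ((b : Matrix (Fin 2) (Fin 2) F) *ᵥ y)) =
          c⁻¹ * (x ⬝ᵥ (C *ᵥ y)) := by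
      intro x y
      have : ((b : Matrix (Fin 2) (Fin 2) F) *ᵥ x) ⬝ᵥ (C *ᵥ ((b : Matrix (Fin 2) (Fin 2) F) *ᵥ y)) =
          x ⬝ᵥ (((b : Matrix (Fin 2) (Fin 2) F)ᵀ * C * (b : Matrix (Fin 2) (Fin 2) F)) *ᵥ y) := by
        rw [← Matrix.mulVec_mulVec, ← Matrix.mulVec_mulVec,
          Matrix.dotProduct_mulVec x (b : Matrix (Fin 2) (Fin 2) F)ᵀ, Matrix.vecMul_transpose]
      rw [this, hb, Matrix.smul_mulVec, dotProduct_smul, smul_eq_mul]
    obtain ⟨α, β, h1⟩ := hspan ((b : Matrix (Fin 2) (Fin 2) F) *ᵥ w₁)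
    obtain ⟨α', β', h2'⟩ := hspan ((b : Matrix (Fin 2) (Fin 2) F) *ᵥ w₂)
    have q1 : α * β + β * α = 0 := by
      rw [← hbil α β α β, ← h1, hbform, h11, mul_zero]
    have q2 : α' * β' + β' * α' = 0 := by
      rw [← hbil α' β' α' β', ← h2', hbform, h22, mul_zero]
    have q12 : α * β' + β * α' = c⁻¹ := by
      rw [← hbil α β α' β', ← h1, ← h2', hbform, h12, mul_one]
    have hcinv : c⁻¹ ≠ 0 := inv_ne_zero hc0
    have q1' : α * β = 0 := by
      have : 2 * (α * β) = 0 := by linear_combination q1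
      exact (mul_eq_zero.mp this).resolve_left h2
    have q2' : α' * β' = 0 := by
      have : 2 * (α' * β') = 0 := by linear_combination q2
      exact (mul_eq_zero.mp this).resolve_left h2
    have hmap : ∀ i, (D i).map (Matrix.toLin' (h : Matrix (Fin n) (Fin n) F)) =
        LinearMap.range (tmap (d := d) idx B ((b : Matrix (Fin 2) (Fin 2) F) *ᵥ wv i)) := by
      intro i
      exact map_range_tmap idx B h a (b : Matrix (Fin 2) (Fin 2) F) hab (wv i)
    rcases mul_eq_zero.mp q1' with hα | hβ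
    · -- swap
      have hβα' : β * α' = c⁻¹ := by rw [← q12, hα, zero_mul, zero_add]
      have hβ0 : β ≠ 0 := fun h0 => hcinv (by rw [← hβα', h0, zero_mul])
      have hα'0 : α' ≠ 0 := fun h0 => hcinv (by rw [← hβα', h0, mul_zero])
      have hβ'0 : β' = 0 := (mul_eq_zero.mp q2').resolve_left hα'0
      refine ⟨Equiv.swap 0 1, ?_⟩
      intro i
      rw [hmap]
      fin_cases i
      · have : (b : Matrix (Fin 2) (Fin 2) F) *ᵥ wv ((fun i => i) ⟨0, by decide⟩) = β • w₂ := by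
          show (b : Matrix (Fin 2) (Fin 2) F) *ᵥ w₁ = β • w₂
          rw [h1, hα, zero_smul, zero_add]
        rw [this, range_tmap_smul idx B β hβ0]
        rfl
      · have : (b : Matrix (Fin 2) (Fin 2) F) *ᵥ wv ((fun i => i) ⟨1, by decide⟩) = α' • w₁ := by
          show (b : Matrix (Fin 2) (Fin 2) F) *ᵥ w₂ = α' • w₁
          rw [h2', hβ'0, zero_smul, add_zero]
        rw [this, range_tmap_smul idx B α' hα'0]
        rfl
    · -- identity
      have hαβ' : α * β' = c⁻¹ := by rw [← q12, hβ, zero_mul, add_zero]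
      have hα0 : α ≠ 0 := fun h0 => hcinv (by rw [← hαβ', h0, zero_mul])
      have hβ'0 : β' ≠ 0 := fun h0 => hcinv (by rw [← hαβ', h0, mul_zero])
      have hα'0 : α' = 0 := (mul_eq_zero.mp q2').resolve_right hβ'0
      refine ⟨1, ?_⟩
      intro i
      rw [hmap]
      fin_cases i
      · have : (b : Matrix (Fin 2) (Fin 2) F) *ᵥ wv ((fun i => i) ⟨0, by decide⟩) = α • w₁ := by
          show (b : Matrix (Fin 2) (Fin 2) F) *ᵥ w₁ = α • w₁
          rw [h1, hβ, zero_smul, add_zero]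
        rw [this, range_tmap_smul idx B α hα0]
        rfl
      · have : (b : Matrix (Fin 2) (Fin 2) F) *ᵥ wv ((fun i => i) ⟨1, by decide⟩) = β' • w₂ := by
          show (b : Matrix (Fin 2) (Fin 2) F) *ᵥ w₂ = β' • w₂
          rw [h2', hα'0, zero_smul, zero_add]
        rw [this, range_tmap_smul idx B β' hβ'0]
        rfl
  exact sgeo_of_singular_pair_odd hf hnm hodd H hH D hne hind htop hperm hsing

end Cfsg.Agent.Lib.Helper23.AschSp
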