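import Mathlib

/-!
# S3086 (helper26's proof, section 4 ENDGAME), step (E5): the pure ring theory (helper6)

* `not_quadratic_of_three_le`, `le_two_of_forall_quadratic`: if every element of `M_n(F)` is a root of a
  monic quadratic polynomial with scalar coefficients then `n ≤ 2`.
* `cayley_hamilton_two`, `quad_unique`: a non-scalar `2 × 2` matrix is a root of exactly one monic
  quadratic with scalar coefficients, its characteristic polynomial.
* `central_of_swapped_idempotent`: if the anti-automorphism `σ` maps the central idempotent `e` to a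
  central idempotent orthogonal to it and `x + σ x` is always central, then `e A` is commutative.
* `sigma_eq_self_of_central`: `σ` is the identity on the centre as soon as some element is "non-scalar".
-/

set_option autoImplicit false

namespace Cfsg.Agent.Lib.Helper6.PGV

open Matrix

section quadratic

variable {F : Type*} [Field F]

/-- (E5-a) for `n ≥ 3` the matrix `E₀₁ + E₁₂` is not a root of a monic quadratic with scalar
coefficients. -/
theorem not_quadratic_of_three_le {n : ℕ} (hn : 3 ≤ n) :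
    ∃ ξ : Matrix (Fin n) (Fin n) F, ∀ s t : F, ξ * ξ + s • ξ + t • (1 : Matrix (Fin n) (Fin n) F) ≠ 0 := by
  set i0 : Fin n := ⟨0, by omega⟩ with hi0
  set i1 : Fin n := ⟨1, by omega⟩ with hi1
  set i2 : Fin n := ⟨2, by omega⟩ with hi2
  have h01 : i0 ≠ i1 := by simp [hi0, hi1, Fin.ext_iff]
  have h02 : i0 ≠ i2 := by simp [hi0, hi2, Fin.ext_iff]
  have h12 : i1 ≠ i2 := by simp [hi1, hi2, Fin.ext_iff]
  let ξ : Matrix (Fin n) (Fin n) F :=
    Matrix.of fun a b => if (a = i0 ∧ b = i1) ∨ (a = i1 ∧ b = i2) then 1 else 0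
  refine ⟨ξ, fun s t h => ?_⟩
  have hξ02 : ξ i0 i2 = 0 := by
    simp only [ξ, Matrix.of_apply]
    rw [if_neg]
    rintro (⟨_, h⟩ | ⟨h, _⟩)
    · exact h12 h.symm
    · exact h01 h
  have hsq : (ξ * ξ) i0 i2 = 1 := by
    rw [Matrix.mul_apply, Finset.sum_eq_single i1]
    · have ha : ξ i0 i1 = 1 := by simp [ξ]
      have hb : ξ i1 i2 = 1 := by simp [ξ]
      rw [ha, hb, mul_one]
    · intro k _ hk
      have : ξ i0 k = 0 := by
        simp only [ξ, Matrix.of_apply]
        rw [if_neg]
        rintro (⟨_, h⟩ | ⟨h, _⟩)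
        · exact hk h
        · exact h01 h
      rw [this, zero_mul]
    · intro h; exact absurd (Finset.mem_univ _) h
  have h1 : (1 : Matrix (Fin n) (Fin n) F) i0 i2 = 0 := Matrix.one_apply_ne h02
  have := congrFun (congrFun h i0) i2
  simp only [Matrix.add_apply, Matrix.smul_apply, Matrix.zero_apply, hsq, hξ02, h1, smul_eq_mul,
    mul_zero, add_zero] at this
  exact one_ne_zero this

/-- (E5-a), the form used: if every matrix is quadratic over the scalars then `n ≤ 2`. -/
theorem le_two_of_forall_quadratic {n : ℕ}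
    (h : ∀ ξ : Matrix (Fin n) (Fin n) F, ∃ s t : F,
      ξ * ξ + s • ξ + t • (1 : Matrix (Fin n) (Fin n) F) = 0) : n ≤ 2 := by
  by_contra hn
  obtain ⟨ξ, hξ⟩ := not_quadratic_of_three_le (F := F) (n := n) (by omega)
  obtain ⟨s, t, hst⟩ := h ξ
  exact hξ s t hst

/-- `a • M + b • 1 = 0` with `a ≠ 0` makes `M` scalar. -/
theorem eq_smul_one_of_smul_add {n : ℕ} (M : Matrix (Fin n) (Fin n) F) (a b : F) (ha : a ≠ 0)
    (h : a • M + b • (1 : Matrix (Fin n) (Fin n) F) = 0) :
    M = (-a⁻¹ * b) • (1 : Matrix (Fin n) (Fin n) F) := by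
  have h2 : a • M = -(b • (1 : Matrix (Fin n) (Fin n) F)) := eq_neg_of_add_eq_zero_left h
  calc M = a⁻¹ • (a • M) := by rw [smul_smul, inv_mul_cancel₀ ha, one_smul]
    _ = (-a⁻¹ * b) • (1 : Matrix (Fin n) (Fin n) F) := by
        rw [h2, smul_neg, smul_smul, ← neg_smul, neg_mul]

/-- Cayley–Hamilton for `2 × 2` matrices, written out. -/
theorem cayley_hamilton_two (ξ : Matrix (Fin 2) (Fin 2) F) :
    ξ * ξ + (-ξ.trace) • ξ + ξ.det • (1 : Matrix (Fin 2) (Fin 2) F) = 0 := by
  ext i j
  fin_cases i <;> fin_cases j <;>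
    simp [Matrix.mul_apply, Fin.sum_univ_two, Matrix.trace, Matrix.det_fin_two] <;> ring

/-- (E5-b) a non-scalar `2 × 2` matrix is a root of only one monic quadratic with scalar coefficients:
its characteristic polynomial. -/
theorem quad_unique (ξ : Matrix (Fin 2) (Fin 2) F)
    (hns : ∀ c : F, ξ ≠ c • (1 : Matrix (Fin 2) (Fin 2) F)) (s t : F)
    (h : ξ * ξ + s • ξ + t • (1 : Matrix (Fin 2) (Fin 2) F) = 0) :
    s = -ξ.trace ∧ t = ξ.det := by
  have hch := cayley_hamilton_two ξ
  have hdiff : (s + ξ.trace) • ξ + (t - ξ.det) • (1 : Matrix (Fin 2) (Fin 2) F) = 0 := by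
    have : (s + ξ.trace) • ξ + (t - ξ.det) • (1 : Matrix (Fin 2) (Fin 2) F)
        = (ξ * ξ + s • ξ + t • (1 : Matrix (Fin 2) (Fin 2) F))
          - (ξ * ξ + (-ξ.trace) • ξ + ξ.det • (1 : Matrix (Fin 2) (Fin 2) F)) := by
      simp only [add_smul, sub_smul, neg_smul]
      abel
    rw [this, h, hch, sub_zero]
  have hs : s + ξ.trace = 0 := by
    by_contra hne
    exact hns _ (eq_smul_one_of_smul_add ξ _ _ hne hdiff)
  refine ⟨eq_neg_of_add_eq_zero_left hs, ?_⟩
  rw [hs, zero_smul, zero_add] at hdiff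
  have := congrFun (congrFun hdiff 0) 0
  simp only [Matrix.smul_apply, Matrix.one_apply_eq, smul_eq_mul, mul_one, Matrix.zero_apply] at this
  exact sub_eq_zero.1 this

/-- for a non-scalar `2 × 2` matrix, the "trace" `T ξ` of any quadratic relation
`ξ² - T ξ + N = 0` is the matrix trace. -/
theorem trace_eq_of_quadratic (ξ : Matrix (Fin 2) (Fin 2) F)
    (hns : ∀ c : F, ξ ≠ c • (1 : Matrix (Fin 2) (Fin 2) F)) (T N : F)
    (h : ξ * ξ - T • ξ + N • (1 : Matrix (Fin 2) (Fin 2) F) = 0) : T = ξ.trace ∧ N = ξ.det := by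
  have h' : ξ * ξ + (-T) • ξ + N • (1 : Matrix (Fin 2) (Fin 2) F) = 0 := by
    rw [neg_smul, ← sub_eq_add_neg]; exact h
  obtain ⟨h1, h2⟩ := quad_unique ξ hns (-T) N h'
  exact ⟨neg_injective h1, h2⟩

/-- a scalar multiple `c • ξ` of a non-scalar matrix is scalar only for `c = 0` (any size). -/
theorem eq_zero_of_smul_scalar {n : ℕ} (ξ : Matrix (Fin n) (Fin n) F)
    (hns : ∀ c : F, ξ ≠ c • (1 : Matrix (Fin n) (Fin n) F)) (c d : F)
    (h : c • ξ = d • (1 : Matrix (Fin n) (Fin n) F)) : c = 0 := by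
  by_contra hc
  apply hns (c⁻¹ * d)
  have : ξ = c⁻¹ • (c • ξ) := by rw [smul_smul, inv_mul_cancel₀ hc, one_smul]
  rw [this, h, smul_smul]

end quadratic

section ring

variable {A : Type*} [Ring A]

/-- (E5, first part) `σ` an anti-endomorphism with all `x + σ x` central; `e` a central idempotent
whose image `σ e` is orthogonal to it.  Then every `x` in the block `e A` is central: the block is
commutative. -/
theorem central_of_swapped_idempotent (σ : A → A) (hmul : ∀ x y, σ (x * y) = σ y * σ x)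
    (hT : ∀ x, x + σ x ∈ Subring.center A) (e : A) (he : e ∈ Subring.center A)
    (horth : e * σ e = 0) (x : A) (hx : e * x = x) : x ∈ Subring.center A := by
  have hcomm : ∀ y, e * y = y * e := fun y => (Subring.mem_center_iff.1 he y).symm
  have h1 : σ x = σ x * σ e := by
    conv_lhs => rw [← hx]
    rw [hmul]
  have h2 : e * σ x = 0 := by
    rw [h1, ← mul_assoc, hcomm (σ x), mul_assoc, horth, mul_zero]
  have h3 : e * (x + σ x) = x := by rw [mul_add, hx, h2, add_zero]
  rw [← h3]
  exact Subring.mul_mem _ he (hT x)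

/-- (E5, last part) `σ` an additive anti-endomorphism with all `x + σ x` central, `ζ` and `σ ζ`
central, and `ξ` "non-scalar" in the sense that `c * ξ` is central for a central `c` only if
`c = 0`.  Then `σ ζ = ζ`. -/
theorem sigma_eq_self_of_central (σ : A → A) (hmul : ∀ x y, σ (x * y) = σ y * σ x)
    (hT : ∀ x, x + σ x ∈ Subring.center A) (ζ : A) (hζ : ζ ∈ Subring.center A)
    (hσζ : σ ζ ∈ Subring.center A) (ξ : A)
    (hξ : ∀ c ∈ Subring.center A, c * ξ ∈ Subring.center A → c = 0) : σ ζ = ζ := by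
  have hc : ζ - σ ζ ∈ Subring.center A := Subring.sub_mem _ hζ hσζ
  have hcomm : ∀ y, σ ζ * y = y * σ ζ := fun y => (Subring.mem_center_iff.1 hσζ y).symm
  have key : (ζ - σ ζ) * ξ = (ζ * ξ + σ (ζ * ξ)) - σ ζ * (ξ + σ ξ) := by
    rw [hmul, ← hcomm (σ ξ), sub_mul, mul_add]
    abel
  have hmem : (ζ - σ ζ) * ξ ∈ Subring.center A := by
    rw [key]
    exact Subring.sub_mem _ (hT _) (Subring.mul_mem _ hσζ (hT ξ))
  exact (sub_eq_zero.1 (hξ _ hc hmem)).symm

/-- the quadratic relation of (E4): with `T x = x + σ x` and `N x = x * σ x`,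
`x² - T(x) x + N(x) = 0` (needs only that `σ x` commutes with `x`, e.g. `T x` central). -/
theorem quad_relation (σ : A → A) (x : A) (hT : x + σ x ∈ Subring.center A) :
    x * x - (x + σ x) * x + x * σ x = 0 := by
  have h : (x + σ x) * x = x * (x + σ x) := (Subring.mem_center_iff.1 hT x).symm
  rw [h, mul_add]
  abel

end ring

end Cfsg.Agent.Lib.Helper6.PGV
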