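import Mathlib
import Cfsg.Prelude.Def_Sporadic_a

set_option autoImplicit false

namespace Cfsg.Agent.Lib.Helper6

open Finset Cfsg

variable {α : Type*} [Fintype α] [DecidableEq α]

open Classical in
/-- the blocks of `B` containing `J`, as a finset -/
noncomputable def blocksThrough (B : Set (Finset α)) (J : Finset α) : Finset (Finset α) :=
  Finset.univ.filter (fun b => b ∈ B ∧ J ⊆ b)

theorem mem_blocksThrough {B : Set (Finset α)} {J b : Finset α} :
    b ∈ blocksThrough B J ↔ b ∈ B ∧ J ⊆ b := by
  simp [blocksThrough]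

/-- all blocks, as a finset -/
noncomputable def blocksOf (B : Set (Finset α)) : Finset (Finset α) := blocksThrough B ∅

theorem mem_blocksOf {B : Set (Finset α)} {b : Finset α} : b ∈ blocksOf B ↔ b ∈ B := by
  simp [blocksOf, mem_blocksThrough]

theorem coe_blocksOf (B : Set (Finset α)) : (blocksOf B : Set (Finset α)) = B := by
  ext b; simp [mem_blocksOf]

theorem ncard_eq_card_blocksOf (B : Set (Finset α)) : B.ncard = (blocksOf B).card := by
  rw [← Set.ncard_coe_finset, coe_blocksOf]

theorem blocksOf_filter_subset (B : Set (Finset α)) (J : Finset α) :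
    (blocksOf B).filter (fun d => J ⊆ d) = blocksThrough B J := by
  ext d; simp [mem_blocksOf, mem_blocksThrough]

/-- double counting of pairs `(J, d)` with `J ∈ 𝒥`, `d` a block, `J ⊆ d`. -/
theorem sum_card_filter_subset (B : Set (Finset α)) (𝒥 : Finset (Finset α)) :
    ∑ d ∈ blocksOf B, (𝒥.filter (fun J => J ⊆ d)).card = ∑ J ∈ 𝒥, (blocksThrough B J).card := by
  have := Finset.sum_card_bipartiteAbove_eq_sum_card_bipartiteBelow (s := blocksOf B) (t := 𝒥)
    (r := fun d J => J ⊆ d)
  simp only [Finset.bipartiteAbove, Finset.bipartiteBelow] at this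
  rw [this]
  apply Finset.sum_congr rfl
  intro J _
  rw [blocksOf_filter_subset]

/-- same with blocks through a fixed set `I`. -/
theorem sum_card_filter_subset_through (B : Set (Finset α)) (I : Finset α) (𝒥 : Finset (Finset α)) :
    ∑ d ∈ blocksThrough B I, (𝒥.filter (fun J => J ⊆ d)).card =
      ∑ J ∈ 𝒥, ((blocksThrough B I).filter (fun d => J ⊆ d)).card := by
  have := Finset.sum_card_bipartiteAbove_eq_sum_card_bipartiteBelow (s := blocksThrough B I) (t := 𝒥)
    (r := fun d J => J ⊆ d)
  simpa only [Finset.bipartiteAbove, Finset.bipartiteBelow] using this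

/-- a `t`-set lies in exactly one block -/
theorem card_blocksThrough_eq_one {t k : ℕ} {B : Set (Finset α)} (hB : IsSteinerSystem t k B)
    {T : Finset α} (hT : T.card = t) : (blocksThrough B T).card = 1 := by
  obtain ⟨b, ⟨hbB, hTb⟩, huniq⟩ := hB.2 T hT
  rw [Finset.card_eq_one]
  refine ⟨b, ?_⟩
  ext d
  rw [mem_blocksThrough, Finset.mem_singleton]
  constructor
  · intro h; exact huniq d h
  · rintro rfl; exact ⟨hbB, hTb⟩

/-- The number `λ_J` of blocks through a set `J` with at most `t` elements. -/
theorem card_blocksThrough_mul {t k : ℕ} {B : Set (Finset α)} (hB : IsSteinerSystem t k B)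
    (J : Finset α) (hJ : J.card ≤ t) :
    (blocksThrough B J).card * (k - J.card).choose (t - J.card) =
      (Fintype.card α - J.card).choose (t - J.card) := by
  set 𝒯 : Finset (Finset α) := ((Finset.univ : Finset α).powersetCard t).filter (fun T => J ⊆ T)
    with h𝒯
  have h1 := sum_card_filter_subset_through B J 𝒯
  -- RHS: each term is 1
  have hR : ∑ T ∈ 𝒯, ((blocksThrough B J).filter (fun d => T ⊆ d)).card = 𝒯.card := by
    rw [Finset.card_eq_sum_ones]
    apply Finset.sum_congr rfl
    intro T hT
    rw [h𝒯, Finset.mem_filter, Finset.mem_powersetCard] at hT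
    have : (blocksThrough B J).filter (fun d => T ⊆ d) = blocksThrough B T := by
      ext d
      simp only [Finset.mem_filter, mem_blocksThrough]
      constructor
      · rintro ⟨⟨h1, _⟩, h3⟩; exact ⟨h1, h3⟩
      · rintro ⟨h1, h3⟩; exact ⟨⟨h1, hT.2.trans h3⟩, h3⟩
    rw [this, card_blocksThrough_eq_one hB hT.1.2]
  -- LHS: each term is a binomial coefficient
  have hL : ∑ d ∈ blocksThrough B J, (𝒯.filter (fun T => T ⊆ d)).card =
      (blocksThrough B J).card * (k - J.card).choose (t - J.card) := by
    rw [Finset.sum_const_nat]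
    intro d hd
    rw [mem_blocksThrough] at hd
    have hdk : d.card = k := hB.1 d hd.1
    have : 𝒯.filter (fun T => T ⊆ d) = (d.powersetCard t).filter (fun T => J ⊆ T) := by
      ext T
      simp only [h𝒯, Finset.mem_filter, Finset.mem_powersetCard, Finset.subset_univ, true_and]
      tauto
    rw [this, Finset.card_filter_powersetCard_subset J d t hd.2 hJ, hdk]
  rw [← hL, h1, hR, h𝒯, Finset.card_filter_powersetCard_subset J Finset.univ t (Finset.subset_univ _) hJ,
    Finset.card_univ]

/-- Block count: `|B| * C(k, t) = C(v, t)`. -/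
theorem card_blocksOf_mul {t k : ℕ} {B : Set (Finset α)} (hB : IsSteinerSystem t k B) :
    (blocksOf B).card * k.choose t = (Fintype.card α).choose t := by
  have := card_blocksThrough_mul hB ∅ (by simp)
  simpa [blocksOf] using this

/-- Two distinct blocks share fewer than `t` points. -/
theorem card_inter_lt {t k : ℕ} {B : Set (Finset α)} (hB : IsSteinerSystem t k B)
    {b c : Finset α} (hb : b ∈ B) (hc : c ∈ B) (hbc : b ≠ c) : (b ∩ c).card < t := by
  by_contra hcon
  rw [not_lt] at hcon
  obtain ⟨T, hTsub, hTcard⟩ := Finset.exists_subset_card_eq hcon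
  obtain ⟨d, _, huniq⟩ := hB.2 T hTcard
  have h1 := huniq b ⟨hb, hTsub.trans Finset.inter_subset_left⟩
  have h2 := huniq c ⟨hc, hTsub.trans Finset.inter_subset_right⟩
  exact hbc (h1.trans h2.symm)

/-- Intersection-number equations for a fixed block `b₀`:
`∑_{d ≠ b₀} C(|b₀ ∩ d|, j) + C(k, j) = C(k, j) * λ_j` where `lam` is the common number of blocks
through a `j`-set. -/
theorem sum_choose_inter {t k : ℕ} {B : Set (Finset α)} (hB : IsSteinerSystem t k B)
    {b₀ : Finset α} (hb₀ : b₀ ∈ B) (j lam : ℕ)
    (hlam : ∀ J : Finset α, J.card = j → (blocksThrough B J).card = lam) :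
    ∑ d ∈ (blocksOf B).erase b₀, (b₀ ∩ d).card.choose j + k.choose j = k.choose j * lam := by
  have h1 := sum_card_filter_subset B (b₀.powersetCard j)
  have hterm : ∀ d : Finset α, ((b₀.powersetCard j).filter (fun J => J ⊆ d)).card =
      (b₀ ∩ d).card.choose j := by
    intro d
    have : (b₀.powersetCard j).filter (fun J => J ⊆ d) = (b₀ ∩ d).powersetCard j := by
      ext J
      simp only [Finset.mem_filter, Finset.mem_powersetCard, Finset.subset_inter_iff]
      tauto
    rw [this, Finset.card_powersetCard]
  simp only [hterm] at h1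
  have hR : ∑ J ∈ b₀.powersetCard j, (blocksThrough B J).card = k.choose j * lam := by
    rw [Finset.sum_const_nat (m := lam)]
    · rw [Finset.card_powersetCard, hB.1 b₀ hb₀]
    · intro J hJ
      exact hlam J (Finset.mem_powersetCard.1 hJ).2
  rw [hR] at h1
  rw [← h1, ← Finset.add_sum_erase (blocksOf B) _ (mem_blocksOf.2 hb₀), Finset.inter_self,
    hB.1 b₀ hb₀, add_comm]

end Cfsg.Agent.Lib.Helper6
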