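import Mathlib
import Cfsg.Agent.Lib.Helper76.GOut.PLDefs

/-!
# GOUT-[PL-MOD1] (helper6, hedge): the `𝔽₂[R]`-module `Q/Z(Q)`

`exists_module_of α hcomm hsq` : the package of [PL-MOD1] from `hcomm : ∀ u v, ⁅u, v⁆ ∈ center Q` and
`hsq : ∀ u, u ^ 2 ∈ center Q` (no other hypothesis: the centre is characteristic).
The exact [PL-MOD1] is `exists_module_of α (commutatorElement_mem_center hQ h) (sq_mem_center hQ h)`.
-/

set_option autoImplicit false

namespace Cfsg.Agent.Lib.Helper6.GOut

open scoped commutatorElement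

universe u v

theorem exists_module_of {Q : Type u} {R : Type v} [Group Q] [Finite Q] [Group R] (α : R →* MulAut Q)
    (hcomm : ∀ u v : Q, ⁅u, v⁆ ∈ Subgroup.center Q) (hsq : ∀ u : Q, u ^ 2 ∈ Subgroup.center Q) :
    ∃ (V : Type u) (_ : AddCommGroup V) (_ : Module (ZMod 2) V) (_ : Finite V)
      (ρ : R →* (V ≃ₗ[ZMod 2] V)) (π : Q → V),
      Function.Surjective π ∧ (∀ u v : Q, π (u * v) = π u + π v) ∧
      (∀ u : Q, π u = 0 ↔ u ∈ Subgroup.center Q) ∧ (∀ (r : R) (u : Q), π (α r u) = ρ r (π u)) := by
  classical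
  let cg : CommGroup (Q ⧸ Subgroup.center Q) :=
    { (inferInstance : Group (Q ⧸ Subgroup.center Q)) with
      mul_comm := by
        intro a b
        induction a using QuotientGroup.induction_on with
        | H u =>
          induction b using QuotientGroup.induction_on with
          | H w =>
            rw [← QuotientGroup.mk_mul, ← QuotientGroup.mk_mul, QuotientGroup.eq]
            have h1 := hcomm w⁻¹ u⁻¹
            have h2 : ⁅w⁻¹, u⁻¹⁆ = (u * w)⁻¹ * (w * u) := by
              rw [commutatorElement_def]; group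
            rw [h2] at h1
            exact h1 }
  -- the induced automorphisms of `Q ⧸ Z(Q)`
  have hmap : ∀ φ : MulAut Q, (Subgroup.center Q).map ((φ : Q ≃* Q) : Q →* Q) = Subgroup.center Q := by
    intro φ
    exact (Subgroup.characteristic_iff_map_eq.mp (inferInstance : (Subgroup.center Q).Characteristic)) φ
  let e : MulAut Q → (Q ⧸ Subgroup.center Q ≃* Q ⧸ Subgroup.center Q) := fun φ =>
    QuotientGroup.congr (Subgroup.center Q) (Subgroup.center Q) φ (hmap φ)
  have he : ∀ (φ : MulAut Q) (u : Q), e φ (QuotientGroup.mk u) = QuotientGroup.mk (φ u) := fun φ u => rfl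
  have h2 : ∀ x : Additive (Q ⧸ Subgroup.center Q), 2 • x = 0 := by
    intro x
    induction x using Additive.rec with
    | ofMul y =>
      induction y using QuotientGroup.induction_on with
      | H u =>
        rw [← ofMul_pow, ← QuotientGroup.mk_pow, (QuotientGroup.eq_one_iff _).mpr (hsq u)]
        rfl
  let mod : Module (ZMod 2) (Additive (Q ⧸ Subgroup.center Q)) := AddCommGroup.zmodModule h2
  let ρ0 : R → (Additive (Q ⧸ Subgroup.center Q) ≃ₗ[ZMod 2] Additive (Q ⧸ Subgroup.center Q)) := fun r =>
    AddEquiv.toLinearEquiv (MulEquiv.toAdditive (e (α r))) (fun c x => ZMod.map_smul _ c x)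
  have hρ0 : ∀ (r : R) (u : Q), ρ0 r (Additive.ofMul (QuotientGroup.mk u)) =
      Additive.ofMul (QuotientGroup.mk (α r u)) := fun r u => rfl
  have hsurj : ∀ x : Additive (Q ⧸ Subgroup.center Q), ∃ u : Q, x = Additive.ofMul (QuotientGroup.mk u) := by
    intro x
    induction x using Additive.rec with
    | ofMul y =>
      induction y using QuotientGroup.induction_on with
      | H u => exact ⟨u, rfl⟩
  let ρ : R →* (Additive (Q ⧸ Subgroup.center Q) ≃ₗ[ZMod 2] Additive (Q ⧸ Subgroup.center Q)) :=
    { toFun := ρ0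
      map_one' := by
        apply LinearEquiv.ext
        intro x
        obtain ⟨u, rfl⟩ := hsurj x
        rw [hρ0, map_one]
        rfl
      map_mul' := by
        intro r s
        apply LinearEquiv.ext
        intro x
        obtain ⟨u, rfl⟩ := hsurj x
        rw [hρ0, map_mul, LinearEquiv.mul_apply, hρ0, hρ0]
        rfl }
  refine ⟨Additive (Q ⧸ Subgroup.center Q), inferInstance, mod, inferInstance, ρ,
    fun u => Additive.ofMul (QuotientGroup.mk u), ?_, ?_, ?_, ?_⟩
  · intro x
    obtain ⟨u, rfl⟩ := hsurj x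
    exact ⟨u, rfl⟩
  · intro u w
    rfl
  · intro u
    show Additive.ofMul (QuotientGroup.mk u : Q ⧸ Subgroup.center Q) = Additive.ofMul 1 ↔ _
    rw [Additive.ofMul.apply_eq_iff_eq, QuotientGroup.eq_one_iff]
  · intro r u
    exact (hρ0 r u).symm

end Cfsg.Agent.Lib.Helper6.GOut
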