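import Mathlib
import Cfsg.Agent.S4702

/-!
# Sharply 3-transitive groups of odd degree are `PSL₂` of a field of characteristic two (helper6)

Transfer of `S4702` from permutation groups to faithful actions, and `SL₂ = PSL₂` in
characteristic two.
-/

set_option autoImplicit false
set_option linter.unusedSectionVars false
set_option linter.style.haveILetI false

namespace Cfsg.Agent.Lib.Helper6.SuzOrd

open MulAction

/-- in characteristic two the centre of `SL₂` is trivial -/
theorem center_SL2_eq_bot_of_even (F : Type*) [Field F] [Fintype F]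
    (heven : Even (Fintype.card F)) :
    Subgroup.center (Matrix.SpecialLinearGroup (Fin 2) F) = ⊥ := by
  classical
  have h2 : (2 : F) = 0 := by
    have hchar : ringChar F = 2 :=
      FiniteField.even_card_iff_char_two.mpr (Nat.even_iff.mp heven)
    have := ringChar.Nat.cast_ringChar (R := F)
    rw [hchar] at this
    exact_mod_cast this
  rw [eq_bot_iff]
  intro A hA
  rw [Subgroup.mem_bot]
  obtain ⟨r, hr, hrA⟩ := (Matrix.SpecialLinearGroup.mem_center_iff).mp hA
  have hr2 : r ^ 2 = 1 := by simpa using hr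
  have hr1 : r = 1 := by
    have h : (r - 1) ^ 2 = 0 := by
      have : (r - 1) ^ 2 = r ^ 2 - 2 * r + 1 := by ring
      rw [this, hr2, h2]
      ring_nf
      linear_combination h2
    have := pow_eq_zero_iff (two_ne_zero) |>.mp h
    exact sub_eq_zero.mp this
  apply Subtype.ext
  rw [← hrA, hr1]
  simp

/-- in characteristic two `PSL₂` is `SL₂` -/
noncomputable def pslEquivSL2 (F : Type*) [Field F] [Fintype F] (heven : Even (Fintype.card F)) :
    Matrix.ProjectiveSpecialLinearGroup (Fin 2) F ≃* Matrix.SpecialLinearGroup (Fin 2) F :=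
  (QuotientGroup.quotientMulEquivOfEq (center_SL2_eq_bot_of_even F heven)).trans
    QuotientGroup.quotientBot

/-- a sharply 3-transitive faithful action of odd degree: the group is `PSL₂` of a finite field -/
theorem psl_of_sharp3_odd {G Ω : Type*} [Group G] [Finite G] [MulAction G Ω] [Fintype Ω]
    [FaithfulSMul G Ω] (hodd : Odd (Fintype.card Ω)) (h3card : 3 ≤ Fintype.card Ω)
    (htr : IsMultiplyPretransitive G Ω 3)
    (h3 : ∀ g : G, ∀ a b c : Ω, a ≠ b → b ≠ c → a ≠ c → g • a = a → g • b = b → g • c = c → g = 1) :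
    ∃ (F : Type) (_ : Field F) (_ : Fintype F),
      Nonempty (G ≃* Matrix.ProjectiveSpecialLinearGroup (Fin 2) F) := by
  classical
  let φ : G →* Equiv.Perm Ω := MulAction.toPermHom G Ω
  have hφinj : Function.Injective φ := MulAction.toPerm_injective
  let G' : Subgroup (Equiv.Perm Ω) := φ.range
  have hsm : ∀ (g : G) (p : Ω), (φ g) • p = g • p := fun g p => rfl
  have htr' : IsMultiplyPretransitive G' Ω 3 := by
    rw [isMultiplyPretransitive_iff]
    intro x y
    rw [isMultiplyPretransitive_iff] at htr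
    obtain ⟨g, hg⟩ := htr x y
    refine ⟨⟨φ g, g, rfl⟩, ?_⟩
    ext i
    have h1 : g • x i = y i := by
      have := congrArg (fun e : Fin 3 ↪ Ω => e i) hg
      simpa using this
    rw [← h1]
    rfl
  have hfix : ∀ g : G', 3 ≤ Nat.card (MulAction.fixedBy Ω g) → g = 1 := by
    rintro ⟨_, g, rfl⟩ hcard
    have hcard' : 2 < (MulAction.fixedBy Ω (⟨φ g, g, rfl⟩ : G')).ncard := by
      rw [← Nat.card_coe_set_eq]
      omega
    obtain ⟨a, b, c, ha, hb, hc, hab, hac, hbc⟩ := (Set.two_lt_ncard_iff).mp hcard'
    have hg1 : g = 1 := h3 g a b c hab hbc hac ha hb hc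
    apply Subtype.ext
    show φ g = 1
    rw [hg1, map_one]
  obtain ⟨k, hk1, -, F, fF, ftF, hF, ⟨e⟩⟩ :=
    Cfsg.Agent.S4702.result h3card hodd G' htr' hfix
  have heven : Even (Fintype.card F) := by
    rw [hF]
    exact (Nat.even_pow.mpr ⟨even_two, by omega⟩)
  exact ⟨F, fF, ftF, ⟨((MonoidHom.ofInjective hφinj).trans e).trans (pslEquivSL2 F heven).symm⟩⟩

end Cfsg.Agent.Lib.Helper6.SuzOrd
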