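import Mathlib
import Cfsg.Agent.Lib.Helper32.SLMD.Defs2

/-!
# SLMD-[N-PW-DC] (helper6): `G = P ∪ P wE P` for the point stabilizer `P = pSub` in `SL_{k+2}(F)`
-/

set_option autoImplicit false
set_option linter.unusedSectionVars false
set_option linter.unusedVariables false

namespace Cfsg.Agent.Lib.Helper6.SLMD

open Matrix Cfsg.Agent.Lib.Helper41 Cfsg.Agent.Lib.Helper39 Module Cfsg.Agent.Lib.Helper32.SLMD
open scoped LinearAlgebra.Projectivization

variable {F : Type*} [Field F] [DecidableEq F] {k : ℕ}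

/-- an element of `pSub` has zero `(inl 1, inl 0)` entry -/
theorem apply_one_zero_of_mem_pSub (g : GG F k) (hg : g ∈ (pSub : Subgroup (GG F k))) :
    g.1 (Sum.inl 1) (Sum.inl 0) = 0 := by
  have h : g • (pt0 : ℙ F (Fin 2 ⊕ Fin k → F)) = pt0 := hg
  rw [pt0, Projectivization.matrixSpecialLinearGroup_smul_def, Projectivization.smul_mk,
    Projectivization.mk_eq_mk_iff] at h
  obtain ⟨a, ha⟩ := h
  have h1 := congrFun ha (Sum.inl 1)
  simp at h1
  have h2 : (Matrix.SpecialLinearGroup.toLin'_equiv g • (Pi.single (Sum.inl 0) 1 :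
      Fin 2 ⊕ Fin k → F)) (Sum.inl 1) = g.1 (Sum.inl 1) (Sum.inl 0) := by
    show (g.1 *ᵥ (Pi.single (Sum.inl 0) 1 : Fin 2 ⊕ Fin k → F)) (Sum.inl 1) = _
    simp
  rw [← h2]
  exact h1.symm

theorem wE_not_mem_pSub : (wE : GG F k) ∉ (pSub : Subgroup (GG F k)) := by
  intro h
  have := apply_one_zero_of_mem_pSub _ h
  simp [wE, coe_weylW] at this

end Cfsg.Agent.Lib.Helper6.SLMD

namespace Cfsg.Agent.Lib.Helper32.SLMD

open Matrix Cfsg.Agent.Lib.Helper41 Cfsg.Agent.Lib.Helper39 Module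
open scoped LinearAlgebra.Projectivization

variable {F : Type*} [Field F] [Fintype F] [DecidableEq F] {k : ℕ}

/-- [N-PW-DC] -/
theorem pSub_double_coset (g : GG F k) :
    g ∈ (pSub : Subgroup (GG F k)) ∨
      ∃ p₁ ∈ (pSub : Subgroup (GG F k)), ∃ p₂ ∈ (pSub : Subgroup (GG F k)), g = p₁ * wE * p₂ := by
  by_cases hg : g ∈ (pSub : Subgroup (GG F k))
  · exact Or.inl hg
  right
  have hg' : g • (pt0 : ℙ F (Fin 2 ⊕ Fin k → F)) ≠ pt0 := hg
  have hw' : (wE : GG F k) • (pt0 : ℙ F (Fin 2 ⊕ Fin k → F)) ≠ pt0 :=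
    Cfsg.Agent.Lib.Helper6.SLMD.wE_not_mem_pSub
  have h2 : MulAction.IsMultiplyPretransitive (GG F k) (ℙ F (Fin 2 ⊕ Fin k → F)) 2 := inferInstance
  rw [MulAction.is_two_pretransitive_iff] at h2
  obtain ⟨p, hp1, hp2⟩ := h2 (Ne.symm hw') (Ne.symm hg')
  refine ⟨p, hp1, (p * wE)⁻¹ * g, ?_, by group⟩
  show ((p * wE)⁻¹ * g) • (pt0 : ℙ F (Fin 2 ⊕ Fin k → F)) = pt0
  rw [mul_smul, ← hp2, ← mul_smul, ← mul_smul, mul_assoc, inv_mul_cancel, one_smul]

end Cfsg.Agent.Lib.Helper32.SLMD
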