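import Mathlib
import Cfsg.Agent.Lib.Helper32.SLMD.Defs2

/-!
# SLMD-[N-PW-IDX] (helper6): `(q - 1) |G| = (q^{k+2} - 1) |P|` for the point stabilizer `P = pSub`
-/

set_option autoImplicit false
set_option linter.unusedSectionVars false
set_option linter.unusedVariables false

namespace Cfsg.Agent.Lib.Helper32.SLMD

open Matrix Cfsg.Agent.Lib.Helper41 Cfsg.Agent.Lib.Helper39 Module
open scoped LinearAlgebra.Projectivization

variable {F : Type*} [Field F] [Fintype F] [DecidableEq F] {k : ℕ}

/-- [N-PW-IDX] -/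
theorem card_pSub :
    (Fintype.card F - 1) * Nat.card (GG F k) =
      (Fintype.card F ^ (k + 2) - 1) * Nat.card (pSub : Subgroup (GG F k)) := by
  classical
  have h2 : MulAction.IsMultiplyPretransitive (GG F k) (ℙ F (Fin 2 ⊕ Fin k → F)) 2 := inferInstance
  have hpre : MulAction.IsPretransitive (GG F k) (ℙ F (Fin 2 ⊕ Fin k → F)) :=
    MulAction.isPretransitive_of_is_two_pretransitive
  -- orbit-stabilizer
  have horb : MulAction.orbit (GG F k) (pt0 : ℙ F (Fin 2 ⊕ Fin k → F)) = Set.univ :=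
    MulAction.orbit_eq_univ _ _
  have hos : Nat.card (MulAction.orbit (GG F k) (pt0 : ℙ F (Fin 2 ⊕ Fin k → F))) *
      Nat.card (MulAction.stabilizer (GG F k) (pt0 : ℙ F (Fin 2 ⊕ Fin k → F))) =
      Nat.card (GG F k) := by
    rw [Nat.card_congr (MulAction.orbitEquivQuotientStabilizer (GG F k)
      (pt0 : ℙ F (Fin 2 ⊕ Fin k → F))), ← Subgroup.index_eq_card, Subgroup.index_mul_card]
  rw [horb, Nat.card_congr (Equiv.Set.univ _)] at hos
  -- cardinality of projective space
  have hP := Projectivization.card F (Fin 2 ⊕ Fin k → F)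
  have hV : Nat.card (Fin 2 ⊕ Fin k → F) = Fintype.card F ^ (k + 2) := by
    rw [Nat.card_eq_fintype_card, Fintype.card_fun, Fintype.card_sum, Fintype.card_fin,
      Fintype.card_fin, add_comm]
  rw [hV, Nat.card_eq_fintype_card (α := F)] at hP
  show _ = _ * Nat.card (MulAction.stabilizer (GG F k) (pt0 : ℙ F (Fin 2 ⊕ Fin k → F)))
  rw [hP, ← hos]
  ring

end Cfsg.Agent.Lib.Helper32.SLMD
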