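import Mathlib
import Cfsg.Agent.Lib.Helper32.SLMD.Defs2

/-!
# SLMD-[G-UNIT] (helper6): units of a finite field with `e ^ 2 ≠ 1`, resp. `e ^ 3 ≠ 1`
-/

set_option autoImplicit false
set_option linter.unusedSectionVars false
set_option linter.unusedVariables false

namespace Cfsg.Agent.Lib.Helper6.SLMD

/-- a generator `e` of `Fˣ` has `e ^ d ≠ 1` unless `q - 1 ∣ d` -/
theorem exists_unit_pow_ne_one {F : Type*} [Field F] [Fintype F] (d : ℕ)
    (h : ¬ (Fintype.card F - 1) ∣ d) : ∃ e : Fˣ, e ^ d ≠ 1 := by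
  classical
  obtain ⟨e, he⟩ := IsCyclic.exists_generator (α := Fˣ)
  refine ⟨e, fun hd => h ?_⟩
  have h1 : orderOf e = Fintype.card Fˣ := by
    rw [← Nat.card_eq_fintype_card]
    exact orderOf_eq_card_of_forall_mem_zpowers he
  rw [← Fintype.card_units, ← h1]
  exact orderOf_dvd_of_pow_eq_one hd

end Cfsg.Agent.Lib.Helper6.SLMD

namespace Cfsg.Agent.Lib.Helper32.SLMD

open Matrix Cfsg.Agent.Lib.Helper41 Cfsg.Agent.Lib.Helper39 Module
open scoped LinearAlgebra.Projectivization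

variable {F : Type*} [Field F] [Fintype F] [DecidableEq F] {k : ℕ}

/-- [G-UNIT] -/
theorem exists_unit_sq_ne_one (h2 : Fintype.card F ≠ 2) (h3 : Fintype.card F ≠ 3) :
    ∃ e : Fˣ, e ^ 2 ≠ 1 := by
  apply Cfsg.Agent.Lib.Helper6.SLMD.exists_unit_pow_ne_one
  intro h
  have hle := Nat.le_of_dvd (by norm_num) h
  have h1 : 1 < Fintype.card F := Fintype.one_lt_card
  have : Fintype.card F - 1 = 1 ∨ Fintype.card F - 1 = 2 := by
    have : Fintype.card F - 1 ∈ Nat.divisors 2 := Nat.mem_divisors.mpr ⟨h, by norm_num⟩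
    have hd : Nat.divisors 2 = {1, 2} := by decide
    rw [hd] at this
    simpa using this
  omega

/-- [G-UNIT] -/
theorem exists_unit_cube_ne_one (h2 : Fintype.card F ≠ 2) (h4 : Fintype.card F ≠ 4) :
    ∃ e : Fˣ, e ^ 3 ≠ 1 := by
  apply Cfsg.Agent.Lib.Helper6.SLMD.exists_unit_pow_ne_one
  intro h
  have h1 : 1 < Fintype.card F := Fintype.one_lt_card
  have : Fintype.card F - 1 = 1 ∨ Fintype.card F - 1 = 3 := by
    have : Fintype.card F - 1 ∈ Nat.divisors 3 := Nat.mem_divisors.mpr ⟨h, by norm_num⟩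
    have hd : Nat.divisors 3 = {1, 3} := by decide
    rw [hd] at this
    simpa using this
  omega

end Cfsg.Agent.Lib.Helper32.SLMD
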