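import Mathlib
import Cfsg.Agent.Lib.Helper32.SLMD.Defs2

/-!
# SLMD-[N-CA2] (helper6, hedge): `dim C_V(A₂) = c + q - 1` under `M1`, in `_of` form
(hypotheses = the two `M1` statements of [N-MULT]: `m1_char`, `m1_dim`).
-/

set_option autoImplicit false
set_option linter.unusedSectionVars false
set_option linter.unusedVariables false

namespace Cfsg.Agent.Lib.Helper6.SLMD

open Matrix Cfsg.Agent.Lib.Helper41 Cfsg.Agent.Lib.Helper39 Module Cfsg.Agent.Lib.Helper32.SLMD
open scoped LinearAlgebra.Projectivization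

variable {F : Type*} [Field F] [Fintype F] [DecidableEq F] {k : ℕ}
variable {V : Type*} [AddCommGroup V] [Module ℂ V] [FiniteDimensional ℂ V]

theorem qEl_zero_left (a : Fin k → F) : (qEl (0 : F) a : GG F k) = a1El a := by
  rw [qEl, x12_zero, one_mul]

/-- `χ(a2El b) = χ(a1El b)` -/
theorem char_a2El (ρ : Representation ℂ (GG F k) V) (b : Fin k → F) :
    ρ.character (a2El b) = ρ.character (a1El b) := by
  rw [← wE_conj_a1El b, Representation.char_conj]

/-- [N-CA2] in `_of` form -/
theorem ca2_of (ρ : Representation ℂ (GG F k) V)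
    (hchar : ∀ (s : F) (a : Fin k → F), (s ≠ 0 ∨ a ≠ 0) →
      ρ.character (qEl s a) = (cQ ρ : ℂ) - 1)
    (hdim : finrank ℂ V + 1 = cQ ρ + Fintype.card F ^ (k + 1)) :
    finrank ℂ ↥(eigenSub ρ (a2Hom : _ →* GG F k) 1) + 1 = cQ ρ + Fintype.card F := by
  classical
  have hsum := sum_twist_character ρ (a2Hom : Multiplicative (Fin k → F) →* GG F k) 1
  have hcard : Fintype.card (Multiplicative (Fin k → F)) = Fintype.card F ^ k := by
    rw [Fintype.card_multiplicative, Fintype.card_fun, Fintype.card_fin]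
  have hval : ∀ b : Multiplicative (Fin k → F),
      ((((1 : Multiplicative (Fin k → F) →* ℂˣ) b)⁻¹ : ℂˣ) : ℂ) * ρ.character (a2Hom b) =
        ((cQ ρ : ℂ) - 1) + if b = 1 then ((finrank ℂ V : ℂ) - ((cQ ρ : ℂ) - 1)) else 0 := by
    intro b
    rw [MonoidHom.one_apply, inv_one, Units.val_one, one_mul, a2Hom_apply, char_a2El]
    by_cases hb : b = 1
    · subst hb
      rw [if_pos rfl]
      have : (a1El ((1 : Multiplicative (Fin k → F)).toAdd) : GG F k) = 1 := a1Hom.map_one
      rw [this, Representation.char_one]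
      ring
    · rw [if_neg hb, add_zero, ← qEl_zero_left]
      apply hchar
      right
      intro h0
      apply hb
      exact h0
  rw [Finset.sum_congr rfl (fun b _ => hval b), Finset.sum_add_distrib, Finset.sum_const,
    Finset.sum_ite_eq' Finset.univ (1 : Multiplicative (Fin k → F)), if_pos (Finset.mem_univ _),
    Finset.card_univ, hcard, nsmul_eq_mul] at hsum
  have hdimC : (finrank ℂ V : ℂ) + 1 = (cQ ρ : ℂ) + (Fintype.card F : ℂ) ^ (k + 1) := by
    exact_mod_cast hdim
  have hq : ((Fintype.card F : ℂ)) ^ k ≠ 0 := by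
    apply pow_ne_zero
    exact_mod_cast Fintype.card_ne_zero
  have key : (Fintype.card F : ℂ) ^ k *
      ((finrank ℂ ↥(eigenSub ρ (a2Hom : _ →* GG F k) 1) : ℂ) + 1) =
      (Fintype.card F : ℂ) ^ k * ((cQ ρ : ℂ) + (Fintype.card F : ℂ)) := by
    have hD : (finrank ℂ V : ℂ) = (cQ ρ : ℂ) + (Fintype.card F : ℂ) ^ (k + 1) - 1 := by
      rw [← hdimC]; ring
    push_cast at hsum
    rw [mul_add, ← hsum, hD]
    ring
  have := mul_left_cancel₀ hq key
  exact_mod_cast this

end Cfsg.Agent.Lib.Helper6.SLMD
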