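import Mathlib
import Cfsg.Agent.Lib.Helper32.SLMD.Defs2
import Cfsg.Agent.Lib.Helper5.SLGen

/-!
# SLMD-[N-GEN] (helper6): a normal subgroup of `SL_{k+2}(F)`, `k ≥ 1`, containing the
transvection `x12 1` is everything
-/

set_option autoImplicit false
set_option linter.unusedSectionVars false
set_option linter.unusedVariables false
set_option linter.unusedSimpArgs false

namespace Cfsg.Agent.Lib.Helper6.SLMD

open Matrix Matrix.SpecialLinearGroup Cfsg.Agent.Lib.Helper5
open scoped commutatorElement

variable {F : Type*} [Field F] {ι : Type*} [DecidableEq ι] [Fintype ι]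

theorem comm_mem_left (K : Subgroup (SpecialLinearGroup ι F)) [K.Normal]
    {x y : SpecialLinearGroup ι F} (hx : x ∈ K) : ⁅x, y⁆ ∈ K := by
  rw [commutatorElement_def]
  have h1 : y * x⁻¹ * y⁻¹ ∈ K := Subgroup.Normal.conj_mem inferInstance _ (K.inv_mem hx) y
  have : x * y * x⁻¹ * y⁻¹ = x * (y * x⁻¹ * y⁻¹) := by group
  rw [this]
  exact K.mul_mem hx h1

theorem comm_mem_right (K : Subgroup (SpecialLinearGroup ι F)) [K.Normal]
    {x y : SpecialLinearGroup ι F} (hy : y ∈ K) : ⁅x, y⁆ ∈ K := by
  rw [commutatorElement_def]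
  have h1 : x * y * x⁻¹ ∈ K := Subgroup.Normal.conj_mem inferInstance _ hy x
  exact K.mul_mem h1 (K.inv_mem hy)

/-- a normal subgroup of `SL(ι, F)`, `|ι| ≥ 3`, containing one transvection `T_ab(1)` is `⊤` -/
theorem normal_eq_top_of_transvection_mem (h3 : 3 ≤ Fintype.card ι)
    (K : Subgroup (SpecialLinearGroup ι F)) [K.Normal] {a b : ι} (hab : a ≠ b)
    (h : transvection hab (1 : F) ∈ K) : K = ⊤ := by
  -- step 2: `T_aj(c) ∈ K` for `j ∉ {a, b}`
  have s2 : ∀ (j : ι) (haj : a ≠ j) (hbj : b ≠ j) (c : F), transvection haj c ∈ K := by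
    intro j haj hbj c
    have := commutator_transvection_transvection haj hab hbj (1 : F) c
    rw [one_mul] at this
    rw [← this]
    exact comm_mem_left K h
  -- all `T_aj(c)`
  have s3 : ∀ (j : ι) (haj : a ≠ j) (c : F), transvection haj c ∈ K := by
    intro j haj c
    by_cases hbj : b = j
    · subst hbj
      obtain ⟨l, hla, hlb⟩ := exists_ne_ne_of_three_le_card h3 a b
      have := commutator_transvection_transvection hab (Ne.symm hla) hlb (1 : F) c
      rw [one_mul] at this
      rw [← this]
      exact comm_mem_left K (s2 l (Ne.symm hla) (Ne.symm hlb) 1)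
    · exact s2 j haj hbj c
  -- `T_lj(c)`, `l ≠ a`, `j ≠ a`
  have s4 : ∀ (l j : ι) (hlj : l ≠ j) (hla : l ≠ a) (hja : j ≠ a) (c : F),
      transvection hlj c ∈ K := by
    intro l j hlj hla hja c
    have := commutator_transvection_transvection hlj hla (Ne.symm hja) c (1 : F)
    rw [mul_one] at this
    rw [← this]
    exact comm_mem_right K (s3 j (Ne.symm hja) 1)
  -- `T_la(c)`, `l ≠ a`
  have s5 : ∀ (l : ι) (hla : l ≠ a) (c : F), transvection hla c ∈ K := by
    intro l hla c
    obtain ⟨m, hml, hma⟩ := exists_ne_ne_of_three_le_card h3 l a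
    have := commutator_transvection_transvection hla (Ne.symm hml) hma c (1 : F)
    rw [mul_one] at this
    rw [← this]
    exact comm_mem_left K (s4 l m (Ne.symm hml) hla hma c)
  rw [eq_top_iff]
  intro M _
  refine transvection_induction (fun M => M ∈ K) (one_mem _) (fun i j hij c => ?_)
    (fun A B hA hB => mul_mem hA hB) M
  by_cases hia : i = a
  · subst hia
    exact s3 j hij c
  · by_cases hja : j = a
    · subst hja
      exact s5 i hia c
    · exact s4 i j hij hia hja c

end Cfsg.Agent.Lib.Helper6.SLMD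

namespace Cfsg.Agent.Lib.Helper32.SLMD

open Matrix Cfsg.Agent.Lib.Helper41 Cfsg.Agent.Lib.Helper39 Module
open scoped LinearAlgebra.Projectivization

variable {F : Type*} [Field F] [Fintype F] [DecidableEq F] {k : ℕ}

/-- [N-GEN] -/
theorem normal_eq_top_of_x12_mem [NeZero k] (K : Subgroup (GG F k)) [K.Normal]
    (h : (x12 (1 : F) : GG F k) ∈ K) : K = ⊤ := by
  have hab : (Sum.inl 0 : Fin 2 ⊕ Fin k) ≠ Sum.inl 1 := by simp
  have hx : (x12 (1 : F) : GG F k) = Matrix.SpecialLinearGroup.transvection hab (1 : F) := by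
    apply Subtype.ext
    rw [Matrix.SpecialLinearGroup.transvection_coe]
    simp only [x12, coe_iota, coe_upperU]
    ext i j
    rcases i with i | i <;> rcases j with j | j
    · fin_cases i <;> fin_cases j <;> simp [Matrix.one_apply, Matrix.single_apply]
    · simp [Matrix.one_apply, Matrix.single_apply]
    · simp [Matrix.one_apply, Matrix.single_apply]
    · simp [Matrix.one_apply, Matrix.single_apply]
  rw [hx] at h
  have h3 : 3 ≤ Fintype.card (Fin 2 ⊕ Fin k) := by
    rw [Fintype.card_sum, Fintype.card_fin, Fintype.card_fin]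
    have := NeZero.pos k
    omega
  exact Cfsg.Agent.Lib.Helper6.SLMD.normal_eq_top_of_transvection_mem h3 K hab h

end Cfsg.Agent.Lib.Helper32.SLMD
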