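/-
helper6: S2156 module [SYL] (helper69's Steinberg project): every automorphism of the Chevalley group `D.group F`
(finite field `F`) carries `U` to a conjugate of `U` by an element of the group.  `U` is a Sylow `p`-subgroup,
`p` the characteristic: the order formulas S1059-S1065 give `d |G| = q^N R` with `p ∤ R`.
-/
import Cfsg.Agent.Lib.Helper69.Aut.Defs
import Cfsg.Agent.S1027
import Cfsg.Agent.S1043
import Cfsg.Agent.S1059
import Cfsg.Agent.S1060
import Cfsg.Agent.S1061
import Cfsg.Agent.S1062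
import Cfsg.Agent.S1063
import Cfsg.Agent.S1064
import Cfsg.Agent.S1065

set_option autoImplicit false

namespace Cfsg.Agent.Lib.Helper6.Aut

open Cfsg Cfsg.Lie Cfsg.Agent.Lib.Helper18 Cfsg.Agent.Lib.Helper91.ChevGen Cfsg.Agent.Lib.Helper69.Aut

universe u

variable {F : Type u} [Field F] {D : ChevalleyDatum}

theorem not_dvd_pow_sub_one {p q : ℕ} (hp : p.Prime) (hq : p ∣ q) (hq0 : 0 < q) {e : ℕ} (he : e ≠ 0) :
    ¬ p ∣ q ^ e - 1 := by
  intro h
  have h1 : p ∣ q ^ e := dvd_pow hq he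
  have h2 : 1 ≤ q ^ e := Nat.one_le_pow _ _ hq0
  have h3 : p ∣ q ^ e - (q ^ e - 1) := Nat.dvd_sub h1 h
  rw [Nat.sub_sub_self h2] at h3
  exact hp.one_lt.ne' (Nat.dvd_one.mp h3)

/-- The order formula, in the shape `d |G| = q^N R` with `R` prime to the characteristic. -/
theorem exists_order_form [Fintype F] (hD : D ∈ [chevG2, chevB2, chevD4, chevF4, chevE6, chevE7, chevE8])
    {p : ℕ} (hp : p.Prime) (hpq : p ∣ Fintype.card F) :
    ∃ d R : ℕ, d * Nat.card ↥(D.group F) = Fintype.card F ^ (D.nroots / 2) * R ∧ ¬ p ∣ R := by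
  have hq0 : 0 < Fintype.card F := Fintype.card_pos
  have key : ∀ e : ℕ, e ≠ 0 → ¬ p ∣ Fintype.card F ^ e - 1 := fun e he =>
    not_dvd_pow_sub_one hp hpq hq0 he
  simp only [List.mem_cons, List.not_mem_nil, or_false] at hD
  rcases hD with rfl | rfl | rfl | rfl | rfl | rfl | rfl
  · refine ⟨1, (Fintype.card F ^ 2 - 1) * (Fintype.card F ^ 6 - 1), ?_, ?_⟩
    · rw [one_mul, Cfsg.Agent.S1059.result rfl, show chevG2.nroots / 2 = 6 from rfl]
      simp only [mul_assoc]
    · simp only [hp.dvd_mul, not_or]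
      exact ⟨key 2 (by norm_num), key 6 (by norm_num)⟩
  · refine ⟨Nat.gcd 2 (Fintype.card F - 1), (Fintype.card F ^ 2 - 1) * (Fintype.card F ^ 4 - 1), ?_, ?_⟩
    · rw [Cfsg.Agent.S1060.result rfl, show chevB2.nroots / 2 = 4 from rfl]
      simp only [mul_assoc]
    · simp only [hp.dvd_mul, not_or]
      exact ⟨key 2 (by norm_num), key 4 (by norm_num)⟩
  · refine ⟨Nat.gcd 2 (Fintype.card F - 1) ^ 2, (Fintype.card F ^ 2 - 1) * (Fintype.card F ^ 4 - 1) *
      (Fintype.card F ^ 4 - 1) * (Fintype.card F ^ 6 - 1), ?_, ?_⟩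
    · rw [Cfsg.Agent.S1061.result rfl, show chevD4.nroots / 2 = 12 from rfl]
      simp only [mul_assoc]
    · simp only [hp.dvd_mul, not_or]
      exact ⟨⟨⟨key 2 (by norm_num), key 4 (by norm_num)⟩, key 4 (by norm_num)⟩, key 6 (by norm_num)⟩
  · refine ⟨1, (Fintype.card F ^ 2 - 1) * (Fintype.card F ^ 6 - 1) * (Fintype.card F ^ 8 - 1) *
      (Fintype.card F ^ 12 - 1), ?_, ?_⟩
    · rw [one_mul, Cfsg.Agent.S1062.result rfl, show chevF4.nroots / 2 = 24 from rfl]
      simp only [mul_assoc]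
    · simp only [hp.dvd_mul, not_or]
      exact ⟨⟨⟨key 2 (by norm_num), key 6 (by norm_num)⟩, key 8 (by norm_num)⟩, key 12 (by norm_num)⟩
  · refine ⟨Nat.gcd 3 (Fintype.card F - 1), (Fintype.card F ^ 2 - 1) * (Fintype.card F ^ 5 - 1) *
      (Fintype.card F ^ 6 - 1) * (Fintype.card F ^ 8 - 1) * (Fintype.card F ^ 9 - 1) *
      (Fintype.card F ^ 12 - 1), ?_, ?_⟩
    · rw [Cfsg.Agent.S1063.result rfl, show chevE6.nroots / 2 = 36 from rfl]
      simp only [mul_assoc]
    · simp only [hp.dvd_mul, not_or]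
      exact ⟨⟨⟨⟨⟨key 2 (by norm_num), key 5 (by norm_num)⟩, key 6 (by norm_num)⟩, key 8 (by norm_num)⟩,
        key 9 (by norm_num)⟩, key 12 (by norm_num)⟩
  · refine ⟨Nat.gcd 2 (Fintype.card F - 1), (Fintype.card F ^ 2 - 1) * (Fintype.card F ^ 6 - 1) *
      (Fintype.card F ^ 8 - 1) * (Fintype.card F ^ 10 - 1) * (Fintype.card F ^ 12 - 1) *
      (Fintype.card F ^ 14 - 1) * (Fintype.card F ^ 18 - 1), ?_, ?_⟩
    · rw [Cfsg.Agent.S1064.result rfl, show chevE7.nroots / 2 = 63 from rfl]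
      simp only [mul_assoc]
    · simp only [hp.dvd_mul, not_or]
      exact ⟨⟨⟨⟨⟨⟨key 2 (by norm_num), key 6 (by norm_num)⟩, key 8 (by norm_num)⟩, key 10 (by norm_num)⟩,
        key 12 (by norm_num)⟩, key 14 (by norm_num)⟩, key 18 (by norm_num)⟩
  · refine ⟨1, (Fintype.card F ^ 2 - 1) * (Fintype.card F ^ 8 - 1) * (Fintype.card F ^ 12 - 1) *
      (Fintype.card F ^ 14 - 1) * (Fintype.card F ^ 18 - 1) * (Fintype.card F ^ 20 - 1) *
      (Fintype.card F ^ 24 - 1) * (Fintype.card F ^ 30 - 1), ?_, ?_⟩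
    · rw [one_mul, Cfsg.Agent.S1065.result rfl, show chevE8.nroots / 2 = 120 from rfl]
      simp only [mul_assoc]
    · simp only [hp.dvd_mul, not_or]
      exact ⟨⟨⟨⟨⟨⟨⟨key 2 (by norm_num), key 8 (by norm_num)⟩, key 12 (by norm_num)⟩, key 14 (by norm_num)⟩,
        key 18 (by norm_num)⟩, key 20 (by norm_num)⟩, key 24 (by norm_num)⟩, key 30 (by norm_num)⟩

/-- The characteristic does not divide the index of `U` in the group. -/
theorem not_dvd_index_posUnipotent [Fintype F] (hD : D ∈ [chevG2, chevB2, chevD4, chevF4, chevE6, chevE7, chevE8])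
    {p : ℕ} (hp : p.Prime) (hpq : p ∣ Fintype.card F) :
    ¬ p ∣ ((D.posUnipotent F).subgroupOf (D.group F)).index := by
  obtain ⟨d, R, hdR, hR⟩ := exists_order_form (F := F) hD hp hpq
  have hUG : D.posUnipotent F ≤ D.group F := Cfsg.Agent.S1043.posUnipotent_le_group D hD
  have hcardU : Nat.card ↥((D.posUnipotent F).subgroupOf (D.group F)) = Fintype.card F ^ (D.nroots / 2) := by
    rw [Nat.card_congr (Subgroup.subgroupOfEquivOfLe hUG).toEquiv]
    exact Cfsg.Agent.S1027.card_posUnipotent D hD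
  have hmul := ((D.posUnipotent F).subgroupOf (D.group F)).card_mul_index
  rw [hcardU] at hmul
  rw [← hmul] at hdR
  have hq0 : 0 < Fintype.card F ^ (D.nroots / 2) := pow_pos Fintype.card_pos _
  have h2 : d * ((D.posUnipotent F).subgroupOf (D.group F)).index = R := by
    apply Nat.eq_of_mul_eq_mul_left hq0
    rw [← hdR]
    ring
  intro h
  exact hR (h2 ▸ Dvd.dvd.mul_left h d)

/-- `U` is a `p`-group, `p` the characteristic. -/
theorem isPGroup_posUnipotent [Fintype F] (hD : D ∈ [chevG2, chevB2, chevD4, chevF4, chevE6, chevE7, chevE8])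
    (p : ℕ) [hp : Fact p.Prime] [CharP F p] : IsPGroup p ↥(D.posUnipotent F) := by
  obtain ⟨n, -, hn⟩ := FiniteField.card F p
  apply IsPGroup.of_card (n := (n : ℕ) * (D.nroots / 2))
  rw [Cfsg.Agent.S1027.card_posUnipotent D hD, hn, pow_mul]

theorem exists_conj_posUnipotent [Finite F]
    (hD : D ∈ [chevG2, chevB2, chevD4, chevF4, chevE6, chevE7, chevE8])
    (θ : ↥(D.group F) ≃* ↥(D.group F)) :
    ∃ x : ↥(D.group F), img θ (D.posUnipotent F) =
      (D.posUnipotent F).map (MulAut.conj (x : GL D.Idx F)).toMonoidHom := by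
  cases nonempty_fintype F
  obtain ⟨p, hchar⟩ := CharP.exists F
  have hp : Fact p.Prime := ⟨CharP.char_is_prime F p⟩
  obtain ⟨n, -, hn⟩ := FiniteField.card F p
  have hpq : p ∣ Fintype.card F := by
    rw [hn]
    exact dvd_pow_self p n.ne_zero
  have hUG : D.posUnipotent F ≤ D.group F := Cfsg.Agent.S1043.posUnipotent_le_group D hD
  have hidx := not_dvd_index_posUnipotent (F := F) hD hp.out hpq
  have hPG : IsPGroup p ↥((D.posUnipotent F).subgroupOf (D.group F)) :=
    (isPGroup_posUnipotent (F := F) hD p).of_equiv (Subgroup.subgroupOfEquivOfLe hUG).symm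
  have hPG' : IsPGroup p ↥(((D.posUnipotent F).subgroupOf (D.group F)).map θ.toMonoidHom) :=
    hPG.map θ.toMonoidHom
  have hidx' : ¬ p ∣ (((D.posUnipotent F).subgroupOf (D.group F)).map θ.toMonoidHom).index := by
    have h := Subgroup.index_map_equiv ((D.posUnipotent F).subgroupOf (D.group F)) θ
    intro hdiv
    apply hidx
    rw [← h]
    exact hdiv
  let P : Sylow p ↥(D.group F) := hPG.toSylow hidx
  let Q : Sylow p ↥(D.group F) := hPG'.toSylow hidx'
  have : Finite ↥(D.group F) := inferInstance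
  obtain ⟨x, hx⟩ := MulAction.exists_smul_eq ↥(D.group F) P Q
  refine ⟨x, ?_⟩
  rw [← img_conjS x _ hUG]
  have hx' := congrArg (fun S : Sylow p ↥(D.group F) => (S : Subgroup ↥(D.group F))) hx
  simp only [Sylow.coe_subgroup_smul] at hx'
  show Subgroup.map (D.group F).subtype (((D.posUnipotent F).subgroupOf (D.group F)).map θ.toMonoidHom) =
    Subgroup.map (D.group F).subtype (((D.posUnipotent F).subgroupOf (D.group F)).map (conjS x).toMonoidHom)
  congr 1
  exact hx'.symm

end Cfsg.Agent.Lib.Helper6.Aut
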