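import Mathlib

/-!
# Module [DET-SQ] for S2733 (helper37, board #3579)

If `g * g = ν • 1` on a space of dimension `2 n` with `ν` a nonsquare, then `det g = (-ν) ^ n`:
`charpoly g * det (X + g) = (X ^ 2 - ν) ^ (2 n)` and `X ^ 2 - ν` is irreducible, hence
`charpoly g = (X ^ 2 - ν) ^ n`.
-/

set_option autoImplicit false

namespace Cfsg.Agent.Lib.Helper6.DetSq

open Matrix Polynomial

theorem det_of_sq_eq_nonsquare {ι : Type} [Fintype ι] [DecidableEq ι] {F : Type*} [Field F] (n : ℕ)
    (hcard : Fintype.card ι = 2 * n) (g : Matrix ι ι F) (ν : F) (hν : ¬ IsSquare ν)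
    (hgg : g * g = ν • (1 : Matrix ι ι F)) : g.det = (-ν) ^ n := by
  classical
  -- the polynomial `X ^ 2 - C ν`
  set f : F[X] := X ^ 2 - C ν with hf
  have hfmonic : f.Monic := monic_X_pow_sub_C ν (by norm_num)
  have hfdeg : f.natDegree = 2 := natDegree_X_pow_sub_C
  have hfirr : Irreducible f := by
    rw [hfmonic.irreducible_iff_roots_eq_zero_of_degree_le_three (by omega) (by omega)]
    rw [Multiset.eq_zero_iff_forall_notMem]
    intro r hr
    rw [mem_roots hfmonic.ne_zero, IsRoot.def, hf] at hr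
    simp only [eval_sub, eval_pow, eval_X, eval_C] at hr
    apply hν
    exact ⟨r, by rw [← pow_two]; exact (sub_eq_zero.mp hr).symm⟩
  have hfprime : Prime f := hfirr.prime
  -- product of the characteristic matrix with its twin
  have hprod : charmatrix g * (Matrix.scalar ι (X : F[X]) + (C : F →+* F[X]).mapMatrix g)
      = f • (1 : Matrix ι ι F[X]) := by
    have h1 : (C : F →+* F[X]).mapMatrix g * (C : F →+* F[X]).mapMatrix g
        = (C ν) • (1 : Matrix ι ι F[X]) := by
      rw [← map_mul, hgg]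
      ext i j
      simp [Matrix.one_apply, Matrix.smul_apply]
      split_ifs <;> simp
    have hcomm : Commute (Matrix.scalar ι (X : F[X])) ((C : F →+* F[X]).mapMatrix g) :=
      Matrix.scalar_commute _ (fun r' => Commute.all _ _) _
    rw [charmatrix]
    rw [sub_mul, mul_add, mul_add, h1, hcomm.eq]
    have h2 : Matrix.scalar ι (X : F[X]) * Matrix.scalar ι (X : F[X])
        = (X ^ 2 : F[X]) • (1 : Matrix ι ι F[X]) := by
      rw [← map_mul, ← pow_two]
      ext i j
      simp [Matrix.one_apply, Matrix.smul_apply, Matrix.scalar_apply, Matrix.diagonal_apply]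
    rw [h2, hf, sub_smul]
    abel
  have hdet : g.charpoly * (Matrix.scalar ι (X : F[X]) + (C : F →+* F[X]).mapMatrix g).det
      = f ^ (2 * n) := by
    rw [Matrix.charpoly, ← Matrix.det_mul, hprod, Matrix.det_smul, Matrix.det_one, mul_one, hcard]
  have hdvd : g.charpoly ∣ f ^ (2 * n) := ⟨_, hdet.symm⟩
  obtain ⟨i, hi, hassoc⟩ := (dvd_prime_pow hfprime (2 * n)).mp hdvd
  have heq : g.charpoly = f ^ i :=
    eq_of_monic_of_associated (Matrix.charpoly_monic g) (hfmonic.pow i) hassoc
  have hin : i = n := by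
    have h1 := Matrix.charpoly_natDegree_eq_dim g
    rw [heq, natDegree_pow, hfdeg, hcard] at h1
    omega
  rw [Matrix.det_eq_sign_charpoly_coeff, heq, hin, hcard, coeff_zero_eq_eval_zero, hf]
  simp only [eval_pow, eval_sub, eval_X, eval_C]
  rw [pow_mul]
  norm_num

end Cfsg.Agent.Lib.Helper6.DetSq
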