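/-
helper6: project D4ISO (helper95, S1082), module D4ISO-[G-MOVE]: a Siegel element at `e_a` moving one
singular vector to another one with the same `e_a`-coordinate of the polar form.
-/
import Mathlib
import Cfsg.Agent.Lib.Helper95.D4Iso.Defs
import Cfsg.Agent.Lib.Helper50.D4IsoGSiegel
import Cfsg.Agent.Lib.Helper98.D4IsoGMem
import Cfsg.Agent.Lib.Helper38.D4IsoGSiegelMem

set_option autoImplicit false

namespace Cfsg.Agent.Lib.Helper6.D4Iso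

open Matrix Cfsg.Agent.Lib.Helper95.D4Iso Cfsg.Agent.Lib.Helper50.D4Iso Cfsg.Agent.Lib.Helper98.D4Iso
  Cfsg.Agent.Lib.Helper38.D4Iso

variable {F : Type*} [Field F]

/-! ## [G-MOVE] -/
theorem exists_move (S : Finset (Fin 4)) (a : I8) (ha : lvl a ∈ S) (u u' : I8 → F)
    (hu : Qr u = 0) (hu' : Qr u' = 0) (hs : SuppIn S u) (hs' : SuppIn S u')
    (hβ : Bf u (eV a) = Bf u' (eV a)) (hβ0 : Bf u (eV a) ≠ 0) :
    ∃ g : ↥(OG F), g ∈ E0S F S ∧ ((g : GL I8 F) : Matrix I8 I8 F) *ᵥ u = u' ∧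
      ((g : GL I8 F) : Matrix I8 I8 F) *ᵥ eV a = eV a := by
  rw [Bf_eV_right] at hβ0
  rw [Bf_eV_right, Bf_eV_right] at hβ
  obtain ⟨β, hβdef⟩ : ∃ β : F, β = u (opp a) := ⟨_, rfl⟩
  rw [← hβdef] at hβ0
  have hβ' : u' (opp a) = β := by rw [← hβ, hβdef]
  obtain ⟨w₀, hw₀⟩ : ∃ w₀ : I8 → F, w₀ = β⁻¹ • (u' - u) := ⟨_, rfl⟩
  have haw : Bf (eV a) w₀ = 0 := by
    rw [Bf_comm, Bf_eV_right, hw₀, Pi.smul_apply, Pi.sub_apply, hβ', ← hβdef, sub_self, smul_zero]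
  have hsw : SuppIn S w₀ := by
    intro c hc
    rw [hw₀, Pi.smul_apply, Pi.sub_apply, hs c hc, hs' c hc, sub_self, smul_zero]
  obtain ⟨g, hg⟩ := exists_TO (eV a) w₀ (Qr_eV a) haw
  have hβw : β • w₀ = u' - u := by
    rw [hw₀, smul_smul, mul_inv_cancel₀ hβ0, one_smul]
  -- the key identity from `Q(u') = 0`
  have hkey : Bf u w₀ + β * Qr w₀ = 0 := by
    have h1 : u' = u + β • w₀ := by rw [hβw]; abel
    have h2 := hu'
    rw [h1, Qr_add, hu, Qr_smul, Bf_smul_right, zero_add] at h2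
    have h3 : β * (Bf u w₀ + β * Qr w₀) = 0 := by
      rw [← h2]; ring
    rcases mul_eq_zero.mp h3 with h | h
    · exact absurd h hβ0
    · exact h
  refine ⟨g, TM_eV_mem S a ha w₀ hsw haw g hg, ?_, ?_⟩
  · rw [hg, TM_mulVec, Bf_eV_right, ← hβdef, hβw]
    have h4 : Bf u w₀ • eV a + (Qr w₀ * β) • eV a = (0 : I8 → F) := by
      rw [← add_smul, mul_comm (Qr w₀) β, hkey, zero_smul]
    calc u + (u' - u) - Bf u w₀ • eV a - (Qr w₀ * β) • eV a
        = u' - (Bf u w₀ • eV a + (Qr w₀ * β) • eV a) := by abel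
      _ = u' := by rw [h4, sub_zero]
  · rw [hg]
    exact TM_fix (eV a) w₀ (Qr_eV a) haw

end Cfsg.Agent.Lib.Helper6.D4Iso
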