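/-
helper6: project D4ISO (helper95, S1082), module D4ISO-[G-TRANS]: the group `E0S S` generated by the root
elements of levels in `S` (`2 ≤ |S|`) is transitive on the non-zero singular vectors supported on `S`.
-/
import Mathlib
import Cfsg.Agent.Lib.Helper95.D4Iso.Defs
import Cfsg.Agent.Lib.Helper50.D4IsoGSiegel
import Cfsg.Agent.Lib.Helper6.D4IsoGMove

set_option autoImplicit false

namespace Cfsg.Agent.Lib.Helper6.D4Iso

open Matrix Cfsg.Agent.Lib.Helper95.D4Iso Cfsg.Agent.Lib.Helper50.D4Iso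

section ring
variable {R : Type*} [CommRing R]

theorem eV_apply (a b : I8) : (eV a : I8 → R) b = if b = a then 1 else 0 := by
  unfold eV
  rw [Pi.single_apply]

theorem eV_self (a : I8) : (eV a : I8 → R) a = 1 := by
  rw [eV_apply, if_pos rfl]

theorem eV_ne (a b : I8) (h : b ≠ a) : (eV a : I8 → R) b = 0 := by
  rw [eV_apply, if_neg h]

theorem lvl_opp (a : I8) : lvl (opp a) = lvl a := by
  rcases a with a | a <;> rfl

theorem ne_of_lvl_ne {c d : I8} (h : lvl d ≠ lvl c) : d ≠ c ∧ d ≠ opp c := by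
  constructor
  · rintro rfl
    exact h rfl
  · rintro rfl
    exact h (lvl_opp c)

theorem suppIn_eV (S : Finset (Fin 4)) (c : I8) (hc : lvl c ∈ S) : SuppIn S (eV c : I8 → R) := by
  intro a ha
  apply eV_ne
  rintro rfl
  exact ha hc

theorem suppIn_smul (S : Finset (Fin 4)) (β : R) (u : I8 → R) (hu : SuppIn S u) :
    SuppIn S (β • u) := by
  intro a ha
  rw [Pi.smul_apply, hu a ha, smul_zero]

theorem suppIn_add (S : Finset (Fin 4)) (u v : I8 → R) (hu : SuppIn S u) (hv : SuppIn S v) :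
    SuppIn S (u + v) := by
  intro a ha
  rw [Pi.add_apply, hu a ha, hv a ha, add_zero]

theorem Qr_smul_eV (β : R) (c : I8) : Qr (β • (eV c : I8 → R)) = 0 := by
  rw [Qr_smul, Qr_eV, mul_zero]

theorem Qr_smul_eV_add_eV (β : R) (c d : I8) (h : lvl d ≠ lvl c) :
    Qr (β • (eV c : I8 → R) + eV d) = 0 := by
  rw [Qr_add, Qr_smul_eV, Qr_eV, Bf_eV_right, Pi.smul_apply, eV_ne, smul_zero, add_zero, add_zero]
  intro h'
  apply h
  rw [← lvl_opp d, h']

end ring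

variable {F : Type*} [Field F]

/-- one step: `β e_c` can be moved to `e_d` if `c`, `d` have different levels in `S` -/
theorem exists_step (S : Finset (Fin 4)) (β : F) (hβ : β ≠ 0) (c d : I8) (hc : lvl c ∈ S)
    (hd : lvl d ∈ S) (h : lvl d ≠ lvl c) :
    ∃ g : ↥(OG F), g ∈ E0S F S ∧ ((g : GL I8 F) : Matrix I8 I8 F) *ᵥ (β • eV c) = eV d := by
  obtain ⟨hdc, hdc'⟩ := ne_of_lvl_ne h
  have hcd : c ≠ d := fun e => hdc e.symm
  have hB1 : Bf (β • (eV c : I8 → F)) (eV (opp c)) = β := by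
    rw [Bf_eV_right, opp_opp, Pi.smul_apply, eV_self, smul_eq_mul, mul_one]
  have hB2 : Bf (β • (eV c : I8 → F) + eV d) (eV (opp c)) = β := by
    rw [Bf_eV_right, opp_opp, Pi.add_apply, Pi.smul_apply, eV_self, eV_ne d c hcd, smul_eq_mul,
      mul_one, add_zero]
  have hB3 : Bf (β • (eV c : I8 → F) + eV d) (eV (opp d)) = 1 := by
    rw [Bf_eV_right, opp_opp, Pi.add_apply, Pi.smul_apply, eV_self, eV_ne c d hdc, smul_zero,
      zero_add]
  have hB4 : Bf (eV d : I8 → F) (eV (opp d)) = 1 := by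
    rw [Bf_eV_right, opp_opp, eV_self]
  obtain ⟨g₁, hg₁, hg₁u, -⟩ := exists_move S (opp c) (by rw [lvl_opp]; exact hc) (β • eV c)
    (β • eV c + eV d) (Qr_smul_eV β c) (Qr_smul_eV_add_eV β c d h)
    (suppIn_smul S β _ (suppIn_eV S c hc))
    (suppIn_add S _ _ (suppIn_smul S β _ (suppIn_eV S c hc)) (suppIn_eV S d hd))
    (by rw [hB1, hB2]) (by rw [hB1]; exact hβ)
  obtain ⟨g₂, hg₂, hg₂u, -⟩ := exists_move S (opp d) (by rw [lvl_opp]; exact hd)
    (β • eV c + eV d) (eV d) (Qr_smul_eV_add_eV β c d h) (Qr_eV d)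
    (suppIn_add S _ _ (suppIn_smul S β _ (suppIn_eV S c hc)) (suppIn_eV S d hd))
    (suppIn_eV S d hd) (by rw [hB3, hB4]) (by rw [hB3]; exact one_ne_zero)
  refine ⟨g₂ * g₁, Subgroup.mul_mem _ hg₂ hg₁, ?_⟩
  rw [Subgroup.coe_mul, Units.val_mul, ← mulVec_mulVec, hg₁u, hg₂u]

/-! ## [G-TRANS] -/
theorem exists_trans (S : Finset (Fin 4)) (hS : 2 ≤ S.card) (i₀ : Fin 4) (hi : i₀ ∈ S)
    (u : I8 → F) (hu0 : u ≠ 0) (hu : Qr u = 0) (hs : SuppIn S u) :
    ∃ g : ↥(OG F), g ∈ E0S F S ∧ ((g : GL I8 F) : Matrix I8 I8 F) *ᵥ u = eV (Sum.inl i₀) := by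
  obtain ⟨c, hc⟩ : ∃ c, u c ≠ 0 := by
    by_contra hcon
    exact hu0 (funext fun c => by
      by_contra hc
      exact hcon ⟨c, hc⟩)
  have hcS : lvl c ∈ S := by
    by_contra hcon
    exact hc (hs c hcon)
  obtain ⟨β, hβdef⟩ : ∃ β : F, β = u c := ⟨_, rfl⟩
  have hβ : β ≠ 0 := by rw [hβdef]; exact hc
  have hB0 : Bf u (eV (opp c)) = β := by
    rw [Bf_eV_right, opp_opp, hβdef]
  have hB1 : Bf (β • (eV c : I8 → F)) (eV (opp c)) = β := by
    rw [Bf_eV_right, opp_opp, Pi.smul_apply, eV_self, smul_eq_mul, mul_one]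
  obtain ⟨g₀, hg₀, hg₀u, -⟩ := exists_move S (opp c) (by rw [lvl_opp]; exact hcS) u (β • eV c) hu
    (Qr_smul_eV β c) hs (suppIn_smul S β _ (suppIn_eV S c hcS)) (by rw [hB0, hB1])
    (by rw [hB0]; exact hβ)
  by_cases hci : lvl c = i₀
  · -- go through another level
    obtain ⟨j, hjS, hji⟩ : ∃ j ∈ S, j ≠ i₀ := by
      apply Finset.exists_mem_ne _ i₀
      exact lt_of_lt_of_le one_lt_two hS
    obtain ⟨g₁, hg₁, hg₁u⟩ := exists_step S β hβ c (Sum.inl j) hcS hjS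
      (by rw [hci]; exact hji)
    obtain ⟨g₂, hg₂, hg₂u⟩ := exists_step S (1 : F) one_ne_zero (Sum.inl j) (Sum.inl i₀) hjS hi
      (fun e => hji e.symm)
    rw [one_smul] at hg₂u
    refine ⟨g₂ * (g₁ * g₀), Subgroup.mul_mem _ hg₂ (Subgroup.mul_mem _ hg₁ hg₀), ?_⟩
    rw [Subgroup.coe_mul, Units.val_mul, ← mulVec_mulVec, Subgroup.coe_mul, Units.val_mul,
      ← mulVec_mulVec, hg₀u, hg₁u, hg₂u]
  · obtain ⟨g₁, hg₁, hg₁u⟩ := exists_step S β hβ c (Sum.inl i₀) hcS hi (fun e => hci e.symm)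
    refine ⟨g₁ * g₀, Subgroup.mul_mem _ hg₁ hg₀, ?_⟩
    rw [Subgroup.coe_mul, Units.val_mul, ← mulVec_mulVec, hg₀u, hg₁u]

end Cfsg.Agent.Lib.Helper6.D4Iso
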