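import Mathlib
import Cfsg.Prelude.Def_LieExceptional

set_option autoImplicit false

namespace Cfsg.Agent.Lib.Helper6

open Cfsg

variable {F : Type*} [Field F]

/-- the first coordinate of the affine ovoid point with parameters `x y` -/
def szF (m : ℕ) (x y : F) : F := x * y + x ^ (2 ^ (m + 1) + 2) + y ^ (2 ^ (m + 1))

/-- the vector `(f(x,y), y, x, 1)` -/
def szVec (m : ℕ) (x y : F) : Fin 4 → F := ![szF m x y, y, x, 1]

theorem szVec_ne_zero (m : ℕ) (x y : F) : szVec m x y ≠ 0 := by
  intro h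
  have := congrFun h 3
  simp [szVec] at this

theorem szInf_ne_zero : (![1, 0, 0, 0] : Fin 4 → F) ≠ 0 := by
  intro h
  have := congrFun h 0
  simp at this

/-- the affine point of the ovoid with parameters `x y` -/
def szPt (m : ℕ) (x y : F) : Projectivization F (Fin 4 → F) :=
  Projectivization.mk F (szVec m x y) (szVec_ne_zero m x y)

theorem suzukiPointInfinity_eq : suzukiPointInfinity F = Projectivization.mk F ![1, 0, 0, 0] szInf_ne_zero :=
  rfl

theorem mem_suzukiOvoid_iff (m : ℕ) (p : Projectivization F (Fin 4 → F)) :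
    p ∈ suzukiOvoid F m ↔ p = suzukiPointInfinity F ∨ ∃ x y : F, p = szPt m x y := by
  constructor
  · rintro ⟨v, hv, rfl, h | ⟨x, y, h⟩⟩
    · left; subst h; rfl
    · right; refine ⟨x, y, ?_⟩; subst h; rfl
  · rintro (rfl | ⟨x, y, rfl⟩)
    · exact ⟨![1, 0, 0, 0], szInf_ne_zero, rfl, Or.inl rfl⟩
    · exact ⟨szVec m x y, szVec_ne_zero m x y, rfl, Or.inr ⟨x, y, rfl⟩⟩

theorem szPt_mem (m : ℕ) (x y : F) : szPt m x y ∈ suzukiOvoid F m :=
  (mem_suzukiOvoid_iff m _).2 (Or.inr ⟨x, y, rfl⟩)

theorem szInf_mem (m : ℕ) : suzukiPointInfinity F ∈ suzukiOvoid F m :=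
  (mem_suzukiOvoid_iff m _).2 (Or.inl rfl)

theorem szPt_ne_inf (m : ℕ) (x y : F) : szPt m x y ≠ suzukiPointInfinity F := by
  intro h
  rw [suzukiPointInfinity_eq, szPt, Projectivization.mk_eq_mk_iff] at h
  obtain ⟨a, ha⟩ := h
  have := congrFun ha 3
  simp [szVec] at this

theorem szPt_injective (m : ℕ) {x y x' y' : F} (h : szPt m x y = szPt m x' y') : x = x' ∧ y = y' := by
  rw [szPt, szPt, Projectivization.mk_eq_mk_iff] at h
  obtain ⟨a, ha⟩ := h
  have h3 := congrFun ha 3
  have h2 := congrFun ha 2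
  have h1 := congrFun ha 1
  simp [szVec] at h3 h2 h1
  rw [Units.smul_def, smul_eq_mul] at h3 h2 h1
  have ha1 : (a : F) = 1 := by simpa using h3
  rw [ha1, one_mul] at h2 h1
  exact ⟨h2.symm, h1.symm⟩

/-- parametrisation of the ovoid by `Option (F × F)`. -/
noncomputable def szParam (m : ℕ) : Option (F × F) → suzukiOvoid F m
  | none => ⟨suzukiPointInfinity F, szInf_mem m⟩
  | some (x, y) => ⟨szPt m x y, szPt_mem m x y⟩

theorem szParam_bijective (m : ℕ) : Function.Bijective (szParam (F := F) m) := by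
  constructor
  · intro a b h
    rcases a with _ | ⟨x, y⟩ <;> rcases b with _ | ⟨x', y'⟩
    · rfl
    · exfalso
      have := congrArg Subtype.val h
      exact szPt_ne_inf m x' y' this.symm
    · exfalso
      have := congrArg Subtype.val h
      exact szPt_ne_inf m x y this
    · have := congrArg Subtype.val h
      obtain ⟨h1, h2⟩ := szPt_injective m this
      rw [h1, h2]
  · rintro ⟨p, hp⟩
    rcases (mem_suzukiOvoid_iff m p).1 hp with rfl | ⟨x, y, rfl⟩
    · exact ⟨none, rfl⟩
    · exact ⟨some (x, y), rfl⟩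

theorem card_suzukiOvoid [Fintype F] (m : ℕ) :
    Nat.card (suzukiOvoid F m) = Fintype.card F ^ 2 + 1 := by
  rw [← Nat.card_congr (Equiv.ofBijective _ (szParam_bijective (F := F) m))]
  rw [Nat.card_eq_fintype_card, Fintype.card_option, Fintype.card_prod]
  ring

end Cfsg.Agent.Lib.Helper6
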