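import Mathlib
import Cfsg.Agent.Lib.Helper6.SzBasic

/-!
# Suzuki groups: the algebra of the Tits endomorphism (helper6)
-/

set_option autoImplicit false

namespace Cfsg.Agent.Lib.Helper6

open Cfsg

variable {F : Type*} [Field F]

/-- A field with `2^(2m+1)` elements has characteristic two. -/
theorem sz_charP [Fintype F] {m : ℕ} (hF : Fintype.card F = 2 ^ (2 * m + 1)) : CharP F 2 := by
  obtain ⟨p, hp, n, hpp, hn⟩ := FiniteField.card' F
  have hdvd : p ∣ 2 ^ (2 * m + 1) := by
    rw [← hF, hn]
    exact dvd_pow_self p n.ne_zero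
  have : p = 2 := (Nat.prime_dvd_prime_iff_eq hpp Nat.prime_two).mp (hpp.dvd_of_dvd_pow hdvd)
  rw [← this]
  exact hp

section CharTwo

variable [CharP F 2] (m : ℕ)

/-- The Tits endomorphism `t ↦ t^(2^(m+1))`. -/
noncomputable def sg : F →+* F := iterateFrobenius F 2 (m + 1)

theorem sg_apply (t : F) : sg m t = t ^ (2 ^ (m + 1)) := iterateFrobenius_def 2 (m + 1) t

theorem sg_injective : Function.Injective (sg (F := F) m) := (sg (F := F) m).injective

theorem two_eq_zero' : (2 : F) = 0 := CharTwo.two_eq_zero

theorem szF_eq (x y : F) : szF m x y = x * y + sg m x * x ^ 2 + sg m y := by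
  rw [szF, sg_apply, sg_apply, pow_add]

/-- The hypothesis that `σ² ` is the Frobenius map. -/
def SgSq : Prop := ∀ t : F, sg m (sg m t) = t ^ 2

theorem sgSq_of_card [Fintype F] (hF : Fintype.card F = 2 ^ (2 * m + 1)) : SgSq (F := F) m := by
  intro t
  rw [sg_apply, sg_apply, ← pow_mul, ← pow_add]
  have : 2 ^ (m + 1 + (m + 1)) = 2 ^ (2 * m + 1) * 2 := by
    rw [← pow_succ]; congr 1; ring
  rw [this, pow_mul, ← hF, FiniteField.pow_card]

variable {m}

theorem szF_translate (hσ : SgSq (F := F) m) (x y a b : F) :
    szF m (x + a) (y + sg m a * x + b) =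
      szF m x y + a * y + (b + a * sg m a) * x + szF m a b := by
  simp only [szF_eq, map_add, map_mul, hσ a]
  have h2 : (2 : F) = 0 := two_eq_zero'
  generalize sg m x = X
  generalize sg m y = Y
  generalize sg m a = A
  generalize sg m b = B
  grind

theorem szF_scale (hσ : SgSq (F := F) m) (k x y : F) :
    szF m (k * x) (k * sg m k * y) = k ^ 2 * sg m k * szF m x y := by
  simp only [szF_eq, map_mul, hσ k]
  ring

/-- The key identity behind the action of the antidiagonal matrix. -/
theorem szF_inv_identity (hσ : SgSq (F := F) m) (x y : F) :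
    x * y * sg m (szF m x y) + sg m y * y ^ 2 + sg m x * (szF m x y) ^ 2 =
      szF m x y * sg m (szF m x y) := by
  simp only [szF_eq, map_add, map_mul, map_pow, hσ x, hσ y]
  have h2 : (2 : F) = 0 := two_eq_zero'
  generalize sg m x = X
  generalize sg m y = Y
  grind

theorem szF_eq_zero_iff (hσ : SgSq (F := F) m) (x y : F) : szF m x y = 0 ↔ x = 0 ∧ y = 0 := by
  constructor
  · intro h
    by_cases hx : x = 0
    · subst hx
      rw [szF_eq] at h
      simp only [zero_mul, map_zero, zero_add] at h
      exact ⟨rfl, (map_eq_zero (sg m)).mp h⟩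
    · exfalso
      have hX : sg m x ≠ 0 := (map_ne_zero (sg m)).mpr hx
      -- u = y / (x σ(x)) satisfies σ(u) = u + 1
      set u := y / (x * sg m x) with hu
      have hy : y = u * (x * sg m x) := by
        rw [hu]; field_simp
      have h2 : (2 : F) = 0 := two_eq_zero'
      have h1 : sg m u = u + 1 := by
        rw [szF_eq, hy] at h
        simp only [map_mul, hσ x] at h
        have h' : x ^ 2 * sg m x * (u + 1 + sg m u) = 0 := by
          rw [← h]; ring
        have h'' : u + 1 + sg m u = 0 := by
          rcases mul_eq_zero.mp h' with h3 | h3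
          · exfalso
            rcases mul_eq_zero.mp h3 with h4 | h4
            · exact hx (pow_eq_zero_iff (two_ne_zero) |>.mp h4)
            · exact hX h4
          · exact h3
        grind
      have h3 : sg m (sg m u) = sg m u + 1 := by
        rw [h1, map_add, map_one, h1]
      rw [hσ u, h1] at h3
      -- u^2 = u + 1 + 1 = u
      have h4 : u ^ 2 = u := by grind
      have h5 : u = 0 ∨ u = 1 := by
        have : u * (u - 1) = 0 := by rw [← sub_eq_zero] at h4; rw [← h4]; ring
        rcases mul_eq_zero.mp this with h | h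
        · exact Or.inl h
        · exact Or.inr (sub_eq_zero.mp h)
      rcases h5 with h5 | h5
      · rw [h5, map_zero] at h1
        exact one_ne_zero (by rw [zero_add] at h1; exact h1.symm)
      · rw [h5, map_one] at h1
        have : (1 : F) = 0 := by grind
        exact one_ne_zero this
  · rintro ⟨rfl, rfl⟩
    rw [szF_eq]
    simp

/-- `f(y/f, x/f) = 1/f` for `f = f(x,y) ≠ 0`. -/
theorem szF_inv (hσ : SgSq (F := F) m) (x y : F) (hf : szF m x y ≠ 0) :
    szF m (y / szF m x y) (x / szF m x y) = (szF m x y)⁻¹ := by
  have hid := szF_inv_identity hσ x y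
  have hsf : sg m (szF m x y) ≠ 0 := (map_ne_zero (sg m)).mpr hf
  rw [szF_eq (x := y / szF m x y)]
  simp only [map_div₀]
  generalize hfdef : szF m x y = f at *
  generalize sg m f = Sf at *
  field_simp
  linear_combination hid

end CharTwo

end Cfsg.Agent.Lib.Helper6
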