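import Mathlib
import Cfsg.Agent.Lib.Helper6.SzAlg

/-!
# Suzuki groups: the generating matrices (helper6)
-/

set_option autoImplicit false

namespace Cfsg.Agent.Lib.Helper6

open Cfsg Matrix

variable {F : Type*} [Field F] [CharP F 2] (m : ℕ)

/-- translation matrix -/
noncomputable def szTmat (a b : F) : Matrix (Fin 4) (Fin 4) F :=
  !![1, a, b + a * sg m a, szF m a b; 0, 1, sg m a, b; 0, 0, 1, a; 0, 0, 0, 1]

theorem det_szTmat (a b : F) : (szTmat m a b).det = 1 := by
  rw [szTmat]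
  simp [Matrix.det_succ_row_zero, Fin.sum_univ_succ, Fin.succAbove]

/-- the translation `T(a,b)` -/
noncomputable def szT (a b : F) : SpecialLinearGroup (Fin 4) F := ⟨szTmat m a b, det_szTmat m a b⟩

/-- diagonal matrix -/
noncomputable def szHmat (k : Fˣ) : Matrix (Fin 4) (Fin 4) F :=
  !![(k : F) ^ (2 ^ m + 1), 0, 0, 0; 0, (k : F) ^ (2 ^ m), 0, 0;
     0, 0, ((k⁻¹ : Fˣ) : F) ^ (2 ^ m), 0; 0, 0, 0, ((k⁻¹ : Fˣ) : F) ^ (2 ^ m + 1)]

theorem det_szHmat (k : Fˣ) : (szHmat m k).det = 1 := by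
  rw [szHmat]
  simp [Matrix.det_succ_row_zero, Fin.sum_univ_succ, Fin.succAbove]

/-- the diagonal element `H(k)` -/
noncomputable def szH (k : Fˣ) : SpecialLinearGroup (Fin 4) F := ⟨szHmat m k, det_szHmat m k⟩

/-- antidiagonal matrix -/
def szWmat : Matrix (Fin 4) (Fin 4) F :=
  !![0, 0, 0, 1; 0, 0, 1, 0; 0, 1, 0, 0; 1, 0, 0, 0]

theorem det_szWmat : (szWmat (F := F)).det = 1 := by
  rw [szWmat]
  simp [Matrix.det_succ_row_zero, Fin.sum_univ_succ, Fin.succAbove]
  norm_num

/-- the involution `w` -/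
def szW : SpecialLinearGroup (Fin 4) F := ⟨szWmat, det_szWmat⟩

variable {m}

omit [CharP F 2] in
theorem sl_smul_apply (g : SpecialLinearGroup (Fin 4) F) (v : Fin 4 → F) (i : Fin 4) :
    (g • v) i = ∑ j, g.1 i j * v j := rfl

theorem szT_smul_vec (hσ : SgSq (F := F) m) (a b x y : F) :
    szT m a b • szVec m x y = szVec m (x + a) (y + sg m a * x + b) := by
  ext i
  rw [sl_smul_apply, Fin.sum_univ_four]
  fin_cases i
  · simp [szT, szTmat, szVec]
    linear_combination (-1 : F) * szF_translate hσ x y a b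
  · simp [szT, szTmat, szVec]
    try ring
  · simp [szT, szTmat, szVec]
  · simp [szT, szTmat, szVec]

theorem szT_smul_inf (a b : F) :
    szT m a b • (![1, 0, 0, 0] : Fin 4 → F) = ![1, 0, 0, 0] := by
  ext i
  rw [sl_smul_apply, Fin.sum_univ_four]
  fin_cases i <;> simp [szT, szTmat]

theorem szW_smul_vec (x y : F) :
    (szW : SpecialLinearGroup (Fin 4) F) • szVec m x y = ![1, x, y, szF m x y] := by
  ext i
  rw [sl_smul_apply, Fin.sum_univ_four]
  fin_cases i <;> simp [szW, szWmat, szVec]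

theorem szW_smul_inf :
    (szW : SpecialLinearGroup (Fin 4) F) • (![1, 0, 0, 0] : Fin 4 → F) = ![0, 0, 0, 1] := by
  ext i
  rw [sl_smul_apply, Fin.sum_univ_four]
  fin_cases i <;> simp [szW, szWmat]

theorem szW_smul_zero :
    (szW : SpecialLinearGroup (Fin 4) F) • (![0, 0, 0, 1] : Fin 4 → F) = ![1, 0, 0, 0] := by
  ext i
  rw [sl_smul_apply, Fin.sum_univ_four]
  fin_cases i <;> simp [szW, szWmat]

theorem szH_smul_vec (k : Fˣ) (v : Fin 4 → F) :
    szH m k • v = ![(k : F) ^ (2 ^ m + 1) * v 0, (k : F) ^ (2 ^ m) * v 1,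
      ((k⁻¹ : Fˣ) : F) ^ (2 ^ m) * v 2, ((k⁻¹ : Fˣ) : F) ^ (2 ^ m + 1) * v 3] := by
  ext i
  rw [sl_smul_apply, Fin.sum_univ_four]
  fin_cases i <;> simp [szH, szHmat]

/-! ### Action on points -/

omit [CharP F 2] in
theorem szPt_zero : szPt m (0 : F) 0 = suzukiPointZero F := by
  rw [szPt, suzukiPointZero, Projectivization.mk_eq_mk_iff']
  refine ⟨1, ?_⟩
  rw [one_smul]
  ext i
  fin_cases i <;> simp [szVec, szF]

theorem szT_smul_pt (hσ : SgSq (F := F) m) (a b x y : F) :
    szT m a b • szPt m x y = szPt m (x + a) (y + sg m a * x + b) := by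
  rw [szPt, Projectivization.smul_mk, szPt, Projectivization.mk_eq_mk_iff']
  exact ⟨1, by rw [one_smul, szT_smul_vec hσ]⟩

theorem szT_smul_infPt (a b : F) : szT m a b • suzukiPointInfinity F = suzukiPointInfinity F := by
  rw [suzukiPointInfinity, Projectivization.smul_mk, Projectivization.mk_eq_mk_iff']
  exact ⟨1, by rw [one_smul, szT_smul_inf]⟩

theorem szW_smul_infPt : (szW : SpecialLinearGroup (Fin 4) F) • suzukiPointInfinity F =
    suzukiPointZero F := by
  rw [suzukiPointInfinity, Projectivization.smul_mk, suzukiPointZero,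
    Projectivization.mk_eq_mk_iff']
  exact ⟨1, by rw [one_smul, szW_smul_inf]⟩

theorem szW_smul_zeroPt : (szW : SpecialLinearGroup (Fin 4) F) • suzukiPointZero F =
    suzukiPointInfinity F := by
  rw [suzukiPointZero, Projectivization.smul_mk, suzukiPointInfinity,
    Projectivization.mk_eq_mk_iff']
  exact ⟨1, by rw [one_smul, szW_smul_zero]⟩

theorem szW_smul_pt (hσ : SgSq (F := F) m) (x y : F) (hf : szF m x y ≠ 0) :
    (szW : SpecialLinearGroup (Fin 4) F) • szPt m x y =
      szPt m (y / szF m x y) (x / szF m x y) := by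
  rw [szPt, Projectivization.smul_mk, szPt, Projectivization.mk_eq_mk_iff']
  refine ⟨szF m x y, ?_⟩
  rw [szW_smul_vec]
  ext i
  fin_cases i
  · simp [szVec, szF_inv hσ x y hf, hf]
  · simp [szVec]; field_simp
  · simp [szVec]; field_simp
  · simp [szVec]

theorem szH_smul_pt (hσ : SgSq (F := F) m) (k : Fˣ) (x y : F) :
    szH m k • szPt m x y = szPt m ((k : F) * x) ((k : F) * sg m (k : F) * y) := by
  rw [szPt, Projectivization.smul_mk, szPt, Projectivization.mk_eq_mk_iff']
  refine ⟨((k⁻¹ : Fˣ) : F) ^ (2 ^ m + 1), ?_⟩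
  rw [szH_smul_vec]
  have hk : (k : F) ≠ 0 := k.ne_zero
  have hs : sg m (k : F) = ((k : F) ^ (2 ^ m)) ^ 2 := by
    rw [sg_apply, ← pow_mul, pow_succ]
  have hr : (k : F) ^ (2 ^ m) ≠ 0 := pow_ne_zero _ hk
  ext i
  fin_cases i
  · simp [szVec, hs, pow_succ]
    field_simp
    have := szF_scale hσ (k : F) x y
    rw [hs] at this
    have e1 : ((k : F) ^ 2 ^ m) ^ 2 * (k : F) * y = (k : F) * ((k : F) ^ 2 ^ m) ^ 2 * y := by ring
    rw [e1, this]
    ring
  · simp [szVec, hs, pow_succ]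
    field_simp
  · simp [szVec, pow_succ]
    field_simp
  · simp [szVec]

theorem szH_smul_infPt (k : Fˣ) : szH m k • suzukiPointInfinity F = suzukiPointInfinity F := by
  rw [suzukiPointInfinity, Projectivization.smul_mk, Projectivization.mk_eq_mk_iff']
  refine ⟨(k : F) ^ (2 ^ m + 1), ?_⟩
  rw [szH_smul_vec]
  ext i
  fin_cases i <;> simp

theorem szH_smul_zeroPt (k : Fˣ) : szH m k • suzukiPointZero F = suzukiPointZero F := by
  rw [suzukiPointZero, Projectivization.smul_mk, Projectivization.mk_eq_mk_iff']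
  refine ⟨((k⁻¹ : Fˣ) : F) ^ (2 ^ m + 1), ?_⟩
  rw [szH_smul_vec]
  ext i
  fin_cases i <;> simp

/-! ### Membership in the Suzuki group -/

omit [CharP F 2] in
theorem finite_suzukiOvoid [Finite F] : (suzukiOvoid F m).Finite := by
  have : Finite (suzukiOvoid F m) :=
    Finite.of_surjective _ (szParam_bijective (F := F) m).surjective
  exact Set.toFinite _

open scoped Pointwise in
omit [CharP F 2] in
theorem mem_Sz_of_forall [Finite F] (g : SpecialLinearGroup (Fin 4) F)
    (hinf : g • suzukiPointInfinity F ∈ suzukiOvoid F m)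
    (h : ∀ x y, g • szPt m x y ∈ suzukiOvoid F m) : g ∈ Sz F m := by
  rw [Sz, MulAction.mem_stabilizer_set_iff_smul_set_subset finite_suzukiOvoid]
  rintro _ ⟨p, hp, rfl⟩
  rcases (mem_suzukiOvoid_iff m p).1 hp with rfl | ⟨x, y, rfl⟩
  · exact hinf
  · exact h x y

theorem szT_mem [Finite F] (hσ : SgSq (F := F) m) (a b : F) : szT m a b ∈ Sz F m := by
  apply mem_Sz_of_forall
  · rw [szT_smul_infPt]; exact szInf_mem m
  · intro x y
    rw [szT_smul_pt hσ]; exact szPt_mem m _ _

theorem szH_mem [Finite F] (hσ : SgSq (F := F) m) (k : Fˣ) : szH m k ∈ Sz F m := by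
  apply mem_Sz_of_forall
  · rw [szH_smul_infPt]; exact szInf_mem m
  · intro x y
    rw [szH_smul_pt hσ]; exact szPt_mem m _ _

theorem szW_mem [Finite F] (hσ : SgSq (F := F) m) :
    (szW : SpecialLinearGroup (Fin 4) F) ∈ Sz F m := by
  apply mem_Sz_of_forall
  · rw [szW_smul_infPt, ← szPt_zero (m := m)]; exact szPt_mem m _ _
  · intro x y
    by_cases hf : szF m x y = 0
    · obtain ⟨rfl, rfl⟩ := (szF_eq_zero_iff hσ x y).mp hf
      rw [szPt_zero, szW_smul_zeroPt]; exact szInf_mem m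
    · rw [szW_smul_pt hσ x y hf]; exact szPt_mem m _ _

end Cfsg.Agent.Lib.Helper6
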