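import Mathlib
import Cfsg.Agent.Lib.Helper6.SzMat

/-!
# Suzuki groups: double transitivity on the ovoid (helper6)
-/

set_option autoImplicit false

namespace Cfsg.Agent.Lib.Helper6

open Cfsg Matrix

variable {F : Type*} [Field F] [CharP F 2] {m : ℕ}

/-- `T(x, y + σ(x) x)` moves the affine point `(x, y)` to the origin. -/
theorem szT_smul_pt_self (hσ : SgSq (F := F) m) (x y : F) :
    szT m x (y + sg m x * x) • szPt m x y = suzukiPointZero F := by
  rw [szT_smul_pt hσ, ← szPt_zero (m := m)]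
  have h2 : (2 : F) = 0 := two_eq_zero'
  congr 1
  · grind
  · generalize sg m x = X
    grind

/-- Every point of the ovoid can be moved to infinity by an element of the Suzuki group. -/
theorem sz_exists_to_inf [Finite F] (hσ : SgSq (F := F) m)
    {P : Projectivization F (Fin 4 → F)} (hP : P ∈ suzukiOvoid F m) :
    ∃ g ∈ Sz F m, g • P = suzukiPointInfinity F := by
  rcases (mem_suzukiOvoid_iff m P).1 hP with rfl | ⟨x, y, rfl⟩
  · exact ⟨1, (Sz F m).one_mem, one_smul _ _⟩
  · refine ⟨szW * szT m x (y + sg m x * x),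
      (Sz F m).mul_mem (szW_mem hσ) (szT_mem hσ _ _), ?_⟩
    rw [mul_smul, szT_smul_pt_self hσ, szW_smul_zeroPt]

open scoped Pointwise in
omit [CharP F 2] in
/-- Elements of the Suzuki group map the ovoid to itself. -/
theorem sz_smul_mem {g : SpecialLinearGroup (Fin 4) F} (hg : g ∈ Sz F m)
    {P : Projectivization F (Fin 4 → F)} (hP : P ∈ suzukiOvoid F m) :
    g • P ∈ suzukiOvoid F m := by
  have h : g • suzukiOvoid F m = suzukiOvoid F m := hg
  rw [← h]
  exact Set.smul_mem_smul_set hP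

/-- Two distinct points of the ovoid can be moved to `∞` and `0` by an element of the Suzuki
group. -/
theorem sz_exists_map [Finite F] (hσ : SgSq (F := F) m)
    {P Q : Projectivization F (Fin 4 → F)} (hP : P ∈ suzukiOvoid F m)
    (hQ : Q ∈ suzukiOvoid F m) (hPQ : P ≠ Q) :
    ∃ g ∈ Sz F m, g • P = suzukiPointInfinity F ∧ g • Q = suzukiPointZero F := by
  obtain ⟨g0, hg0, hg0P⟩ := sz_exists_to_inf hσ hP
  have hQ' : g0 • Q ∈ suzukiOvoid F m := sz_smul_mem hg0 hQ
  rcases (mem_suzukiOvoid_iff m _).1 hQ' with h | ⟨x, y, hxy⟩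
  · exfalso
    rw [← hg0P] at h
    exact hPQ (smul_left_cancel g0 h).symm
  · refine ⟨szT m x (y + sg m x * x) * g0, (Sz F m).mul_mem (szT_mem hσ _ _) hg0, ?_, ?_⟩
    · rw [mul_smul, hg0P, szT_smul_infPt]
    · rw [mul_smul, hxy, szT_smul_pt_self hσ]

end Cfsg.Agent.Lib.Helper6
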