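import Mathlib
import Cfsg.Agent.Lib.Helper6.SzTrans

/-!
# Suzuki groups: the two-point stabiliser (helper6)
-/

set_option autoImplicit false

namespace Cfsg.Agent.Lib.Helper6

open Cfsg Matrix Polynomial

theorem coeffs_zero_of_forall_eval {F : Type*} [Field F] [Fintype F] {e1 e2 e3 e4 : ℕ}
    (h12 : e1 < e2) (h23 : e2 < e3) (h34 : e3 < e4) (h4 : e4 < Fintype.card F)
    (a1 a2 a3 a4 : F)
    (h : ∀ t : F, a1 * t ^ e1 + a2 * t ^ e2 + a3 * t ^ e3 + a4 * t ^ e4 = 0) :
    a1 = 0 ∧ a2 = 0 ∧ a3 = 0 ∧ a4 = 0 := by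
  let P : F[X] := C a1 * X ^ e1 + C a2 * X ^ e2 + C a3 * X ^ e3 + C a4 * X ^ e4
  have heval : ∀ t : F, P.eval t = 0 := by
    intro t
    simp only [P, eval_add, eval_mul, eval_C, eval_pow, eval_X]
    exact h t
  have hdeg : P.natDegree < Fintype.card F := by
    refine lt_of_le_of_lt ?_ h4
    have d1 : (C a1 * X ^ e1 : F[X]).natDegree ≤ e4 :=
      (natDegree_C_mul_X_pow_le a1 e1).trans (by omega)
    have d2 : (C a2 * X ^ e2 : F[X]).natDegree ≤ e4 :=
      (natDegree_C_mul_X_pow_le a2 e2).trans (by omega)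
    have d3 : (C a3 * X ^ e3 : F[X]).natDegree ≤ e4 :=
      (natDegree_C_mul_X_pow_le a3 e3).trans (by omega)
    have d4 : (C a4 * X ^ e4 : F[X]).natDegree ≤ e4 := natDegree_C_mul_X_pow_le a4 e4
    exact natDegree_add_le_of_degree_le (natDegree_add_le_of_degree_le
      (natDegree_add_le_of_degree_le d1 d2) d3) d4
  have hP : P = 0 :=
    eq_zero_of_natDegree_lt_card_of_eval_eq_zero P (f := id) Function.injective_id heval hdeg
  have hc : ∀ n, P.coeff n = 0 := by rw [hP]; simp
  have c1 := hc e1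
  have c2 := hc e2
  have c3 := hc e3
  have c4 := hc e4
  simp only [P, coeff_add, coeff_C_mul, coeff_X_pow] at c1 c2 c3 c4
  have n12 : e1 ≠ e2 := by omega
  have n13 : e1 ≠ e3 := by omega
  have n14 : e1 ≠ e4 := by omega
  have n23 : e2 ≠ e3 := by omega
  have n24 : e2 ≠ e4 := by omega
  have n34 : e3 ≠ e4 := by omega
  simp [n12, n13, n14, n23, n24, n34, n12.symm, n13.symm, n14.symm, n23.symm, n24.symm, n34.symm]
    at c1 c2 c3 c4
  exact ⟨c1, c2, c3, c4⟩

variable {F : Type*} [Field F] [CharP F 2] {m : ℕ}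

omit [CharP F 2] in
theorem col0_of_fix_inf (g : SpecialLinearGroup (Fin 4) F)
    (h : g • suzukiPointInfinity F = suzukiPointInfinity F) (i : Fin 4) (hi : i ≠ 0) :
    g.1 i 0 = 0 := by
  rw [suzukiPointInfinity, Projectivization.smul_mk, Projectivization.mk_eq_mk_iff'] at h
  obtain ⟨a, ha⟩ := h
  have := congrFun ha i
  rw [sl_smul_apply, Fin.sum_univ_four] at this
  fin_cases i
  · exact absurd rfl hi
  · simpa using this.symm
  · simpa using this.symm
  · simpa using this.symm

omit [CharP F 2] in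
theorem col3_of_fix_zero (g : SpecialLinearGroup (Fin 4) F)
    (h : g • suzukiPointZero F = suzukiPointZero F) (i : Fin 4) (hi : i ≠ 3) :
    g.1 i 3 = 0 := by
  rw [suzukiPointZero, Projectivization.smul_mk, Projectivization.mk_eq_mk_iff'] at h
  obtain ⟨a, ha⟩ := h
  have := congrFun ha i
  rw [sl_smul_apply, Fin.sum_univ_four] at this
  fin_cases i
  · simpa using this.symm
  · simpa using this.symm
  · simpa using this.symm
  · exact absurd rfl hi

omit [CharP F 2] in
/-- The image of an affine point under an element of the Suzuki group fixing `∞`. -/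
theorem exists_smul_szVec {g : SpecialLinearGroup (Fin 4) F} (hg : g ∈ Sz F m)
    (hinf : g • suzukiPointInfinity F = suzukiPointInfinity F) (x y : F) :
    ∃ x' y' : F, g • szVec m x y = (g • szVec m x y) 3 • szVec m x' y' ∧
      (g • szVec m x y) 3 ≠ 0 := by
  have hmem : g • szPt m x y ∈ suzukiOvoid F m := sz_smul_mem hg (szPt_mem m x y)
  rcases (mem_suzukiOvoid_iff m _).1 hmem with h | ⟨x', y', h⟩
  · exfalso
    rw [← hinf] at h
    exact szPt_ne_inf m x y (smul_left_cancel g h)
  · refine ⟨x', y', ?_⟩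
    rw [szPt, Projectivization.smul_mk, szPt, Projectivization.mk_eq_mk_iff'] at h
    obtain ⟨a, ha⟩ := h
    have h3 : a = (g • szVec m x y) 3 := by
      have := congrFun ha 3
      simpa [szVec] using this
    rw [← h3]
    refine ⟨ha.symm, ?_⟩
    intro ha0
    rw [ha0, zero_smul] at ha
    exact (smul_ne_zero_iff_ne g).mpr (szVec_ne_zero m x y) ha.symm

omit [CharP F 2] in
theorem sz_exp_lt [Fintype F] (hm : 1 ≤ m) (hF : Fintype.card F = 2 ^ (2 * m + 1)) :
    2 < 2 ^ (m + 1) ∧ 2 ^ (m + 1) + 2 < Fintype.card F := by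
  have hu : 2 ≤ 2 ^ m := by
    calc 2 = 2 ^ 1 := by norm_num
      _ ≤ 2 ^ m := Nat.pow_le_pow_right (by norm_num) hm
  rw [hF]
  have e1 : 2 ^ (m + 1) = 2 * 2 ^ m := by rw [pow_succ]; ring
  have e2 : 2 ^ (2 * m + 1) = 2 * (2 ^ m * 2 ^ m) := by
    rw [pow_succ, two_mul, pow_add]; ring
  rw [e1, e2]
  constructor
  · omega
  · nlinarith

/-- The functional equation satisfied by an element of the Suzuki group fixing `∞` and `0`. -/
theorem stab_functional_eq {g : SpecialLinearGroup (Fin 4) F} (hg : g ∈ Sz F m)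
    (hinf : g • suzukiPointInfinity F = suzukiPointInfinity F)
    (hzero : g • suzukiPointZero F = suzukiPointZero F) :
    g.1 3 1 = 0 ∧ g.1 3 2 = 0 ∧ g.1 3 3 ≠ 0 ∧ ∀ x y : F,
      g.1 0 0 * szF m x y + g.1 0 1 * y + g.1 0 2 * x =
        g.1 3 3 * szF m ((g.1 2 1 * y + g.1 2 2 * x) / g.1 3 3)
          ((g.1 1 1 * y + g.1 1 2 * x) / g.1 3 3) := by
  have c0 := col0_of_fix_inf g hinf
  have c3 := col3_of_fix_zero g hzero
  have hvec : ∀ x y i, (g • szVec m x y) i =
      g.1 i 0 * szF m x y + g.1 i 1 * y + g.1 i 2 * x + g.1 i 3 := by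
    intro x y i
    rw [sl_smul_apply, Fin.sum_univ_four]
    simp [szVec]
  have hB := fun x y => exists_smul_szVec hg hinf x y
  have h3 : ∀ x y, (g • szVec m x y) 3 = g.1 3 1 * y + g.1 3 2 * x + g.1 3 3 := by
    intro x y
    rw [hvec, c0 3 (by decide)]
    ring
  have hr1 : g.1 3 1 = 0 := by
    by_contra hne
    obtain ⟨_, _, _, h⟩ := hB 0 (- g.1 3 3 / g.1 3 1)
    apply h
    rw [h3]
    field_simp
    ring
  have hr2 : g.1 3 2 = 0 := by
    by_contra hne
    obtain ⟨_, _, _, h⟩ := hB (- g.1 3 3 / g.1 3 2) 0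
    apply h
    rw [h3]
    field_simp
    ring
  have h3' : ∀ x y, (g • szVec m x y) 3 = g.1 3 3 := by
    intro x y
    rw [h3, hr1, hr2]
    ring
  have hmu : g.1 3 3 ≠ 0 := by
    obtain ⟨_, _, _, h⟩ := hB 0 0
    rwa [h3'] at h
  refine ⟨hr1, hr2, hmu, ?_⟩
  intro x y
  obtain ⟨x', y', he, -⟩ := hB x y
  rw [h3'] at he
  have e0 := congrFun he 0
  have e1 := congrFun he 1
  have e2 := congrFun he 2
  rw [hvec] at e0 e1 e2
  simp only [szVec, Pi.smul_apply, smul_eq_mul, Matrix.cons_val_zero, Matrix.cons_val_one,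
    Matrix.cons_val] at e0 e1 e2
  rw [c3 0 (by decide)] at e0
  rw [c0 1 (by decide), c3 1 (by decide)] at e1
  rw [c0 2 (by decide), c3 2 (by decide)] at e2
  have hx' : x' = (g.1 2 1 * y + g.1 2 2 * x) / g.1 3 3 := by
    field_simp
    linear_combination -e2
  have hy' : y' = (g.1 1 1 * y + g.1 1 2 * x) / g.1 3 3 := by
    field_simp
    linear_combination -e1
  rw [← hx', ← hy']
  linear_combination e0

omit [CharP F 2] in
theorem szF_zero_left (y : F) : szF m 0 y = y ^ (2 ^ (m + 1)) := by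
  simp [szF]

omit [CharP F 2] in
theorem szF_zero_right (x : F) : szF m x 0 = x ^ (2 ^ (m + 1) + 2) := by
  simp [szF]

/-- An element of the Suzuki group fixing `∞` and `0` is diagonal of the form `H(k)`. -/
theorem eq_szH_of_fix [Fintype F] (hm : 1 ≤ m) (hF : Fintype.card F = 2 ^ (2 * m + 1))
    {g : SpecialLinearGroup (Fin 4) F} (hg : g ∈ Sz F m)
    (hinf : g • suzukiPointInfinity F = suzukiPointInfinity F)
    (hzero : g • suzukiPointZero F = suzukiPointZero F) : ∃ k : Fˣ, g = szH m k := by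
  have h2 : (2 : F) = 0 := two_eq_zero'
  have c0 := col0_of_fix_inf g hinf
  have c3 := col3_of_fix_zero g hzero
  obtain ⟨hr1, hr2, hmu, hfe⟩ := stab_functional_eq hg hinf hzero
  obtain ⟨hs2, hsq⟩ := sz_exp_lt hm hF
  set s := 2 ^ (m + 1) with hs
  set mu := g.1 3 3 with hmu_def
  set lam := g.1 0 0 with hlam_def
  -- specialise x = 0
  have hy := coeffs_zero_of_forall_eval (F := F) (e1 := 1) (e2 := 2) (e3 := s) (e4 := s + 2)
    (by norm_num) hs2 (by omega) hsq
    (g.1 0 1) (-(mu * ((g.1 2 1 / mu) * (g.1 1 1 / mu))))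
    (lam - mu * (g.1 1 1 / mu) ^ s) (-(mu * (g.1 2 1 / mu) ^ (s + 2))) (by
      intro t
      have := hfe 0 t
      rw [szF_zero_left] at this
      simp only [mul_zero, add_zero] at this
      rw [szF] at this
      rw [← hs] at this
      have e1 : g.1 2 1 * t / mu = (g.1 2 1 / mu) * t := by ring
      have e2 : g.1 1 1 * t / mu = (g.1 1 1 / mu) * t := by ring
      rw [e1, e2, mul_pow, mul_pow] at this
      linear_combination this)
  obtain ⟨h01, hcd1, hlam1, hc1⟩ := hy
  -- specialise y = 0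
  have hx := coeffs_zero_of_forall_eval (F := F) (e1 := 1) (e2 := 2) (e3 := s) (e4 := s + 2)
    (by norm_num) hs2 (by omega) hsq
    (g.1 0 2) (-(mu * ((g.1 2 2 / mu) * (g.1 1 2 / mu))))
    (-(mu * (g.1 1 2 / mu) ^ s)) (lam - mu * (g.1 2 2 / mu) ^ (s + 2)) (by
      intro t
      have := hfe t 0
      rw [szF_zero_right] at this
      simp only [mul_zero, add_zero, zero_add] at this
      rw [szF] at this
      rw [← hs] at this
      have e1 : g.1 2 2 * t / mu = (g.1 2 2 / mu) * t := by ring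
      have e2 : g.1 1 2 * t / mu = (g.1 1 2 / mu) * t := by ring
      rw [e1, e2, mul_pow, mul_pow] at this
      linear_combination this)
  obtain ⟨h02, hcd2, hd2, hlam2⟩ := hx
  have hs0 : s ≠ 0 := by omega
  have h21 : g.1 2 1 = 0 := by
    have : (g.1 2 1 / mu) ^ (s + 2) = 0 := by
      rcases mul_eq_zero.mp (neg_eq_zero.mp hc1) with h | h
      · exact absurd h hmu
      · exact h
    have := pow_eq_zero_iff (by omega) |>.mp this
    rcases div_eq_zero_iff.mp this with h | h
    · exact h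
    · exact absurd h hmu
  have h12 : g.1 1 2 = 0 := by
    have : (g.1 1 2 / mu) ^ s = 0 := by
      rcases mul_eq_zero.mp (neg_eq_zero.mp hd2) with h | h
      · exact absurd h hmu
      · exact h
    have := pow_eq_zero_iff hs0 |>.mp this
    rcases div_eq_zero_iff.mp this with h | h
    · exact h
    · exact absurd h hmu
  -- x = y = 1
  have h11 := hfe 1 1
  rw [h01, h02, h21, h12] at h11
  simp only [mul_one, add_zero, zero_add] at h11
  set al := g.1 2 2 / mu with hal
  set d1 := g.1 1 1 / mu with hd1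
  have hf11 : szF m (1 : F) 1 = 1 := by
    simp [szF]
    grind
  rw [hf11, mul_one] at h11
  have hlam1' : lam = mu * d1 ^ s := by linear_combination hlam1
  have hlam2' : lam = mu * al ^ (s + 2) := by linear_combination hlam2
  have hlam3 : lam = mu * (al * d1) := by
    rw [szF, ← hs] at h11
    have : lam = mu * (al * d1) + lam + lam := by
      calc lam = mu * (al * d1 + al ^ (s + 2) + d1 ^ s) := h11
        _ = mu * (al * d1) + mu * al ^ (s + 2) + mu * d1 ^ s := by ring
        _ = mu * (al * d1) + lam + lam := by rw [← hlam2', ← hlam1']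
    grind
  -- the matrix is diagonal
  have hg11 : g.1 1 1 = mu * d1 := by rw [hd1]; field_simp
  have hg22 : g.1 2 2 = mu * al := by rw [hal]; field_simp
  have hdiag : g.1 = Matrix.diagonal ![lam, g.1 1 1, g.1 2 2, mu] := by
    ext i j
    fin_cases i <;> fin_cases j <;>
      simp [h01, h02, h21, h12, hr1, hr2, c0 1 (by decide), c0 2 (by decide), c0 3 (by decide),
        c3 0 (by decide), c3 1 (by decide), c3 2 (by decide), hlam_def, hmu_def]
  have hdet : lam * g.1 1 1 * g.1 2 2 * mu = 1 := by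
    have := g.2
    rw [hdiag, Matrix.det_diagonal, Fin.prod_univ_four] at this
    simpa using this
  have hlam_ne : lam ≠ 0 := by
    intro h
    rw [h] at hdet
    simp at hdet
  have hal_ne : al ≠ 0 := by
    intro h
    rw [h, zero_pow (by omega), mul_zero] at hlam2'
    exact hlam_ne hlam2'
  have hd1' : d1 = al ^ (s + 1) := by
    have h1 : mu * (al * d1) = mu * al ^ (s + 2) := by rw [← hlam3, ← hlam2']
    have h2 : al * d1 = al * al ^ (s + 1) := by
      have := mul_left_cancel₀ hmu h1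
      rw [this]; ring
    exact mul_left_cancel₀ hal_ne h2
  set r := al ^ (2 ^ m) with hr
  have hr_ne : r ≠ 0 := pow_ne_zero _ hal_ne
  have hals : al ^ s = r ^ 2 := by
    rw [hr, hs, ← pow_mul, pow_succ]
  have ea1 : al ^ (s + 2) = r ^ 2 * al ^ 2 := by rw [pow_add, hals]
  have ea2 : al ^ (s + 1) = r ^ 2 * al := by rw [pow_add, hals, pow_one]
  have ea3 : al ^ (2 ^ m + 1) = r * al := by rw [pow_succ]
  have hz : mu * r * al = 1 := by
    have h4 : (mu * r * al) ^ 4 = 1 := by
      rw [← hdet, hg11, hg22, hlam2', hd1', ea1, ea2]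
      ring
    have h5 : (mu * r * al - 1) ^ 4 = 0 := by
      have : (mu * r * al - 1) ^ 4 = (mu * r * al) ^ 4 - 1 +
          2 * (-2 * (mu * r * al) ^ 3 + 3 * (mu * r * al) ^ 2 - 2 * (mu * r * al) + 1) := by ring
      rw [this, h4, h2]
      ring
    exact sub_eq_zero.mp (pow_eq_zero_iff (by norm_num) |>.mp h5)
  have hmu_eq : mu = (r * al)⁻¹ := by
    apply eq_inv_of_mul_eq_one_left
    linear_combination hz
  refine ⟨Units.mk0 al hal_ne, ?_⟩
  apply Subtype.ext
  show g.1 = szHmat m (Units.mk0 al hal_ne)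
  rw [hdiag, szHmat]
  have hkinv : (((Units.mk0 al hal_ne)⁻¹ : Fˣ) : F) = al⁻¹ := by
    rw [Units.val_inv_eq_inv_val, Units.val_mk0]
  rw [hkinv, Units.val_mk0]
  have e00 : lam = al ^ (2 ^ m + 1) := by
    rw [hlam2', ea1, ea3, hmu_eq]
    field_simp
  have e11 : g.1 1 1 = al ^ (2 ^ m) := by
    rw [hg11, hd1', ea2, ← hr, hmu_eq]
    field_simp
  have e22 : g.1 2 2 = al⁻¹ ^ (2 ^ m) := by
    rw [hg22, inv_pow, ← hr, hmu_eq]
    field_simp
  have e33 : mu = al⁻¹ ^ (2 ^ m + 1) := by
    rw [inv_pow, ea3, hmu_eq]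
  rw [← e00, ← e11, ← e22, ← e33]
  ext i j
  fin_cases i <;> fin_cases j <;> simp [Matrix.diagonal]

/-! ### `H` is an injective homomorphism -/

theorem szH_mul (k1 k2 : Fˣ) : szH m (k1 * k2) = szH m k1 * szH m k2 := by
  apply Subtype.ext
  show szHmat m (k1 * k2) = szHmat m k1 * szHmat m k2
  ext i j
  rw [Matrix.mul_apply, Fin.sum_univ_four]
  fin_cases i <;> fin_cases j <;> simp [szHmat, mul_pow, mul_comm]

theorem szH_one : szH m (1 : Fˣ) = 1 := by
  apply Subtype.ext
  show szHmat m 1 = 1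
  ext i j
  fin_cases i <;> fin_cases j <;> simp [szHmat]

theorem szH_injective : Function.Injective (szH (F := F) m) := by
  intro k1 k2 h
  have h' : szHmat m k1 = szHmat m k2 := congrArg Subtype.val h
  have h00 := congrFun (congrFun h' 0) 0
  have h11 := congrFun (congrFun h' 1) 1
  simp [szHmat] at h00 h11
  rw [pow_succ, pow_succ, h11] at h00
  have hne : (k2 : F) ^ 2 ^ m ≠ 0 := pow_ne_zero _ k2.ne_zero
  exact Units.ext (mul_left_cancel₀ hne h00)

/-- The diagonal subgroup as a homomorphism. -/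
noncomputable def szHhom (m : ℕ) : Fˣ →* SpecialLinearGroup (Fin 4) F where
  toFun := szH m
  map_one' := szH_one
  map_mul' := szH_mul

end Cfsg.Agent.Lib.Helper6
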