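import Mathlib
import Cfsg.Agent.Lib.Helper6.SzStab

/-!
# Suzuki groups: generation by `T`, `H`, `w` (helper6)
-/

set_option autoImplicit false

namespace Cfsg.Agent.Lib.Helper6

open Cfsg Matrix MulAction

variable {F : Type*} [Field F] {m : ℕ}

theorem szZero_ne_inf' : suzukiPointZero F ≠ suzukiPointInfinity F := by
  rw [← szPt_zero (m := 0)]
  exact szPt_ne_inf 0 0 0

/-- An element of the Suzuki group fixing `∞` is of the form `T(a,b) H(k)`. -/
theorem exists_eq_szT_mul_szH [Fintype F] [CharP F 2] (hm : 1 ≤ m)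
    (hF : Fintype.card F = 2 ^ (2 * m + 1))
    {g : SpecialLinearGroup (Fin 4) F} (hg : g ∈ Sz F m)
    (hinf : g • suzukiPointInfinity F = suzukiPointInfinity F) :
    ∃ (a b : F) (k : Fˣ), g = szT m a b * szH m k := by
  have hσ : SgSq (F := F) m := sgSq_of_card m hF
  have hmem : g • suzukiPointZero F ∈ suzukiOvoid F m := by
    rw [← szPt_zero (m := m)]
    exact sz_smul_mem hg (szPt_mem m 0 0)
  rcases (mem_suzukiOvoid_iff m _).1 hmem with h | ⟨a, b, h⟩
  · exfalso
    rw [← hinf] at h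
    exact szZero_ne_inf' (smul_left_cancel g h)
  · have hT0 : szT m a b • suzukiPointZero F = szPt m a b := by
      rw [← szPt_zero (m := m), szT_smul_pt hσ]
      simp
    have hg' : (szT m a b)⁻¹ * g ∈ Sz F m :=
      (Sz F m).mul_mem ((Sz F m).inv_mem (szT_mem hσ a b)) hg
    have h1 : ((szT m a b)⁻¹ * g) • suzukiPointInfinity F = suzukiPointInfinity F := by
      rw [mul_smul, hinf, inv_smul_eq_iff, szT_smul_infPt]
    have h2 : ((szT m a b)⁻¹ * g) • suzukiPointZero F = suzukiPointZero F := by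
      rw [mul_smul, h, inv_smul_eq_iff, hT0]
    obtain ⟨k, hk⟩ := eq_szH_of_fix hm hF hg' h1 h2
    refine ⟨a, b, k, ?_⟩
    rw [← hk, mul_inv_cancel_left]

/-- Induction principle: a property of elements of `SL₄` which holds for the generators `T(a,b)`,
`H(k)`, `w` and is closed under products and inverses holds on the Suzuki group. -/
theorem Sz_induction [Fintype F] [CharP F 2] (hm : 1 ≤ m)
    (hF : Fintype.card F = 2 ^ (2 * m + 1)) (p : SpecialLinearGroup (Fin 4) F → Prop)
    (hT : ∀ a b, p (szT m a b)) (hH : ∀ k, p (szH m k)) (hW : p szW)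
    (hmul : ∀ g h, p g → p h → p (g * h)) (hinv : ∀ g, p g → p g⁻¹) :
    ∀ g ∈ Sz F m, p g := by
  have hσ : SgSq (F := F) m := sgSq_of_card m hF
  have hB : ∀ g ∈ Sz F m, g • suzukiPointInfinity F = suzukiPointInfinity F → p g := by
    intro g hg hinf
    obtain ⟨a, b, k, rfl⟩ := exists_eq_szT_mul_szH hm hF hg hinf
    exact hmul _ _ (hT a b) (hH k)
  intro g hg
  have hmem : g • suzukiPointInfinity F ∈ suzukiOvoid F m := sz_smul_mem hg (szInf_mem m)
  rcases (mem_suzukiOvoid_iff m _).1 hmem with h | ⟨x, y, h⟩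
  · exact hB g hg h
  · have hg' : szW * szT m x (y + sg m x * x) * g ∈ Sz F m :=
      (Sz F m).mul_mem ((Sz F m).mul_mem (szW_mem hσ) (szT_mem hσ _ _)) hg
    have h1 : (szW * szT m x (y + sg m x * x) * g) • suzukiPointInfinity F =
        suzukiPointInfinity F := by
      rw [mul_smul, mul_smul, h, szT_smul_pt_self hσ, szW_smul_zeroPt]
    have hp := hB _ hg' h1
    have hp2 : p (szW * szT m x (y + sg m x * x))⁻¹ := hinv _ (hmul _ _ hW (hT _ _))
    have := hmul _ _ hp2 hp
    rwa [inv_mul_cancel_left] at this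

end Cfsg.Agent.Lib.Helper6
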