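import Mathlib

/-!
# Fixed-point-free linear actions (helper6)

* `sum_pow_smul_eq_zero_of_fpf`: if `g ^ n = 1` and `g` fixes no non-zero vector then
  `∑ i < n, g ^ i • v = 0`.
* `mem_zpowers_of_commute_of_fpf`: in a group acting fixed-point-freely on an abelian group with a
  vector `v`, `p • v ≠ 0`, two commuting elements of order `p` generate the same subgroup.
* `uniqueOrderP_of_fpf`: a finite `p`-group acting fixed-point-freely has at most one subgroup of order `p`.
* `sl4_fix_eq_zero`: over a finite field with `q` elements, an element of `SL₄` of odd prime order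
  `p ∣ q² + 1` fixes no non-zero vector.
-/

set_option autoImplicit false

namespace Cfsg.Agent.Lib.Helper6

section FpfAbstract

variable {G V : Type*} [Group G] [AddCommGroup V] [DistribMulAction G V]

/-- If `g ^ n = 1` and `g` fixes no non-zero vector, the norm element of `g` kills every vector. -/
theorem sum_pow_smul_eq_zero_of_fpf {g : G} {n : ℕ} (hgn : g ^ n = 1)
    (hfix : ∀ v : V, g • v = v → v = 0) (v : V) :
    ∑ i ∈ Finset.range n, g ^ i • v = 0 := by
  apply hfix
  rw [Finset.smul_sum]
  have h1 : ∑ i ∈ Finset.range n, g • g ^ i • v = ∑ i ∈ Finset.range n, g ^ (i + 1) • v := by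
    apply Finset.sum_congr rfl
    intro i _
    rw [← mul_smul, ← pow_succ']
  rw [h1]
  have h2 := Finset.sum_range_succ' (fun i => g ^ i • v) n
  have h3 := Finset.sum_range_succ (fun i => g ^ i • v) n
  simp only [pow_zero, one_smul, hgn] at h2 h3
  exact add_right_cancel (h2.symm.trans h3)

/-- In a group acting fixed-point-freely on an abelian group which is not killed by `p`, two commuting
elements of order `p` generate the same subgroup. -/
theorem mem_zpowers_of_commute_of_fpf {p : ℕ} [hp : Fact p.Prime]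
    (hV : ∃ v : V, p • v ≠ 0)
    (hfpf : ∀ g : G, g ≠ 1 → ∀ v : V, g • v = v → v = 0)
    {z y : G} (hzy : Commute z y) (hz : z ^ p = 1) (hy : y ^ p = 1) (hz1 : z ≠ 1) :
    y ∈ Subgroup.zpowers z := by
  by_contra hy'
  obtain ⟨v, hv⟩ := hV
  apply hv
  have hw : ∀ k : ℕ, z ^ k * y ≠ 1 := by
    intro k h
    apply hy'
    have h2 : y = (z ^ k)⁻¹ := eq_inv_of_mul_eq_one_right h
    rw [h2]
    exact Subgroup.inv_mem _ (Subgroup.npow_mem_zpowers z k)
  have hwp : ∀ k : ℕ, (z ^ k * y) ^ p = 1 := by
    intro k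
    rw [(hzy.pow_left k).mul_pow, ← pow_mul, mul_comm k p, pow_mul, hz, one_pow, hy, one_mul]
  have h0 : ∑ k ∈ Finset.range p, ∑ j ∈ Finset.range p, (z ^ k * y) ^ j • v = 0 := by
    apply Finset.sum_eq_zero
    intro k _
    exact sum_pow_smul_eq_zero_of_fpf (hwp k) (hfpf _ (hw k)) v
  rw [Finset.sum_comm] at h0
  have hord : orderOf z = p := orderOf_eq_prime hz hz1
  have h1 : ∀ j ∈ Finset.range p, j ≠ 0 → ∑ k ∈ Finset.range p, (z ^ k * y) ^ j • v = 0 := by
    intro j hj hj0
    have h2 : ∀ k ∈ Finset.range p, (z ^ k * y) ^ j • v = (z ^ j) ^ k • (y ^ j • v) := by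
      intro k _
      rw [(hzy.pow_left k).mul_pow, ← pow_mul, mul_smul, ← pow_mul, mul_comm k j]
    rw [Finset.sum_congr rfl h2]
    apply sum_pow_smul_eq_zero_of_fpf
    · rw [← pow_mul, mul_comm j p, pow_mul, hz, one_pow]
    · apply hfpf
      intro h
      have h3 := orderOf_dvd_of_pow_eq_one h
      rw [hord] at h3
      exact absurd (Nat.le_of_dvd (Nat.pos_of_ne_zero hj0) h3)
        (not_le.mpr (Finset.mem_range.mp hj))
  rw [Finset.sum_eq_single_of_mem 0 (Finset.mem_range.mpr hp.out.pos)
    (fun j hj hj0 => h1 j hj hj0)] at h0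
  simpa using h0

end FpfAbstract

section UniqueP

variable {P V : Type*} [Group P] [Finite P] [AddCommGroup V] [DistribMulAction P V]

/-- A finite `p`-group acting fixed-point-freely on an abelian group not killed by `p` has at most one
subgroup of order `p`. -/
theorem uniqueOrderP_of_fpf {p : ℕ} [hp : Fact p.Prime] (hP : IsPGroup p P)
    (hV : ∃ v : V, p • v ≠ 0)
    (hfpf : ∀ g : P, g ≠ 1 → ∀ v : V, g • v = v → v = 0) :
    ∀ H K : Subgroup P, Nat.card H = p → Nat.card K = p → H = K := by
  intro H K hH hK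
  have hPnt : Nontrivial P := by
    have h1 : 1 < Nat.card H := hH ▸ hp.out.one_lt
    have h2 : Nontrivial H := Finite.one_lt_card_iff_nontrivial.mp h1
    obtain ⟨c, hc⟩ := exists_ne (1 : H)
    exact ⟨⟨(c : P), 1, fun h => hc (Subtype.ext h)⟩⟩
  have hcnt : Nontrivial (Subgroup.center P) := hP.center_nontrivial
  have hpc : p ∣ Nat.card (Subgroup.center P) := by
    obtain ⟨n, hn0, hn⟩ := (hP.to_subgroup (Subgroup.center P)).nontrivial_iff_card.mp hcnt
    rw [hn]
    exact dvd_pow_self p (Nat.pos_iff_ne_zero.mp hn0)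
  obtain ⟨z, hz⟩ := exists_prime_orderOf_dvd_card' p hpc
  have hzord : orderOf (z : P) = p := by rw [Subgroup.orderOf_coe, hz]
  have hz1 : (z : P) ≠ 1 := by
    intro h
    rw [h, orderOf_one] at hzord
    exact hp.out.one_lt.ne hzord
  have hzp : (z : P) ^ p = 1 := by rw [← hzord]; exact pow_orderOf_eq_one _
  suffices key : ∀ C : Subgroup P, Nat.card C = p → C = Subgroup.zpowers (z : P) by
    rw [key H hH, key K hK]
  intro C hC
  have hCnt : Nontrivial C := by
    apply Finite.one_lt_card_iff_nontrivial.mp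
    rw [hC]; exact hp.out.one_lt
  obtain ⟨c, hc⟩ := exists_ne (1 : C)
  have hc1 : (c : P) ≠ 1 := fun h => hc (Subtype.ext h)
  have hcord : orderOf (c : P) = p := by
    have hd : orderOf (c : P) ∣ p := hC ▸ Subgroup.orderOf_dvd_natCard C c.2
    rcases (Nat.dvd_prime hp.out).mp hd with h | h
    · exact absurd (orderOf_eq_one_iff.mp h) hc1
    · exact h
  have hcp : (c : P) ^ p = 1 := by rw [← hcord]; exact pow_orderOf_eq_one _
  have hcomm : Commute (z : P) (c : P) := (Subgroup.mem_center_iff.mp z.2 (c : P)).symm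
  have hmem : (c : P) ∈ Subgroup.zpowers (z : P) :=
    mem_zpowers_of_commute_of_fpf hV hfpf hcomm hzp hcp hz1
  have hle : Subgroup.zpowers (c : P) ≤ Subgroup.zpowers (z : P) :=
    Subgroup.zpowers_le.mpr hmem
  have h1 : Subgroup.zpowers (c : P) = Subgroup.zpowers (z : P) := by
    apply Subgroup.eq_of_le_of_card_ge hle
    rw [Nat.card_zpowers, Nat.card_zpowers, hcord, hzord]
  have h2 : Subgroup.zpowers (c : P) = C := by
    apply Subgroup.eq_of_le_of_card_ge (Subgroup.zpowers_le.mpr c.2)
    rw [Nat.card_zpowers, hcord, hC]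
  rw [← h2, h1]

end UniqueP

section Linear

open Matrix

variable {F : Type*} [Field F] [Fintype F]

omit [Fintype F] in
/-- A matrix of `SL₄` fixing every vector is the identity. -/
theorem sl4_eq_one_of_forall_smul (g : SpecialLinearGroup (Fin 4) F)
    (h : ∀ v : Fin 4 → F, g • v = v) : g = 1 := by
  apply Subtype.ext
  ext i j
  have h1 := congrFun (h (Pi.single j 1)) i
  change (g.1 *ᵥ Pi.single j 1) i = _ at h1
  rw [Matrix.mulVec_single_one] at h1
  simpa [Matrix.one_apply, Pi.single_apply] using h1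

/-- Over a finite field with `q` elements, an element of `SL₄` of odd prime order `p ∣ q² + 1` fixes
no non-zero vector. -/
theorem sl4_fix_eq_zero {p : ℕ} [hp : Fact p.Prime] (hp2 : p ≠ 2)
    (hpq : p ∣ Fintype.card F ^ 2 + 1) (g : SpecialLinearGroup (Fin 4) F) (hg : orderOf g = p)
    (v : Fin 4 → F) (hv : g • v = v) : v = 0 := by
  classical
  let W : Submodule F (Fin 4 → F) :=
    { carrier := {v | g • v = v}
      add_mem' := by
        intro a b ha hb
        simp only [Set.mem_ofPred_eq] at ha hb ⊢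
        rw [smul_add, ha, hb]
      zero_mem' := smul_zero g
      smul_mem' := by
        intro c a ha
        simp only [Set.mem_ofPred_eq] at ha ⊢
        change g.1 *ᵥ (c • a) = c • a
        rw [Matrix.mulVec_smul]
        exact congrArg (fun w => c • w) ha }
  have hZ : IsPGroup p (Subgroup.zpowers g) := by
    apply IsPGroup.of_card (n := 1)
    rw [Nat.card_zpowers, hg, pow_one]
  have h1 := hZ.card_modEq_card_fixedPoints (Fin 4 → F)
  have h2 : (MulAction.fixedPoints (Subgroup.zpowers g) (Fin 4 → F)) = (W : Set (Fin 4 → F)) := by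
    ext a
    constructor
    · intro ha
      exact ha ⟨g, Subgroup.mem_zpowers g⟩
    · intro ha z
      have h3 : g ∈ MulAction.stabilizer (SpecialLinearGroup (Fin 4) F) a := ha
      have h4 := (Subgroup.zpowers_le.mpr h3) z.2
      exact h4
  rw [h2] at h1
  have h3 : Nat.card (Fin 4 → F) = Fintype.card F ^ 4 := by
    rw [Nat.card_eq_fintype_card, Fintype.card_fun, Fintype.card_fin]
  have h4 : Nat.card (W : Set (Fin 4 → F)) = Fintype.card F ^ Module.finrank F W := by
    have h5 : Nat.card (W : Set (Fin 4 → F)) = Nat.card W := rfl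
    rw [h5, Module.natCard_eq_pow_finrank (K := F), Nat.card_eq_fintype_card]
  rw [h3, h4] at h1
  have hd : Module.finrank F W ≤ 4 := by
    have := Submodule.finrank_le W
    rwa [Module.finrank_fin_fun] at this
  -- work in ZMod p
  have hx2 : ((Fintype.card F : ℕ) : ZMod p) ^ 2 = -1 := by
    have := (ZMod.natCast_eq_zero_iff (Fintype.card F ^ 2 + 1) p).mpr hpq
    push_cast at this
    exact eq_neg_of_add_eq_zero_left this
  have hx4 : ((Fintype.card F : ℕ) : ZMod p) ^ 4 = ((Fintype.card F : ℕ) : ZMod p) ^ Module.finrank F W := by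
    have := (ZMod.natCast_eq_natCast_iff _ _ _).mpr h1
    push_cast at this
    exact this
  have h20 : (2 : ZMod p) ≠ 0 := by
    intro h
    have h5 : ((2 : ℕ) : ZMod p) = 0 := by exact_mod_cast h
    rw [ZMod.natCast_eq_zero_iff] at h5
    exact hp2 ((Nat.prime_dvd_prime_iff_eq hp.out Nat.prime_two).mp h5)
  set x : ZMod p := ((Fintype.card F : ℕ) : ZMod p) with hx
  have hx41 : x ^ 4 = 1 := by
    have : x ^ 4 = (x ^ 2) ^ 2 := by ring
    rw [this, hx2]; ring
  have hneg : (-1 : ZMod p) ≠ 1 := by
    intro h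
    apply h20
    have : (2 : ZMod p) = 1 - (-1) := by ring
    rw [this, h]; ring
  have hx0 : x ≠ 0 := by
    intro h
    rw [h] at hx41
    simp at hx41
  set d := Module.finrank F W with hdd
  interval_cases d
  · -- W = ⊥
    have hW : W = ⊥ := Submodule.finrank_eq_zero.mp hdd.symm
    have hvW : v ∈ W := hv
    rw [hW] at hvW
    exact (Submodule.mem_bot F).mp hvW
  · exfalso
    rw [hx41, pow_one] at hx4
    apply hneg
    rw [← hx2, ← hx4]; ring
  · exfalso
    rw [hx41, hx2] at hx4
    exact hneg hx4.symm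
  · exfalso
    have h5 : x * x ^ 3 = 1 * x ^ 3 := by
      rw [one_mul]
      calc x * x ^ 3 = x ^ 4 := by ring
        _ = x ^ 3 := hx4
    have h6 : x = 1 := mul_right_cancel₀ (pow_ne_zero 3 hx0) h5
    apply hneg
    rw [← hx2, h6]; ring
  · exfalso
    have hW : W = ⊤ := by
      apply Submodule.eq_top_of_finrank_eq
      rw [← hdd, Module.finrank_fin_fun]
    have hg1 : g = 1 := by
      apply sl4_eq_one_of_forall_smul
      intro a
      have : a ∈ W := by rw [hW]; trivial
      exact this
    rw [hg1, orderOf_one] at hg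
    exact hp.out.one_lt.ne hg

end Linear

end Cfsg.Agent.Lib.Helper6
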