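import Mathlib
import Cfsg.Agent.Lib.Helper6.FpfLinear

/-!
# Irreducibility of elements of order `p ∣ q² + 1` in `SL₄(q)` and their centralisers (helper6)

* `sl4_invariant_eq_bot_or_top`: an element of `SL₄(F)`, `|F| = q`, of odd prime order `p ∣ q² + 1`
  leaves no proper non-zero subspace invariant.
* `sl4_commute_of_commute`: any two matrices commuting with such an element commute with each other
  (they lie in the commutative algebra `F[g]`).
-/

set_option autoImplicit false

namespace Cfsg.Agent.Lib.Helper6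

open Matrix

variable {F : Type*} [Field F] [Fintype F]

/-- An element of `SL₄(F)` of odd prime order `p ∣ q² + 1` acts irreducibly on `F⁴`. -/
theorem sl4_invariant_eq_bot_or_top {p : ℕ} [hp : Fact p.Prime] (hp2 : p ≠ 2)
    (hpq : p ∣ Fintype.card F ^ 2 + 1) (g : SpecialLinearGroup (Fin 4) F) (hg : orderOf g = p)
    (W : Submodule F (Fin 4 → F)) (hW : ∀ w ∈ W, g • w ∈ W) : W = ⊥ ∨ W = ⊤ := by
  classical
  have hfin : IsOfFinOrder g := by
    rw [← orderOf_pos_iff, hg]; exact hp.out.pos
  have hWz : ∀ z ∈ Subgroup.zpowers g, ∀ w ∈ W, z • w ∈ W := by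
    intro z hz w hw
    rw [← hfin.mem_powers_iff_mem_zpowers, Submonoid.mem_powers_iff] at hz
    obtain ⟨n, rfl⟩ := hz
    induction n with
    | zero => simpa using hw
    | succ n ih =>
      rw [pow_succ', mul_smul]
      exact hW _ ih
  let S : SubMulAction (Subgroup.zpowers g) (Fin 4 → F) :=
    { carrier := W
      smul_mem' := fun z w hw => hWz z.1 z.2 w hw }
  have hZ : IsPGroup p (Subgroup.zpowers g) := by
    apply IsPGroup.of_card (n := 1)
    rw [Nat.card_zpowers, hg, pow_one]
  have h1 := hZ.card_modEq_card_fixedPoints S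
  have hfix : MulAction.fixedPoints (Subgroup.zpowers g) S = {⟨0, W.zero_mem⟩} := by
    ext w
    rw [Set.mem_singleton_iff]
    constructor
    · intro hw
      have h2 := hw ⟨g, Subgroup.mem_zpowers g⟩
      have h3 : g • (w : Fin 4 → F) = (w : Fin 4 → F) := congrArg Subtype.val h2
      apply Subtype.ext
      exact sl4_fix_eq_zero hp2 hpq g hg _ h3
    · rintro rfl z
      apply Subtype.ext
      exact smul_zero _
  rw [hfix, Nat.card_coe_set_eq, Set.ncard_singleton] at h1
  have h4 : Nat.card S = Fintype.card F ^ Module.finrank F W := by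
    have h5 : Nat.card S = Nat.card W := rfl
    rw [h5, Module.natCard_eq_pow_finrank (K := F), Nat.card_eq_fintype_card]
  rw [h4] at h1
  have hd : Module.finrank F W ≤ 4 := by
    have := Submodule.finrank_le W
    rwa [Module.finrank_fin_fun] at this
  have hx2 : ((Fintype.card F : ℕ) : ZMod p) ^ 2 = -1 := by
    have := (ZMod.natCast_eq_zero_iff (Fintype.card F ^ 2 + 1) p).mpr hpq
    push_cast at this
    exact eq_neg_of_add_eq_zero_left this
  have hxd : ((Fintype.card F : ℕ) : ZMod p) ^ Module.finrank F W = 1 := by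
    have := (ZMod.natCast_eq_natCast_iff _ _ _).mpr h1
    push_cast at this
    exact this
  have h20 : (2 : ZMod p) ≠ 0 := by
    intro h
    have h5 : ((2 : ℕ) : ZMod p) = 0 := by exact_mod_cast h
    rw [ZMod.natCast_eq_zero_iff] at h5
    exact hp2 ((Nat.prime_dvd_prime_iff_eq hp.out Nat.prime_two).mp h5)
  set x : ZMod p := ((Fintype.card F : ℕ) : ZMod p) with hx
  have hneg : (-1 : ZMod p) ≠ 1 := by
    intro h
    apply h20
    have : (2 : ZMod p) = 1 - (-1) := by ring
    rw [this, h]; ring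
  set d := Module.finrank F W with hdd
  interval_cases d
  · left
    exact Submodule.finrank_eq_zero.mp hdd.symm
  · exfalso
    rw [pow_one] at hxd
    apply hneg
    rw [← hx2, hxd]; ring
  · exfalso
    rw [hx2] at hxd
    exact hneg hxd
  · exfalso
    have hx4 : x ^ 4 = 1 := by
      have : x ^ 4 = (x ^ 2) ^ 2 := by ring
      rw [this, hx2]; ring
    have h6 : x = 1 := by
      calc x = x * x ^ 3 := by rw [hxd, mul_one]
        _ = x ^ 4 := by ring
        _ = 1 := hx4
    apply hneg
    rw [← hx2, h6]; ring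
  · right
    apply Submodule.eq_top_of_finrank_eq
    rw [← hdd, Module.finrank_fin_fun]

/-- Two matrices commuting with an element of `SL₄(F)` of odd prime order `p ∣ q² + 1` commute. -/
theorem sl4_commute_of_commute {p : ℕ} [hp : Fact p.Prime] (hp2 : p ≠ 2)
    (hpq : p ∣ Fintype.card F ^ 2 + 1) (g : SpecialLinearGroup (Fin 4) F) (hg : orderOf g = p)
    {c₁ c₂ : Matrix (Fin 4) (Fin 4) F} (h1 : Commute c₁ g.1) (h2 : Commute c₂ g.1) :
    Commute c₁ c₂ := by
  classical
  set K : Subalgebra F (Matrix (Fin 4) (Fin 4) F) := Algebra.adjoin F {g.1} with hK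
  have hgK : g.1 ∈ K := Algebra.subset_adjoin (Set.mem_singleton _)
  -- anything commuting with g commutes with K
  have hcK : ∀ c : Matrix (Fin 4) (Fin 4) F, Commute c g.1 → ∀ k ∈ K, Commute c k := by
    intro c hc k hk
    have hle : K ≤ Subalgebra.centralizer F {c} := by
      apply Algebra.adjoin_le
      intro x hx
      rw [Set.mem_singleton_iff] at hx
      rw [hx, SetLike.mem_coe, Subalgebra.mem_centralizer_iff]
      intro y hy
      rw [Set.mem_singleton_iff] at hy
      rw [hy]
      exact hc.eq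
    have := (Subalgebra.mem_centralizer_iff F).mp (hle hk) c (Set.mem_singleton _)
    exact this
  have hKg : ∀ k ∈ K, Commute k g.1 := by
    intro k hk
    exact (hcK g.1 (Commute.refl _) k hk).symm
  have hKcomm : ∀ k ∈ K, ∀ k' ∈ K, Commute k k' := by
    intro k hk k' hk'
    exact hcK k (hKg k hk) k' hk'
  set v₀ : Fin 4 → F := Pi.single 0 1 with hv₀
  have hv₀0 : v₀ ≠ 0 := by
    intro h
    have := congrFun h 0
    simp [hv₀] at this
  let φ : Matrix (Fin 4) (Fin 4) F →ₗ[F] (Fin 4 → F) :=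
    { toFun := fun k => k *ᵥ v₀
      map_add' := fun a b => Matrix.add_mulVec a b v₀
      map_smul' := fun a b => Matrix.smul_mulVec a b v₀ }
  set W : Submodule F (Fin 4 → F) := (Subalgebra.toSubmodule K).map φ with hWdef
  have hW : ∀ w ∈ W, g • w ∈ W := by
    rintro w ⟨k, hk, rfl⟩
    refine ⟨g.1 * k, K.mul_mem hgK hk, ?_⟩
    change (g.1 * k) *ᵥ v₀ = g.1 *ᵥ (k *ᵥ v₀)
    rw [Matrix.mulVec_mulVec]
  have hv₀W : v₀ ∈ W := ⟨1, K.one_mem, Matrix.one_mulVec v₀⟩
  have hWtop : W = ⊤ := by
    rcases sl4_invariant_eq_bot_or_top hp2 hpq g hg W hW with h | h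
    · exfalso
      rw [h] at hv₀W
      exact hv₀0 ((Submodule.mem_bot F).mp hv₀W)
    · exact h
  have hmemK : ∀ c : Matrix (Fin 4) (Fin 4) F, Commute c g.1 → c ∈ K := by
    intro c hc
    have h3 : c *ᵥ v₀ ∈ W := by rw [hWtop]; trivial
    obtain ⟨k₁, hk₁, hk₁v⟩ := h3
    have hk₁v' : k₁ *ᵥ v₀ = c *ᵥ v₀ := hk₁v
    have heq : c = k₁ := by
      apply Matrix.toLin'.injective
      apply LinearMap.ext
      intro v
      rw [Matrix.toLin'_apply, Matrix.toLin'_apply]
      have h4 : v ∈ W := by rw [hWtop]; trivial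
      obtain ⟨k, hk, rfl⟩ := h4
      change c *ᵥ (k *ᵥ v₀) = k₁ *ᵥ (k *ᵥ v₀)
      rw [Matrix.mulVec_mulVec, Matrix.mulVec_mulVec, (hcK c hc k hk).eq,
        ((hKcomm k₁ hk₁ k hk)).eq, ← Matrix.mulVec_mulVec, ← Matrix.mulVec_mulVec, hk₁v']
    rw [heq]
    exact hk₁
  exact hKcomm c₁ (hmemK c₁ h1) c₂ (hmemK c₂ h2)

end Cfsg.Agent.Lib.Helper6
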