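import Mathlib
import Cfsg.Agent.Lib.Helper6.FpfLinear2

/-!
# The field `F[g]` for `g ∈ SL₄(q)` of odd prime order `p ∣ q² + 1` (helper6)

* `sl4_mem_adjoin_of_commute`: a matrix commuting with `g` lies in `F[g]`;
* `sl4_adjoin_eq_zero_or`: `F[g]` has no zero divisors;
* `sl4_isCyclic_of_commute`: a subgroup of `SL₄(F)` centralising `g` is cyclic;
* `sl4_card_le_four_of_roots`: at most four elements of `SL₄(F)` commute with `g` and are roots of the
  characteristic polynomial of `g`.
-/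

set_option autoImplicit false

namespace Cfsg.Agent.Lib.Helper6

open Matrix Polynomial

variable {F : Type*} [Field F] [Fintype F]

omit [Fintype F] in
/-- Elements of `F[g]` commute with everything commuting with `g`. -/
theorem commute_of_mem_adjoin_singleton {A : Type*} [Ring A] [Algebra F A] {a c k : A}
    (hc : Commute c a) (hk : k ∈ Algebra.adjoin F {a}) : Commute c k := by
  have hle : Algebra.adjoin F {a} ≤ Subalgebra.centralizer F {c} := by
    apply Algebra.adjoin_le
    intro x hx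
    rw [Set.mem_singleton_iff] at hx
    rw [hx, SetLike.mem_coe, Subalgebra.mem_centralizer_iff]
    intro y hy
    rw [Set.mem_singleton_iff] at hy
    rw [hy]
    exact hc.eq
  exact (Subalgebra.mem_centralizer_iff F).mp (hle hk) c (Set.mem_singleton _)

/-- A matrix commuting with an element `g` of `SL₄(F)` of odd prime order `p ∣ q² + 1` lies in `F[g]`. -/
theorem sl4_mem_adjoin_of_commute {p : ℕ} [hp : Fact p.Prime] (hp2 : p ≠ 2)
    (hpq : p ∣ Fintype.card F ^ 2 + 1) (g : SpecialLinearGroup (Fin 4) F) (hg : orderOf g = p)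
    {c : Matrix (Fin 4) (Fin 4) F} (hc : Commute c g.1) : c ∈ Algebra.adjoin F {g.1} := by
  classical
  set K : Subalgebra F (Matrix (Fin 4) (Fin 4) F) := Algebra.adjoin F {g.1} with hK
  have hgK : g.1 ∈ K := Algebra.subset_adjoin (Set.mem_singleton _)
  have hKg : ∀ k ∈ K, Commute k g.1 := by
    intro k hk
    exact (commute_of_mem_adjoin_singleton (Commute.refl g.1) hk).symm
  have hKcomm : ∀ k ∈ K, ∀ k' ∈ K, Commute k k' := by
    intro k hk k' hk'
    exact commute_of_mem_adjoin_singleton (hKg k hk) hk'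
  set v₀ : Fin 4 → F := Pi.single 0 1 with hv₀
  have hv₀0 : v₀ ≠ 0 := by
    intro h
    have := congrFun h 0
    simp [hv₀] at this
  let φ : Matrix (Fin 4) (Fin 4) F →ₗ[F] (Fin 4 → F) :=
    { toFun := fun k => k *ᵥ v₀
      map_add' := fun a b => Matrix.add_mulVec a b v₀
      map_smul' := fun a b => Matrix.smul_mulVec a b v₀ }
  set W : Submodule F (Fin 4 → F) := (Subalgebra.toSubmodule K).map φ with hWdef
  have hW : ∀ w ∈ W, g • w ∈ W := by
    rintro w ⟨k, hk, rfl⟩
    refine ⟨g.1 * k, K.mul_mem hgK hk, ?_⟩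
    change (g.1 * k) *ᵥ v₀ = g.1 *ᵥ (k *ᵥ v₀)
    rw [Matrix.mulVec_mulVec]
  have hv₀W : v₀ ∈ W := ⟨1, K.one_mem, Matrix.one_mulVec v₀⟩
  have hWtop : W = ⊤ := by
    rcases sl4_invariant_eq_bot_or_top hp2 hpq g hg W hW with h | h
    · exfalso
      rw [h] at hv₀W
      exact hv₀0 ((Submodule.mem_bot F).mp hv₀W)
    · exact h
  have h3 : c *ᵥ v₀ ∈ W := by rw [hWtop]; trivial
  obtain ⟨k₁, hk₁, hk₁v⟩ := h3
  have hk₁v' : k₁ *ᵥ v₀ = c *ᵥ v₀ := hk₁v
  have heq : c = k₁ := by
    apply Matrix.toLin'.injective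
    apply LinearMap.ext
    intro v
    rw [Matrix.toLin'_apply, Matrix.toLin'_apply]
    have h4 : v ∈ W := by rw [hWtop]; trivial
    obtain ⟨k, hk, rfl⟩ := h4
    change c *ᵥ (k *ᵥ v₀) = k₁ *ᵥ (k *ᵥ v₀)
    rw [Matrix.mulVec_mulVec, Matrix.mulVec_mulVec,
      (commute_of_mem_adjoin_singleton hc hk).eq,
      ((hKcomm k₁ hk₁ k hk)).eq, ← Matrix.mulVec_mulVec, ← Matrix.mulVec_mulVec, hk₁v']
  rw [heq]
  exact hk₁

/-- `F[g]` has no zero divisors. -/
theorem sl4_adjoin_eq_zero_or {p : ℕ} [hp : Fact p.Prime] (hp2 : p ≠ 2)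
    (hpq : p ∣ Fintype.card F ^ 2 + 1) (g : SpecialLinearGroup (Fin 4) F) (hg : orderOf g = p)
    {k₁ k₂ : Matrix (Fin 4) (Fin 4) F} (h₁ : k₁ ∈ Algebra.adjoin F {g.1}) (h : k₁ * k₂ = 0) :
    k₁ = 0 ∨ k₂ = 0 := by
  classical
  by_cases hk₁ : k₁ = 0
  · exact Or.inl hk₁
  right
  have hcomm : Commute k₁ g.1 :=
    (commute_of_mem_adjoin_singleton (Commute.refl g.1) h₁).symm
  set W : Submodule F (Fin 4 → F) := LinearMap.ker (Matrix.toLin' k₁) with hWdef
  have hW : ∀ w ∈ W, g • w ∈ W := by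
    intro w hw
    rw [hWdef, LinearMap.mem_ker, Matrix.toLin'_apply] at hw ⊢
    change k₁ *ᵥ (g.1 *ᵥ w) = 0
    rw [Matrix.mulVec_mulVec, hcomm.eq, ← Matrix.mulVec_mulVec, hw, Matrix.mulVec_zero]
  have hWbot : W = ⊥ := by
    rcases sl4_invariant_eq_bot_or_top hp2 hpq g hg W hW with h' | h'
    · exact h'
    · exfalso
      apply hk₁
      apply Matrix.toLin'.injective
      apply LinearMap.ext
      intro v
      have : v ∈ W := by rw [h']; trivial
      rw [hWdef, LinearMap.mem_ker] at this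
      rw [this]; simp
  apply Matrix.toLin'.injective
  apply LinearMap.ext
  intro v
  have h5 : k₂ *ᵥ v ∈ W := by
    rw [hWdef, LinearMap.mem_ker, Matrix.toLin'_apply, Matrix.mulVec_mulVec, h, Matrix.zero_mulVec]
  rw [hWbot] at h5
  rw [Matrix.toLin'_apply, (Submodule.mem_bot F).mp h5]
  simp

/-- A subgroup of `SL₄(F)` centralising an element of odd prime order `p ∣ q² + 1` is cyclic. -/
theorem sl4_isCyclic_of_commute {p : ℕ} [hp : Fact p.Prime] (hp2 : p ≠ 2)
    (hpq : p ∣ Fintype.card F ^ 2 + 1) (g : SpecialLinearGroup (Fin 4) F) (hg : orderOf g = p)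
    (H : Subgroup (SpecialLinearGroup (Fin 4) F)) (hH : ∀ h ∈ H, Commute h g) : IsCyclic H := by
  classical
  let _ : CommRing (Algebra.adjoin F {g.1}) :=
    Algebra.adjoinCommRingOfComm F (by
      intro a ha b hb
      rw [Set.mem_singleton_iff] at ha hb
      rw [ha, hb])
  have : NoZeroDivisors (Algebra.adjoin F {g.1}) := by
    refine ⟨fun {a b} hab => ?_⟩
    have h1 : (a : Matrix (Fin 4) (Fin 4) F) * (b : Matrix (Fin 4) (Fin 4) F) = 0 := by
      have := congrArg Subtype.val hab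
      exact this
    rcases sl4_adjoin_eq_zero_or hp2 hpq g hg a.2 h1 with h | h
    · exact Or.inl (Subtype.ext h)
    · exact Or.inr (Subtype.ext h)
  have : IsDomain (Algebra.adjoin F {g.1}) := NoZeroDivisors.to_isDomain _
  have hmem : ∀ h : H, ((h : SpecialLinearGroup (Fin 4) F) : Matrix (Fin 4) (Fin 4) F) ∈
      Algebra.adjoin F {g.1} := by
    intro h
    apply sl4_mem_adjoin_of_commute hp2 hpq g hg
    have := (hH h.1 h.2).eq
    exact congrArg Subtype.val this
  let f : H →* Algebra.adjoin F {g.1} :=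
    { toFun := fun h => ⟨_, hmem h⟩
      map_one' := rfl
      map_mul' := fun a b => rfl }
  apply isCyclic_of_injective_ringHom f
  intro a b hab
  have h1 : ((a : SpecialLinearGroup (Fin 4) F) : Matrix (Fin 4) (Fin 4) F) =
      ((b : SpecialLinearGroup (Fin 4) F) : Matrix (Fin 4) (Fin 4) F) := by
    have h2 := congrArg (Subtype.val (p := fun x => x ∈ Algebra.adjoin F {g.1})) hab
    exact h2
  exact Subtype.ext (Subtype.ext h1)

/-- At most four elements of `SL₄(F)` commute with `g` and are roots of its characteristic polynomial. -/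
theorem sl4_card_le_four_of_roots {p : ℕ} [hp : Fact p.Prime] (hp2 : p ≠ 2)
    (hpq : p ∣ Fintype.card F ^ 2 + 1) (g : SpecialLinearGroup (Fin 4) F) (hg : orderOf g = p)
    (S : Finset (SpecialLinearGroup (Fin 4) F))
    (hS : ∀ z ∈ S, Commute z g ∧
      aeval (z.1 : Matrix (Fin 4) (Fin 4) F) (Matrix.charpoly g.1) = 0) : S.card ≤ 4 := by
  classical
  let _ : CommRing (Algebra.adjoin F {g.1}) :=
    Algebra.adjoinCommRingOfComm F (by
      intro a ha b hb
      rw [Set.mem_singleton_iff] at ha hb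
      rw [ha, hb])
  have : NoZeroDivisors (Algebra.adjoin F {g.1}) := by
    refine ⟨fun {a b} hab => ?_⟩
    have h1 : (a : Matrix (Fin 4) (Fin 4) F) * (b : Matrix (Fin 4) (Fin 4) F) = 0 := by
      have := congrArg Subtype.val hab
      exact this
    rcases sl4_adjoin_eq_zero_or hp2 hpq g hg a.2 h1 with h | h
    · exact Or.inl (Subtype.ext h)
    · exact Or.inr (Subtype.ext h)
  have : IsDomain (Algebra.adjoin F {g.1}) := NoZeroDivisors.to_isDomain _
  set χ : Polynomial (Algebra.adjoin F {g.1}) :=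
    (Matrix.charpoly g.1).map (algebraMap F (Algebra.adjoin F {g.1})) with hχ
  have hχ0 : χ ≠ 0 := ((Matrix.charpoly_monic g.1).map _).ne_zero
  have hdeg : χ.natDegree ≤ 4 := by
    refine le_trans Polynomial.natDegree_map_le ?_
    rw [Matrix.charpoly_natDegree_eq_dim, Fintype.card_fin]
  let f : SpecialLinearGroup (Fin 4) F → Algebra.adjoin F {g.1} := fun z =>
    if h : Commute (z.1 : Matrix (Fin 4) (Fin 4) F) g.1 then
      ⟨z.1, sl4_mem_adjoin_of_commute hp2 hpq g hg h⟩ else 0
  have hcomm : ∀ z ∈ S, Commute (z.1 : Matrix (Fin 4) (Fin 4) F) g.1 := by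
    intro z hz
    exact congrArg Subtype.val (hS z hz).1.eq
  have hf : ∀ z ∈ S, f z ∈ χ.roots.toFinset := by
    intro z hz
    rw [Multiset.mem_toFinset, Polynomial.mem_roots hχ0, Polynomial.IsRoot, hχ,
      Polynomial.eval_map_algebraMap]
    apply Subtype.ext
    have h1 := Polynomial.aeval_algHom_apply (Algebra.adjoin F {g.1}).val (f z) (Matrix.charpoly g.1)
    rw [Subalgebra.val_apply, Subalgebra.val_apply] at h1
    rw [← h1]
    simp only [f, dif_pos (hcomm z hz)]
    exact (hS z hz).2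
  have hinj : Set.InjOn f S := by
    intro a ha b hb hab
    simp only [f, dif_pos (hcomm a ha), dif_pos (hcomm b hb)] at hab
    have h2 := congrArg (Subtype.val (p := fun x => x ∈ Algebra.adjoin F {g.1})) hab
    exact Subtype.ext h2
  calc S.card ≤ χ.roots.toFinset.card := Finset.card_le_card_of_injOn f hf hinj
    _ ≤ χ.roots.card := Multiset.toFinset_card_le _
    _ ≤ χ.natDegree := Polynomial.card_roots' χ
    _ ≤ 4 := hdeg

end Cfsg.Agent.Lib.Helper6
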