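import Mathlib
import Cfsg.Agent.Lib.Helper6.SzStab

/-!
# Suzuki groups: orders (helper6)
-/

set_option autoImplicit false

namespace Cfsg.Agent.Lib.Helper6

open Cfsg Matrix MulAction

variable {F : Type*} [Field F] {m : ℕ}

/-- The orbit of `∞` under the Suzuki group is the ovoid. -/
theorem orbit_Sz_inf [Fintype F] (hF : Fintype.card F = 2 ^ (2 * m + 1)) :
    orbit (Sz F m) (suzukiPointInfinity F) = suzukiOvoid F m := by
  have := sz_charP hF
  have hσ : SgSq (F := F) m := sgSq_of_card m hF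
  ext P
  constructor
  · rintro ⟨⟨g, hg⟩, rfl⟩
    exact sz_smul_mem hg (szInf_mem m)
  · intro hP
    obtain ⟨g, hg, hgP⟩ := sz_exists_to_inf hσ hP
    refine ⟨⟨g, hg⟩⁻¹, ?_⟩
    show (⟨g, hg⟩ : Sz F m)⁻¹ • suzukiPointInfinity F = P
    rw [inv_smul_eq_iff]
    exact hgP.symm

theorem szZero_ne_inf : suzukiPointZero F ≠ suzukiPointInfinity F := by
  rw [← szPt_zero (m := 0)]
  exact szPt_ne_inf 0 0 0

/-- The orbit of `0` under the stabiliser of `∞` consists of the affine points. -/
theorem orbit_stab_zero [Fintype F] (hF : Fintype.card F = 2 ^ (2 * m + 1)) :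
    orbit (stabilizer (Sz F m) (suzukiPointInfinity F)) (suzukiPointZero F) =
      Set.range (fun ab : F × F => szPt m ab.1 ab.2) := by
  have := sz_charP hF
  have hσ : SgSq (F := F) m := sgSq_of_card m hF
  ext P
  constructor
  · rintro ⟨⟨⟨g, hg⟩, hginf⟩, rfl⟩
    have hginf' : g • suzukiPointInfinity F = suzukiPointInfinity F := hginf
    have hmem : g • suzukiPointZero F ∈ suzukiOvoid F m := by
      rw [← szPt_zero (m := m)]
      exact sz_smul_mem hg (szPt_mem m 0 0)
    rcases (mem_suzukiOvoid_iff m _).1 hmem with h | ⟨x, y, h⟩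
    · exfalso
      rw [← hginf'] at h
      exact szZero_ne_inf (smul_left_cancel g h)
    · exact ⟨(x, y), h.symm⟩
  · rintro ⟨⟨a, b⟩, rfl⟩
    refine ⟨⟨⟨szT m a b, szT_mem hσ a b⟩, szT_smul_infPt a b⟩, ?_⟩
    show szT m a b • suzukiPointZero F = szPt m a b
    rw [← szPt_zero (m := m), szT_smul_pt hσ]
    simp

/-- The stabiliser of `0` in the stabiliser of `∞` is isomorphic to `Fˣ`. -/
theorem nonempty_stab_stab_equiv [Fintype F] (hm : 1 ≤ m)
    (hF : Fintype.card F = 2 ^ (2 * m + 1)) :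
    Nonempty (stabilizer (stabilizer (Sz F m) (suzukiPointInfinity F)) (suzukiPointZero F) ≃* Fˣ) := by
  have := sz_charP hF
  have hσ : SgSq (F := F) m := sgSq_of_card m hF
  let B : Subgroup (Sz F m) := stabilizer (Sz F m) (suzukiPointInfinity F)
  let S : Subgroup B := stabilizer B (suzukiPointZero F)
  let φ : Fˣ →* S :=
    { toFun := fun k => ⟨⟨⟨szH m k, szH_mem hσ k⟩, szH_smul_infPt k⟩, szH_smul_zeroPt k⟩
      map_one' := by
        apply Subtype.ext
        apply Subtype.ext
        apply Subtype.ext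
        exact szH_one
      map_mul' := by
        intro k1 k2
        apply Subtype.ext
        apply Subtype.ext
        apply Subtype.ext
        exact szH_mul k1 k2 }
  have hinj : Function.Injective φ := by
    intro k1 k2 h
    apply szH_injective (m := m)
    exact congrArg (fun z : S => (((z : B) : Sz F m) : SpecialLinearGroup (Fin 4) F)) h
  have hsurj : Function.Surjective φ := by
    rintro ⟨⟨⟨g, hg⟩, h1⟩, h2⟩
    obtain ⟨k, hk⟩ := eq_szH_of_fix hm hF hg h1 h2
    refine ⟨k, ?_⟩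
    apply Subtype.ext
    apply Subtype.ext
    apply Subtype.ext
    exact hk.symm
  exact ⟨(MulEquiv.ofBijective φ ⟨hinj, hsurj⟩).symm⟩

/-- The stabiliser of `∞` has order `q² (q - 1)`. -/
theorem card_stab_inf [Fintype F] (hm : 1 ≤ m) (hF : Fintype.card F = 2 ^ (2 * m + 1)) :
    Nat.card (stabilizer (Sz F m) (suzukiPointInfinity F)) =
      (2 ^ (2 * m + 1)) ^ 2 * (2 ^ (2 * m + 1) - 1) := by
  obtain ⟨e⟩ := nonempty_stab_stab_equiv hm hF
  have h1 := Subgroup.card_mul_index
    (stabilizer (stabilizer (Sz F m) (suzukiPointInfinity F)) (suzukiPointZero F))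
  rw [index_stabilizer, orbit_stab_zero hF, Nat.card_congr e.toEquiv] at h1
  rw [← h1]
  have h2 : (Set.range (fun ab : F × F => szPt m ab.1 ab.2)).ncard = (2 ^ (2 * m + 1)) ^ 2 := by
    rw [← Nat.card_coe_set_eq, Nat.card_range_of_injective, Nat.card_prod, Nat.card_eq_fintype_card,
      hF, sq]
    rintro ⟨a, b⟩ ⟨a', b'⟩ h
    obtain ⟨h1, h2⟩ := szPt_injective m h
    simp only at h1 h2
    rw [h1, h2]
  rw [h2, Nat.card_units, Nat.card_eq_fintype_card, hF, mul_comm]

/-- The order of the Suzuki group. -/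
theorem card_Sz [Fintype F] (hm : 1 ≤ m) (hF : Fintype.card F = 2 ^ (2 * m + 1)) :
    Nat.card (Sz F m) =
      (2 ^ (2 * m + 1)) ^ 2 * ((2 ^ (2 * m + 1)) ^ 2 + 1) * (2 ^ (2 * m + 1) - 1) := by
  have h1 := Subgroup.card_mul_index (stabilizer (Sz F m) (suzukiPointInfinity F))
  rw [index_stabilizer, orbit_Sz_inf hF, card_stab_inf hm hF, ← Nat.card_coe_set_eq,
    card_suzukiOvoid, hF] at h1
  rw [← h1]
  ring

end Cfsg.Agent.Lib.Helper6
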