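import Mathlib

/-!
# Centralisers in Zassenhaus-type permutation groups (helper6)

Abstract lemmas for a finite group `G` acting on a finite set `Ω` such that only the identity fixes
three points (`h3`), two-point stabilisers contain no involution (`hinv`), and `|Ω|` is odd:

* `exists_unique_fixed_of_involution`: an involution has exactly one fixed point;
* `exists_involution_of_swap`: an element interchanging two points has an involution among its powers;
* `exists_two_pow_of_unique_fixed`: if `g` has exactly one fixed point and `|Ω| = 2^k + 1`, everything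
  commuting with `g` is a `2`-element;
* `fix_pair_of_commute`: if `g ≠ 1` fixes `a ≠ b`, everything commuting with `g` fixes `a` and `b`;
* `prime_dvd_card_of_fpf`: if `g` has no fixed point, each prime `p ∣ orderOf g` is odd, divides `|Ω|`,
  and the power of `g` of order `p` has no fixed point.
-/

set_option autoImplicit false

namespace Cfsg.Agent.Lib.Helper6

section ZassCN

variable {G Ω : Type*} [Group G] [MulAction G Ω]

theorem mem_fixedPoints_zpowers_iff (x : G) (a : Ω) :
    a ∈ MulAction.fixedPoints (Subgroup.zpowers x) Ω ↔ x • a = a := by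
  constructor
  · intro h
    exact h ⟨x, Subgroup.mem_zpowers x⟩
  · intro h z
    have h3 : x ∈ MulAction.stabilizer G a := h
    exact (Subgroup.zpowers_le.mpr h3) z.2

/-- If `y` commutes with `x` and `x` fixes `a`, then `x` fixes `y • a`. -/
theorem smul_fixed_of_commute {x y : G} (h : Commute y x) {a : Ω} (ha : x • a = a) :
    x • (y • a) = y • a := by
  rw [← mul_smul, ← h.eq, mul_smul, ha]

/-- An involution of a group acting on an odd number of points, whose two-point stabilisers contain no
involution, has exactly one fixed point. -/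
theorem exists_unique_fixed_of_involution [Finite Ω] (hodd : Odd (Nat.card Ω))
    (hinv : ∀ a b : Ω, a ≠ b → ∀ t : G, t • a = a → t • b = b → t * t = 1 → t = 1)
    {t : G} (ht1 : t ≠ 1) (ht2 : t * t = 1) : ∃ d : Ω, t • d = d ∧ ∀ e, t • e = e → e = d := by
  have hord : orderOf t = 2 := orderOf_eq_prime (by rw [sq]; exact ht2) ht1
  have hZ : IsPGroup 2 (Subgroup.zpowers t) :=
    IsPGroup.of_card (n := 1) (by rw [Nat.card_zpowers, hord, pow_one])
  have h1 := hZ.card_modEq_card_fixedPoints Ω
  have h2 : Nat.card (MulAction.fixedPoints (Subgroup.zpowers t) Ω) ≠ 0 := by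
    intro h0
    rw [h0] at h1
    have h4 := Nat.odd_iff.mp hodd
    have h3 : Nat.card Ω % 2 = 0 % 2 := h1
    omega
  obtain ⟨⟨d, hd⟩⟩ := (Nat.card_ne_zero.mp h2).1
  rw [mem_fixedPoints_zpowers_iff] at hd
  refine ⟨d, hd, fun e he => ?_⟩
  by_contra hne
  exact ht1 (hinv e d hne t he hd ht2)

/-- An element of finite order interchanging two distinct points has an involution among its powers. -/
theorem exists_involution_of_swap [Finite G] {x : G} {a b : Ω} (hab : a ≠ b) (h1 : x • a = b)
    (h2 : x • b = a) : ∃ n : ℕ, x ^ n ≠ 1 ∧ x ^ n * x ^ n = 1 := by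
  have hpow : ∀ j : ℕ, x ^ (2 * j) • a = a ∧ x ^ (2 * j + 1) • a = b := by
    intro j
    induction j with
    | zero => simp [h1]
    | succ j ih =>
      have e1 : x ^ (2 * (j + 1)) • a = a := by
        rw [show 2 * (j + 1) = (2 * j + 1) + 1 by ring, pow_succ', mul_smul, ih.2, h2]
      refine ⟨e1, ?_⟩
      rw [pow_succ', mul_smul, e1, h1]
  have ho : 0 < orderOf x := orderOf_pos x
  rcases Nat.even_or_odd' (orderOf x) with ⟨j, hj | hj⟩
  · refine ⟨j, ?_, ?_⟩
    · apply pow_ne_one_of_lt_orderOf (by omega) (by omega)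
    · rw [← pow_add, ← two_mul, ← hj, pow_orderOf_eq_one]
  · exfalso
    have h3 := (hpow j).2
    rw [← hj, pow_orderOf_eq_one, one_smul] at h3
    exact hab h3

/-- If `g` has exactly one fixed point `a` and `|Ω| = 2^k + 1`, every element commuting with `g` is a
`2`-element. -/
theorem exists_two_pow_of_unique_fixed [Finite G] [Finite Ω] {k : ℕ}
    (hcard : Nat.card Ω = 2 ^ k + 1)
    (h3 : ∀ g : G, ∀ a b c : Ω, a ≠ b → b ≠ c → a ≠ c → g • a = a → g • b = b → g • c = c → g = 1)
    {g : G} {a : Ω} (hga : g • a = a) (hu : ∀ b, g • b = b → b = a)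
    {c : G} (hc : Commute c g) : ∃ j : ℕ, c ^ 2 ^ j = 1 := by
  -- elements commuting with g that are non-trivial fix only `a`
  have key : ∀ y : G, Commute y g → y ≠ 1 → ∀ b, y • b = b → b = a := by
    intro y hy hy1 b hb
    have hya : y • a = a := by
      have := smul_fixed_of_commute hy hga
      exact hu _ this
    by_contra hne
    have h4 : y • (g • b) = g • b := smul_fixed_of_commute hy.symm hb
    by_cases h5 : g • b = b
    · exact hne (hu b h5)
    by_cases h6 : g • b = a
    · apply hne
      have : g • b = g • a := by rw [h6, hga]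
      exact smul_left_cancel g this
    exact hy1 (h3 y a b (g • b) (Ne.symm hne) (Ne.symm h5) (Ne.symm h6) hya hb h4)
  have ho : 0 < orderOf c := orderOf_pos c
  have hprime : ∀ {r : ℕ}, r.Prime → r ∣ orderOf c → r = 2 := by
    intro r hr hrd
    have := Fact.mk hr
    set y := c ^ (orderOf c / r) with hy
    have hdiv : orderOf c / r ∣ orderOf c := Nat.div_dvd_of_dvd hrd
    have hne0 : orderOf c / r ≠ 0 := by
      intro h0
      rw [Nat.div_eq_zero_iff] at h0
      rcases h0 with h0 | h0
      · exact hr.ne_zero h0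
      · exact absurd (Nat.le_of_dvd ho hrd) (not_le.mpr h0)
    have hyord : orderOf y = r := by
      rw [hy, orderOf_pow_of_dvd hne0 hdiv, Nat.div_div_self hrd ho.ne']
    have hy1 : y ≠ 1 := by
      intro h
      rw [h, orderOf_one] at hyord
      exact hr.one_lt.ne hyord
    have hyc : Commute y g := hc.pow_left _
    have hZ : IsPGroup r (Subgroup.zpowers y) :=
      IsPGroup.of_card (n := 1) (by rw [Nat.card_zpowers, hyord, pow_one])
    have h1 := hZ.card_modEq_card_fixedPoints Ω
    have hya : y • a = a := hu _ (smul_fixed_of_commute hyc hga)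
    have hfix : MulAction.fixedPoints (Subgroup.zpowers y) Ω = {a} := by
      ext e
      rw [mem_fixedPoints_zpowers_iff, Set.mem_singleton_iff]
      exact ⟨key y hyc hy1 e, fun h => h ▸ hya⟩
    rw [hfix, hcard, Nat.card_coe_set_eq, Set.ncard_singleton] at h1
    have h2 : r ∣ 2 ^ k := by
      have h4 : (2 ^ k + 1) % r = 1 % r := h1
      have h5 : (2 ^ k + 1 - 1) % r = 0 := Nat.sub_mod_eq_zero_of_mod_eq h4
      rw [Nat.add_sub_cancel] at h5
      exact Nat.dvd_of_mod_eq_zero h5
    exact (Nat.prime_dvd_prime_iff_eq hr Nat.prime_two).mp (hr.dvd_of_dvd_pow h2)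
  have h7 := Nat.eq_prime_pow_of_unique_prime_dvd ho.ne' hprime
  refine ⟨(orderOf c).primeFactorsList.length, ?_⟩
  rw [← h7, pow_orderOf_eq_one]

/-- If `g ≠ 1` fixes two distinct points, everything commuting with `g` fixes both of them. -/
theorem fix_pair_of_commute [Finite G] [Finite Ω] (hodd : Odd (Nat.card Ω))
    (h3 : ∀ g : G, ∀ a b c : Ω, a ≠ b → b ≠ c → a ≠ c → g • a = a → g • b = b → g • c = c → g = 1)
    (hinv : ∀ a b : Ω, a ≠ b → ∀ t : G, t • a = a → t • b = b → t * t = 1 → t = 1)
    {g : G} (hg1 : g ≠ 1) {a b : Ω} (hab : a ≠ b) (hga : g • a = a) (hgb : g • b = b)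
    {c : G} (hc : Commute c g) : c • a = a ∧ c • b = b := by
  have hfix : ∀ x, g • x = x → x = a ∨ x = b := by
    intro x hx
    by_contra h
    push Not at h
    exact hg1 (h3 g a b x hab (Ne.symm h.2) (Ne.symm h.1) hga hgb hx)
  have hca := hfix _ (smul_fixed_of_commute hc hga)
  have hcb := hfix _ (smul_fixed_of_commute hc hgb)
  rcases hca with hca | hca
  · refine ⟨hca, ?_⟩
    rcases hcb with hcb | hcb
    · exfalso
      apply hab
      have : c • a = c • b := by rw [hca, hcb]
      exact smul_left_cancel c this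
    · exact hcb
  · exfalso
    have hcb' : c • b = a := by
      rcases hcb with hcb | hcb
      · exact hcb
      · exfalso
        apply hab
        have : c • a = c • b := by rw [hca, hcb]
        exact smul_left_cancel c this
    obtain ⟨n, hn1, hn2⟩ := exists_involution_of_swap hab hca hcb'
    obtain ⟨d, hd, hdu⟩ := exists_unique_fixed_of_involution hodd hinv hn1 hn2
    have htg : Commute (c ^ n) g := hc.pow_left n
    have hgd : g • d = d := hdu _ (smul_fixed_of_commute htg.symm hd)
    have hcd : c • d = d := hdu _ (smul_fixed_of_commute (Commute.pow_right (Commute.refl c) n) hd)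
    rcases hfix d hgd with h | h
    · rw [h] at hcd
      exact hab (hcd.symm.trans hca)
    · rw [h] at hcd
      exact hab (hcb'.symm.trans hcd)

/-- If `g` has no fixed point, every prime dividing its order is odd and divides `|Ω|`, and the
corresponding power of `g` of prime order has no fixed point either. -/
theorem prime_dvd_card_of_fpf [Finite G] [Finite Ω] (hodd : Odd (Nat.card Ω))
    (h3 : ∀ g : G, ∀ a b c : Ω, a ≠ b → b ≠ c → a ≠ c → g • a = a → g • b = b → g • c = c → g = 1)
    (hinv : ∀ a b : Ω, a ≠ b → ∀ t : G, t • a = a → t • b = b → t * t = 1 → t = 1)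
    {g : G} (hfpf : ∀ x : Ω, g • x ≠ x) {p : ℕ} (hp : p.Prime) (hpo : p ∣ orderOf g) :
    p ≠ 2 ∧ p ∣ Nat.card Ω ∧ orderOf (g ^ (orderOf g / p)) = p ∧
      ∀ x : Ω, g ^ (orderOf g / p) • x ≠ x := by
  have := Fact.mk hp
  have ho : 0 < orderOf g := orderOf_pos g
  set y := g ^ (orderOf g / p) with hy
  have hdiv : orderOf g / p ∣ orderOf g := Nat.div_dvd_of_dvd hpo
  have hne0 : orderOf g / p ≠ 0 := by
    intro h0
    rw [Nat.div_eq_zero_iff] at h0
    rcases h0 with h0 | h0
    · exact hp.ne_zero h0
    · exact absurd (Nat.le_of_dvd ho hpo) (not_le.mpr h0)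
  have hyord : orderOf y = p := by
    rw [hy, orderOf_pow_of_dvd hne0 hdiv, Nat.div_div_self hpo ho.ne']
  have hy1 : y ≠ 1 := by
    intro h
    rw [h, orderOf_one] at hyord
    exact hp.one_lt.ne hyord
  have hyg : Commute g y := Commute.pow_right (Commute.refl g) _
  -- y has no fixed point
  have hyfpf : ∀ x : Ω, y • x ≠ x := by
    intro a ha
    have hb : y • (g • a) = g • a := smul_fixed_of_commute hyg ha
    have hb2 : y • (g • (g • a)) = g • (g • a) := smul_fixed_of_commute hyg hb
    have hab : a ≠ g • a := fun h => hfpf a h.symm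
    have hswap : g • (g • a) = a := by
      by_contra h
      exact hy1 (h3 y a (g • a) (g • (g • a)) hab (fun h' => hfpf _ h'.symm) (Ne.symm h) ha hb hb2)
    obtain ⟨n, hn1, hn2⟩ := exists_involution_of_swap hab rfl hswap
    obtain ⟨d, hd, hdu⟩ := exists_unique_fixed_of_involution hodd hinv hn1 hn2
    have hgd : g • d = d :=
      hdu _ (smul_fixed_of_commute (Commute.pow_right (Commute.refl g) n) hd)
    exact hfpf d hgd
  have hp2 : p ≠ 2 := by
    intro h2
    have hy2 : y * y = 1 := by rw [← sq, ← h2, ← hyord, pow_orderOf_eq_one]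
    obtain ⟨d, hd, -⟩ := exists_unique_fixed_of_involution hodd hinv hy1 hy2
    exact hyfpf d hd
  refine ⟨hp2, ?_, hyord, hyfpf⟩
  have hZ : IsPGroup p (Subgroup.zpowers y) :=
    IsPGroup.of_card (n := 1) (by rw [Nat.card_zpowers, hyord, pow_one])
  have h1 := hZ.card_modEq_card_fixedPoints Ω
  have hfix : MulAction.fixedPoints (Subgroup.zpowers y) Ω = ∅ := by
    ext e
    rw [mem_fixedPoints_zpowers_iff]
    simp only [Set.mem_empty_iff_false, iff_false]
    exact hyfpf e
  rw [hfix, Nat.card_coe_set_eq, Set.ncard_empty] at h1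
  exact (Nat.modEq_zero_iff_dvd).mp h1

end ZassCN

end Cfsg.Agent.Lib.Helper6
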