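import Mathlib
import Cfsg.Agent.Lib.Helper6.SzMat

/-!
# Suzuki groups: the translation subgroup (helper6)
-/

set_option autoImplicit false

namespace Cfsg.Agent.Lib.Helper6

open Cfsg Matrix

variable {F : Type*} [Field F] [CharP F 2] {m : ℕ}

theorem szT_mul (hσ : SgSq (F := F) m) (a b c d : F) :
    szT m a b * szT m c d = szT m (a + c) (b + d + sg m a * c) := by
  have h2 : (2 : F) = 0 := two_eq_zero'
  apply Subtype.ext
  show szTmat m a b * szTmat m c d = szTmat m (a + c) (b + d + sg m a * c)
  have hf := szF_translate hσ c d a b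
  have e : d + sg m a * c + b = b + d + sg m a * c := by ring
  have e' : c + a = a + c := add_comm c a
  rw [e, e'] at hf
  ext i j
  rw [Matrix.mul_apply, Fin.sum_univ_four]
  fin_cases i <;> fin_cases j <;> simp [szTmat, map_add] <;> first | done | (rw [hf]; ring) | grind

theorem szT_zero : szT m (0 : F) 0 = 1 := by
  apply Subtype.ext
  show szTmat m 0 0 = 1
  ext i j
  fin_cases i <;> fin_cases j <;> simp [szTmat, szF]

theorem szT_injective {a b c d : F} (h : szT m a b = szT m c d) : a = c ∧ b = d := by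
  have h' : szTmat m a b = szTmat m c d := congrArg Subtype.val h
  have h23 := congrFun (congrFun h' 2) 3
  have h13 := congrFun (congrFun h' 1) 3
  simp [szTmat] at h23 h13
  exact ⟨h23, h13⟩

theorem szT_inv (hσ : SgSq (F := F) m) (a b : F) :
    (szT m a b)⁻¹ = szT m a (b + sg m a * a) := by
  have h2 : (2 : F) = 0 := two_eq_zero'
  rw [inv_eq_iff_mul_eq_one, szT_mul hσ, ← szT_zero (m := m)]
  congr 1
  · grind
  · generalize sg m a = A
    grind

/-- `T(0,b)`, `b ≠ 0`, fixes no affine point. -/
theorem szT_zero_left_smul_pt_ne (hσ : SgSq (F := F) m) {b : F} (hb : b ≠ 0) (x y : F) :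
    szT m 0 b • szPt m x y ≠ szPt m x y := by
  rw [szT_smul_pt hσ]
  intro h
  obtain ⟨-, h2⟩ := szPt_injective m h
  apply hb
  simp at h2
  exact h2

end Cfsg.Agent.Lib.Helper6
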