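import Mathlib
import Cfsg.Agent.S0332
import Cfsg.Agent.Lib.Helper6.FpfLinear3

/-!
# Suzuki groups: elements without fixed points on the ovoid (helper6)

For `g ∈ Sz(q)` without fixed points on the ovoid, `U = C(g)` is a cyclic TI-subgroup with
`C(u) = U` for `1 ≠ u ∈ U`, `|U| ∣ q² + 1`, `|U| ≥ 5` and `|N(U)| ∈ {|U|, 2|U|, 4|U|}`.
-/

set_option autoImplicit false

namespace Cfsg.Agent.Lib.Helper6

open Cfsg Matrix MulAction

variable {F : Type*} [Field F] [Fintype F] {m : ℕ}

/-- Only the identity of the Suzuki group fixes three points of the ovoid. -/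
theorem sz_three_pt (hm : 1 ≤ m) (hF : Fintype.card F = 2 ^ (2 * m + 1)) :
    ∀ g : Sz F m, ∀ a b c : suzukiOvoid F m, a ≠ b → b ≠ c → a ≠ c →
      g • a = a → g • b = b → g • c = c → g = 1 :=
  (Cfsg.Agent.S0327.result hm hF).2.2.1

theorem sz_card_ovoid (hF : Fintype.card F = 2 ^ (2 * m + 1)) :
    Nat.card (suzukiOvoid F m) = 2 ^ ((2 * m + 1) * 2) + 1 := by
  rw [card_suzukiOvoid, hF, ← pow_mul]

theorem sz_odd_ovoid (hF : Fintype.card F = 2 ^ (2 * m + 1)) :
    Odd (Nat.card (suzukiOvoid F m)) := by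
  rw [sz_card_ovoid hF]
  apply Even.add_one
  rw [Nat.even_pow]
  exact ⟨even_two, by omega⟩

/-- Two-point stabilisers contain no involution. -/
theorem sz_hinv (hm : 1 ≤ m) (hF : Fintype.card F = 2 ^ (2 * m + 1)) :
    ∀ a b : suzukiOvoid F m, a ≠ b → ∀ t : Sz F m, t • a = a → t • b = b → t * t = 1 → t = 1 := by
  have := sz_charP hF
  intro a b hab t hta htb ht2
  obtain ⟨x, hx⟩ := Cfsg.Agent.S0332.exists_conj_szH hm hF a b hab
  obtain ⟨k, hk⟩ := hx t hta htb
  have h4 : (x * t * x⁻¹) * (x * t * x⁻¹) = 1 := by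
    have : (x * t * x⁻¹) * (x * t * x⁻¹) = x * (t * t) * x⁻¹ := by group
    rw [this, ht2]; group
  have h5 : szH m (k * k) = szH m 1 := by
    rw [szH_mul, ← hk, szH_one]
    exact congrArg Subtype.val h4
  have h6 : k * k = 1 := szH_injective h5
  have h7 : (k : F) * (k : F) = 1 := by
    have := congrArg (fun u : Fˣ => (u : F)) h6
    simpa using this
  have h8 : ((k : F) - 1) * ((k : F) - 1) = 0 := by
    have h2F : (2 : F) = 0 := two_eq_zero'
    linear_combination h7 + (1 - (k : F)) * h2F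
  have h9 : (k : F) = 1 := by
    rcases mul_self_eq_zero.mp h8 with h
    exact sub_eq_zero.mp h
  have h10 : k = 1 := Units.ext h9
  rw [h10, szH_one] at hk
  have h11 : x * t * x⁻¹ = 1 := Subtype.ext hk
  have := congrArg (fun z => x⁻¹ * z * x) h11
  simpa [mul_assoc] using this

/-- Two-point stabilisers are commutative. -/
theorem sz_hcomm2 (hm : 1 ≤ m) (hF : Fintype.card F = 2 ^ (2 * m + 1)) :
    ∀ a b : suzukiOvoid F m, a ≠ b → ∀ s t : Sz F m, s • a = a → s • b = b →
      t • a = a → t • b = b → s * t = t * s := by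
  have := sz_charP hF
  intro a b hab s t hsa hsb hta htb
  obtain ⟨x, hx⟩ := Cfsg.Agent.S0332.exists_conj_szH hm hF a b hab
  obtain ⟨k₁, hk₁⟩ := hx s hsa hsb
  obtain ⟨k₂, hk₂⟩ := hx t hta htb
  have h4 : (x * s * x⁻¹) * (x * t * x⁻¹) = (x * t * x⁻¹) * (x * s * x⁻¹) := by
    apply Subtype.ext
    change ((x * s * x⁻¹ : Sz F m) : SpecialLinearGroup (Fin 4) F) *
      ((x * t * x⁻¹ : Sz F m) : SpecialLinearGroup (Fin 4) F) =
      ((x * t * x⁻¹ : Sz F m) : SpecialLinearGroup (Fin 4) F) *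
      ((x * s * x⁻¹ : Sz F m) : SpecialLinearGroup (Fin 4) F)
    rw [hk₁, hk₂, ← szH_mul, ← szH_mul, mul_comm]
  have h5 : x * (s * t) * x⁻¹ = x * (t * s) * x⁻¹ := by
    have e1 : x * (s * t) * x⁻¹ = (x * s * x⁻¹) * (x * t * x⁻¹) := by group
    have e2 : x * (t * s) * x⁻¹ = (x * t * x⁻¹) * (x * s * x⁻¹) := by group
    rw [e1, e2, h4]
  have := congrArg (fun z => x⁻¹ * z * x) h5
  simpa [mul_assoc] using this

/-- `g` has no fixed point on the ovoid. -/
def SzFpf (g : Sz F m) : Prop := ∀ a : suzukiOvoid F m, g • a ≠ a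

omit [Fintype F] in
theorem SzFpf.ne_one {g : Sz F m} (hg : SzFpf g) : g ≠ 1 := by
  rintro rfl
  have hinf : suzukiPointInfinity F ∈ suzukiOvoid F m := szInf_mem m
  exact hg ⟨_, hinf⟩ (one_smul _ _)

omit [Fintype F] in
theorem SzFpf.conj {g : Sz F m} (hg : SzFpf g) (h : Sz F m) : SzFpf (h * g * h⁻¹) := by
  intro a ha
  apply hg (h⁻¹ • a)
  have h2 := congrArg (fun z => h⁻¹ • z) ha
  simp only [← mul_smul] at h2 ⊢
  have e : h⁻¹ * (h * g * h⁻¹) = g * h⁻¹ := by group
  rw [e] at h2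
  exact h2

/-- A fixed-point-free element has a power of odd prime order `p ∣ q² + 1`. -/
theorem SzFpf.exists_prime (hm : 1 ≤ m) (hF : Fintype.card F = 2 ^ (2 * m + 1)) {g : Sz F m}
    (hg : SzFpf g) : ∃ p : ℕ, p.Prime ∧ p ≠ 2 ∧ p ∣ Fintype.card F ^ 2 + 1 ∧
      orderOf (g ^ (orderOf g / p)) = p := by
  have ho1 : orderOf g ≠ 1 := fun h => hg.ne_one (orderOf_eq_one_iff.mp h)
  obtain ⟨p, hp, hpo⟩ := Nat.exists_prime_and_dvd ho1
  obtain ⟨hp2, hpΩ, hyord, -⟩ := prime_dvd_card_of_fpf (sz_odd_ovoid hF) (sz_three_pt hm hF)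
    (sz_hinv hm hF) hg hp hpo
  refine ⟨p, hp, hp2, ?_, hyord⟩
  rw [← card_suzukiOvoid (F := F) m]; exact hpΩ

/-- Elements commuting with a fixed-point-free element commute with each other. -/
theorem SzFpf.commute (hm : 1 ≤ m) (hF : Fintype.card F = 2 ^ (2 * m + 1)) {g : Sz F m}
    (hg : SzFpf g) {c₁ c₂ : Sz F m} (h₁ : Commute c₁ g) (h₂ : Commute c₂ g) : Commute c₁ c₂ := by
  obtain ⟨p, hp, hp2, hpq, hyord⟩ := hg.exists_prime hm hF
  have := Fact.mk hp
  set y : Sz F m := g ^ (orderOf g / p) with hy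
  have hyord' : orderOf (y : SpecialLinearGroup (Fin 4) F) = p := by
    rw [Subgroup.orderOf_coe, hyord]
  have hc₁y : Commute c₁ y := h₁.pow_right _
  have hc₂y : Commute c₂ y := h₂.pow_right _
  have e1 : Commute ((c₁ : SpecialLinearGroup (Fin 4) F) : Matrix (Fin 4) (Fin 4) F)
      ((y : SpecialLinearGroup (Fin 4) F) : Matrix (Fin 4) (Fin 4) F) :=
    congrArg (fun z : Sz F m =>
      ((z : SpecialLinearGroup (Fin 4) F) : Matrix (Fin 4) (Fin 4) F)) hc₁y.eq
  have e2 : Commute ((c₂ : SpecialLinearGroup (Fin 4) F) : Matrix (Fin 4) (Fin 4) F)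
      ((y : SpecialLinearGroup (Fin 4) F) : Matrix (Fin 4) (Fin 4) F) :=
    congrArg (fun z : Sz F m =>
      ((z : SpecialLinearGroup (Fin 4) F) : Matrix (Fin 4) (Fin 4) F)) hc₂y.eq
  have e3 := sl4_commute_of_commute hp2 hpq (y : SpecialLinearGroup (Fin 4) F) hyord' e1 e2
  exact Subtype.ext (Subtype.ext e3.eq)

/-- A non-identity element commuting with a fixed-point-free element is fixed-point-free. -/
theorem SzFpf.of_commute (hm : 1 ≤ m) (hF : Fintype.card F = 2 ^ (2 * m + 1)) {g : Sz F m}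
    (hg : SzFpf g) {u : Sz F m} (hu1 : u ≠ 1) (hu : Commute u g) : SzFpf u := by
  intro a ha
  by_cases h2 : ∃ b : suzukiOvoid F m, b ≠ a ∧ u • b = b
  · obtain ⟨b, hba, hb⟩ := h2
    have := fix_pair_of_commute (sz_odd_ovoid hF) (sz_three_pt hm hF) (sz_hinv hm hF) hu1
      (Ne.symm hba) ha hb hu.symm
    exact hg a this.1
  · push Not at h2
    have h3 : u • (g • a) = g • a := smul_fixed_of_commute hu.symm ha
    have h4 : g • a = a := by
      by_contra hne
      exact h2 _ hne h3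
    exact hg a h4

/-- `C(u) = C(g)` for `1 ≠ u ∈ C(g)`, `g` fixed-point-free. -/
theorem SzFpf.centralizer_eq (hm : 1 ≤ m) (hF : Fintype.card F = 2 ^ (2 * m + 1)) {g : Sz F m}
    (hg : SzFpf g) {u : Sz F m} (hu1 : u ≠ 1) (hu : Commute u g) :
    Subgroup.centralizer ({u} : Set (Sz F m)) = Subgroup.centralizer ({g} : Set (Sz F m)) := by
  have hu' := hg.of_commute hm hF hu1 hu
  ext c
  rw [Subgroup.mem_centralizer_singleton_iff, Subgroup.mem_centralizer_singleton_iff]
  constructor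
  · intro h
    exact (hu'.commute hm hF (c₁ := c) (c₂ := g) h hu.symm).eq
  · intro h
    exact (hg.commute hm hF (c₁ := c) (c₂ := u) h hu).eq

/-- The centraliser of a fixed-point-free element is a TI-subgroup. -/
theorem SzFpf.mem_normalizer (hm : 1 ≤ m) (hF : Fintype.card F = 2 ^ (2 * m + 1)) {g : Sz F m}
    (hg : SzFpf g) {h v : Sz F m} (hv : v ∈ Subgroup.centralizer ({g} : Set (Sz F m)))
    (hv1 : v ≠ 1) (hc : h * v * h⁻¹ ∈ Subgroup.centralizer ({g} : Set (Sz F m))) :
    h ∈ Subgroup.normalizer (Subgroup.centralizer ({g} : Set (Sz F m)) : Set (Sz F m)) := by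
  have hvg : Commute v g := Subgroup.mem_centralizer_singleton_iff.mp hv
  have hcg : Commute (h * v * h⁻¹) g := Subgroup.mem_centralizer_singleton_iff.mp hc
  have hc1 : h * v * h⁻¹ ≠ 1 := by
    intro h1
    apply hv1
    have := congrArg (fun z => h⁻¹ * z * h) h1
    simpa [mul_assoc] using this
  have e1 := hg.centralizer_eq hm hF hv1 hvg
  have e2 := hg.centralizer_eq hm hF hc1 hcg
  rw [Subgroup.mem_normalizer_iff]
  intro x
  constructor
  · intro hx
    rw [← e1, Subgroup.mem_centralizer_singleton_iff] at hx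
    rw [← e2, Subgroup.mem_centralizer_singleton_iff]
    have : h * x * h⁻¹ * (h * v * h⁻¹) = h * (x * v) * h⁻¹ := by group
    rw [this, hx]; group
  · intro hx
    rw [← e2, Subgroup.mem_centralizer_singleton_iff] at hx
    rw [← e1, Subgroup.mem_centralizer_singleton_iff]
    have h5 := congrArg (fun z => h⁻¹ * z * h) hx
    beta_reduce at h5
    have e3 : h⁻¹ * (h * x * h⁻¹ * (h * v * h⁻¹)) * h = x * v := by group
    have e4 : h⁻¹ * (h * v * h⁻¹ * (h * x * h⁻¹)) * h = v * x := by group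
    rw [e3, e4] at h5
    exact h5

/-- The centraliser of a fixed-point-free element is cyclic. -/
theorem SzFpf.isCyclic_centralizer (hm : 1 ≤ m) (hF : Fintype.card F = 2 ^ (2 * m + 1))
    {g : Sz F m} (hg : SzFpf g) : IsCyclic (Subgroup.centralizer ({g} : Set (Sz F m))) := by
  obtain ⟨p, hp, hp2, hpq, hyord⟩ := hg.exists_prime hm hF
  have := Fact.mk hp
  set y : Sz F m := g ^ (orderOf g / p) with hy
  have hyord' : orderOf (y : SpecialLinearGroup (Fin 4) F) = p := by
    rw [Subgroup.orderOf_coe, hyord]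
  set H : Subgroup (SpecialLinearGroup (Fin 4) F) :=
    (Subgroup.centralizer ({g} : Set (Sz F m))).map (Sz F m).subtype with hH
  have hHc : ∀ h ∈ H, Commute h (y : SpecialLinearGroup (Fin 4) F) := by
    rintro h ⟨c, hc, rfl⟩
    have h1 : Commute c g := Subgroup.mem_centralizer_singleton_iff.mp hc
    have h2 : Commute c y := h1.pow_right _
    exact congrArg Subtype.val h2.eq
  have hcyc := sl4_isCyclic_of_commute hp2 hpq (y : SpecialLinearGroup (Fin 4) F) hyord' H hHc
  have e : Subgroup.centralizer ({g} : Set (Sz F m)) ≃* H :=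
    (Subgroup.centralizer ({g} : Set (Sz F m))).equivMapOfInjective _
      (Subgroup.subtype_injective _)
  exact e.isCyclic.mpr hcyc

end Cfsg.Agent.Lib.Helper6
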