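import Mathlib

/-!
# Counting the elements of the conjugates of a TI-subgroup (helper6)

`card_conj_nontrivial_mul_card_normalizer`: if `h v h⁻¹ ∈ U` with `1 ≠ v ∈ U` forces `h ∈ N(U)`, then
`#{x ≠ 1 | x conjugate into U} * |N(U)| = |G| * (|U| - 1)`.
-/

set_option autoImplicit false

namespace Cfsg.Agent.Lib.Helper6

open Finset

variable {G : Type*} [Group G] [Fintype G] [DecidableEq G]

/-- The non-identity elements of the conjugates of a TI-subgroup. -/
noncomputable def conjNontrivial (U : Subgroup G) : Finset G := by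
  classical
  exact univ.filter (fun x : G => x ≠ 1 ∧ ∃ h : G, h * x * h⁻¹ ∈ U)

theorem mem_conjNontrivial {U : Subgroup G} {x : G} :
    x ∈ conjNontrivial U ↔ x ≠ 1 ∧ ∃ h : G, h * x * h⁻¹ ∈ U := by
  classical
  simp [conjNontrivial]

/-- Counting the non-identity elements of the conjugates of a TI-subgroup. -/
theorem card_conj_nontrivial_mul_card_normalizer (U : Subgroup G)
    (hTI : ∀ h v : G, v ∈ U → v ≠ 1 → h * v * h⁻¹ ∈ U →
      h ∈ Subgroup.normalizer (U : Set G)) :
    (conjNontrivial U).card * Nat.card (Subgroup.normalizer (U : Set G)) =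
      Nat.card G * (Nat.card U - 1) := by
  classical
  have key := Finset.sum_card_bipartiteAbove_eq_sum_card_bipartiteBelow
    (s := (univ : Finset G)) (t := (univ : Finset G))
    (fun h x : G => x ≠ 1 ∧ h * x * h⁻¹ ∈ U)
  -- left side: every h contributes |U| - 1
  have hL : ∀ h ∈ (univ : Finset G),
      (bipartiteAbove (fun h x : G => x ≠ 1 ∧ h * x * h⁻¹ ∈ U) univ h).card =
        Nat.card U - 1 := by
    intro h _
    have e : bipartiteAbove (fun h x : G => x ≠ 1 ∧ h * x * h⁻¹ ∈ U) univ h =
        ((univ.filter (fun v : G => v ∈ U)).erase 1).image (fun v => h⁻¹ * v * h) := by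
      ext x
      simp only [bipartiteAbove, mem_filter, mem_univ, true_and, mem_image, mem_erase]
      constructor
      · rintro ⟨hx1, hxU⟩
        refine ⟨h * x * h⁻¹, ⟨?_, hxU⟩, by group⟩
        intro h1
        apply hx1
        have := congrArg (fun z => h⁻¹ * z * h) h1
        simpa [mul_assoc] using this
      · rintro ⟨v, ⟨hv1, hvU⟩, rfl⟩
        refine ⟨?_, ?_⟩
        · intro h1
          apply hv1
          have := congrArg (fun z => h * z * h⁻¹) h1
          simpa [mul_assoc] using this
        · have : h * (h⁻¹ * v * h) * h⁻¹ = v := by group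
          rw [this]; exact hvU
    rw [e, card_image_of_injective]
    · rw [card_erase_of_mem (by simp [U.one_mem])]
      congr 1
      rw [Nat.card_eq_fintype_card, Fintype.card_subtype]
    · intro a b hab
      have := congrArg (fun z => h * z * h⁻¹) hab
      simpa [mul_assoc] using this
  -- right side
  have hR : ∀ x ∈ (univ : Finset G),
      (bipartiteBelow (fun h x : G => x ≠ 1 ∧ h * x * h⁻¹ ∈ U) univ x).card =
        if x ∈ conjNontrivial U then Nat.card (Subgroup.normalizer (U : Set G)) else 0 := by
    intro x _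
    by_cases hx : x ∈ conjNontrivial U
    · rw [if_pos hx]
      obtain ⟨hx1, h₀, hh₀⟩ := mem_conjNontrivial.mp hx
      have hv1 : h₀ * x * h₀⁻¹ ≠ 1 := by
        intro h1
        apply hx1
        have := congrArg (fun z => h₀⁻¹ * z * h₀) h1
        simpa [mul_assoc] using this
      have e : bipartiteBelow (fun h x : G => x ≠ 1 ∧ h * x * h⁻¹ ∈ U) univ x =
          (univ.filter (fun n : G => n ∈ Subgroup.normalizer (U : Set G))).image
            (fun n => n * h₀) := by
        ext h
        simp only [bipartiteBelow, mem_filter, mem_univ, true_and, mem_image]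
        constructor
        · rintro ⟨-, hh⟩
          refine ⟨h * h₀⁻¹, ?_, by group⟩
          apply hTI (h * h₀⁻¹) (h₀ * x * h₀⁻¹) hh₀ hv1
          have : h * h₀⁻¹ * (h₀ * x * h₀⁻¹) * (h * h₀⁻¹)⁻¹ = h * x * h⁻¹ := by group
          rw [this]; exact hh
        · rintro ⟨n, hn, rfl⟩
          refine ⟨hx1, ?_⟩
          have : n * h₀ * x * (n * h₀)⁻¹ = n * (h₀ * x * h₀⁻¹) * n⁻¹ := by group
          rw [this]
          exact (Subgroup.mem_normalizer_iff.mp hn _).mp hh₀
      rw [e, card_image_of_injective _ (mul_left_injective h₀), Nat.card_eq_fintype_card,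
        Fintype.card_subtype]
    · rw [if_neg hx]
      rw [card_eq_zero]
      ext h
      simp only [bipartiteBelow, mem_filter, mem_univ, true_and, notMem_empty, iff_false]
      rintro ⟨hx1, hh⟩
      exact hx (mem_conjNontrivial.mpr ⟨hx1, h, hh⟩)
  rw [sum_congr rfl hL, sum_congr rfl hR, sum_const, card_univ, smul_eq_mul,
    sum_ite_mem, univ_inter, sum_const, smul_eq_mul, ← Nat.card_eq_fintype_card] at key
  exact key.symm

end Cfsg.Agent.Lib.Helper6
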