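import Mathlib

/-!
# Counting fixed-point-free elements in a Zassenhaus-type group (helper6)

For a finite group `G` acting 2-transitively on a finite set `X` with `ω` points such that only the
identity fixes three points, the number `N₀` of elements without fixed points satisfies
`2 N₀ + ω² + 2 = |G| + 3 ω` (`two_mul_card_fpf_add`).  Proof: Burnside's lemma on `X` and on `X × X`.
-/

set_option autoImplicit false

namespace Cfsg.Agent.Lib.Helper6

open MulAction Finset

section Orbits

variable {G X : Type*} [Group G] [MulAction G X]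

theorem card_orbits_eq_one [Fintype (Quotient (orbitRel G X))] [Nonempty X]
    (h1 : ∀ a c : X, ∃ g : G, g • a = c) : Fintype.card (Quotient (orbitRel G X)) = 1 := by
  have : IsPretransitive G X := ⟨h1⟩
  have hs : Subsingleton (orbitRel.Quotient G X) :=
    (pretransitive_iff_subsingleton_quotient G X).mp this
  have hs' : Subsingleton (Quotient (orbitRel G X)) := hs
  obtain ⟨x⟩ := ‹Nonempty X›
  have hn : Nonempty (Quotient (orbitRel G X)) := ⟨Quotient.mk _ x⟩
  apply le_antisymm
  · exact Fintype.card_le_one_iff_subsingleton.mpr hs'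
  · exact Fintype.card_pos

theorem card_orbits_prod_eq_two [Fintype (Quotient (orbitRel G (X × X)))]
    (h1 : ∀ a c : X, ∃ g : G, g • a = c)
    (h2 : ∀ a b c d : X, a ≠ b → c ≠ d → ∃ g : G, g • a = c ∧ g • b = d)
    (hne : ∃ a b : X, a ≠ b) : Fintype.card (Quotient (orbitRel G (X × X))) = 2 := by
  classical
  let f : Quotient (orbitRel G (X × X)) → Bool :=
    Quotient.lift (fun p : X × X => decide (p.1 = p.2)) (by
      rintro ⟨a, b⟩ ⟨c, d⟩ ⟨g, hg⟩
      have hg' : (g • c, g • d) = (a, b) := hg
      have h3 : g • c = a := (Prod.mk.inj hg').1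
      have h4 : g • d = b := (Prod.mk.inj hg').2
      simp only [decide_eq_decide]
      constructor
      · intro h
        rw [← h3, ← h4] at h
        exact smul_left_cancel g h
      · intro h
        rw [← h3, ← h4, h])
  have hf : Function.Bijective f := by
    constructor
    · intro u v
      refine Quotient.inductionOn₂ u v ?_
      rintro ⟨a, b⟩ ⟨c, d⟩ h
      have h' : decide (a = b) = decide (c = d) := h
      rw [decide_eq_decide] at h'
      apply Quotient.sound
      by_cases hab : a = b
      · have hcd : c = d := h'.mp hab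
        obtain ⟨g, hg⟩ := h1 c a
        refine ⟨g, ?_⟩
        change (g • c, g • d) = (a, b)
        rw [← hcd, hg, ← hab]
      · have hcd : c ≠ d := fun h => hab (h'.mpr h)
        obtain ⟨g, hg1, hg2⟩ := h2 c d a b hcd hab
        refine ⟨g, ?_⟩
        change (g • c, g • d) = (a, b)
        rw [hg1, hg2]
    · intro b
      obtain ⟨a, a', haa'⟩ := hne
      cases b
      · exact ⟨Quotient.mk _ (a, a'), by simp [f, haa']⟩
      · exact ⟨Quotient.mk _ (a, a), by simp [f]⟩
  rw [Fintype.card_of_bijective hf, Fintype.card_bool]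

end Orbits

section Count

variable {G X : Type*} [Group G] [Fintype G] [DecidableEq G] [MulAction G X] [Fintype X]
  [DecidableEq X]

/-- Counting the elements without fixed points in a Zassenhaus-type group. -/
theorem two_mul_card_fpf_add
    (h1 : ∀ a c : X, ∃ g : G, g • a = c)
    (h2 : ∀ a b c d : X, a ≠ b → c ≠ d → ∃ g : G, g • a = c ∧ g • b = d)
    (hne : ∃ a b : X, a ≠ b)
    (h3 : ∀ g : G, ∀ a b c : X, a ≠ b → b ≠ c → a ≠ c → g • a = a → g • b = b → g • c = c → g = 1)
    [DecidablePred (fun g : G => ∀ x : X, g • x ≠ x)] :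
    2 * (univ.filter (fun g : G => ∀ x : X, g • x ≠ x)).card + Fintype.card X * Fintype.card X + 2
      = Fintype.card G + 3 * Fintype.card X := by
  classical
  have hX : Nonempty X := by obtain ⟨a, -, -⟩ := hne; exact ⟨a⟩
  set ω := Fintype.card X with hω
  let c : G → ℕ := fun g => Fintype.card (fixedBy X g)
  have B1 := sum_card_fixedBy_eq_card_orbits_mul_card_group G X
  rw [card_orbits_eq_one h1, one_mul] at B1
  have B2 := sum_card_fixedBy_eq_card_orbits_mul_card_group G (X × X)
  rw [card_orbits_prod_eq_two h1 h2 hne] at B2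
  have hsq : ∀ g : G, Fintype.card (fixedBy (X × X) g) = c g * c g := by
    intro g
    rw [← Fintype.card_prod]
    apply Fintype.card_congr
    exact
      { toFun := fun p => (⟨p.1.1, (Prod.mk.inj p.2).1⟩, ⟨p.1.2, (Prod.mk.inj p.2).2⟩)
        invFun := fun p => ⟨(p.1.1, p.2.1), by
          change (g • p.1.1, g • p.2.1) = (p.1.1, p.2.1)
          rw [p.1.2, p.2.2]⟩
        left_inv := fun p => rfl
        right_inv := fun p => rfl }
  have hc1 : c 1 = ω := by
    apply Fintype.card_congr
    exact
      { toFun := fun p => p.1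
        invFun := fun x => ⟨x, one_smul _ x⟩
        left_inv := fun p => rfl
        right_inv := fun p => rfl }
  have hcle : ∀ g : G, g ≠ 1 → c g ≤ 2 := by
    intro g hg
    by_contra hlt
    push Not at hlt
    obtain ⟨a, b, d, hab, had, hbd⟩ := Fintype.two_lt_card_iff.mp hlt
    apply hg
    exact h3 g a.1 b.1 d.1 (fun h => hab (Subtype.ext h)) (fun h => hbd (Subtype.ext h))
      (fun h => had (Subtype.ext h)) a.2 b.2 d.2
  have hc0 : ∀ g : G, c g = 0 ↔ ∀ x : X, g • x ≠ x := by
    intro g
    rw [Fintype.card_eq_zero_iff]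
    constructor
    · intro h x hx
      exact h.false ⟨x, hx⟩
    · intro h
      exact ⟨fun p => h p.1 p.2⟩
  -- indicator decomposition
  have hN0 : (univ.filter (fun g : G => ∀ x : X, g • x ≠ x)).card =
      ∑ g : G, if (g ≠ 1 ∧ c g = 0) then 1 else 0 := by
    rw [← Finset.card_filter]
    congr 1
    ext g
    simp only [mem_filter, mem_univ, true_and]
    constructor
    · intro h
      refine ⟨?_, (hc0 g).mpr h⟩
      rintro rfl
      obtain ⟨x⟩ := hX
      exact h x (one_smul _ x)
    · intro h
      exact (hc0 g).mp h.2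
  set N1 := ∑ g : G, if (g ≠ 1 ∧ c g = 1) then 1 else 0 with hN1
  set N2 := ∑ g : G, if (g ≠ 1 ∧ c g = 2) then 1 else 0 with hN2
  have hNe : (∑ g : G, if g = 1 then 1 else 0) = 1 := by
    rw [Finset.sum_ite_eq' univ (1 : G) (fun _ => 1)]
    simp
  have e1 : Fintype.card G = (∑ g : G, if (g ≠ 1 ∧ c g = 0) then 1 else 0) + N1 + N2 + 1 := by
    rw [← hNe, hN1, hN2, ← sum_add_distrib, ← sum_add_distrib, ← sum_add_distrib,
      ← Finset.card_univ, Finset.card_eq_sum_ones]
    apply sum_congr rfl
    intro g _
    by_cases hg : g = 1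
    · simp [hg]
    · have := hcle g hg
      interval_cases h : c g <;> simp [hg]
  have e2 : Fintype.card G = N1 + 2 * N2 + ω := by
    have hω1 : (∑ g : G, if g = 1 then ω else 0) = ω := by
      rw [Finset.sum_ite_eq' univ (1 : G) (fun _ => ω)]
      simp
    rw [← B1, ← hω1, hN1, hN2, mul_sum, ← sum_add_distrib, ← sum_add_distrib]
    apply sum_congr rfl
    intro g _
    change c g = _
    by_cases hg : g = 1
    · simp [hg, hc1]
    · have := hcle g hg
      interval_cases h : c g <;> simp [hg]
  have e3 : 2 * Fintype.card G = N1 + 4 * N2 + ω * ω := by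
    have hω1 : (∑ g : G, if g = 1 then ω * ω else 0) = ω * ω := by
      rw [Finset.sum_ite_eq' univ (1 : G) (fun _ => ω * ω)]
      simp
    rw [← B2, ← hω1, hN1, hN2, mul_sum, ← sum_add_distrib, ← sum_add_distrib]
    apply sum_congr rfl
    intro g _
    rw [hsq g]
    by_cases hg : g = 1
    · simp [hg, hc1]
    · have := hcle g hg
      interval_cases h : c g <;> simp [hg]
  rw [hN0]
  set N0 := ∑ g : G, if (g ≠ 1 ∧ c g = 0) then 1 else 0 with hN0'
  zify at e1 e2 e3 ⊢
  linear_combination (-2 : ℤ) * e1 + 3 * e2 - e3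

end Count

end Cfsg.Agent.Lib.Helper6
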