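import Mathlib
import Cfsg.Agent.Lib.Helper6.SzFpf
import Cfsg.Agent.Lib.Helper6.TICount
import Cfsg.Agent.Lib.Helper6.TwoTransCount

/-!
# Suzuki groups: counting fixed-point-free elements, orders of their centralisers (helper6)
-/

set_option autoImplicit false

namespace Cfsg.Agent.Lib.Helper6

open Cfsg Matrix MulAction

variable {F : Type*} [Field F] [Fintype F] {m : ℕ}

/-- The Suzuki group is transitive on the ovoid. -/
theorem sz_trans (hF : Fintype.card F = 2 ^ (2 * m + 1)) :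
    ∀ a c : suzukiOvoid F m, ∃ g : Sz F m, g • a = c := by
  have := sz_charP hF
  have hσ : SgSq (F := F) m := sgSq_of_card m hF
  intro a c
  obtain ⟨g₁, hg₁, h₁⟩ := sz_exists_to_inf hσ a.2
  obtain ⟨g₂, hg₂, h₂⟩ := sz_exists_to_inf hσ c.2
  refine ⟨(⟨g₂, hg₂⟩ : Sz F m)⁻¹ * ⟨g₁, hg₁⟩, ?_⟩
  apply Subtype.ext
  change (g₂⁻¹ * g₁) • (a : Projectivization F (Fin 4 → F)) = c
  rw [mul_smul, h₁, inv_smul_eq_iff, h₂]

/-- The Suzuki group is 2-transitive on the ovoid. -/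
theorem sz_two_trans (hF : Fintype.card F = 2 ^ (2 * m + 1)) :
    ∀ a b c d : suzukiOvoid F m, a ≠ b → c ≠ d → ∃ g : Sz F m, g • a = c ∧ g • b = d := by
  have := sz_charP hF
  have hσ : SgSq (F := F) m := sgSq_of_card m hF
  intro a b c d hab hcd
  obtain ⟨g₁, hg₁, h₁, h₁'⟩ := sz_exists_map hσ a.2 b.2 (fun h => hab (Subtype.ext h))
  obtain ⟨g₂, hg₂, h₂, h₂'⟩ := sz_exists_map hσ c.2 d.2 (fun h => hcd (Subtype.ext h))
  refine ⟨(⟨g₂, hg₂⟩ : Sz F m)⁻¹ * ⟨g₁, hg₁⟩, ?_, ?_⟩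
  · apply Subtype.ext
    change (g₂⁻¹ * g₁) • (a : Projectivization F (Fin 4 → F)) = c
    rw [mul_smul, h₁, inv_smul_eq_iff, h₂]
  · apply Subtype.ext
    change (g₂⁻¹ * g₁) • (b : Projectivization F (Fin 4 → F)) = d
    rw [mul_smul, h₁', inv_smul_eq_iff, h₂']

omit [Fintype F] in
theorem sz_ovoid_ne : ∃ a b : suzukiOvoid F m, a ≠ b := by
  have hzmem : suzukiPointZero F ∈ suzukiOvoid F m := by
    rw [← szPt_zero (m := m)]; exact szPt_mem m 0 0
  exact ⟨⟨_, hzmem⟩, ⟨_, szInf_mem m⟩, fun h => szZero_ne_inf' (congrArg Subtype.val h)⟩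

/-- The number of elements of the Suzuki group without fixed points on the ovoid. -/
theorem sz_card_fpf (hm : 1 ≤ m) (hF : Fintype.card F = 2 ^ (2 * m + 1)) :
    2 * Set.ncard {g : Sz F m | SzFpf g} = (2 ^ (2 * m + 1)) ^ 3 * (2 ^ (2 * m + 1) - 1) ^ 2 := by
  classical
  have hfinG : Fintype (Sz F m) := Fintype.ofFinite _
  have hfinX : Fintype (suzukiOvoid F m) := Fintype.ofFinite _
  have key := two_mul_card_fpf_add (G := Sz F m) (X := suzukiOvoid F m) (sz_trans hF)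
    (sz_two_trans hF) sz_ovoid_ne (sz_three_pt hm hF)
  have hX : Fintype.card (suzukiOvoid F m) = (2 ^ (2 * m + 1)) ^ 2 + 1 := by
    rw [← Nat.card_eq_fintype_card, card_suzukiOvoid, hF]
  have hG : Fintype.card (Sz F m) =
      (2 ^ (2 * m + 1)) ^ 2 * ((2 ^ (2 * m + 1)) ^ 2 + 1) * (2 ^ (2 * m + 1) - 1) := by
    rw [← Nat.card_eq_fintype_card, card_Sz hm hF]
  have hN : Set.ncard {g : Sz F m | SzFpf g} =
      (Finset.univ.filter (fun g : Sz F m => ∀ x : suzukiOvoid F m, g • x ≠ x)).card := by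
    rw [Set.ncard_eq_toFinset_card']
    congr 1
    ext g
    simp [SzFpf]
  rw [hN]
  rw [hX, hG] at key
  set q := 2 ^ (2 * m + 1) with hq
  have hq1 : 1 ≤ q := Nat.one_le_two_pow
  set N := (Finset.univ.filter (fun g : Sz F m => ∀ x : suzukiOvoid F m, g • x ≠ x)).card
  zify [hq1] at key ⊢
  linear_combination key

end Cfsg.Agent.Lib.Helper6
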