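import Mathlib
import Cfsg.Agent.Lib.Helper6.SzFpf2

/-!
# Suzuki groups: orders of centralisers of fixed-point-free elements and of their normalisers (helper6)
-/

set_option autoImplicit false

namespace Cfsg.Agent.Lib.Helper6

open Cfsg Matrix MulAction

variable {F : Type*} [Field F] [Fintype F] {m : ℕ}

theorem sz_q_sq_mod_three (m : ℕ) : ((2 ^ (2 * m + 1)) ^ 2) % 3 = 1 := by
  rw [pow_right_comm, Nat.pow_mod]
  norm_num

theorem sz_q_mod_three (m : ℕ) : (2 ^ (2 * m + 1)) % 3 = 2 := by
  rw [pow_succ, pow_mul, Nat.mul_mod, Nat.pow_mod]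
  norm_num

theorem sz_q_sq_mod_two (m : ℕ) : ((2 ^ (2 * m + 1)) ^ 2) % 2 = 0 := by
  rw [← pow_mul, Nat.pow_mod]
  have : (2 * m + 1) * 2 ≠ 0 := by omega
  simp [this]

/-- `3` does not divide the order of the Suzuki group. -/
theorem sz_three_not_dvd_card (hm : 1 ≤ m) (hF : Fintype.card F = 2 ^ (2 * m + 1)) :
    ¬ 3 ∣ Nat.card (Sz F m) := by
  rw [card_Sz hm hF]
  intro h
  have h3 : Nat.Prime 3 := by norm_num
  have h1 := sz_q_sq_mod_three m
  have h2 := sz_q_mod_three m
  have hq1 : 1 ≤ 2 ^ (2 * m + 1) := Nat.one_le_two_pow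
  rcases (Nat.Prime.dvd_mul h3).mp h with h | h
  · rcases (Nat.Prime.dvd_mul h3).mp h with h | h
    · have := Nat.mod_eq_zero_of_dvd h
      omega
    · have := Nat.mod_eq_zero_of_dvd h
      omega
  · have := Nat.mod_eq_zero_of_dvd h
    omega

/-- The order of the centraliser of a fixed-point-free element divides `q² + 1`. -/
theorem SzFpf.card_centralizer_dvd (hm : 1 ≤ m) (hF : Fintype.card F = 2 ^ (2 * m + 1))
    {g : Sz F m} (hg : SzFpf g) :
    Nat.card (Subgroup.centralizer ({g} : Set (Sz F m))) ∣ (2 ^ (2 * m + 1)) ^ 2 + 1 := by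
  set U := Subgroup.centralizer ({g} : Set (Sz F m)) with hU
  set q := 2 ^ (2 * m + 1) with hq
  have hq1 : 1 ≤ q := Nat.one_le_two_pow
  have hcop : Nat.Coprime (Nat.card U) (q ^ 2 * (q - 1)) := by
    apply Nat.Coprime.symm
    apply Nat.coprime_of_dvd
    intro r hr hr1 hr2
    have := Fact.mk hr
    obtain ⟨v, hv⟩ := exists_prime_orderOf_dvd_card' r hr2
    have hv1 : (v : Sz F m) ≠ 1 := by
      intro h
      have : orderOf (v : Sz F m) = r := by rw [Subgroup.orderOf_coe, hv]
      rw [h, orderOf_one] at this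
      exact hr.one_lt.ne this
    have hvg : Commute (v : Sz F m) g := Subgroup.mem_centralizer_singleton_iff.mp v.2
    have hvf : SzFpf (v : Sz F m) := hg.of_commute hm hF hv1 hvg
    have hro : r ∣ orderOf (v : Sz F m) := by rw [Subgroup.orderOf_coe, hv]
    obtain ⟨hr2', hrΩ, -, -⟩ := prime_dvd_card_of_fpf (sz_odd_ovoid hF) (sz_three_pt hm hF)
      (sz_hinv hm hF) hvf hr hro
    rw [card_suzukiOvoid, hF] at hrΩ
    have h2 : r ∣ 2 := by
      rcases (Nat.Prime.dvd_mul hr).mp hr1 with h | h
      · have : r ∣ 2 ^ ((2 * m + 1) * 2) := by rw [pow_mul]; exact h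
        exact hr.dvd_of_dvd_pow this
      · have h3 : r ∣ (q - 1) * (q + 1) := Dvd.dvd.mul_right h _
        have h4 : (q - 1) * (q + 1) + 2 = q ^ 2 + 1 := by
          zify [hq1]; ring
        have h5 : r ∣ (q - 1) * (q + 1) + 2 := by rw [h4]; exact hrΩ
        exact (Nat.dvd_add_right h3).mp h5
    exact hr2' ((Nat.prime_dvd_prime_iff_eq hr Nat.prime_two).mp h2)
  have hdvd : Nat.card U ∣ (q ^ 2 + 1) * (q ^ 2 * (q - 1)) := by
    have h1 := Subgroup.card_subgroup_dvd_card U
    rw [card_Sz hm hF] at h1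
    have : (q ^ 2 + 1) * (q ^ 2 * (q - 1)) = q ^ 2 * (q ^ 2 + 1) * (q - 1) := by ring
    rw [this]; exact h1
  exact hcop.dvd_of_dvd_mul_right hdvd

/-- The centraliser of a fixed-point-free element has order at least `5`. -/
theorem SzFpf.five_le_card_centralizer (hm : 1 ≤ m) (hF : Fintype.card F = 2 ^ (2 * m + 1))
    {g : Sz F m} (hg : SzFpf g) :
    5 ≤ Nat.card (Subgroup.centralizer ({g} : Set (Sz F m))) := by
  set U := Subgroup.centralizer ({g} : Set (Sz F m)) with hU
  have hd := hg.card_centralizer_dvd hm hF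
  have h1 : 1 < Nat.card U := by
    rw [Subgroup.one_lt_card_iff_ne_bot]
    intro h
    have hgU : g ∈ U := Subgroup.mem_centralizer_singleton_iff.mpr rfl
    rw [h, Subgroup.mem_bot] at hgU
    exact hg.ne_one hgU
  have h2 : ¬ 2 ∣ Nat.card U := by
    intro h
    have := Nat.mod_eq_zero_of_dvd (h.trans hd)
    have := sz_q_sq_mod_two m
    omega
  have h3 : ¬ 3 ∣ Nat.card U := by
    intro h
    have := Nat.mod_eq_zero_of_dvd (h.trans hd)
    have := sz_q_sq_mod_three m
    omega
  omega

/-- The normaliser of the centraliser `U` of a fixed-point-free element has order at most `4 |U|`. -/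
theorem SzFpf.card_normalizer_le (hm : 1 ≤ m) (hF : Fintype.card F = 2 ^ (2 * m + 1))
    {g : Sz F m} (hg : SzFpf g) :
    Nat.card (Subgroup.normalizer
      (Subgroup.centralizer ({g} : Set (Sz F m)) : Set (Sz F m))) ≤
      4 * Nat.card (Subgroup.centralizer ({g} : Set (Sz F m))) := by
  classical
  obtain ⟨p, hp, hp2, hpq, hyord⟩ := hg.exists_prime hm hF
  have := Fact.mk hp
  set y : Sz F m := g ^ (orderOf g / p) with hy
  set U := Subgroup.centralizer ({g} : Set (Sz F m)) with hU
  set N := Subgroup.normalizer (U : Set (Sz F m)) with hN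
  have hyord' : orderOf (y : SpecialLinearGroup (Fin 4) F) = p := by
    rw [Subgroup.orderOf_coe, hyord]
  have hyg : Commute y g := (Commute.refl g).pow_left _
  have hyU : y ∈ U := Subgroup.mem_centralizer_singleton_iff.mpr hyg.eq
  have hy1 : y ≠ 1 := by
    intro h
    rw [h, orderOf_one] at hyord
    exact hp.one_lt.ne hyord
  have hCy : Subgroup.centralizer ({y} : Set (Sz F m)) = U := hg.centralizer_eq hm hF hy1 hyg
  have hfinG : Fintype (Sz F m) := Fintype.ofFinite _
  let f : Sz F m → SpecialLinearGroup (Fin 4) F :=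
    fun n => ((n * y * n⁻¹ : Sz F m) : SpecialLinearGroup (Fin 4) F)
  let NF : Finset (Sz F m) := Finset.univ.filter (· ∈ N)
  let UF : Finset (Sz F m) := Finset.univ.filter (· ∈ U)
  have hcardN : NF.card = Nat.card N := by
    rw [Nat.card_eq_fintype_card, Fintype.card_subtype]
  have hcardU : UF.card = Nat.card U := by
    rw [Nat.card_eq_fintype_card, Fintype.card_subtype]
  have h1 : (NF.image f).card ≤ 4 := by
    apply sl4_card_le_four_of_roots hp2 hpq (y : SpecialLinearGroup (Fin 4) F) hyord'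
    intro z hz
    obtain ⟨n, hn, rfl⟩ := Finset.mem_image.mp hz
    have hnN : n ∈ N := (Finset.mem_filter.mp hn).2
    have hmem : n * y * n⁻¹ ∈ U := (Subgroup.mem_normalizer_iff.mp hnN y).mp hyU
    constructor
    · have h2 : Commute (n * y * n⁻¹) g := Subgroup.mem_centralizer_singleton_iff.mp hmem
      have h3 : Commute (n * y * n⁻¹) y := h2.pow_right _
      exact congrArg Subtype.val h3.eq
    · have e : ((f n).1 : Matrix (Fin 4) (Fin 4) F) =
          (n : SpecialLinearGroup (Fin 4) F).1 * (y : SpecialLinearGroup (Fin 4) F).1 *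
            ((n⁻¹ : Sz F m) : SpecialLinearGroup (Fin 4) F).1 := rfl
      have hinv : ((n⁻¹ : Sz F m) : SpecialLinearGroup (Fin 4) F).1 *
          (n : SpecialLinearGroup (Fin 4) F).1 = 1 := by
        have := congrArg (fun z : Sz F m =>
          ((z : SpecialLinearGroup (Fin 4) F) : Matrix (Fin 4) (Fin 4) F)) (inv_mul_cancel n)
        exact this
      have hch : Matrix.charpoly ((f n).1 : Matrix (Fin 4) (Fin 4) F) =
          Matrix.charpoly ((y : SpecialLinearGroup (Fin 4) F).1) := by
        rw [e, Matrix.charpoly_mul_comm, ← mul_assoc, hinv, one_mul]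
      rw [← hch]
      exact Matrix.aeval_self_charpoly _
  have h2 : NF.card ≤ UF.card * (NF.image f).card := by
    apply Finset.card_le_mul_card_image
    intro b hb
    obtain ⟨n₀, hn₀, rfl⟩ := Finset.mem_image.mp hb
    calc (NF.filter (fun a => f a = f n₀)).card
        ≤ (UF.image (fun u => n₀ * u)).card := by
          apply Finset.card_le_card
          intro n hn
          rw [Finset.mem_filter] at hn
          rw [Finset.mem_image]
          refine ⟨n₀⁻¹ * n, ?_, by group⟩
          rw [Finset.mem_filter]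
          refine ⟨Finset.mem_univ _, ?_⟩
          rw [← hCy, Subgroup.mem_centralizer_singleton_iff]
          have hfe : n * y * n⁻¹ = n₀ * y * n₀⁻¹ := Subtype.ext hn.2
          have h5 := congrArg (fun z => n₀⁻¹ * z * n) hfe
          beta_reduce at h5
          have e3 : n₀⁻¹ * (n * y * n⁻¹) * n = n₀⁻¹ * n * y := by group
          have e4 : n₀⁻¹ * (n₀ * y * n₀⁻¹) * n = y * (n₀⁻¹ * n) := by group
          rw [e3, e4] at h5
          exact h5
      _ ≤ UF.card := Finset.card_image_le
  rw [← hcardN, ← hcardU]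
  calc NF.card ≤ UF.card * (NF.image f).card := h2
    _ ≤ UF.card * 4 := Nat.mul_le_mul_left _ h1
    _ = 4 * UF.card := mul_comm _ _

/-- `|N(U)| = k |U|` with `k ∈ {1, 2, 4}`. -/
theorem SzFpf.card_normalizer (hm : 1 ≤ m) (hF : Fintype.card F = 2 ^ (2 * m + 1))
    {g : Sz F m} (hg : SzFpf g) :
    ∃ k : ℕ, (k = 1 ∨ k = 2 ∨ k = 4) ∧
      Nat.card (Subgroup.normalizer
        (Subgroup.centralizer ({g} : Set (Sz F m)) : Set (Sz F m))) =
      k * Nat.card (Subgroup.centralizer ({g} : Set (Sz F m))) := by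
  set U := Subgroup.centralizer ({g} : Set (Sz F m)) with hU
  set N := Subgroup.normalizer (U : Set (Sz F m)) with hN
  have hle := hg.card_normalizer_le hm hF
  have hUN : U ≤ N := Subgroup.le_normalizer
  obtain ⟨k, hk⟩ := Subgroup.card_dvd_of_le hUN
  have hU5 := hg.five_le_card_centralizer hm hF
  have hNpos : 0 < Nat.card N := Nat.card_pos
  refine ⟨k, ?_, by rw [hk, mul_comm]⟩
  have hk4 : k ≤ 4 := by
    by_contra h
    push Not at h
    have : 5 * Nat.card U ≤ Nat.card U * k := by
      rw [mul_comm]; exact Nat.mul_le_mul_left _ h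
    rw [← hU, ← hN, hk] at hle
    omega
  have hk0 : k ≠ 0 := by
    rintro rfl
    rw [mul_zero] at hk
    omega
  have hk3 : k ≠ 3 := by
    rintro rfl
    apply sz_three_not_dvd_card hm hF
    have h1 : 3 ∣ Nat.card N := ⟨Nat.card U, by rw [hk, mul_comm]⟩
    exact h1.trans (Subgroup.card_subgroup_dvd_card N)
  interval_cases k <;> simp_all

end Cfsg.Agent.Lib.Helper6
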