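import Mathlib
import Cfsg.Agent.Lib.Helper6.FpfLinear
import Cfsg.Agent.Lib.Helper6.SzOrder

/-!
# Suzuki groups: the split torus as a subgroup, odd-order elements (helper6)
-/

set_option autoImplicit false

namespace Cfsg.Agent.Lib.Helper6

open Cfsg Matrix

variable {F : Type*} [Field F] [CharP F 2] {m : ℕ}

/-- The diagonal torus as a homomorphism into the Suzuki group. -/
noncomputable def szHsubHom [Finite F] (hσ : SgSq (F := F) m) : Fˣ →* Sz F m where
  toFun k := ⟨szH m k, szH_mem hσ k⟩
  map_one' := Subtype.ext szH_one
  map_mul' a b := Subtype.ext (szH_mul a b)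

theorem szHsubHom_injective [Finite F] (hσ : SgSq (F := F) m) :
    Function.Injective (szHsubHom hσ) := by
  intro a b h
  exact szH_injective (congrArg Subtype.val h)

/-- The diagonal torus as a subgroup of the Suzuki group. -/
noncomputable def szHsub [Finite F] (hσ : SgSq (F := F) m) : Subgroup (Sz F m) :=
  (szHsubHom hσ).range

theorem isCyclic_szHsub [Finite F] (hσ : SgSq (F := F) m) : IsCyclic (szHsub hσ) := by
  have : IsCyclic Fˣ := inferInstance
  exact isCyclic_of_surjective (szHsubHom hσ).rangeRestrict (szHsubHom hσ).rangeRestrict_surjective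

theorem card_szHsub [Finite F] (hσ : SgSq (F := F) m) :
    Nat.card (szHsub hσ) = Nat.card F - 1 := by
  rw [← Nat.card_units]
  exact (Nat.card_congr (MonoidHom.ofInjective (szHsubHom_injective hσ)).toEquiv).symm

end Cfsg.Agent.Lib.Helper6
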