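import Mathlib
import Cfsg.Agent.Lib.Helper6.SzFpf3
import Cfsg.Agent.Lib.Helper35.FpfCyclic
import Cfsg.Agent.S0331

/-!
# Suzuki groups: the classes of centralisers of fixed-point-free elements (helper6)

`szY g`: the non-identity elements conjugate into `C(g)`.
-/

set_option autoImplicit false

namespace Cfsg.Agent.Lib.Helper6

open Cfsg Matrix MulAction
open scoped Pointwise

variable {F : Type*} [Field F] [Fintype F] {m : ℕ}

/-- The non-identity elements conjugate into the centraliser of `g`. -/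
def szY (g : Sz F m) : Set (Sz F m) :=
  {x | x ≠ 1 ∧ ∃ h : Sz F m, h * x * h⁻¹ ∈ Subgroup.centralizer ({g} : Set (Sz F m))}

omit [Fintype F] in
theorem conj_ne_one {x h : Sz F m} (hx : x ≠ 1) : h * x * h⁻¹ ≠ 1 := by
  intro h1
  apply hx
  have := congrArg (fun z => h⁻¹ * z * h) h1
  simpa [mul_assoc] using this

theorem szY_fpf (hm : 1 ≤ m) (hF : Fintype.card F = 2 ^ (2 * m + 1)) {g : Sz F m}
    (hg : SzFpf g) {x : Sz F m} (hx : x ∈ szY g) : SzFpf x := by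
  obtain ⟨hx1, h, hh⟩ := hx
  have hv1 : h * x * h⁻¹ ≠ 1 := conj_ne_one hx1
  have hvg : Commute (h * x * h⁻¹) g := Subgroup.mem_centralizer_singleton_iff.mp hh
  have hvf := hg.of_commute hm hF hv1 hvg
  have := hvf.conj h⁻¹
  have e : h⁻¹ * (h * x * h⁻¹) * h⁻¹⁻¹ = x := by group
  rwa [e] at this

omit [Fintype F] in
theorem mem_szY_self {g : Sz F m} (hg : SzFpf g) : g ∈ szY g := by
  refine ⟨hg.ne_one, 1, ?_⟩
  rw [one_mul, inv_one, mul_one]
  exact Subgroup.mem_centralizer_singleton_iff.mpr rfl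

/-- If `h x h⁻¹ ∈ C(g)` for fixed-point-free `g` and `x ≠ 1` then `C(h x h⁻¹) = C(g)`. -/
theorem SzFpf.centralizer_conj_eq (hm : 1 ≤ m) (hF : Fintype.card F = 2 ^ (2 * m + 1))
    {g : Sz F m} (hg : SzFpf g) {x h : Sz F m} (hx1 : x ≠ 1)
    (hh : h * x * h⁻¹ ∈ Subgroup.centralizer ({g} : Set (Sz F m))) :
    Subgroup.centralizer ({h * x * h⁻¹} : Set (Sz F m)) =
      Subgroup.centralizer ({g} : Set (Sz F m)) :=
  hg.centralizer_eq hm hF (conj_ne_one hx1) (Subgroup.mem_centralizer_singleton_iff.mp hh)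

omit [Fintype F] in
theorem commute_conj_iff {a b h : Sz F m} :
    Commute (h * a * h⁻¹) (h * b * h⁻¹) ↔ Commute a b := by
  constructor
  · intro hc
    have h5 := congrArg (fun z => h⁻¹ * z * h) hc.eq
    beta_reduce at h5
    have e3 : h⁻¹ * (h * a * h⁻¹ * (h * b * h⁻¹)) * h = a * b := by group
    have e4 : h⁻¹ * (h * b * h⁻¹ * (h * a * h⁻¹)) * h = b * a := by group
    rw [e3, e4] at h5
    exact h5
  · intro hc
    have : h * a * h⁻¹ * (h * b * h⁻¹) = h * (a * b) * h⁻¹ := by group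
    have e2 : h * b * h⁻¹ * (h * a * h⁻¹) = h * (b * a) * h⁻¹ := by group
    show h * a * h⁻¹ * (h * b * h⁻¹) = h * b * h⁻¹ * (h * a * h⁻¹)
    rw [this, e2, hc.eq]

/-- The relation "conjugate into the centraliser" is symmetric. -/
theorem szY_symm (hm : 1 ≤ m) (hF : Fintype.card F = 2 ^ (2 * m + 1)) {x₁ x₂ : Sz F m}
    (h₁ : SzFpf x₁) (_h₂ : SzFpf x₂) (h : x₂ ∈ szY x₁) : x₁ ∈ szY x₂ := by
  obtain ⟨hx1, t, ht⟩ := h
  refine ⟨h₁.ne_one, t⁻¹, ?_⟩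
  -- C(t x₂ t⁻¹) = C(x₁), so x₁ commutes with t x₂ t⁻¹
  have e := h₁.centralizer_conj_eq hm hF hx1 ht
  have hx₁ : x₁ ∈ Subgroup.centralizer ({t * x₂ * t⁻¹} : Set (Sz F m)) := by
    rw [e]; exact Subgroup.mem_centralizer_singleton_iff.mpr rfl
  have hc : Commute x₁ (t * x₂ * t⁻¹) := Subgroup.mem_centralizer_singleton_iff.mp hx₁
  rw [Subgroup.mem_centralizer_singleton_iff]
  have h3 : Commute (t⁻¹ * x₁ * t⁻¹⁻¹) (t⁻¹ * (t * x₂ * t⁻¹) * t⁻¹⁻¹) := commute_conj_iff.mpr hc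
  have e2 : t⁻¹ * (t * x₂ * t⁻¹) * t⁻¹⁻¹ = x₂ := by group
  rw [e2] at h3
  exact h3.eq

/-- Distinct classes are disjoint. -/
theorem szY_disjoint (hm : 1 ≤ m) (hF : Fintype.card F = 2 ^ (2 * m + 1)) {x₁ x₂ : Sz F m}
    (h₁ : SzFpf x₁) (h₂ : SzFpf x₂) (h : x₂ ∉ szY x₁) : Disjoint (szY x₁) (szY x₂) := by
  rw [Set.disjoint_left]
  rintro z ⟨hz1, t₁, ht₁⟩ ⟨-, t₂, ht₂⟩
  apply h
  refine ⟨h₂.ne_one, t₁ * t₂⁻¹, ?_⟩
  have e1 := h₁.centralizer_conj_eq hm hF hz1 ht₁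
  have e2 := h₂.centralizer_conj_eq hm hF hz1 ht₂
  -- x₂ commutes with t₂ z t₂⁻¹
  have hx₂ : x₂ ∈ Subgroup.centralizer ({t₂ * z * t₂⁻¹} : Set (Sz F m)) := by
    rw [e2]; exact Subgroup.mem_centralizer_singleton_iff.mpr rfl
  have hc : Commute x₂ (t₂ * z * t₂⁻¹) := Subgroup.mem_centralizer_singleton_iff.mp hx₂
  rw [← e1, Subgroup.mem_centralizer_singleton_iff]
  have h3 : Commute ((t₁ * t₂⁻¹) * x₂ * (t₁ * t₂⁻¹)⁻¹)
      ((t₁ * t₂⁻¹) * (t₂ * z * t₂⁻¹) * (t₁ * t₂⁻¹)⁻¹) := commute_conj_iff.mpr hc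
  have e3 : (t₁ * t₂⁻¹) * (t₂ * z * t₂⁻¹) * (t₁ * t₂⁻¹)⁻¹ = t₁ * z * t₁⁻¹ := by group
  rw [e3] at h3
  exact h3.eq

/-- Elements of one class have centralisers and normalisers of the same orders. -/
theorem szY_card_eq (hm : 1 ≤ m) (hF : Fintype.card F = 2 ^ (2 * m + 1)) {g z : Sz F m}
    (hg : SzFpf g) (hz : z ∈ szY g) :
    Nat.card (Subgroup.centralizer ({z} : Set (Sz F m))) =
      Nat.card (Subgroup.centralizer ({g} : Set (Sz F m))) := by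
  obtain ⟨hz1, t, ht⟩ := hz
  have e := hg.centralizer_conj_eq hm hF hz1 ht
  rw [← e]
  -- conjugation by t maps C(z) onto C(t z t⁻¹)
  have hmap : (Subgroup.centralizer ({z} : Set (Sz F m))).map (MulAut.conj t).toMonoidHom =
      Subgroup.centralizer ({t * z * t⁻¹} : Set (Sz F m)) := by
    ext c
    rw [Subgroup.mem_map, Subgroup.mem_centralizer_singleton_iff]
    constructor
    · rintro ⟨c', hc', rfl⟩
      rw [Subgroup.mem_centralizer_singleton_iff] at hc'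
      have : Commute (t * c' * t⁻¹) (t * z * t⁻¹) := commute_conj_iff.mpr hc'
      exact this.eq
    · intro hc
      refine ⟨t⁻¹ * c * t, ?_, ?_⟩
      · rw [Subgroup.mem_centralizer_singleton_iff]
        have h3 : Commute (t⁻¹ * c * t⁻¹⁻¹) (t⁻¹ * (t * z * t⁻¹) * t⁻¹⁻¹) :=
          commute_conj_iff.mpr hc
        have e2 : t⁻¹ * (t * z * t⁻¹) * t⁻¹⁻¹ = z := by group
        rw [e2, inv_inv] at h3
        exact h3.eq
      · change t * (t⁻¹ * c * t) * t⁻¹ = c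
        group
  rw [← hmap, Subgroup.card_map_of_injective (MulAut.conj t).injective]

/-- Centralisers from different classes have coprime orders. -/
theorem szY_coprime (hm : 1 ≤ m) (hF : Fintype.card F = 2 ^ (2 * m + 1)) {x₁ x₂ : Sz F m}
    (h₁ : SzFpf x₁) (h₂ : SzFpf x₂) (h : x₂ ∉ szY x₁) :
    Nat.Coprime (Nat.card (Subgroup.centralizer ({x₁} : Set (Sz F m))))
      (Nat.card (Subgroup.centralizer ({x₂} : Set (Sz F m)))) := by
  apply Nat.coprime_of_dvd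
  intro r hr hr1 hr2
  have := Fact.mk hr
  obtain ⟨v₁, hv₁⟩ := exists_prime_orderOf_dvd_card' r hr1
  obtain ⟨v₂, hv₂⟩ := exists_prime_orderOf_dvd_card' r hr2
  have ho₁ : orderOf (v₁ : Sz F m) = r := by rw [Subgroup.orderOf_coe, hv₁]
  have ho₂ : orderOf (v₂ : Sz F m) = r := by rw [Subgroup.orderOf_coe, hv₂]
  have hv₁1 : (v₁ : Sz F m) ≠ 1 := by
    intro h'
    rw [h', orderOf_one] at ho₁
    exact hr.one_lt.ne ho₁
  have hv₂1 : (v₂ : Sz F m) ≠ 1 := by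
    intro h'
    rw [h', orderOf_one] at ho₂
    exact hr.one_lt.ne ho₂
  have hc₁ : Commute (v₁ : Sz F m) x₁ := Subgroup.mem_centralizer_singleton_iff.mp v₁.2
  have hc₂ : Commute (v₂ : Sz F m) x₂ := Subgroup.mem_centralizer_singleton_iff.mp v₂.2
  -- r is odd
  have hr2' : r ≠ 2 := by
    have hvf := h₁.of_commute hm hF hv₁1 hc₁
    have hro : r ∣ orderOf (v₁ : Sz F m) := by rw [ho₁]
    exact (prime_dvd_card_of_fpf (sz_odd_ovoid hF) (sz_three_pt hm hF)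
      (sz_hinv hm hF) hvf hr hro).1
  -- Sylow subgroups
  have hP₁ : IsPGroup r (Subgroup.zpowers (v₁ : Sz F m)) :=
    IsPGroup.of_card (n := 1) (by rw [Nat.card_zpowers, ho₁, pow_one])
  have hP₂ : IsPGroup r (Subgroup.zpowers (v₂ : Sz F m)) :=
    IsPGroup.of_card (n := 1) (by rw [Nat.card_zpowers, ho₂, pow_one])
  obtain ⟨S₁, hS₁⟩ := hP₁.exists_le_sylow
  obtain ⟨S₂, hS₂⟩ := hP₂.exists_le_sylow
  obtain ⟨t, ht⟩ := MulAction.exists_smul_eq (Sz F m) S₁ S₂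
  have hcyc : IsCyclic (S₂ : Subgroup (Sz F m)) := Cfsg.Agent.S0331.result hm hF hr2' S₂
  -- t v₁ t⁻¹ ∈ S₂
  have hmem : t * (v₁ : Sz F m) * t⁻¹ ∈ (S₂ : Subgroup (Sz F m)) := by
    have h3 : (v₁ : Sz F m) ∈ (S₁ : Subgroup (Sz F m)) := hS₁ (Subgroup.mem_zpowers _)
    have h4 : MulAut.conj t • (v₁ : Sz F m) ∈ MulAut.conj t • (S₁ : Subgroup (Sz F m)) :=
      Subgroup.smul_mem_pointwise_smul _ _ _ h3
    have h5 : ((t • S₁ : Sylow r (Sz F m)) : Subgroup (Sz F m)) =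
        MulAut.conj t • (S₁ : Subgroup (Sz F m)) := Sylow.pointwise_smul_def
    rw [← h5, ht] at h4
    exact h4
  have hoc : orderOf (t * (v₁ : Sz F m) * t⁻¹) = r := by
    rw [← ho₁]
    exact orderOf_injective (MulAut.conj t).toMonoidHom (MulAut.conj t).injective _
  have heq : Subgroup.zpowers (t * (v₁ : Sz F m) * t⁻¹) = Subgroup.zpowers (v₂ : Sz F m) := by
    apply Cfsg.Agent.Lib.Helper35.eq_of_card_eq_of_le_isCyclic hcyc
      (Subgroup.zpowers_le.mpr hmem) hS₂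
    rw [Nat.card_zpowers, Nat.card_zpowers, hoc, ho₂]
  -- so v₂ is a power of t v₁ t⁻¹, hence commutes with t x₁ t⁻¹
  have hv₂mem : (v₂ : Sz F m) ∈ Subgroup.zpowers (t * (v₁ : Sz F m) * t⁻¹) := by
    rw [heq]; exact Subgroup.mem_zpowers _
  obtain ⟨j, hj⟩ := Subgroup.mem_zpowers_iff.mp hv₂mem
  have hcc : Commute (t * x₁ * t⁻¹) (t * (v₁ : Sz F m) * t⁻¹) := commute_conj_iff.mpr hc₁.symm
  have hcc2 : Commute (t * x₁ * t⁻¹) (v₂ : Sz F m) := by
    rw [← hj]; exact hcc.zpow_right j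
  -- t x₁ t⁻¹ ∈ C(v₂) = C(x₂)
  have e := h₂.centralizer_eq hm hF hv₂1 hc₂
  have h5 : t * x₁ * t⁻¹ ∈ Subgroup.centralizer ({x₂} : Set (Sz F m)) := by
    rw [← e]; exact Subgroup.mem_centralizer_singleton_iff.mpr hcc2.eq
  have h6 : x₁ ∈ szY x₂ := ⟨h₁.ne_one, t, h5⟩
  exact h (szY_symm hm hF h₂ h₁ h6)

end Cfsg.Agent.Lib.Helper6
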