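import Mathlib
import Cfsg.Agent.Lib.Helper6.SzFpf4

/-!
# Suzuki groups: the two classes of centralisers of fixed-point-free elements (helper6)

`sz_fpf_classes`: there are fixed-point-free `x₁, x₂` with `|C(x₁)| = q + 2r + 1`,
`|C(x₂)| = q - 2r + 1`, `|N(C(xᵢ))| = 4 |C(xᵢ)|`, and every fixed-point-free element is conjugate into
`C(x₁)` or `C(x₂)`.
-/

set_option autoImplicit false

namespace Cfsg.Agent.Lib.Helper6


theorem ar_five_mul_ge (Y k u A : ℕ) (hk : k ≤ 4) (hu : 5 ≤ u) (h : Y * (k * u) = A * (u - 1)) :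
    A ≤ 5 * Y := by
  obtain ⟨v, rfl⟩ := Nat.exists_eq_add_of_le hu
  have e : 5 + v - 1 = v + 4 := by omega
  rw [e] at h
  by_contra hlt
  push Not at hlt
  have h1 : 5 * Y + 1 ≤ A := hlt
  have h2 := Nat.mul_le_mul_right (v + 4) h1
  have h3 := Nat.mul_le_mul_right (Y * (5 + v)) hk
  nlinarith

theorem ar_five_mul_ge_two (Y k u A : ℕ) (hk : k ≤ 2) (hu : 5 ≤ u)
    (h : Y * (k * u) = A * (u - 1)) : 2 * A ≤ 5 * Y := by
  obtain ⟨v, rfl⟩ := Nat.exists_eq_add_of_le hu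
  have e : 5 + v - 1 = v + 4 := by omega
  rw [e] at h
  by_contra hlt
  push Not at hlt
  have h1 : 5 * Y + 1 ≤ 2 * A := hlt
  have h2 := Nat.mul_le_mul_right (v + 4) h1
  have h3 := Nat.mul_le_mul_right (Y * (5 + v)) hk
  nlinarith

theorem ar_one_class_false (q N₀ k u A : ℕ) (hq : 8 ≤ q) (hA : A = q ^ 2 * (q ^ 2 + 1) * (q - 1))
    (hN : 2 * N₀ = q ^ 3 * (q - 1) ^ 2) (hu : u ∣ q ^ 2 + 1) (h5 : 5 ≤ u)
    (hk : k = 1 ∨ k = 2 ∨ k = 4) (h : N₀ * (k * u) = A * (u - 1)) : False := by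
  obtain ⟨W, hW⟩ := hu
  have hq1 : 1 ≤ q := by omega
  have hu1 : 1 ≤ u := by omega
  zify [hq1, hu1] at hA hN hW h
  have hq8 : (8 : ℤ) ≤ q := by exact_mod_cast hq
  have hu5 : (5 : ℤ) ≤ u := by exact_mod_cast h5
  have hW0 : (0 : ℤ) ≤ W := by positivity
  have e1 : ((q : ℤ) ^ 2 * (q - 1) * u) * (q * (q - 1) * k) =
      ((q : ℤ) ^ 2 * (q - 1) * u) * (2 * W * (u - 1)) := by
    linear_combination (-(k * u : ℤ)) * hN + 2 * h + 2 * ((u : ℤ) - 1) * hA +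
      2 * ((u : ℤ) - 1) * q ^ 2 * (q - 1) * hW
  have hne : ((q : ℤ) ^ 2 * (q - 1) * u) ≠ 0 := by
    have hq1' : (0 : ℤ) < (q : ℤ) - 1 := by linarith
    have hq0 : (0 : ℤ) < (q : ℤ) ^ 2 := by positivity
    have hu0 : (0 : ℤ) < (u : ℤ) := by linarith
    exact (mul_pos (mul_pos hq0 hq1') hu0).ne'
  have E : (q : ℤ) * (q - 1) * k = 2 * W * (u - 1) := mul_left_cancel₀ hne e1
  have hWle : 5 * (W : ℤ) ≤ q ^ 2 + 1 := by rw [hW]; nlinarith
  rcases hk with rfl | rfl | rfl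
  · push_cast at E
    nlinarith
  · push_cast at E
    -- W = q + 1
    have hWq : (W : ℤ) = q + 1 := by nlinarith
    rw [hWq] at hW
    have h2 : ((q : ℤ) + 1) * (u - q + 1) = 2 := by linear_combination -hW
    have h3 : (1 : ℤ) ≤ u - q + 1 := by
      by_contra hh
      push Not at hh
      have : ((q : ℤ) + 1) * (u - q + 1) ≤ 0 := by
        apply mul_nonpos_of_nonneg_of_nonpos <;> linarith
      linarith
    nlinarith
  · push_cast at E
    have hW1 : (1 : ℤ) ≤ W := by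
      by_contra hh
      push Not at hh
      have : (W : ℤ) = 0 := by omega
      rw [this] at hW
      nlinarith
    nlinarith

theorem ar_final (q s N₀ Y₁ Y₂ u₁ u₂ A : ℕ) (hq : 8 ≤ q) (hqe : 2 ∣ q) (hs : s ^ 2 = 2 * q)
    (hA : A = q ^ 2 * (q ^ 2 + 1) * (q - 1))
    (hN : 2 * N₀ = q ^ 3 * (q - 1) ^ 2) (hu₁ : u₁ ∣ q ^ 2 + 1) (hu₂ : u₂ ∣ q ^ 2 + 1)
    (h5₁ : 5 ≤ u₁) (h5₂ : 5 ≤ u₂) (hcop : Nat.Coprime u₁ u₂)
    (h₁ : Y₁ * (4 * u₁) = A * (u₁ - 1)) (h₂ : Y₂ * (4 * u₂) = A * (u₂ - 1))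
    (hsum : Y₁ + Y₂ = N₀) :
    (u₁ = q + s + 1 ∧ u₂ = q - s + 1) ∨ (u₁ = q - s + 1 ∧ u₂ = q + s + 1) := by
  obtain ⟨e, he⟩ := hcop.mul_dvd_of_dvd_of_dvd hu₁ hu₂
  have hq1 : 1 ≤ q := by omega
  have hu1 : 1 ≤ u₁ := by omega
  have hu2 : 1 ≤ u₂ := by omega
  have hsq : s ≤ q := by nlinarith
  -- e is odd and divides 2(q+1)
  have hmain : (e : ℤ) * (u₁ + u₂) = 2 * q + 2 := by
    zify [hq1, hu1, hu2] at hA hN he h₁ h₂ hsum
    have hne : ((q : ℤ) ^ 2 * (q - 1) * u₁ * u₂) ≠ 0 := by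
      have hq8 : (8 : ℤ) ≤ q := by exact_mod_cast hq
      have hq1' : (0 : ℤ) < (q : ℤ) - 1 := by linarith
      have hq0 : (0 : ℤ) < (q : ℤ) ^ 2 := by positivity
      have hu0 : (0 : ℤ) < (u₁ : ℤ) := by exact_mod_cast hu1
      have hu0' : (0 : ℤ) < (u₂ : ℤ) := by exact_mod_cast hu2
      exact (mul_pos (mul_pos (mul_pos hq0 hq1') hu0) hu0').ne'
    have e1 : ((q : ℤ) ^ 2 * (q - 1) * u₁ * u₂) * (e * (u₁ + u₂)) =
        ((q : ℤ) ^ 2 * (q - 1) * u₁ * u₂) * (2 * q + 2) := by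
      linear_combination (-(2 * u₁ * u₂ : ℤ)) * hN + (-(4 * u₁ * u₂ : ℤ)) * hsum +
        (u₂ : ℤ) * h₁ + (u₁ : ℤ) * h₂ +
        ((u₂ : ℤ) * (u₁ - 1) + u₁ * (u₂ - 1)) * hA +
        ((u₂ : ℤ) * (u₁ - 1) + u₁ * (u₂ - 1) - 2 * u₁ * u₂) * q ^ 2 * (q - 1) * he
    exact mul_left_cancel₀ hne e1
  have hmainN : e * (u₁ + u₂) = 2 * (q + 1) := by
    zify
    linear_combination hmain
  -- e = 1
  have heq2 : e ∣ q ^ 2 + 1 := ⟨u₁ * u₂, by rw [he]; ring⟩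
  have hodd : ¬ 2 ∣ q ^ 2 + 1 := by
    intro h
    have h2 : 2 ∣ q ^ 2 := Dvd.dvd.pow hqe (by norm_num)
    have := (Nat.dvd_add_right h2).mp h
    omega
  have hcop2 : Nat.Coprime e 2 := by
    rw [Nat.coprime_comm, Nat.Prime.coprime_iff_not_dvd Nat.prime_two]
    intro h
    exact hodd (h.trans heq2)
  have hdq : e ∣ q + 1 := by
    have : e ∣ 2 * (q + 1) := ⟨u₁ + u₂, hmainN.symm⟩
    exact hcop2.dvd_of_dvd_mul_left this
  have hd2 : e ∣ 2 := by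
    have h3 : e ∣ (q + 1) * (q - 1) := Dvd.dvd.mul_right hdq _
    have h4 : (q + 1) * (q - 1) + 2 = q ^ 2 + 1 := by
      zify [hq1]; ring
    have h5 : e ∣ (q + 1) * (q - 1) + 2 := by rw [h4]; exact heq2
    exact (Nat.dvd_add_right h3).mp h5
  have he1 : e = 1 := by
    rcases (Nat.dvd_prime Nat.prime_two).mp hd2 with h | h
    · exact h
    · exfalso
      rw [h] at hcop2
      norm_num at hcop2
  subst he1
  rw [mul_one] at he
  rw [one_mul] at hmainN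
  have hZ1 : (u₁ : ℤ) + u₂ = 2 * q + 2 := by exact_mod_cast (by omega : u₁ + u₂ = 2 * q + 2)
  have hZ2 : (u₁ : ℤ) * u₂ = q ^ 2 + 1 := by exact_mod_cast he.symm
  have hZs : (s : ℤ) ^ 2 = 2 * q := by exact_mod_cast hs
  have hprod : ((u₁ : ℤ) - u₂ - 2 * s) * ((u₁ : ℤ) - u₂ + 2 * s) = 0 := by
    have : ((u₁ : ℤ) - u₂) ^ 2 = ((u₁ : ℤ) + u₂) ^ 2 - 4 * (u₁ * u₂) := by ring
    have h6 : ((u₁ : ℤ) - u₂) ^ 2 = 4 * s ^ 2 := by
      rw [this, hZ1, hZ2, hZs]; ring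
    linear_combination h6
  rcases mul_eq_zero.mp hprod with h | h
  · left
    have h7 : (u₁ : ℤ) = q + s + 1 := by linarith
    have h8 : (u₂ : ℤ) = q - s + 1 := by linarith
    constructor
    · exact_mod_cast h7
    · zify [hsq]; exact h8
  · right
    have h7 : (u₂ : ℤ) = q + s + 1 := by linarith
    have h8 : (u₁ : ℤ) = q - s + 1 := by linarith
    constructor
    · zify [hsq]; exact h8
    · exact_mod_cast h7

open Cfsg Matrix MulAction

variable {F : Type*} [Field F] [Fintype F] {m : ℕ}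

/-- Counting the class of a fixed-point-free element. -/
theorem ncard_szY (hm : 1 ≤ m) (hF : Fintype.card F = 2 ^ (2 * m + 1)) {g : Sz F m}
    (hg : SzFpf g) :
    (szY g).ncard * Nat.card (Subgroup.normalizer
        (Subgroup.centralizer ({g} : Set (Sz F m)) : Set (Sz F m))) =
      Nat.card (Sz F m) * (Nat.card (Subgroup.centralizer ({g} : Set (Sz F m))) - 1) := by
  classical
  have hfinG : Fintype (Sz F m) := Fintype.ofFinite _
  have key := card_conj_nontrivial_mul_card_normalizer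
    (Subgroup.centralizer ({g} : Set (Sz F m)))
    (fun h v hv hv1 hc => hg.mem_normalizer hm hF hv hv1 hc)
  rw [← key]
  congr 1
  rw [Set.ncard_eq_toFinset_card']
  congr 1
  ext x
  rw [Set.mem_toFinset, mem_conjNontrivial]
  rfl

theorem sz_q_ge_eight (hm : 1 ≤ m) : 8 ≤ 2 ^ (2 * m + 1) := by
  calc 8 = 2 ^ 3 := by norm_num
    _ ≤ 2 ^ (2 * m + 1) := Nat.pow_le_pow_right (by norm_num) (by omega)

/-- The structure of the fixed-point-free elements of the Suzuki group. -/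
theorem sz_fpf_classes (hm : 1 ≤ m) (hF : Fintype.card F = 2 ^ (2 * m + 1)) :
    ∃ x₁ x₂ : Sz F m, SzFpf x₁ ∧ SzFpf x₂ ∧
      Nat.card (Subgroup.centralizer ({x₁} : Set (Sz F m))) =
        2 ^ (2 * m + 1) + 2 ^ (m + 1) + 1 ∧
      Nat.card (Subgroup.centralizer ({x₂} : Set (Sz F m))) =
        2 ^ (2 * m + 1) - 2 ^ (m + 1) + 1 ∧
      Nat.card (Subgroup.normalizer
        (Subgroup.centralizer ({x₁} : Set (Sz F m)) : Set (Sz F m))) =
        4 * (2 ^ (2 * m + 1) + 2 ^ (m + 1) + 1) ∧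
      Nat.card (Subgroup.normalizer
        (Subgroup.centralizer ({x₂} : Set (Sz F m)) : Set (Sz F m))) =
        4 * (2 ^ (2 * m + 1) - 2 ^ (m + 1) + 1) ∧
      ∀ z : Sz F m, SzFpf z → z ∈ szY x₁ ∨ z ∈ szY x₂ := by
  set q := 2 ^ (2 * m + 1) with hq
  set s := 2 ^ (m + 1) with hs
  have hq8 : 8 ≤ q := sz_q_ge_eight hm
  have hqe : 2 ∣ q := ⟨2 ^ (2 * m), by rw [hq, pow_succ]; ring⟩
  have hs2 : s ^ 2 = 2 * q := by
    rw [hs, hq, ← pow_mul, pow_succ (2 : ℕ) (2 * m), show (m + 1) * 2 = 2 * m + 1 + 1 by ring,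
      pow_succ, pow_succ]
    ring
  set A := Nat.card (Sz F m) with hAdef
  have hA : A = q ^ 2 * (q ^ 2 + 1) * (q - 1) := card_Sz hm hF
  set X : Set (Sz F m) := {g | SzFpf g} with hX
  have hXfin : X.Finite := Set.toFinite X
  have hN : 2 * X.ncard = q ^ 3 * (q - 1) ^ 2 := sz_card_fpf hm hF
  -- 2 N₀ < A
  have hNA : 2 * X.ncard < A := by
    rw [hN, hA]
    have hq1 : 1 ≤ q := by omega
    obtain ⟨t, ht⟩ := Nat.exists_eq_add_of_le hq1
    rw [ht, Nat.add_sub_cancel_left]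
    have ht7 : 7 ≤ t := by omega
    nlinarith [Nat.zero_le t]
  -- data of a class
  have hdata : ∀ x : Sz F m, SzFpf x → ∃ k : ℕ, (k = 1 ∨ k = 2 ∨ k = 4) ∧
      Nat.card (Subgroup.normalizer
        (Subgroup.centralizer ({x} : Set (Sz F m)) : Set (Sz F m))) =
        k * Nat.card (Subgroup.centralizer ({x} : Set (Sz F m))) ∧
      (szY x).ncard * (k * Nat.card (Subgroup.centralizer ({x} : Set (Sz F m)))) =
        A * (Nat.card (Subgroup.centralizer ({x} : Set (Sz F m))) - 1) ∧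
      szY x ⊆ X ∧ A ≤ 5 * (szY x).ncard := by
    intro x hx
    obtain ⟨k, hk, hkN⟩ := hx.card_normalizer hm hF
    have h1 := ncard_szY hm hF hx
    rw [hkN] at h1
    have hk4 : k ≤ 4 := by rcases hk with rfl | rfl | rfl <;> norm_num
    refine ⟨k, hk, hkN, h1, fun z hz => szY_fpf hm hF hx hz, ?_⟩
    exact ar_five_mul_ge _ k _ A hk4 (hx.five_le_card_centralizer hm hF) h1
  -- X is nonempty
  have hXne : X.Nonempty := by
    rw [← Set.ncard_pos hXfin]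
    have : 0 < q ^ 3 * (q - 1) ^ 2 := by
      have hq1 : 0 < q - 1 := by omega
      positivity
    omega
  obtain ⟨x₁, hx₁⟩ := hXne
  have hx₁' : SzFpf x₁ := hx₁
  obtain ⟨k₁, hk₁, hkN₁, hY₁, hsub₁, hge₁⟩ := hdata x₁ hx₁'
  -- a second class
  have hex₂ : ∃ x₂ ∈ X, x₂ ∉ szY x₁ := by
    by_contra hcon
    push Not at hcon
    have hXY : X = szY x₁ := Set.Subset.antisymm hcon hsub₁
    rw [← hXY] at hY₁
    exact ar_one_class_false q X.ncard k₁ _ A hq8 hA hN (hx₁'.card_centralizer_dvd hm hF)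
      (hx₁'.five_le_card_centralizer hm hF) hk₁ hY₁
  obtain ⟨x₂, hx₂, hx₂Y⟩ := hex₂
  have hx₂' : SzFpf x₂ := hx₂
  obtain ⟨k₂, hk₂, hkN₂, hY₂, hsub₂, hge₂⟩ := hdata x₂ hx₂'
  have hdisj := szY_disjoint hm hF hx₁' hx₂' hx₂Y
  have hfin₁ : (szY x₁).Finite := Set.toFinite _
  have hfin₂ : (szY x₂).Finite := Set.toFinite _
  -- no third class
  have hcover : ∀ z ∈ X, z ∈ szY x₁ ∨ z ∈ szY x₂ := by
    intro z hz
    by_contra hcon
    push Not at hcon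
    have hz' : SzFpf z := hz
    obtain ⟨k₃, hk₃, hkN₃, hY₃, hsub₃, hge₃⟩ := hdata z hz'
    have hd13 := szY_disjoint hm hF hx₁' hz' hcon.1
    have hd23 := szY_disjoint hm hF hx₂' hz' hcon.2
    have hun : ((szY x₁ ∪ szY x₂) ∪ szY z).ncard =
        (szY x₁).ncard + (szY x₂).ncard + (szY z).ncard := by
      rw [Set.ncard_union_eq (Set.disjoint_union_left.mpr ⟨hd13, hd23⟩)
        (Set.toFinite _) (Set.toFinite _), Set.ncard_union_eq hdisj hfin₁ hfin₂]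
    have hle : ((szY x₁ ∪ szY x₂) ∪ szY z).ncard ≤ X.ncard :=
      Set.ncard_le_ncard (Set.union_subset (Set.union_subset hsub₁ hsub₂) hsub₃) hXfin
    omega
  have hXeq : X = szY x₁ ∪ szY x₂ :=
    Set.Subset.antisymm (fun z hz => hcover z hz) (Set.union_subset hsub₁ hsub₂)
  have hsum : (szY x₁).ncard + (szY x₂).ncard = X.ncard := by
    rw [hXeq, Set.ncard_union_eq hdisj hfin₁ hfin₂]
  -- both indices are 4
  have hk₁4 : k₁ = 4 := by
    rcases hk₁ with rfl | rfl | rfl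
    · have := ar_five_mul_ge_two _ 1 _ A (by norm_num) (hx₁'.five_le_card_centralizer hm hF) hY₁
      omega
    · have := ar_five_mul_ge_two _ 2 _ A (by norm_num) (hx₁'.five_le_card_centralizer hm hF) hY₁
      omega
    · rfl
  have hk₂4 : k₂ = 4 := by
    rcases hk₂ with rfl | rfl | rfl
    · have := ar_five_mul_ge_two _ 1 _ A (by norm_num) (hx₂'.five_le_card_centralizer hm hF) hY₂
      omega
    · have := ar_five_mul_ge_two _ 2 _ A (by norm_num) (hx₂'.five_le_card_centralizer hm hF) hY₂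
      omega
    · rfl
  subst hk₁4 hk₂4
  have hfinal := ar_final q s X.ncard (szY x₁).ncard (szY x₂).ncard _ _ A hq8 hqe hs2 hA hN
    (hx₁'.card_centralizer_dvd hm hF) (hx₂'.card_centralizer_dvd hm hF)
    (hx₁'.five_le_card_centralizer hm hF) (hx₂'.five_le_card_centralizer hm hF)
    (szY_coprime hm hF hx₁' hx₂' hx₂Y) hY₁ hY₂ hsum
  rcases hfinal with ⟨hu₁, hu₂⟩ | ⟨hu₁, hu₂⟩
  · refine ⟨x₁, x₂, hx₁', hx₂', hu₁, hu₂, ?_, ?_, fun z hz => hcover z hz⟩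
    · rw [hkN₁, hu₁]
    · rw [hkN₂, hu₂]
  · refine ⟨x₂, x₁, hx₂', hx₁', hu₂, hu₁, ?_, ?_, fun z hz => (hcover z hz).symm⟩
    · rw [hkN₂, hu₂]
    · rw [hkN₁, hu₁]

end Cfsg.Agent.Lib.Helper6
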