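import Mathlib
import Cfsg.Agent.Lib.Helper6.SzT
import Cfsg.Agent.Lib.Helper6.SzOrder

/-!
# Suzuki groups: the Sylow 2-subgroup (helper6)
-/

set_option autoImplicit false

namespace Cfsg.Agent.Lib.Helper6

open Cfsg Matrix
open scoped commutatorElement

variable {F : Type*} [Field F] [CharP F 2] {m : ℕ}

theorem pow_four_eq {G : Type*} [Monoid G] (x : G) : x ^ 4 = (x * x) * (x * x) := by
  rw [show (4 : ℕ) = 2 + 2 from rfl, pow_add, pow_two]

/-- `k σ(k) = 1` forces `k = 1`. -/
theorem eq_one_of_mul_sg_eq_one (hσ : SgSq (F := F) m) {k : F} (h : k * sg m k = 1) : k = 1 := by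
  have h4 : sg m k * k ^ 2 = 1 := by
    have := congrArg (sg m) h
    rwa [map_mul, hσ, map_one] at this
  calc k = (k * sg m k) * k := by rw [h, one_mul]
    _ = sg m k * k ^ 2 := by ring
    _ = 1 := h4

/-- `k ↦ k σ(k)` is injective. -/
theorem mul_sg_injective (hσ : SgSq (F := F) m) : Function.Injective (fun k : F => k * sg m k) := by
  intro k k' h
  simp only at h
  by_cases hk' : k' = 0
  · subst hk'
    simp only [map_zero, mul_zero] at h
    rcases mul_eq_zero.mp h with h | h
    · exact h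
    · exact (map_eq_zero (sg m)).mp h
  · have hs : sg m k' ≠ 0 := (map_ne_zero (sg m)).mpr hk'
    have : (k / k') * sg m (k / k') = 1 := by
      rw [map_div₀]
      field_simp
      linear_combination h
    have := eq_one_of_mul_sg_eq_one hσ this
    field_simp at this
    exact this

/-- An element fixed by `σ` is `0` or `1`. -/
theorem eq_zero_or_one_of_sg_eq (hσ : SgSq (F := F) m) {c : F} (h : sg m c = c) : c = 0 ∨ c = 1 := by
  have h1 : c ^ 2 = c := by
    have := hσ c
    rw [h, h] at this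
    exact this.symm
  have : c * (c - 1) = 0 := by rw [← sub_eq_zero] at h1; rw [← h1]; ring
  rcases mul_eq_zero.mp this with h | h
  · exact Or.inl h
  · exact Or.inr (sub_eq_zero.mp h)

/-- The translation subgroup of the Suzuki group. -/
noncomputable def szTsub [Finite F] (hσ : SgSq (F := F) m) : Subgroup (Sz F m) where
  carrier := {g | ∃ a b, (g : SpecialLinearGroup (Fin 4) F) = szT m a b}
  mul_mem' := by
    rintro g h ⟨a, b, hg⟩ ⟨c, d, hh⟩
    refine ⟨a + c, b + d + sg m a * c, ?_⟩
    rw [Subgroup.coe_mul, hg, hh, szT_mul hσ]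
  one_mem' := ⟨0, 0, by rw [Subgroup.coe_one, szT_zero]⟩
  inv_mem' := by
    rintro g ⟨a, b, hg⟩
    refine ⟨a, b + sg m a * a, ?_⟩
    rw [Subgroup.coe_inv, hg, szT_inv hσ]

/-- The parametrisation of the translation subgroup. -/
noncomputable def tq [Finite F] (hσ : SgSq (F := F) m) (a b : F) : szTsub hσ :=
  ⟨⟨szT m a b, szT_mem hσ a b⟩, ⟨a, b, rfl⟩⟩

section

variable [Finite F] (hσ : SgSq (F := F) m)

theorem tq_mul (a b c d : F) : tq hσ a b * tq hσ c d = tq hσ (a + c) (b + d + sg m a * c) := by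
  apply Subtype.ext
  apply Subtype.ext
  exact szT_mul hσ a b c d

theorem tq_one : tq hσ 0 0 = 1 := by
  apply Subtype.ext
  apply Subtype.ext
  exact szT_zero

theorem tq_surj (g : szTsub hσ) : ∃ a b, g = tq hσ a b := by
  obtain ⟨⟨g, hg⟩, a, b, h⟩ := g
  exact ⟨a, b, Subtype.ext (Subtype.ext h)⟩

theorem tq_inj {a b c d : F} (h : tq hσ a b = tq hσ c d) : a = c ∧ b = d := by
  apply szT_injective (m := m)
  exact congrArg (fun z : szTsub hσ => ((z : Sz F m) : SpecialLinearGroup (Fin 4) F)) h

theorem card_szTsub : Nat.card (szTsub hσ) = Nat.card F ^ 2 := by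
  have hbij : Function.Bijective (fun ab : F × F => tq hσ ab.1 ab.2) := by
    constructor
    · rintro ⟨a, b⟩ ⟨c, d⟩ h
      obtain ⟨h1, h2⟩ := tq_inj hσ h
      simp only at h1 h2
      rw [h1, h2]
    · intro g
      obtain ⟨a, b, h⟩ := tq_surj hσ g
      exact ⟨(a, b), h.symm⟩
  rw [← Nat.card_congr (Equiv.ofBijective _ hbij), Nat.card_prod, sq]

theorem tq_sq (a b : F) : tq hσ a b * tq hσ a b = tq hσ 0 (a * sg m a) := by
  have h2 : (2 : F) = 0 := two_eq_zero'
  rw [tq_mul]
  congr 1
  · grind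
  · generalize sg m a = A
    grind

theorem tq_pow_four (g : szTsub hσ) : g ^ 4 = 1 := by
  have h2 : (2 : F) = 0 := two_eq_zero'
  obtain ⟨a, b, rfl⟩ := tq_surj hσ g
  have : tq hσ a b ^ 4 = (tq hσ a b * tq hσ a b) * (tq hσ a b * tq hσ a b) := pow_four_eq _
  rw [this, tq_sq, tq_mul, ← tq_one hσ]
  congr 1
  · grind
  · simp only [map_zero, zero_mul, add_zero]
    generalize sg m a = A
    grind

theorem exponent_szTsub : Monoid.exponent (szTsub hσ) = 4 := by
  have hdvd : Monoid.exponent (szTsub hσ) ∣ 4 :=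
    Monoid.exponent_dvd_of_forall_pow_eq_one (tq_pow_four hσ)
  have hnot : ¬ Monoid.exponent (szTsub hσ) ∣ 2 := by
    intro h
    have h1 := (Monoid.exponent_dvd_iff_forall_pow_eq_one).mp h (tq hσ 1 0)
    rw [pow_two, tq_sq, ← tq_one hσ] at h1
    have := (tq_inj hσ h1).2
    simp at this
  have hdvd' : Monoid.exponent (szTsub hσ) ∣ 2 ^ 2 := by
    have : (2 : ℕ) ^ 2 = 4 := by norm_num
    rw [this]
    exact hdvd
  obtain ⟨k, hk, hke⟩ := (Nat.dvd_prime_pow Nat.prime_two).mp hdvd'
  interval_cases k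
  · exfalso; apply hnot; rw [hke]; norm_num
  · exfalso; apply hnot; rw [hke]; norm_num
  · rw [hke]; norm_num

end

section

variable [Fintype F] (hm : 1 ≤ m) (hF : Fintype.card F = 2 ^ (2 * m + 1))
  (hσ : SgSq (F := F) m)

include hm hF hσ in
/-- There is an element not fixed by `σ`. -/
theorem exists_sg_ne : ∃ c : F, sg m c ≠ c := by
  classical
  by_contra hcon
  push Not at hcon
  have hsub : (Finset.univ : Finset F) ⊆ {0, 1} := by
    intro x _
    rcases eq_zero_or_one_of_sg_eq hσ (hcon x) with h | h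
    · simp [h]
    · simp [h]
  have h1 := Finset.card_le_card hsub
  have h2 : ({0, 1} : Finset F).card ≤ 2 := Finset.card_le_two
  rw [Finset.card_univ, hF] at h1
  have : 2 ^ 3 ≤ 2 ^ (2 * m + 1) := Nat.pow_le_pow_right (by norm_num) (by omega)
  omega

theorem mem_center_szTsub_iff (g : szTsub hσ) (hne : ∃ c : F, sg m c ≠ c) :
    g ∈ Subgroup.center (szTsub hσ) ↔ ∃ b, g = tq hσ 0 b := by
  have h2 : (2 : F) = 0 := two_eq_zero'
  rw [Subgroup.mem_center_iff]
  constructor
  · intro h
    obtain ⟨a, b, rfl⟩ := tq_surj hσ g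
    have h1 := h (tq hσ 1 0)
    rw [tq_mul, tq_mul] at h1
    have h1' := (tq_inj hσ h1).2
    simp only [map_one, one_mul, mul_one, zero_add, add_zero] at h1'
    -- h1' : b + a = b + σ a  (up to order)
    have hsa : sg m a = a := by
      have : b + a = b + sg m a := by
        rw [← h1']
      exact (add_left_cancel this).symm
    by_cases ha : a = 0
    · exact ⟨b, by rw [ha]⟩
    · exfalso
      obtain ⟨c, hc⟩ := hne
      have h3 := h (tq hσ c 0)
      rw [tq_mul, tq_mul] at h3
      have h3' := (tq_inj hσ h3).2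
      rw [hsa] at h3'
      have : sg m c * a = a * c := by
        have : 0 + b + sg m c * a = b + 0 + a * c := h3'
        have e : b + sg m c * a = b + a * c := by rw [zero_add] at this; rw [this]; ring
        exact add_left_cancel e
      apply hc
      have : (sg m c - c) * a = 0 := by rw [sub_mul, this]; ring
      rcases mul_eq_zero.mp this with h | h
      · exact sub_eq_zero.mp h
      · exact absurd h ha
  · rintro ⟨b, rfl⟩ g
    obtain ⟨c, d, rfl⟩ := tq_surj hσ g
    rw [tq_mul, tq_mul]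
    congr 1
    · ring
    · simp only [map_zero, zero_mul, mul_zero, add_zero]
      ring

theorem commutatorElement_tq (a b c d : F) :
    ⁅tq hσ a b, tq hσ c d⁆ = tq hσ 0 (sg m a * c + sg m c * a) := by
  have h2 : (2 : F) = 0 := two_eq_zero'
  rw [commutatorElement_def, mul_inv_eq_iff_eq_mul, mul_inv_eq_iff_eq_mul, tq_mul, tq_mul, tq_mul]
  congr 1
  · ring
  · simp only [map_zero, zero_mul, add_zero, zero_add]
    generalize sg m a = A
    generalize sg m c = C
    grind

theorem center_szTsub_eq_commutator (hne : ∃ c : F, sg m c ≠ c) :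
    Subgroup.center (szTsub hσ) = commutator (szTsub hσ) := by
  apply le_antisymm
  · intro g hg
    obtain ⟨e, rfl⟩ := (mem_center_szTsub_iff hσ g hne).mp hg
    -- write `e` as `σ(a) c + σ(c) a`
    obtain ⟨c0, hc0⟩ := hne
    have hs0 : c0 + sg m c0 ≠ 0 := by
      intro h
      apply hc0
      have h2 : (2 : F) = 0 := two_eq_zero'
      grind
    have hsurj : Function.Surjective (fun k : F => k * sg m k) :=
      Finite.injective_iff_surjective.mp (mul_sg_injective hσ)
    obtain ⟨k, hk⟩ := hsurj (e / (c0 + sg m c0))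
    simp only at hk
    have he : sg m k * (k * c0) + sg m (k * c0) * k = e := by
      rw [map_mul]
      have : sg m k * (k * c0) + sg m k * sg m c0 * k = (k * sg m k) * (c0 + sg m c0) := by ring
      rw [this, hk]
      field_simp
    rw [← he, ← commutatorElement_tq hσ k 0 (k * c0) 0]
    exact Subgroup.commutator_mem_commutator (Subgroup.mem_top (tq hσ k 0))
      (Subgroup.mem_top (tq hσ (k * c0) 0))
  · rw [commutator_eq_closure, Subgroup.closure_le]
    rintro g ⟨g1, g2, rfl⟩
    obtain ⟨a, b, rfl⟩ := tq_surj hσ g1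
    obtain ⟨c, d, rfl⟩ := tq_surj hσ g2
    rw [commutatorElement_tq]
    exact (mem_center_szTsub_iff hσ _ hne).mpr ⟨_, rfl⟩

theorem card_center_szTsub (hne : ∃ c : F, sg m c ≠ c) :
    Nat.card (Subgroup.center (szTsub hσ)) = Nat.card F := by
  have hbij : Function.Bijective (fun b : F =>
      (⟨tq hσ 0 b, (mem_center_szTsub_iff hσ _ hne).mpr ⟨b, rfl⟩⟩ : Subgroup.center (szTsub hσ))) := by
    constructor
    · intro b b' h
      have := congrArg Subtype.val h
      exact (tq_inj hσ this).2
    · rintro ⟨g, hg⟩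
      obtain ⟨b, rfl⟩ := (mem_center_szTsub_iff hσ g hne).mp hg
      exact ⟨b, rfl⟩
  rw [← Nat.card_congr (Equiv.ofBijective _ hbij)]

end

end Cfsg.Agent.Lib.Helper6
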