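import Mathlib
import Cfsg.Agent.Lib.Helper6.SzSylow
import Cfsg.Agent.Lib.Helper6.SzGen

/-!
# Suzuki groups: the Sylow 2-subgroup is a TI-subgroup, conjugation by the torus (helper6)
-/

set_option autoImplicit false

namespace Cfsg.Agent.Lib.Helper6

open Cfsg Matrix
open scoped Pointwise

variable {F : Type*} [Field F] [CharP F 2] {m : ℕ}

/-- `H(k) T(a,b) = T(k a, k σ(k) b) H(k)`. -/
theorem szH_mul_szT (hσ : SgSq (F := F) m) (k : Fˣ) (a b : F) :
    szH m k * szT m a b = szT m ((k : F) * a) ((k : F) * sg m (k : F) * b) * szH m k := by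
  have hk : (k : F) ≠ 0 := k.ne_zero
  have hs : sg m (k : F) = ((k : F) ^ (2 ^ m)) ^ 2 := by
    rw [sg_apply, ← pow_mul, pow_succ]
  have hr : (k : F) ^ (2 ^ m) ≠ 0 := pow_ne_zero _ hk
  have hf := szF_scale hσ (k : F) a b
  apply Subtype.ext
  show szHmat m k * szTmat m a b = szTmat m ((k : F) * a) ((k : F) * sg m (k : F) * b) * szHmat m k
  ext i j
  rw [Matrix.mul_apply, Matrix.mul_apply, Fin.sum_univ_four, Fin.sum_univ_four]
  rw [hs] at hf
  fin_cases i <;> fin_cases j <;>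
    simp [szHmat, szTmat, map_mul, hs, pow_succ] <;> field_simp
  have e : ((k : F) ^ 2 ^ m) ^ 2 * (k : F) * b = (k : F) * ((k : F) ^ 2 ^ m) ^ 2 * b := by ring
  rw [e, hf]
  ring

/-- A nonidentity translation fixes no affine point of the ovoid. -/
theorem szT_smul_pt_ne (hσ : SgSq (F := F) m) {a b : F} (h : ¬(a = 0 ∧ b = 0)) (x y : F) :
    szT m a b • szPt m x y ≠ szPt m x y := by
  rw [szT_smul_pt hσ]
  intro h'
  obtain ⟨h1, h2⟩ := szPt_injective m h'
  have ha : a = 0 := by simpa using h1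
  subst ha
  apply h
  refine ⟨rfl, ?_⟩
  simpa using h2

/-- If a conjugate of a nonidentity translation by an element of the Suzuki group is again a
translation, then the conjugating element fixes `∞`. -/
theorem fix_inf_of_conj_szT [Finite F] (hσ : SgSq (F := F) m)
    {g : SpecialLinearGroup (Fin 4) F} (hg : g ∈ Sz F m) {a b c d : F} (hab : ¬(a = 0 ∧ b = 0))
    (h : g * szT m a b * g⁻¹ = szT m c d) :
    g • suzukiPointInfinity F = suzukiPointInfinity F := by
  have hcd : ¬(c = 0 ∧ d = 0) := by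
    rintro ⟨rfl, rfl⟩
    rw [szT_zero] at h
    have h1 : szT m a b = 1 := by
      have := congrArg (fun z => g⁻¹ * z * g) h
      simpa [mul_assoc] using this
    rw [← szT_zero (m := m)] at h1
    exact hab (szT_injective h1)
  have hfix : szT m c d • (g • suzukiPointInfinity F) = g • suzukiPointInfinity F := by
    rw [← h, mul_smul, mul_smul, inv_smul_smul, szT_smul_infPt]
  have hmem : g • suzukiPointInfinity F ∈ suzukiOvoid F m := sz_smul_mem hg (szInf_mem m)
  rcases (mem_suzukiOvoid_iff m _).1 hmem with h' | ⟨x, y, h'⟩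
  · exact h'
  · rw [h'] at hfix
    exact absurd hfix (szT_smul_pt_ne hσ hcd x y)

section T0

variable [Finite F] (hσ : SgSq (F := F) m)

/-- The central translations `T(0,b)` as elements of the Suzuki group. -/
noncomputable def t0 (b : F) : Sz F m := ⟨szT m 0 b, szT_mem hσ 0 b⟩

theorem t0_add (b d : F) : t0 hσ (b + d) = t0 hσ b * t0 hσ d := by
  apply Subtype.ext
  show szT m 0 (b + d) = szT m 0 b * szT m 0 d
  rw [szT_mul hσ]
  simp

theorem t0_zero : t0 hσ 0 = 1 := Subtype.ext szT_zero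

theorem t0_injective : Function.Injective (t0 hσ) := fun _ _ h =>
  (szT_injective (congrArg Subtype.val h)).2

theorem t0_eq_one_iff {b : F} : t0 hσ b = 1 ↔ b = 0 := by
  rw [← t0_zero hσ]
  exact (t0_injective hσ).eq_iff

theorem t0_mul_self (b : F) : t0 hσ b * t0 hσ b = 1 := by
  rw [← t0_add, CharTwo.add_self_eq_zero, t0_zero]

theorem t0_inv (b : F) : (t0 hσ b)⁻¹ = t0 hσ b := inv_eq_of_mul_eq_one_left (t0_mul_self hσ b)

theorem t0_mem_szTsub (b : F) : t0 hσ b ∈ szTsub hσ := ⟨0, b, rfl⟩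

/-- The involutions of the translation subgroup are the central translations. -/
theorem eq_t0_of_mul_self {g : Sz F m} (hg : g ∈ szTsub hσ) (h2 : g * g = 1) :
    ∃ b, g = t0 hσ b := by
  obtain ⟨a, b, hab⟩ := hg
  have h1 : szT m a b * szT m a b = 1 := by
    rw [← hab]
    exact congrArg Subtype.val h2
  rw [szT_mul hσ, ← szT_zero (m := m)] at h1
  obtain ⟨-, h3⟩ := szT_injective h1
  rw [CharTwo.add_self_eq_zero, zero_add] at h3
  have ha : a = 0 := by
    rcases mul_eq_zero.mp h3 with h | h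
    · exact (map_eq_zero (sg m)).mp h
    · exact h
  refine ⟨b, Subtype.ext ?_⟩
  rw [hab, ha]
  rfl

omit [Finite F] in
include hσ in
/-- Translations commute with central translations. -/
theorem szT_mul_szT0_comm (a b d : F) : szT m a b * szT m 0 d = szT m 0 d * szT m a b := by
  rw [szT_mul hσ, szT_mul hσ]
  congr 1
  · ring
  · simp only [map_zero, zero_mul, mul_zero, add_zero]
    ring

omit [Finite F] in
include hσ in
theorem szH_conj_szT0 (k : Fˣ) (d : F) :
    szH m k * szT m 0 d * (szH m k)⁻¹ = szT m 0 ((k : F) * sg m (k : F) * d) := by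
  rw [szH_mul_szT hσ, mul_zero, mul_inv_cancel_right]

/-- For each nonzero scalar `l` some element of the Suzuki group conjugates `T(0,d)` to
`T(0,l d)`. -/
theorem exists_conj_t0 (l : Fˣ) : ∃ h : Sz F m, ∀ d, h * t0 hσ d * h⁻¹ = t0 hσ ((l : F) * d) := by
  obtain ⟨k, hk⟩ := Finite.injective_iff_surjective.mp (mul_sg_injective hσ) (l : F)
  simp only at hk
  have hk0 : k ≠ 0 := by
    rintro rfl
    rw [zero_mul] at hk
    exact l.ne_zero hk.symm
  refine ⟨⟨szH m (Units.mk0 k hk0), szH_mem hσ _⟩, fun d => ?_⟩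
  apply Subtype.ext
  show szH m (Units.mk0 k hk0) * szT m 0 d * (szH m (Units.mk0 k hk0))⁻¹ = szT m 0 ((l : F) * d)
  rw [szH_conj_szT0 hσ, Units.val_mk0, hk]

end T0

section Fix

variable [Fintype F] (hσ : SgSq (F := F) m)

/-- An element of the Suzuki group fixing `∞` acts on the central translations by a scalar. -/
theorem conj_t0_of_fix_inf (hm : 1 ≤ m) (hF : Fintype.card F = 2 ^ (2 * m + 1)) {x : Sz F m}
    (hx : (x : SpecialLinearGroup (Fin 4) F) • suzukiPointInfinity F = suzukiPointInfinity F) :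
    ∃ l : Fˣ, ∀ d, x * t0 hσ d * x⁻¹ = t0 hσ ((l : F) * d) := by
  obtain ⟨a, b, k, hk⟩ := exists_eq_szT_mul_szH hm hF x.2 hx
  have hsk : sg m (k : F) ≠ 0 := (map_ne_zero (sg m)).mpr k.ne_zero
  refine ⟨Units.mk0 ((k : F) * sg m (k : F)) (mul_ne_zero k.ne_zero hsk), fun d => ?_⟩
  apply Subtype.ext
  show (x : SpecialLinearGroup (Fin 4) F) * szT m 0 d * (x : SpecialLinearGroup (Fin 4) F)⁻¹ =
    szT m 0 (((Units.mk0 ((k : F) * sg m (k : F)) (mul_ne_zero k.ne_zero hsk) : Fˣ) : F) * d)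
  rw [hk, Units.val_mk0, _root_.mul_inv_rev]
  calc szT m a b * szH m k * szT m 0 d * ((szH m k)⁻¹ * (szT m a b)⁻¹)
      = szT m a b * (szH m k * szT m 0 d * (szH m k)⁻¹) * (szT m a b)⁻¹ := by group
    _ = szT m a b * szT m 0 ((k : F) * sg m (k : F) * d) * (szT m a b)⁻¹ := by
        rw [szH_conj_szT0 hσ]
    _ = szT m 0 ((k : F) * sg m (k : F) * d) := by
        rw [szT_mul_szT0_comm hσ, mul_inv_cancel_right]

omit [CharP F 2] in
theorem sz_factorization_two (hm : 1 ≤ m) (hF : Fintype.card F = 2 ^ (2 * m + 1)) :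
    (Nat.card (Sz F m)).factorization 2 = 2 * (2 * m + 1) := by
  rw [card_Sz hm hF]
  have e1 : (2 ^ (2 * m + 1)) ^ 2 * ((2 ^ (2 * m + 1)) ^ 2 + 1) * (2 ^ (2 * m + 1) - 1) =
      2 ^ (2 * (2 * m + 1)) * (((2 ^ (2 * m + 1)) ^ 2 + 1) * (2 ^ (2 * m + 1) - 1)) := by
    rw [← pow_mul, mul_comm (2 * m + 1) 2, mul_assoc]
  rw [e1]
  have hr : ¬ 2 ∣ ((2 ^ (2 * m + 1)) ^ 2 + 1) * (2 ^ (2 * m + 1) - 1) := by
    have hq : ∃ q', 2 ^ (2 * m + 1) = 2 * q' ∧ 1 ≤ q' := ⟨2 ^ (2 * m), by ring, Nat.one_le_two_pow⟩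
    obtain ⟨q', hq', hq1⟩ := hq
    rw [hq']
    intro h
    rcases (Nat.Prime.dvd_mul Nat.prime_two).mp h with h | h
    · have : (2 * q') ^ 2 = 2 * (2 * q' * q') := by ring
      omega
    · omega
  have hr0 : ((2 ^ (2 * m + 1)) ^ 2 + 1) * (2 ^ (2 * m + 1) - 1) ≠ 0 := fun h => hr (h ▸ dvd_zero 2)
  rw [Nat.factorization_mul (by positivity) hr0, Finsupp.add_apply,
    Nat.Prime.factorization_pow Nat.prime_two, Finsupp.single_eq_same,
    Nat.factorization_eq_zero_of_not_dvd hr, add_zero]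

theorem card_szTsub_eq_pow_factorization (hm : 1 ≤ m) (hF : Fintype.card F = 2 ^ (2 * m + 1)) :
    Nat.card (szTsub hσ) = 2 ^ (Nat.card (Sz F m)).factorization 2 := by
  rw [sz_factorization_two hm hF, card_szTsub, Nat.card_eq_fintype_card, hF, ← pow_mul, mul_comm]

/-- The translation subgroup as a Sylow 2-subgroup. -/
noncomputable def szSylow (hm : 1 ≤ m) (hF : Fintype.card F = 2 ^ (2 * m + 1)) :
    Sylow 2 (Sz F m) :=
  Sylow.ofCard (szTsub hσ) (card_szTsub_eq_pow_factorization hσ hm hF)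

theorem coe_szSylow (hm : 1 ≤ m) (hF : Fintype.card F = 2 ^ (2 * m + 1)) :
    (szSylow hσ hm hF : Subgroup (Sz F m)) = szTsub hσ := rfl

/-- Every 2-subgroup of the Suzuki group is conjugate into the translation subgroup. -/
theorem exists_conj_le_szTsub (hm : 1 ≤ m) (hF : Fintype.card F = 2 ^ (2 * m + 1))
    {E : Subgroup (Sz F m)} (hE : IsPGroup 2 E) :
    ∃ g : Sz F m, ∀ e ∈ E, g * e * g⁻¹ ∈ szTsub hσ := by
  have : Fact (Nat.Prime 2) := ⟨Nat.prime_two⟩
  obtain ⟨P, hP⟩ := hE.exists_le_sylow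
  obtain ⟨g, hg⟩ := MulAction.exists_smul_eq (Sz F m) P (szSylow hσ hm hF)
  refine ⟨g, fun e he => ?_⟩
  have h1 : e ∈ (P : Subgroup (Sz F m)) := hP he
  have h2 : MulAut.conj g • e ∈ MulAut.conj g • (P : Subgroup (Sz F m)) :=
    Subgroup.smul_mem_pointwise_smul _ _ _ h1
  have h3 : ((g • P : Sylow 2 (Sz F m)) : Subgroup (Sz F m)) =
      MulAut.conj g • (P : Subgroup (Sz F m)) := Sylow.pointwise_smul_def
  rw [← h3, hg, coe_szSylow] at h2
  exact h2

end Fix

end Cfsg.Agent.Lib.Helper6
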