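import Mathlib
import Cfsg.Agent.Lib.Helper6.SzFpf5
import Cfsg.Agent.Lib.Helper6.SzTI
import Cfsg.Agent.Lib.Helper6.SzTorus

/-!
# Suzuki groups: Sylow 2-subgroups meet trivially; two-point stabilisers (helper6)
-/

set_option autoImplicit false

namespace Cfsg.Agent.Lib.Helper6

open Cfsg Matrix MulAction

variable {F : Type*} [Field F] [Fintype F] [CharP F 2] {m : ℕ}

/-- Elements of the Suzuki group fixing `∞` normalise the translation subgroup. -/
theorem conj_mem_szTsub_of_fix_inf (hσ : SgSq (F := F) m) (hm : 1 ≤ m)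
    (hF : Fintype.card F = 2 ^ (2 * m + 1)) {y : Sz F m}
    (hy : (y : SpecialLinearGroup (Fin 4) F) • suzukiPointInfinity F = suzukiPointInfinity F)
    {t : Sz F m} (ht : t ∈ szTsub hσ) : y * t * y⁻¹ ∈ szTsub hσ := by
  obtain ⟨a, b, k, hk⟩ := exists_eq_szT_mul_szH hm hF y.2 hy
  obtain ⟨c, d, hcd⟩ := ht
  have h1 : ((y * t * y⁻¹ : Sz F m) : SpecialLinearGroup (Fin 4) F) =
      szT m a b * (szH m k * szT m c d * (szH m k)⁻¹) * (szT m a b)⁻¹ := by
    rw [Subgroup.coe_mul, Subgroup.coe_mul, Subgroup.coe_inv, hk, hcd]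
    group
  have h2 : szH m k * szT m c d * (szH m k)⁻¹ =
      szT m ((k : F) * c) ((k : F) * sg m (k : F) * d) := by
    rw [szH_mul_szT hσ, mul_inv_cancel_right]
  have hT : ∀ a b : F, (⟨szT m a b, szT_mem hσ a b⟩ : Sz F m) ∈ szTsub hσ :=
    fun a b => ⟨a, b, rfl⟩
  have h3 : y * t * y⁻¹ = (⟨szT m a b, szT_mem hσ a b⟩ : Sz F m) *
      ⟨szT m ((k : F) * c) ((k : F) * sg m (k : F) * d), szT_mem hσ _ _⟩ *
      (⟨szT m a b, szT_mem hσ a b⟩ : Sz F m)⁻¹ := by
    apply Subtype.ext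
    rw [h1, h2]
    rfl
  rw [h3]
  exact (szTsub hσ).mul_mem ((szTsub hσ).mul_mem (hT _ _) (hT _ _)) ((szTsub hσ).inv_mem (hT _ _))

/-- Two Sylow 2-subgroups of the Suzuki group with a common non-identity element are equal. -/
theorem sz_sylow_two_eq_of_mem (hm : 1 ≤ m) (hF : Fintype.card F = 2 ^ (2 * m + 1))
    (P P' : Sylow 2 (Sz F m)) {g : Sz F m} (hg1 : g ≠ 1) (hgP : g ∈ P) (hgP' : g ∈ P') :
    P = P' := by
  have hσ : SgSq (F := F) m := sgSq_of_card m hF
  obtain ⟨x, hx⟩ := exists_conj_le_szTsub hσ hm hF P.isPGroup'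
  obtain ⟨x', hx'⟩ := exists_conj_le_szTsub hσ hm hF P'.isPGroup'
  obtain ⟨a, b, hab⟩ := hx g hgP
  obtain ⟨c, d, hcd⟩ := hx' g hgP'
  have hab0 : ¬ (a = 0 ∧ b = 0) := by
    rintro ⟨rfl, rfl⟩
    rw [szT_zero] at hab
    have h1 : x * g * x⁻¹ = 1 := Subtype.ext hab
    exact conj_ne_one hg1 h1
  -- y = x' x⁻¹ conjugates T(a,b) to T(c,d)
  set y : Sz F m := x' * x⁻¹ with hy
  have hconj : (y : SpecialLinearGroup (Fin 4) F) * szT m a b *
      (y : SpecialLinearGroup (Fin 4) F)⁻¹ = szT m c d := by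
    rw [← hab, ← hcd]
    have : y * (x * g * x⁻¹) * y⁻¹ = x' * g * x'⁻¹ := by rw [hy]; group
    have := congrArg (fun z : Sz F m => (z : SpecialLinearGroup (Fin 4) F)) this
    simpa using this
  have hyinf := fix_inf_of_conj_szT hσ y.2 hab0 hconj
  -- P ≤ P'
  have hcard : Nat.card (P : Subgroup (Sz F m)) = Nat.card (P' : Subgroup (Sz F m)) := by
    rw [Sylow.card_eq_multiplicity, Sylow.card_eq_multiplicity]
  have hmapP' : (P' : Subgroup (Sz F m)).map (MulAut.conj x').toMonoidHom = szTsub hσ := by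
    apply Subgroup.eq_of_le_of_card_ge
    · rintro z ⟨e, he, rfl⟩
      exact hx' e he
    · rw [Subgroup.card_map_of_injective (MulAut.conj x').injective,
        Sylow.card_eq_multiplicity, card_szTsub_eq_pow_factorization hσ hm hF]
  apply Sylow.ext
  apply Subgroup.eq_of_le_of_card_ge _ (le_of_eq hcard.symm)
  intro e he
  have h1 : x * e * x⁻¹ ∈ szTsub hσ := hx e he
  have h2 : y * (x * e * x⁻¹) * y⁻¹ ∈ szTsub hσ :=
    conj_mem_szTsub_of_fix_inf hσ hm hF hyinf h1
  have h3 : y * (x * e * x⁻¹) * y⁻¹ = x' * e * x'⁻¹ := by rw [hy]; group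
  rw [h3, ← hmapP'] at h2
  obtain ⟨e', he', hee'⟩ := h2
  have : e' = e := (MulAut.conj x').injective hee'
  rw [← this]; exact he'

/-- The stabiliser of two points of the ovoid is a cyclic subgroup of order `q - 1`. -/
theorem sz_exists_two_point_torus (hm : 1 ≤ m) (hF : Fintype.card F = 2 ^ (2 * m + 1))
    (a b : suzukiOvoid F m) (hab : a ≠ b) :
    ∃ U : Subgroup (Sz F m), IsCyclic U ∧ Nat.card U = 2 ^ (2 * m + 1) - 1 ∧
      ∀ t : Sz F m, t ∈ U ↔ (t • a = a ∧ t • b = b) := by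
  have hσ : SgSq (F := F) m := sgSq_of_card m hF
  obtain ⟨g, hg, h1, h2⟩ := sz_exists_map hσ a.2 b.2 (fun h => hab (Subtype.ext h))
  set x : Sz F m := ⟨g, hg⟩ with hx
  have h1' : g⁻¹ • suzukiPointInfinity F = (a : Projectivization F (Fin 4 → F)) := by
    rw [inv_smul_eq_iff, h1]
  have h2' : g⁻¹ • suzukiPointZero F = (b : Projectivization F (Fin 4 → F)) := by
    rw [inv_smul_eq_iff, h2]
  refine ⟨(szHsub hσ).map (MulAut.conj x⁻¹).toMonoidHom, ?_, ?_, ?_⟩
  · have := isCyclic_szHsub hσ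
    exact ((szHsub hσ).equivMapOfInjective _ (MulAut.conj x⁻¹).injective).isCyclic.mp this
  · rw [Subgroup.card_map_of_injective (MulAut.conj x⁻¹).injective, card_szHsub,
      Nat.card_eq_fintype_card, hF]
  · intro t
    constructor
    · rintro ⟨h, ⟨k, rfl⟩, rfl⟩
      constructor
      · apply Subtype.ext
        change (g⁻¹ * szH m k * g⁻¹⁻¹) • (a : Projectivization F (Fin 4 → F)) = a
        rw [inv_inv, mul_smul, mul_smul, h1, szH_smul_infPt, h1']
      · apply Subtype.ext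
        change (g⁻¹ * szH m k * g⁻¹⁻¹) • (b : Projectivization F (Fin 4 → F)) = b
        rw [inv_inv, mul_smul, mul_smul, h2, szH_smul_zeroPt, h2']
    · rintro ⟨hta, htb⟩
      have hta' : (t : SpecialLinearGroup (Fin 4) F) • (a : Projectivization F (Fin 4 → F)) = a :=
        congrArg Subtype.val hta
      have htb' : (t : SpecialLinearGroup (Fin 4) F) • (b : Projectivization F (Fin 4 → F)) = b :=
        congrArg Subtype.val htb
      have hk : ∃ k : Fˣ, ((x * t * x⁻¹ : Sz F m) : SpecialLinearGroup (Fin 4) F) = szH m k := by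
        apply eq_szH_of_fix hm hF (x * t * x⁻¹).2
        · change (g * (t : SpecialLinearGroup (Fin 4) F) * g⁻¹) • suzukiPointInfinity F = _
          rw [mul_smul, mul_smul, h1', hta', h1]
        · change (g * (t : SpecialLinearGroup (Fin 4) F) * g⁻¹) • suzukiPointZero F = _
          rw [mul_smul, mul_smul, h2', htb', h2]
      obtain ⟨k, hk⟩ := hk
      refine ⟨x * t * x⁻¹, ⟨k, Subtype.ext hk.symm⟩, ?_⟩
      change x⁻¹ * (x * t * x⁻¹) * x⁻¹⁻¹ = t
      group

end Cfsg.Agent.Lib.Helper6
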