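import Mathlib
import Cfsg.Prelude.Def_Local
import Cfsg.Prelude.Def_Transfer
import Cfsg.Agent.Lib.Helper41.PGV.Defs
import Cfsg.Agent.Lib.Helper41.PGV.Defs2

/-!
# PGV-[W-EXISTS] (helper6; S3086, RED sheet part 2): an irreducible section on which `K1` is non-trivial

`exists_section_of_perfect`: `H ≤ G` acting on the finite module `V`, `K ≤ H` a perfect subgroup acting non-trivially on `V`.
Then there is an `H`-composition factor `V'/V''` of `V` on which `K` acts non-trivially.

`exists_section` : the sheet statement (for a counterexample `CE ρ A K1 a`, with `H = G0 A K1 a`, `K = K1`).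
-/

set_option autoImplicit false

universe v

namespace Cfsg.Agent.Lib.Helper6.PGVW

open Cfsg Cfsg.Agent.Lib.Helper41.PGV

section general

variable {p : ℕ} [Fact p.Prime] {G V : Type*} [Group G] [AddCommGroup V] [Module (ZMod p) V]
  {ρ : Representation (ZMod p) G V}

/-- a perfect group acting trivially on `V''` and on `V'/V''` acts trivially on `V'`
(`x ↦ (ρ x - 1)|_{V'}` is a homomorphism to an abelian group) -/
theorem trivial_of_section_trivial (K : Subgroup G) [hK : Group.IsPerfect K] (V' V'' : Submodule (ZMod p) V)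
    (h1 : ∀ x ∈ K, ∀ v ∈ V', ρ x v - v ∈ V'') (h2 : ∀ x ∈ K, ∀ w ∈ V'', ρ x w = w) :
    ∀ x ∈ K, ∀ v ∈ V', ρ x v = v := by
  let f : K →* Multiplicative (V' →ₗ[ZMod p] V) :=
    { toFun := fun x => Multiplicative.ofAdd ((ρ x.1 - 1) ∘ₗ V'.subtype)
      map_one' := by
        show Multiplicative.ofAdd ((ρ (1 : G) - 1) ∘ₗ V'.subtype) = 1
        rw [map_one, sub_self, LinearMap.zero_comp]
        rfl
      map_mul' := by
        intro x y
        rw [← ofAdd_add]
        congr 1
        ext v
        have e1 := h2 x.1 x.2 _ (h1 y.1 y.2 v.1 v.2)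
        rw [map_sub] at e1
        have e2 : ρ x.1 (ρ y.1 v.1) = ρ y.1 v.1 - v.1 + ρ x.1 v.1 := by rw [← e1]; abel
        simp only [LinearMap.comp_apply, LinearMap.sub_apply, LinearMap.add_apply, Submodule.subtype_apply,
          Module.End.one_apply, Subgroup.coe_mul, map_mul, Module.End.mul_apply]
        rw [e2]
        abel }
  intro x hx v hv
  have hker : (⟨x, hx⟩ : K) ∈ f.ker := by
    apply Abelianization.commutator_subset_ker f
    rw [hK.commutator_eq_top]
    trivial
  rw [MonoidHom.mem_ker] at hker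
  have h3 : (ρ x - 1) ∘ₗ V'.subtype = 0 := by
    have : Multiplicative.toAdd (f ⟨x, hx⟩) = Multiplicative.toAdd (1 : Multiplicative (V' →ₗ[ZMod p] V)) := by
      rw [hker]
    exact this
  have h4 := LinearMap.congr_fun h3 ⟨v, hv⟩
  simp only [LinearMap.comp_apply, LinearMap.sub_apply, Submodule.subtype_apply, Module.End.one_apply,
    LinearMap.zero_apply] at h4
  exact sub_eq_zero.mp h4

variable [Finite V]

/-- an `H`-composition factor of `V` on which the perfect subgroup `K ≤ H` acts non-trivially -/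
theorem exists_section_of_perfect (H K : Subgroup G) (hKH : K ≤ H) [hK : Group.IsPerfect K]
    (hnt : ∃ x ∈ K, ∃ v : V, ρ x v ≠ v) :
    ∃ (V' V'' : Submodule (ZMod p) V) (h' : Inv ρ H V') (h'' : Inv ρ H V''), V'' ≤ V' ∧
      Irred (secRep ρ H V' V'' h' h'') ∧
      ¬ ∀ x : H, x.1 ∈ K → secRep ρ H V' V'' h' h'' x = 1 := by
  classical
  have : Finite (Submodule (ZMod p) V) := Finite.of_injective (fun U => (U : Set V)) SetLike.coe_injective
  -- `V'` minimal among the `H`-invariant submodules on which `K` is non-trivial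
  obtain ⟨V', ⟨hV'inv, hV'nt⟩, hV'min⟩ := (wellFounded_lt (α := Submodule (ZMod p) V)).has_min
    {U | Inv ρ H U ∧ ∃ x ∈ K, ∃ v ∈ U, ρ x v ≠ v}
    ⟨⊤, fun g _ u _ => Submodule.mem_top, by
      obtain ⟨x, hx, v, hv⟩ := hnt
      exact ⟨x, hx, v, Submodule.mem_top, hv⟩⟩
  have hV'ne : V' ≠ ⊥ := by
    rintro rfl
    obtain ⟨x, hx, v, hv, hne⟩ := hV'nt
    rw [Submodule.mem_bot] at hv
    rw [hv, map_zero] at hne
    exact hne rfl
  -- `V''` maximal among the proper `H`-invariant submodules of `V'`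
  obtain ⟨V'', ⟨hV''inv, hV''lt⟩, hV''max⟩ := (wellFounded_gt (α := Submodule (ZMod p) V)).has_min
    {U | Inv ρ H U ∧ U < V'}
    ⟨⊥, fun g _ u hu => by rw [Submodule.mem_bot] at hu ⊢; rw [hu, map_zero], bot_lt_iff_ne_bot.mpr hV'ne⟩
  have hle : V'' ≤ V' := hV''lt.le
  -- `K` is trivial on `V''`
  have h2 : ∀ x ∈ K, ∀ w ∈ V'', ρ x w = w := by
    intro x hx w hw
    by_contra hne
    exact hV'min V'' ⟨hV''inv, x, hx, w, hw, hne⟩ hV''lt
  refine ⟨V', V'', hV'inv, hV''inv, hle, ⟨?_, ?_⟩, ?_⟩
  · -- the section is non-zero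
    rw [Submodule.Quotient.nontrivial_iff]
    intro htop
    apply hV''lt.not_ge
    intro v hv
    have : (⟨v, hv⟩ : V') ∈ Submodule.comap V'.subtype V'' := by rw [htop]; trivial
    exact this
  · -- the section is irreducible
    intro U hU
    -- the preimage of `U` in `V`
    set U' : Submodule (ZMod p) V := (U.comap (Submodule.mkQ (V''.comap V'.subtype))).map V'.subtype with hU'
    have hmemU' : ∀ v : V, v ∈ U' ↔ ∃ hv : v ∈ V', Submodule.Quotient.mk (⟨v, hv⟩ : V') ∈ U := by
      intro v
      rw [hU', Submodule.mem_map]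
      constructor
      · rintro ⟨w, hw, rfl⟩
        exact ⟨w.2, hw⟩
      · rintro ⟨hv, hw⟩
        exact ⟨⟨v, hv⟩, hw, rfl⟩
    have hU'le : U' ≤ V' := by
      intro v hv
      obtain ⟨hv', _⟩ := (hmemU' v).mp hv
      exact hv'
    have hV''U' : V'' ≤ U' := by
      intro v hv
      rw [hmemU']
      refine ⟨hle hv, ?_⟩
      have : Submodule.Quotient.mk (⟨v, hle hv⟩ : V') = (0 : Sec V' V'') := by
        rw [Submodule.Quotient.mk_eq_zero]
        exact hv
      rw [this]
      exact U.zero_mem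
    have hU'inv : Inv ρ H U' := by
      intro g hg u hu
      obtain ⟨hu', hmem⟩ := (hmemU' u).mp hu
      rw [hmemU']
      refine ⟨hV'inv g hg u hu', ?_⟩
      have := hU ⟨g, hg⟩ _ hmem
      rw [secRep_mk] at this
      exact this
    by_cases hlt : U' < V'
    · left
      have hEq : U' = V'' := by
        by_contra hne
        exact hV''max U' ⟨hU'inv, hlt⟩ (lt_of_le_of_ne hV''U' (Ne.symm hne))
      rw [eq_bot_iff]
      intro w hw
      obtain ⟨v, rfl⟩ := Submodule.Quotient.mk_surjective _ w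
      have : v.1 ∈ U' := (hmemU' v.1).mpr ⟨v.2, hw⟩
      rw [hEq] at this
      rw [Submodule.mem_bot, Submodule.Quotient.mk_eq_zero]
      exact this
    · right
      have hEq : U' = V' := by
        by_contra hne
        exact hlt (lt_of_le_of_ne hU'le hne)
      rw [eq_top_iff]
      intro w _
      obtain ⟨v, rfl⟩ := Submodule.Quotient.mk_surjective _ w
      have : v.1 ∈ U' := by rw [hEq]; exact v.2
      obtain ⟨_, hw⟩ := (hmemU' v.1).mp this
      exact hw
  · -- `K` is non-trivial on the section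
    intro htriv
    have h1 : ∀ x ∈ K, ∀ v ∈ V', ρ x v - v ∈ V'' := by
      intro x hx v hv
      have e := htriv ⟨x, hKH hx⟩ hx
      have e2 : secRep ρ H V' V'' hV'inv hV''inv ⟨x, hKH hx⟩ (Submodule.Quotient.mk (⟨v, hv⟩ : V')) =
          Submodule.Quotient.mk (⟨v, hv⟩ : V') := by
        rw [e]; rfl
      rw [secRep_mk, Submodule.Quotient.eq] at e2
      exact e2
    obtain ⟨x, hx, v, hv, hne⟩ := hV'nt
    exact hne (trivial_of_section_trivial K V' V'' h1 h2 x hx v hv)

end general

variable {p : ℕ} [Fact p.Prime] {G V : Type v} [Group G] [Finite G] [AddCommGroup V] [Finite V] [Module (ZMod p) V]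
  {ρ : Representation (ZMod p) G V} {A K1 : Subgroup G} {a : G}

set_option linter.unusedSectionVars false in
/-- **[W-EXISTS]** a `G0`-composition factor of `V` on which `K1` acts non-trivially. -/
theorem exists_section (h : CE ρ A K1 a) :
    ∃ (V' V'' : Submodule (ZMod p) V) (h' : Inv ρ (G0 A K1 a) V') (h'' : Inv ρ (G0 A K1 a) V''), V'' ≤ V' ∧
      Irred (secRep ρ (G0 A K1 a) V' V'' h' h'') ∧
      ¬ ∀ x : G0 A K1 a, x.1 ∈ K1 → secRep ρ (G0 A K1 a) V' V'' h' h'' x = 1 := by
  obtain ⟨_, hperf, hsimple⟩ := h.comp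
  have : Group.IsPerfect K1 := hperf
  have hK1G0 : K1 ≤ G0 A K1 a := le_sup_of_le_left le_sup_left
  apply exists_section_of_perfect (G0 A K1 a) K1 hK1G0
  -- `K1` is non-trivial, and `ρ` is faithful
  have : Nontrivial (K1 ⧸ Subgroup.center K1) := hsimple.toNontrivial
  have hntK : Nontrivial K1 := by
    by_contra hnot
    rw [not_nontrivial_iff_subsingleton] at hnot
    have := hnot
    have : Subsingleton (K1 ⧸ Subgroup.center K1) := Quotient.instSubsingletonQuotient _
    exact not_subsingleton _ this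
  obtain ⟨x, hx⟩ := exists_ne (1 : K1)
  refine ⟨x.1, x.2, ?_⟩
  by_contra hall
  push Not at hall
  apply hx
  have : ρ x.1 = ρ 1 := by
    rw [map_one]
    ext v
    rw [hall v, Module.End.one_apply]
  exact Subtype.ext (h.inj this)

end Cfsg.Agent.Lib.Helper6.PGVW
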