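import Mathlib

/-!
# Module [BAU-COC] for S2768-S2770 (helper48, board #3794)

An `H¹`-averaging lemma: if `V` is a normal abelian `p`-subgroup of `G`, `S` a Sylow `p`-subgroup,
and every `S`-fixed element of `Ω₁(V)` is central in `G`, then every `S`-fixed element of `V` is
central in `G`.
-/

set_option autoImplicit false
set_option linter.unusedSectionVars false
set_option linter.unusedVariables false
set_option linter.style.haveILetI false

namespace Cfsg.Agent.Lib.Helper6.Bau

theorem central_of_omega_central {G : Type*} [Group G] [Finite G] {p : ℕ} [Fact p.Prime]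
    (S : Sylow p G) (V : Subgroup G) [V.Normal] (hVc : IsMulCommutative V) (hVp : IsPGroup p V)
    (h : ∀ z ∈ V, z ^ p = 1 → (∀ s ∈ (S : Subgroup G), s * z = z * s) → z ∈ Subgroup.center G) :
    ∀ z ∈ V, (∀ s ∈ (S : Subgroup G), s * z = z * s) → z ∈ Subgroup.center G := by
  classical
  have hp : p.Prime := Fact.out
  letI : CommGroup ↥V := { (inferInstance : Group ↥V) with mul_comm := fun a b => mul_comm' a b }
  haveI : Fintype (G ⧸ (S : Subgroup G)) := Fintype.ofFinite _
  -- conjugation by `h⁻¹` as an endomorphism of `V`
  let cj : G → (↥V →* ↥V) := fun g =>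
    { toFun := fun v => ⟨g⁻¹ * (v : G) * g, by
        have := (inferInstance : V.Normal).conj_mem (v : G) v.2 g⁻¹
        rwa [inv_inv] at this⟩
      map_one' := by
        apply Subtype.ext
        simp
      map_mul' := by
        intro a b
        apply Subtype.ext
        simp only [Subgroup.coe_mul]
        group }
  have main : ∀ n : ℕ, ∀ z ∈ V, orderOf z = n → (∀ s ∈ (S : Subgroup G), s * z = z * s) →
      z ∈ Subgroup.center G := by
    intro n
    induction n using Nat.strong_induction_on with
    | _ n ih =>
      intro z hzV hzn hzS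
      by_cases hzp : z ^ p = 1
      · exact h z hzV hzp hzS
      -- `p ∣ orderOf z`
      have hpdvd : p ∣ orderOf z := by
        obtain ⟨k, hk⟩ := hVp ⟨z, hzV⟩
        have hk' : z ^ (p ^ k) = 1 := by
          have := congrArg Subtype.val hk
          simpa using this
        obtain ⟨j, hj, hjo⟩ := (Nat.dvd_prime_pow hp).mp (orderOf_dvd_of_pow_eq_one hk')
        have hj0 : j ≠ 0 := by
          rintro rfl
          rw [pow_zero, orderOf_eq_one_iff] at hjo
          apply hzp
          rw [hjo, one_pow]
        rw [hjo]
        exact dvd_pow_self p hj0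
      have hzpc : z ^ p ∈ Subgroup.center G := by
        apply ih (orderOf (z ^ p)) ?_ (z ^ p) (V.pow_mem hzV p) rfl ?_
        · rw [← hzn, orderOf_pow_of_dvd hp.ne_zero hpdvd]
          exact Nat.div_lt_self (orderOf_pos z) hp.one_lt
        · intro s hs
          exact (Commute.pow_right (hzS s hs) p)
      have hzpc' : ∀ g : G, g * z ^ p = z ^ p * g := fun g => Subgroup.mem_center_iff.mp hzpc g
      -- the cocycle
      let F : G → ↥V := fun g => ⟨z⁻¹ * (g⁻¹ * z * g), V.mul_mem (V.inv_mem hzV) (by
        have := (inferInstance : V.Normal).conj_mem z hzV g⁻¹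
        rwa [inv_inv] at this)⟩
      have hFval : ∀ g : G, ((F g : ↥V) : G) = z⁻¹ * (g⁻¹ * z * g) := fun g => rfl
      have hFmul : ∀ g k : G, F (g * k) = F k * cj k (F g) := by
        intro g k
        apply Subtype.ext
        show z⁻¹ * ((g * k)⁻¹ * z * (g * k)) = z⁻¹ * (k⁻¹ * z * k) * (k⁻¹ * (z⁻¹ * (g⁻¹ * z * g)) * k)
        group
      have hFS : ∀ s ∈ (S : Subgroup G), ∀ g : G, F (s * g) = F g := by
        intro s hs g
        apply Subtype.ext
        show z⁻¹ * ((s * g)⁻¹ * z * (s * g)) = z⁻¹ * (g⁻¹ * z * g)
        have h1 : s⁻¹ * z * s = z := by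
          have h0 := hzS s hs
          calc s⁻¹ * z * s = s⁻¹ * (z * s) := by group
            _ = s⁻¹ * (s * z) := by rw [h0]
            _ = z := by group
        calc z⁻¹ * ((s * g)⁻¹ * z * (s * g)) = z⁻¹ * (g⁻¹ * (s⁻¹ * z * s) * g) := by group
          _ = z⁻¹ * (g⁻¹ * z * g) := by rw [h1]
      have hF1 : ∀ s ∈ (S : Subgroup G), F s = 1 := by
        intro s hs
        apply Subtype.ext
        show z⁻¹ * (s⁻¹ * z * s) = 1
        have h1 : s⁻¹ * z * s = z := by
          have h0 := hzS s hs
          calc s⁻¹ * z * s = s⁻¹ * (z * s) := by group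
            _ = s⁻¹ * (s * z) := by rw [h0]
            _ = z := by group
        rw [h1, inv_mul_cancel]
      have hFp : ∀ g : G, (F g) ^ p = 1 := by
        intro g
        -- in the commutative group `V`
        have h1 : F g = (⟨z, hzV⟩ : ↥V)⁻¹ * cj g ⟨z, hzV⟩ := by
          apply Subtype.ext
          rfl
        rw [h1, mul_pow, inv_pow, ← map_pow]
        apply Subtype.ext
        show (z ^ p)⁻¹ * (g⁻¹ * (z ^ p) * g) = 1
        rw [mul_assoc, ← hzpc' g]
        group
      -- the averaged element
      set m : ℕ := (S : Subgroup G).index with hm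
      have hmcard : Fintype.card (G ⧸ (S : Subgroup G)) = m := by
        rw [hm, Subgroup.index, Nat.card_eq_fintype_card]
      have hmp : Nat.Coprime m p := by
        rw [Nat.coprime_comm, Nat.Prime.coprime_iff_not_dvd hp]
        exact S.not_dvd_index
      obtain ⟨m', -, hm'⟩ := Nat.exists_mul_mod_eq_one_of_coprime hmp hp.one_lt
      set u : ↥V := ∏ q : G ⧸ (S : Subgroup G), F ((Quotient.out q)⁻¹) with hu
      have hu_eq : ∀ k : G, u = (F k) ^ m * cj k u := by
        intro k
        have h1 : u = ∏ q : G ⧸ (S : Subgroup G), F ((Quotient.out (k⁻¹ • q))⁻¹) := by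
          rw [hu]
          exact (Equiv.prod_comp (MulAction.toPerm k⁻¹) (fun q : G ⧸ (S : Subgroup G) => F ((Quotient.out q)⁻¹))).symm
        have h2 : ∀ q : G ⧸ (S : Subgroup G), F ((Quotient.out (k⁻¹ • q))⁻¹) = F k * cj k (F ((Quotient.out q)⁻¹)) := by
          intro q
          have h3 : (k⁻¹ • q) = QuotientGroup.mk (k⁻¹ * q.out) := by
            conv_lhs => rw [← QuotientGroup.out_eq' q]
            rfl
          obtain ⟨s, hs⟩ := QuotientGroup.mk_out_eq_mul (S : Subgroup G) (k⁻¹ * q.out)
          rw [h3, hs]
          have h4 : (k⁻¹ * q.out * (s : G))⁻¹ = (s : G)⁻¹ * (q.out⁻¹ * k) := by group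
          rw [h4, hFS _ (inv_mem s.2), hFmul]
        have h5 : (∏ q : G ⧸ (S : Subgroup G), F ((Quotient.out (k⁻¹ • q))⁻¹)) = (F k) ^ m * cj k u := by
          rw [Finset.prod_congr rfl (fun q _ => h2 q), Finset.prod_mul_distrib, Finset.prod_const,
            Finset.card_univ, hmcard, ← map_prod]
        exact h1.trans h5
      -- `w`
      set w : ↥V := u ^ m' with hw
      have hFw : ∀ k : G, F k = w * (cj k w)⁻¹ := by
        intro k
        have h1 : (F k) ^ m = u * (cj k u)⁻¹ := by
          have := hu_eq k
          rw [eq_mul_inv_iff_mul_eq]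
          exact this.symm
        have h2 : (F k) ^ (m * m') = F k := by
          have h3 : m * m' = p * (m * m' / p) + 1 := by
            have := Nat.div_add_mod (m * m') p
            rw [hm'] at this
            exact this.symm
          rw [h3, pow_add, pow_mul, hFp, one_pow, one_mul, pow_one]
        rw [← h2, pow_mul, h1, mul_pow, inv_pow, ← map_pow]
      have hup : u ^ p = 1 := by
        rw [hu, ← Finset.prod_pow]
        exact Finset.prod_eq_one (fun q _ => hFp _)
      have hwp : w ^ p = 1 := by
        rw [hw, ← pow_mul, mul_comm, pow_mul, hup, one_pow]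
      have hwS : ∀ s ∈ (S : Subgroup G), s * (w : G) = (w : G) * s := by
        intro s hs
        have h1 := hFw s
        rw [hF1 s hs] at h1
        have h2 : cj s w = w := by
          have := mul_inv_eq_one.mp h1.symm
          exact this.symm
        have h3 : s⁻¹ * (w : G) * s = (w : G) := congrArg Subtype.val h2
        calc s * (w : G) = s * (s⁻¹ * (w : G) * s) := by rw [h3]
          _ = (w : G) * s := by group
      have hwc : (w : G) ∈ Subgroup.center G := by
        apply h (w : G) w.2 ?_ hwS
        have := congrArg Subtype.val hwp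
        simpa using this
      have hwc' : ∀ g : G, g * (w : G) = (w : G) * g := fun g => Subgroup.mem_center_iff.mp hwc g
      rw [Subgroup.mem_center_iff]
      intro g
      have h1 := hFw g
      have h2 : cj g w = w := by
        apply Subtype.ext
        show g⁻¹ * (w : G) * g = (w : G)
        rw [mul_assoc, ← hwc' g]
        group
      rw [h2, mul_inv_cancel] at h1
      have h3 : z⁻¹ * (g⁻¹ * z * g) = 1 := congrArg Subtype.val h1
      have h4 : g⁻¹ * z * g = z := by
        have := mul_eq_one_iff_eq_inv'.mp h3
        rw [this, inv_inv]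
      calc g * z = g * (g⁻¹ * z * g) := by rw [h4]
        _ = z * g := by group
  intro z hzV hzS
  exact main (orderOf z) z hzV rfl hzS

end Cfsg.Agent.Lib.Helper6.Bau
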