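import Mathlib
import Cfsg.Agent.Lib.Helper48.Bau.Defs

/-!
# Module [BAU-LIFT] for S2768-S2770 (helper48, board #3794)

From "Hypothesis E" (`C_G(O_p(G)) ≤ O_p(G)`, a unique maximal subgroup over the Sylow subgroup `S`)
and the rank-one facts about the Sylow subgroups of a quotient `G ⧸ K`, build the abstract
pushing-up context `Ctx p q S M (O_p(G))`.
-/

set_option autoImplicit false

namespace Cfsg.Agent.Lib.Helper6.Bau

open Cfsg.Agent.Lib.Helper48.Bau
open scoped Pointwise

section
variable {G : Type*} [Group G]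

theorem lift_pCore_normal (p : ℕ) : (Cfsg.pCore p G).Normal :=
  Subgroup.sSup_normal _ (fun _ h => h.1)

theorem lift_pCore_isPGroup (p : ℕ) : IsPGroup p (Cfsg.pCore p G) :=
  Sylow.sSup_of_normal _ (fun _ h => h.2) (fun _ h => h.1)

theorem lift_le_pCore {p : ℕ} {N : Subgroup G} (hN : N.Normal) (hp : IsPGroup p N) :
    N ≤ Cfsg.pCore p G :=
  le_sSup ⟨hN, hp⟩

theorem lift_pCore_le_sylow (p : ℕ) (P : Sylow p G) : Cfsg.pCore p G ≤ P :=
  haveI := lift_pCore_normal (G := G) p
  (lift_pCore_isPGroup p).le_sylow_of_normal P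

/-- conjugates of coatoms are coatoms -/
theorem lift_isCoatom_smul (g : G) {M : Subgroup G} (h : IsCoatom M) :
    IsCoatom (MulAut.conj g • M) := by
  have := (OrderIso.isCoatom_iff (MulEquiv.mapSubgroup (MulAut.conj g)) M).mpr h
  exact this

/-- if a Sylow subgroup is the whole group, it is the only one -/
theorem lift_sylow_eq_of_eq_top {p : ℕ} (P : Sylow p G) (hP : (P : Subgroup G) = ⊤)
    (P' : Sylow p G) : P' = P := by
  apply Sylow.ext
  have := P'.is_maximal' P.isPGroup' (by rw [hP]; exact le_top)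
  exact this.symm

/-- if a Sylow subgroup is normal, it is the only one -/
theorem lift_sylow_eq_of_normalizer_eq_top [Finite G] {p : ℕ} [Fact p.Prime] (P : Sylow p G)
    (hP : Subgroup.normalizer ((P : Subgroup G) : Set G) = ⊤)
    (P' : Sylow p G) : P' = P := by
  obtain ⟨g, hg⟩ := MulAction.exists_smul_eq G P P'
  rw [← hg, Sylow.smul_eq_iff_mem_normalizer]
  have : g ∈ Subgroup.normalizer ((P : Subgroup G) : Set G) := by rw [hP]; trivial
  exact this

/-- Frattini: if `gSg⁻¹ ≤ SK` then `g ∈ K N_G(S)` -/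
theorem lift_frattini [Finite G] {p : ℕ} [Fact p.Prime] (S : Sylow p G) (K : Subgroup G) [K.Normal]
    (g : G) (hg : ((g • S : Sylow p G) : Subgroup G) ≤ (S : Subgroup G) ⊔ K) :
    ∃ k ∈ K, ∃ n ∈ Subgroup.normalizer ((S : Subgroup G) : Set G), g = k * n := by
  have hS : (S : Subgroup G) ≤ (S : Subgroup G) ⊔ K := le_sup_left
  obtain ⟨l, hl⟩ := MulAction.exists_smul_eq ↥((S : Subgroup G) ⊔ K) (S.subtype hS)
    ((g • S).subtype hg)
  rw [Sylow.smul_subtype hS l] at hl
  have h1 : l • S = g • S := Sylow.subtype_injective hl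
  have h2 : ((l : G)⁻¹ * g) • S = S := by
    rw [mul_smul, ← h1]
    exact inv_smul_smul (l : G) S
  have h3 : (l : G)⁻¹ * g ∈ Subgroup.normalizer ((S : Subgroup G) : Set G) :=
    Sylow.smul_eq_iff_mem_normalizer.mp h2
  have h4 : (l : G) ∈ K ⊔ (S : Subgroup G) := by
    rw [sup_comm]; exact l.2
  rw [← SetLike.mem_coe, Subgroup.normal_mul] at h4
  obtain ⟨k, hk, s, hs, hks⟩ := h4
  refine ⟨k, hk, s * ((l : G)⁻¹ * g), ?_, ?_⟩
  · exact Subgroup.mul_mem _ (Subgroup.le_normalizer hs) h3
  · have hks' : k * s = (l : G) := hks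
    rw [← mul_assoc, hks']
    group

/-- Frattini for `S ⊓ K`, `K` normal: `N_G(S ⊓ K) K = G` -/
theorem lift_frattini_inf [Finite G] {p : ℕ} [Fact p.Prime] (S : Sylow p G) (K : Subgroup G)
    [K.Normal] :
    Subgroup.normalizer ((((S : Subgroup G) ⊓ K : Subgroup G)) : Set G) ⊔ K = ⊤ := by
  have hT : IsPGroup p ((S : Subgroup G).subgroupOf K) := S.isPGroup'.comap_subtype
  obtain ⟨PK, hPK⟩ := hT.exists_le_sylow
  set R : Subgroup G := (PK : Subgroup K).map K.subtype with hR
  have hRK : R ≤ K := Subgroup.map_subtype_le _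
  have hTR : (S : Subgroup G) ⊓ K ≤ R := by
    have := Subgroup.map_mono (f := K.subtype) hPK
    rwa [Subgroup.subgroupOf_map_subtype] at this
  have hRp : IsPGroup p R := PK.isPGroup'.map K.subtype
  obtain ⟨S', hS'⟩ := hRp.exists_le_sylow
  obtain ⟨g, hg⟩ := MulAction.exists_smul_eq G S S'
  have hR2 : R ≤ MulAut.conj g • ((S : Subgroup G) ⊓ K) := by
    rw [Subgroup.smul_inf, Subgroup.Normal.conj_smul_eq_self g K]
    refine le_inf ?_ hRK
    rw [← hg] at hS'
    exact hS'
  have hcard : Nat.card R ≤ Nat.card ((S : Subgroup G) ⊓ K : Subgroup G) := by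
    have h1 := Subgroup.card_le_of_le hR2
    have h2 : Nat.card (MulAut.conj g • ((S : Subgroup G) ⊓ K) : Subgroup G)
        = Nat.card ((S : Subgroup G) ⊓ K : Subgroup G) :=
      (Nat.card_congr (Subgroup.equivSMul (MulAut.conj g) ((S : Subgroup G) ⊓ K)).toEquiv).symm
    rw [h2] at h1
    exact h1
  have hReq : R = (S : Subgroup G) ⊓ K := (Subgroup.eq_of_le_of_card_ge hTR hcard).symm
  have := Sylow.normalizer_sup_eq_top PK
  rw [← hR, hReq] at this
  exact this

end

theorem ctx_of_quotient {G : Type*} [Group G] [Finite G] {p : ℕ} [Fact p.Prime] (S : Sylow p G)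
    (hE₁ : Subgroup.centralizer (Cfsg.pCore p G : Set G) ≤ Cfsg.pCore p G)
    (hE₂ : ∃! M : Subgroup G, IsCoatom M ∧ (S : Subgroup G) ≤ M)
    (K : Subgroup G) [K.Normal] (q : ℕ) (hq : 1 < q)
    (hfacts : ∀ P : Sylow p (G ⧸ K), Nat.card (P : Subgroup (G ⧸ K)) = q ∧ (∀ a ∈ (P : Subgroup (G ⧸ K)), ∀ b ∈ (P : Subgroup (G ⧸ K)), a * b = b * a) ∧ (∀ a ∈ (P : Subgroup (G ⧸ K)), a ^ p = 1) ∧ (∀ P' : Sylow p (G ⧸ K), P' ≠ P → ∀ a ∈ (P : Subgroup (G ⧸ K)), a ≠ 1 → Subgroup.closure (insert a ((P' : Subgroup (G ⧸ K)) : Set (G ⧸ K))) = ⊤) ∧ (∀ H : Subgroup (G ⧸ K), H ≤ (P : Subgroup (G ⧸ K)) → (∀ g ∈ Subgroup.normalizer ((P : Subgroup (G ⧸ K)) : Set (G ⧸ K)), ∀ h ∈ H, g * h * g⁻¹ ∈ H) → H = ⊥ ∨ H = (P : Subgroup (G ⧸ K))) ∧ (∃ P' : Sylow p (G ⧸ K), P' ≠ P)) :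
    ∃ M : Subgroup G, Ctx p q S M (Cfsg.pCore p G) := by
  classical
  obtain ⟨M, ⟨hMco, hSM⟩, hMuniq⟩ := hE₂
  have huniq : ∀ M' : Subgroup G, IsCoatom M' → (S : Subgroup G) ≤ M' → M' = M :=
    fun M' h1 h2 => hMuniq M' ⟨h1, h2⟩
  -- every proper subgroup containing S lies in M
  have hprop : ∀ N : Subgroup G, (S : Subgroup G) ≤ N → N ≠ ⊤ → N ≤ M := by
    intro N hSN hN
    obtain ⟨M', hM', hNM'⟩ := (eq_top_or_exists_le_coatom N).resolve_left hN
    rw [← huniq M' hM' (hSN.trans hNM')]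
    exact hNM'
  set π : G →* G ⧸ K := QuotientGroup.mk' K with hπ
  have hπs : Function.Surjective π := QuotientGroup.mk'_surjective K
  have hker : π.ker = K := QuotientGroup.ker_mk' K
  set Sb : Sylow p (G ⧸ K) := S.mapSurjective hπs with hSb
  have hSbcoe : (Sb : Subgroup (G ⧸ K)) = (S : Subgroup G).map π := rfl
  obtain ⟨f1, f2, f3, f4, f5, ⟨P0, hP0⟩⟩ := hfacts Sb
  set Q := Cfsg.pCore p G with hQ
  have hQn : Q.Normal := lift_pCore_normal p
  have hQp : IsPGroup p Q := lift_pCore_isPGroup p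
  have hQS : Q ≤ (S : Subgroup G) := lift_pCore_le_sylow p S
  -- N
  set N : Subgroup G :=
    (Subgroup.normalizer ((Sb : Subgroup (G ⧸ K)) : Set (G ⧸ K))).comap π with hN
  have hSN : (S : Subgroup G) ≤ N := by
    intro s hs
    rw [hN, Subgroup.mem_comap]
    apply Subgroup.le_normalizer
    exact Subgroup.mem_map_of_mem π hs
  have hKN : K ≤ N := by
    intro k hk
    rw [hN, Subgroup.mem_comap]
    have : π k = 1 := (QuotientGroup.eq_one_iff k).mpr hk
    rw [this]; exact Subgroup.one_mem _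
  have hNtop : N ≠ ⊤ := by
    intro h
    apply hP0
    apply lift_sylow_eq_of_normalizer_eq_top Sb
    rw [eq_top_iff]
    intro x _
    obtain ⟨g, rfl⟩ := hπs x
    have : g ∈ N := by rw [h]; trivial
    exact this
  have hNM : N ≤ M := hprop N hSN hNtop
  have hKM : K ≤ M := hKN.trans hNM
  -- Q ≤ K
  have hQK : Q ≤ K := by
    have h1 : (Q.map π).Normal := hQn.map π hπs
    have h2 : IsPGroup p (Q.map π) := hQp.map π
    have h3 : Q.map π = ⊥ := by
      rw [eq_bot_iff]
      intro a ha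
      rw [Subgroup.mem_bot]
      by_contra hne
      have haSb : a ∈ (Sb : Subgroup (G ⧸ K)) := h2.le_sylow_of_normal Sb ha
      have haP0 : a ∈ (P0 : Subgroup (G ⧸ K)) := h2.le_sylow_of_normal P0 ha
      have h4 := f4 P0 hP0 a haSb hne
      have h5 : Subgroup.closure (insert a ((P0 : Subgroup (G ⧸ K)) : Set (G ⧸ K))) ≤ P0 := by
        rw [Subgroup.closure_le]
        intro y hy
        rcases hy with rfl | hy
        · exact haP0
        · exact hy
      rw [h4] at h5
      have h6 : (P0 : Subgroup (G ⧸ K)) = ⊤ := top_le_iff.mp h5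
      exact hP0 (lift_sylow_eq_of_eq_top P0 h6 Sb).symm
    rw [← hker]
    exact (Subgroup.map_eq_bot_iff Q).mp h3
  -- S ⊓ K ≤ Q
  have hSKQ : (S : Subgroup G) ⊓ K ≤ Q := by
    have h1 := lift_frattini_inf S K
    have h2 : (S : Subgroup G) ≤
        Subgroup.normalizer ((((S : Subgroup G) ⊓ K : Subgroup G)) : Set G) := by
      rw [Subgroup.le_normalizer_iff]
      intro s hs k hk
      exact ⟨(S : Subgroup G).mul_mem ((S : Subgroup G).mul_mem hs hk.1) (inv_mem hs),
        (inferInstance : K.Normal).conj_mem k hk.2 s⟩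
    have h3 : Subgroup.normalizer ((((S : Subgroup G) ⊓ K : Subgroup G)) : Set G) = ⊤ := by
      by_contra hne
      have h4 := hprop _ h2 hne
      have h5 : (⊤ : Subgroup G) ≤ M := by rw [← h1]; exact sup_le h4 hKM
      exact hMco.1 (top_le_iff.mp h5)
    have h4 : ((S : Subgroup G) ⊓ K).Normal := Subgroup.normalizer_eq_top_iff.mp h3
    exact lift_le_pCore h4 (S.isPGroup'.to_le inf_le_left)
  have hQeq : Q = (S : Subgroup G) ⊓ K := le_antisymm (le_inf hQS hQK) hSKQ
  have hmemQ : ∀ x : G, x ∈ (S : Subgroup G) → π x = 1 → x ∈ Q := by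
    intro x hxS hx
    rw [hQeq]
    exact ⟨hxS, (QuotientGroup.eq_one_iff x).mp hx⟩
  refine ⟨M, ?_⟩
  refine
    { one_lt := hq
      coatom := hMco
      le := hSM
      uniq := huniq
      Q_normal := hQn
      Q_le := hQS
      cent := hE₁
      core := fun N hN hNp => lift_le_pCore hN hNp
      card := ?_
      comm := ?_
      pow := ?_
      gen := ?_
      irr := ?_ }
  · -- card
    have h1 : Nat.card Q * Q.relIndex (S : Subgroup G) = Nat.card (S : Subgroup G) := by
      have := Subgroup.relIndex_mul_relIndex (⊥ : Subgroup G) Q (S : Subgroup G) bot_le hQS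
      rwa [Subgroup.relIndex_bot_left, Subgroup.relIndex_bot_left] at this
    have h2 : Q.relIndex (S : Subgroup G) = q := by
      rw [hQeq, Subgroup.inf_relIndex_left, ← hker, Subgroup.relIndex_ker, ← hSbcoe, f1]
    rw [← h1, h2, mul_comm]
  · -- comm
    rw [Subgroup.commutator_le]
    intro a ha b hb
    apply hmemQ _ (Subgroup.commutator_mem_commutator ha hb |> fun h => ?_)
    · rw [map_commutatorElement, commutatorElement_eq_one_iff_mul_comm]
      exact f2 _ (Subgroup.mem_map_of_mem π ha) _ (Subgroup.mem_map_of_mem π hb)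
    · rw [commutatorElement_def]
      exact (S : Subgroup G).mul_mem ((S : Subgroup G).mul_mem ((S : Subgroup G).mul_mem ha hb)
        (inv_mem ha)) (inv_mem hb)
  · -- pow
    intro s hs
    apply hmemQ _ ((S : Subgroup G).pow_mem hs p)
    rw [map_pow]
    exact f3 _ (Subgroup.mem_map_of_mem π hs)
  · -- gen
    intro x hxM a haS haQ
    have ha1 : π a ≠ 1 := fun h => haQ (hmemQ a haS h)
    have hP' : (π x) • Sb ≠ Sb := by
      intro h
      rw [Sylow.smul_eq_iff_mem_normalizer] at h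
      exact hxM (hNM h)
    have h4 := f4 ((π x) • Sb) hP' (π a) (Subgroup.mem_map_of_mem π haS) ha1
    set Y : Subgroup G :=
      Subgroup.closure (insert a ((MulAut.conj x • (S : Subgroup G) : Subgroup G) : Set G)) with hY
    have hxSY : MulAut.conj x • (S : Subgroup G) ≤ Y := by
      intro y hy
      exact Subgroup.subset_closure (Set.mem_insert_of_mem _ hy)
    have h5 : Y.map π = ⊤ := by
      rw [eq_top_iff, ← h4, Subgroup.closure_le]
      intro y hy
      rcases hy with rfl | hy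
      · exact Subgroup.mem_map_of_mem π (Subgroup.subset_closure (Set.mem_insert _ _))
      · have hy' : y ∈ MulAut.conj (π x) • (Sb : Subgroup (G ⧸ K)) := hy
        rw [Subgroup.mem_pointwise_smul_iff_inv_smul_mem] at hy'
        obtain ⟨s, hs, hsy⟩ := hy'
        have hy2 : y = π (x * s * x⁻¹) := by
          have : y = MulAut.conj (π x) • ((MulAut.conj (π x))⁻¹ • y) := (smul_inv_smul _ _).symm
          rw [this, ← hsy]
          simp [MulAut.smul_def]
        rw [hy2]
        apply Subgroup.mem_map_of_mem π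
        apply hxSY
        rw [Subgroup.mem_pointwise_smul_iff_inv_smul_mem]
        have h0 : (MulAut.conj x)⁻¹ • (x * s * x⁻¹) = s := by
          simp [MulAut.smul_def, mul_assoc]
        rw [h0]
        exact hs
    have h6 : Y ⊔ K = ⊤ := by
      have := Subgroup.comap_map_eq π Y
      rw [h5, Subgroup.comap_top, hker] at this
      exact this.symm
    by_contra hYtop
    obtain ⟨M', hM', hYM'⟩ := (eq_top_or_exists_le_coatom Y).resolve_left hYtop
    have h7 : (S : Subgroup G) ≤ MulAut.conj x⁻¹ • M' := by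
      rw [← Subgroup.pointwise_smul_le_pointwise_smul_iff (a := MulAut.conj x), ← mul_smul, ← map_mul,
        mul_inv_cancel, map_one, one_smul]
      exact hxSY.trans hYM'
    have h8 : MulAut.conj x⁻¹ • M' = M := huniq _ (lift_isCoatom_smul x⁻¹ hM') h7
    have h9 : K ≤ M' := by
      have h91 : MulAut.conj x • K ≤ MulAut.conj x • (MulAut.conj x⁻¹ • M') := by
        rw [Subgroup.pointwise_smul_le_pointwise_smul_iff, h8]
        exact hKM
      rw [Subgroup.Normal.conj_smul_eq_self x K, ← mul_smul, ← map_mul, mul_inv_cancel, map_one,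
        one_smul] at h91
      exact h91
    have h10 : (⊤ : Subgroup G) ≤ M' := by rw [← h6]; exact sup_le hYM' h9
    exact hM'.1 (top_le_iff.mp h10)
  · -- irr
    intro H hQH hHS hinv
    have hHb : H.map π ≤ (Sb : Subgroup (G ⧸ K)) := Subgroup.map_mono hHS
    have hinvb : ∀ g ∈ Subgroup.normalizer ((Sb : Subgroup (G ⧸ K)) : Set (G ⧸ K)),
        ∀ h ∈ H.map π, g * h * g⁻¹ ∈ H.map π := by
      intro gb hgb hb hhb
      obtain ⟨g, rfl⟩ := hπs gb
      obtain ⟨h, hh, rfl⟩ := hhb
      -- `g • S ≤ S ⊔ K`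
      have hg : ((g • S : Sylow p G) : Subgroup G) ≤ (S : Subgroup G) ⊔ K := by
        intro y hy
        have hy' : y ∈ MulAut.conj g • (S : Subgroup G) := hy
        rw [Subgroup.mem_pointwise_smul_iff_inv_smul_mem] at hy'
        have h1 : π y ∈ (Sb : Subgroup (G ⧸ K)) := by
          have h2 : π ((MulAut.conj g)⁻¹ • y) ∈ (Sb : Subgroup (G ⧸ K)) :=
            Subgroup.mem_map_of_mem π hy'
          have h3 : π y = π g * π ((MulAut.conj g)⁻¹ • y) * (π g)⁻¹ := by
            simp [MulAut.smul_def, mul_assoc]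
          rw [h3]
          exact ((Subgroup.mem_normalizer_iff).mp hgb _).mp h2
        have h4 : y ∈ ((S : Subgroup G).map π).comap π := h1
        rw [Subgroup.comap_map_eq, hker] at h4
        exact h4
      obtain ⟨k, hk, n, hn, rfl⟩ := lift_frattini S K g hg
      have hk1 : π k = 1 := (QuotientGroup.eq_one_iff k).mpr hk
      have h5 : π (k * n) * π h * (π (k * n))⁻¹ = π (n * h * n⁻¹) := by
        rw [map_mul, hk1, one_mul, map_mul, map_mul, map_inv]
      rw [h5]
      apply Subgroup.mem_map_of_mem π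
      have h6 := hinv n hn
      rw [← h6, Subgroup.mem_pointwise_smul_iff_inv_smul_mem]
      have h0 : (MulAut.conj n)⁻¹ • (n * h * n⁻¹) = h := by
        simp [MulAut.smul_def, mul_assoc]
      rw [h0]
      exact hh
    rcases f5 (H.map π) hHb hinvb with hbot | htop
    · left
      apply le_antisymm ?_ hQH
      have h1 : H ≤ K := by
        rw [← hker]
        exact (Subgroup.map_eq_bot_iff H).mp hbot
      rw [hQeq]
      exact le_inf hHS h1
    · right
      apply le_antisymm hHS
      intro s hs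
      have h1 : π s ∈ H.map π := by
        rw [htop]
        exact Subgroup.mem_map_of_mem π hs
      obtain ⟨h, hh, hhs⟩ := h1
      have h2 : h⁻¹ * s ∈ Q := by
        apply hmemQ _ ((S : Subgroup G).mul_mem (inv_mem (hHS hh)) hs)
        rw [map_mul, map_inv, hhs, inv_mul_cancel]
      have h3 : s = h * (h⁻¹ * s) := by group
      rw [h3]
      exact H.mul_mem hh (hQH h2)

end Cfsg.Agent.Lib.Helper6.Bau
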