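import Mathlib
import Cfsg.Agent.Lib.Helper6.SzSol10

/-!
# Three facts on the Suzuki groups for project FL (helper6, for helper48)

Concrete versions in `Cfsg.Sz F m`, with the central translations `t0 hσ b`:
* an element commuting with a non-identity central translation fixes `∞`;
* the product of a central involution and a conjugate by an element moving `∞` has odd order;
* every non-identity element of odd order is inverted by a conjugate of a central translation.
-/

set_option autoImplicit false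
set_option linter.unusedSectionVars false

namespace Cfsg.Agent.Lib.Helper6.FL

open Cfsg Matrix MulAction Cfsg.Agent.Lib.Helper6

section Sz

variable {F : Type*} [Field F] [Fintype F] [CharP F 2] {m : ℕ}

variable (hσ : SgSq (F := F) m)

/-- the Weyl element is an involution -/
theorem wz_mul_wz : wz hσ * wz hσ = 1 := by
  apply Subtype.ext
  apply Subtype.ext
  show szWmat * szWmat = (1 : Matrix (Fin 4) (Fin 4) F)
  ext i j
  rw [Matrix.mul_apply, Fin.sum_univ_four]
  fin_cases i <;> fin_cases j <;> simp [szWmat]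

/-- an element commuting with a non-identity central translation fixes `∞`. -/
theorem fix_inf_of_commute_t0 {c : Sz F m} {b : F} (hb : b ≠ 0)
    (h : c * t0 hσ b = t0 hσ b * c) : c • ovInf F m = ovInf F m := by
  rw [smul_ovInf_iff]
  have h1 : c * t0 hσ b * c⁻¹ = t0 hσ b := by rw [h, mul_inv_cancel_right]
  have h2 : (c : SpecialLinearGroup (Fin 4) F) * szT m 0 b *
      (c : SpecialLinearGroup (Fin 4) F)⁻¹ = szT m 0 b := congrArg Subtype.val h1
  exact fix_inf_of_conj_szT hσ c.2 (fun hh => hb hh.2) h2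

/-- the stabiliser of `∞` normalises the group of central translations. -/
theorem conj_t0_of_fix_ovInf (hm : 1 ≤ m) (hF : Fintype.card F = 2 ^ (2 * m + 1)) {x : Sz F m}
    (hx : x • ovInf F m = ovInf F m) (d : F) : ∃ d' : F, x * t0 hσ d * x⁻¹ = t0 hσ d' := by
  obtain ⟨l, hl⟩ := conj_t0_of_fix_inf hσ hm hF ((smul_ovInf_iff x).mp hx)
  exact ⟨_, hl d⟩

include hσ in
/-- an involution of the Suzuki group fixes at most one point. -/
theorem involution_fix_unique (hm : 1 ≤ m) (hF : Fintype.card F = 2 ^ (2 * m + 1)) {z : Sz F m}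
    (hz1 : z ≠ 1) (hz2 : z * z = 1) {a b : suzukiOvoid F m} (ha : z • a = a) (hb : z • b = b) :
    a = b := by
  have hz : z ^ 2 ^ 1 = 1 := by rw [pow_one, pow_two, hz2]
  obtain ⟨g, hg⟩ := exists_conj_mem_szTsub hσ hm hF hz
  have hg1 : g * z * g⁻¹ ≠ 1 := conj_ne_one hz1
  have key : ∀ c : suzukiOvoid F m, z • c = c → g • c = ovInf F m := by
    intro c hc
    apply tsub_fix_only_inf hσ hg hg1
    rw [mul_smul, mul_smul, inv_smul_smul, hc]
  have := (key a ha).trans (key b hb).symm
  exact (MulAction.injective g) this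

/-- the product of a central involution and a conjugate not fixing `∞` has odd order. -/
theorem odd_orderOf_t0_mul_conj (hm : 1 ≤ m) (hF : Fintype.card F = 2 ^ (2 * m + 1)) {b : F}
    (hb : b ≠ 0) {k : Sz F m} (hk : k • ovInf F m ≠ ovInf F m) :
    Odd (orderOf (t0 hσ b * (k * t0 hσ b * k⁻¹))) := by
  set y := t0 hσ b with hy
  set y' := k * y * k⁻¹ with hy'
  have hyy : y * y = 1 := t0_mul_self hσ b
  have hyy' : y' * y' = 1 := by
    rw [hy']
    calc k * y * k⁻¹ * (k * y * k⁻¹) = k * (y * y) * k⁻¹ := by group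
      _ = 1 := by rw [hyy]; group
  rw [← Nat.not_even_iff_odd]
  intro heven
  obtain ⟨n, hn⟩ := heven
  have hn' : orderOf (y * y') = 2 * n := by rw [hn]; ring
  have hn0 : n ≠ 0 := by
    rintro rfl
    have hpos : 0 < orderOf (y * y') := orderOf_pos _
    omega
  obtain ⟨z, hz1, hz2, hzy, hzy'⟩ := exists_inv_commute_of_even hyy hyy' hn' hn0
  have hzinf : z • ovInf F m = ovInf F m := fix_inf_of_commute_t0 hσ hb hzy
  have hzk : z • (k • ovInf F m) = k • ovInf F m := by
    have hc : (k⁻¹ * z * k) * y = y * (k⁻¹ * z * k) := by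
      have h1 : z * (k * y * k⁻¹) = (k * y * k⁻¹) * z := hzy'
      calc k⁻¹ * z * k * y = k⁻¹ * (z * (k * y * k⁻¹)) * k := by group
        _ = k⁻¹ * ((k * y * k⁻¹) * z) * k := by rw [h1]
        _ = y * (k⁻¹ * z * k) := by group
    have h2 := fix_inf_of_commute_t0 hσ hb hc
    rw [mul_smul, mul_smul, inv_smul_eq_iff] at h2
    exact h2
  exact hk (involution_fix_unique hσ hm hF hz1 hz2 hzk hzinf)

include hσ in
/-- the normaliser of a torus contains an involution. -/
theorem exists_involution_normalizer (hm : 1 ≤ m) (hF : Fintype.card F = 2 ^ (2 * m + 1))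
    {h : Sz F m} (h1 : h ≠ 1) (hodd : ¬ 2 ∣ orderOf h) :
    ∃ s : Sz F m, s ≠ 1 ∧ s * s = 1 ∧ s * h * s⁻¹ = h⁻¹ := by
  rcases fpf_or_two_fixed hm hF h1 hodd with hfpf | ⟨a, b, hab, hha, hhb, -⟩
  · -- fixed-point-free: the normaliser of the centraliser has order `4 |C(h)|`
    have hU := isSzTorus_of_fpf hm hF hfpf
    have hcardN := (card_of_fpf hm hF hfpf).2
    set N := Subgroup.normalizer ((Subgroup.centralizer ({h} : Set (Sz F m)) :
      Subgroup (Sz F m)) : Set (Sz F m)) with hN
    have h2 : 2 ∣ Nat.card N := by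
      rw [hcardN]
      exact Dvd.dvd.mul_right (by norm_num) _
    have : Fact (Nat.Prime 2) := ⟨Nat.prime_two⟩
    obtain ⟨s, hs⟩ := exists_prime_orderOf_dvd_card' 2 h2
    have hs1 : (s : Sz F m) ≠ 1 := by
      intro h0
      have : s = 1 := Subtype.ext h0
      rw [this, orderOf_one] at hs
      norm_num at hs
    have hs2 : (s : Sz F m) * s = 1 := by
      have := pow_orderOf_eq_one s
      rw [hs, pow_two] at this
      exact congrArg Subtype.val this
    exact ⟨s, hs1, hs2, hU.inv_of_involution s.2 hs1 hs2 (self_mem_centralizer h)⟩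
  · -- two fixed points: an involution interchanging them
    obtain ⟨hU, -⟩ := isSzTorus_twoPt hm hF hab
    obtain ⟨g, hga, hgb⟩ := ov_exists_map hσ a b hab
    set s : Sz F m := g⁻¹ * wz hσ * g with hs
    have hsa : s • a = b := by
      rw [hs, mul_smul, mul_smul, hga, wz_smul_inf, inv_smul_eq_iff, hgb]
    have hsb : s • b = a := by
      rw [hs, mul_smul, mul_smul, hgb, wz_smul_zero, inv_smul_eq_iff, hga]
    have hs1 : s ≠ 1 := by
      intro h0
      rw [h0, one_smul] at hsa
      exact hab hsa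
    have hs2 : s * s = 1 := by
      rw [hs]
      calc g⁻¹ * wz hσ * g * (g⁻¹ * wz hσ * g) = g⁻¹ * (wz hσ * wz hσ) * g := by group
        _ = 1 := by rw [wz_mul_wz]; group
    have hsN : s ∈ Subgroup.normalizer ((twoPt a b : Subgroup (Sz F m)) : Set (Sz F m)) := by
      rw [mem_normalizer_twoPt hm hF hab]
      exact Or.inr ⟨hsa, hsb⟩
    exact ⟨s, hs1, hs2, hU.inv_of_involution hsN hs1 hs2 (mem_twoPt.mpr ⟨hha, hhb⟩)⟩

/-- every non-identity element of odd order is inverted by a conjugate of a central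
translation. -/
theorem exists_t0_conj_inverts (hm : 1 ≤ m) (hF : Fintype.card F = 2 ^ (2 * m + 1))
    {h : Sz F m} (h1 : h ≠ 1) (hodd : ¬ 2 ∣ orderOf h) :
    ∃ k : Sz F m, ∃ b : F, b ≠ 0 ∧
      (k * t0 hσ b * k⁻¹) * h * (k * t0 hσ b * k⁻¹)⁻¹ = h⁻¹ := by
  obtain ⟨s, hs1, hs2, hsh⟩ := exists_involution_normalizer hσ hm hF h1 hodd
  have hz : s ^ 2 ^ 1 = 1 := by rw [pow_one, pow_two, hs2]
  obtain ⟨g, hg⟩ := exists_conj_mem_szTsub hσ hm hF hz
  have hg2 : (g * s * g⁻¹) * (g * s * g⁻¹) = 1 := by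
    calc g * s * g⁻¹ * (g * s * g⁻¹) = g * (s * s) * g⁻¹ := by group
      _ = 1 := by rw [hs2]; group
  obtain ⟨b, hb⟩ := eq_t0_of_mul_self hσ hg hg2
  have hb0 : b ≠ 0 := by
    rintro rfl
    rw [t0_zero] at hb
    exact conj_ne_one hs1 hb
  have hs : g⁻¹ * t0 hσ b * g⁻¹⁻¹ = s := by
    rw [← hb]; group
  exact ⟨g⁻¹, b, hb0, by rw [hs]; exact hsh⟩

end Sz

end Cfsg.Agent.Lib.Helper6.FL
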