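import Mathlib
import Cfsg.Agent.Lib.Helper48.FL.Defs
import Cfsg.Agent.Lib.Helper48.FrakLSz
import Cfsg.Agent.Lib.Helper6.FLSzConc
import Cfsg.Prelude.Def_Sz

/-!
# Project FL (S2863), module FL-[SZFACTS] (helper6, for helper48)

The three facts on the Suzuki groups needed in the Suzuki case, for the abstract data `LQuot 2 Yh R`
in a group `K ≃* Lie.Sz F (2^(m+1))` with `|Yh| = |F|`.
-/

set_option autoImplicit false

namespace Cfsg.Agent.Lib.Helper6.FL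

open Cfsg Cfsg.Agent.Lib.Helper48 Cfsg.Agent.Lib.Helper48.FL Cfsg.Agent.Lib.Helper6

universe u

/-- the three facts, as a predicate on a pair of subgroups. -/
def SzFacts {K : Type*} [Group K] (Yh R : Subgroup K) : Prop :=
  (∀ y ∈ Yh, y ≠ 1 → ∀ c : K, c * y = y * c → c ∈ R) ∧
  (∀ y ∈ Yh, y ≠ 1 → ∀ k : K, k ∉ R → Odd (orderOf (y * (k * y * k⁻¹)))) ∧
  (∀ h : K, h ≠ 1 → Odd (orderOf h) →
    ∃ k : K, ∃ y ∈ Yh, y ≠ 1 ∧ (k * y * k⁻¹) * h * (k * y * k⁻¹)⁻¹ = h⁻¹)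

/-- the facts transport back along an isomorphism. -/
theorem SzFacts.of_map {K K' : Type*} [Group K] [Group K'] (φ : K ≃* K') {Yh R : Subgroup K}
    (h : SzFacts (Yh.map φ.toMonoidHom) (R.map φ.toMonoidHom)) : SzFacts Yh R := by
  obtain ⟨F1, F2, F3⟩ := h
  have hne : ∀ x : K, x ≠ 1 → φ x ≠ 1 := fun x hx h0 =>
    hx (φ.injective (h0.trans (map_one φ).symm))
  have hmemR : ∀ x : K, φ x ∈ R.map φ.toMonoidHom → x ∈ R := by
    rintro x ⟨r, hr, hrx⟩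
    have : r = x := φ.injective hrx
    rw [← this]; exact hr
  refine ⟨?_, ?_, ?_⟩
  · intro y hy hy1 c hc
    apply hmemR
    apply F1 (φ y) ⟨y, hy, rfl⟩ (hne y hy1) (φ c)
    rw [← map_mul, ← map_mul, hc]
  · intro y hy hy1 k hk
    have h1 := F2 (φ y) ⟨y, hy, rfl⟩ (hne y hy1) (φ k) (fun hh => hk (hmemR k hh))
    have e1 : φ y * (φ k * φ y * (φ k)⁻¹) = φ (y * (k * y * k⁻¹)) := by
      simp only [map_mul, map_inv]
    rw [e1, MulEquiv.orderOf_eq] at h1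
    exact h1
  · intro x hx1 hodd
    have hodd' : Odd (orderOf (φ x)) := by rw [MulEquiv.orderOf_eq]; exact hodd
    obtain ⟨k', y', ⟨y, hy, rfl⟩, hy1, hinv⟩ := F3 (φ x) (hne x hx1) hodd'
    refine ⟨φ.symm k', y, hy, ?_, ?_⟩
    · rintro rfl
      exact hy1 (map_one φ)
    · apply φ.injective
      simp only [map_mul, map_inv, MulEquiv.apply_symm_apply]
      exact hinv

section Sz

variable {F : Type*} [Field F] [Fintype F] [CharP F 2] {m : ℕ}

/-- the facts in the ovoid model, in standard position. -/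
theorem szFacts_szT0 (hm : 1 ≤ m) (hF : Fintype.card F = 2 ^ (2 * m + 1)) (hσ : SgSq (F := F) m)
    {Yh R : Subgroup (Sz F m)} (h : LQuot 2 Yh R) (hY : Yh ≤ szTsub hσ)
    (hcard : Nat.card Yh = Fintype.card F) : SzFacts Yh R := by
  have hfin : Finite (Sz F m) := inferInstance
  have hYZ : Yh = szZsub hσ := by
    apply Subgroup.eq_of_le_of_card_ge (le_szZsub hσ h.ea hY)
    rw [card_szZsub, hcard]
  have hR := h.R_eq
  -- the stabiliser of `∞` lies in `R`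
  have hstab : ∀ x : Sz F m, x • ovInf F m = ovInf F m → x ∈ R := by
    intro x hx
    rw [hR, hYZ]
    apply Subgroup.mem_normalizer_fintype
    rintro _ ⟨d, rfl⟩
    obtain ⟨d', hd'⟩ := conj_t0_of_fix_ovInf hσ hm hF hx d
    exact ⟨d', hd'.symm⟩
  have hform : ∀ y ∈ Yh, y ≠ 1 → ∃ b : F, b ≠ 0 ∧ y = t0 hσ b := by
    intro y hy hy1
    rw [hYZ] at hy
    obtain ⟨b, rfl⟩ := hy
    refine ⟨b, ?_, rfl⟩
    rintro rfl
    exact hy1 (t0_zero hσ)
  refine ⟨?_, ?_, ?_⟩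
  · intro y hy hy1 c hc
    obtain ⟨b, hb, rfl⟩ := hform y hy hy1
    exact hstab c (fix_inf_of_commute_t0 hσ hb hc)
  · intro y hy hy1 k hk
    obtain ⟨b, hb, rfl⟩ := hform y hy hy1
    exact odd_orderOf_t0_mul_conj hσ hm hF hb (fun hh => hk (hstab k hh))
  · intro x hx1 hodd
    have hodd' : ¬ 2 ∣ orderOf x := by
      rw [← even_iff_two_dvd, Nat.not_even_iff_odd]; exact hodd
    obtain ⟨k, b, hb, hinv⟩ := exists_t0_conj_inverts hσ hm hF hx1 hodd'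
    refine ⟨k, t0 hσ b, ?_, ?_, hinv⟩
    · rw [hYZ]; exact ⟨b, rfl⟩
    · intro h0
      exact hb ((t0_eq_one_iff hσ).mp h0)

end Sz

/-- FL-[SZFACTS] -/
theorem sz_facts {K : Type u} [Group K] {F : Type} [Field F] [Fintype F] {m : ℕ} (hm : 1 ≤ m)
    (hF : Fintype.card F = 2 ^ (2 * m + 1)) (e : K ≃* ↥(Cfsg.Lie.Sz F (2 ^ (m + 1))))
    {Yh R : Subgroup K} (hQ : LQuot 2 Yh R) (hcard : Nat.card Yh = Fintype.card F) :
    (∀ y ∈ Yh, y ≠ 1 → ∀ c : K, c * y = y * c → c ∈ R) ∧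
    (∀ y ∈ Yh, y ≠ 1 → ∀ k : K, k ∉ R → Odd (orderOf (y * (k * y * k⁻¹)))) ∧
    (∀ h : K, h ≠ 1 → Odd (orderOf h) →
      ∃ k : K, ∃ y ∈ Yh, y ≠ 1 ∧ (k * y * k⁻¹) * h * (k * y * k⁻¹)⁻¹ = h⁻¹) := by
  have hchar := sz_charP hF
  have hσ : SgSq (F := F) m := sgSq_of_card m hF
  let e' : K ≃* ↥(Cfsg.Sz F m) := e.trans (Cfsg.Agent.Lib.Helper95.szIso hm hF).symm
  have h' := hQ.map e'
  have hcard' : Nat.card (Yh.map e'.toMonoidHom) = Fintype.card F := by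
    rw [Subgroup.card_map_of_injective e'.injective, hcard]
  obtain ⟨g, hg⟩ := exists_conj_le_szTsub hσ hm hF
    (Cfsg.Agent.Lib.Helper47.IsElementaryAbelian.isPGroup h'.ea)
  let e₂ : ↥(Cfsg.Sz F m) ≃* ↥(Cfsg.Sz F m) := MulAut.conj g
  have h'' := h'.map e₂
  have hle : (Yh.map e'.toMonoidHom).map e₂.toMonoidHom ≤ szTsub hσ := by
    rintro _ ⟨y, hy, rfl⟩
    exact hg y hy
  have hcard'' : Nat.card ((Yh.map e'.toMonoidHom).map e₂.toMonoidHom) = Fintype.card F := by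
    rw [Subgroup.card_map_of_injective e₂.injective, hcard']
  have c1 := szFacts_szT0 hm hF hσ h'' hle hcard''
  exact SzFacts.of_map e' (SzFacts.of_map e₂ c1)

end Cfsg.Agent.Lib.Helper6.FL
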