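import Mathlib

/-!
# A field from a commutative half-transitive linear group (helper6)

Let the commutative group `X` act on the finite abelian group `V` by automorphisms, freely on the
non-zero elements, with `2 |X| + 1 = |V|`.  Then the centraliser ring `C` of `X` in `End V` is a
finite field, `V` is one-dimensional over `C`, and `X` acts as the multiplications by the non-zero
squares of `C`.
-/

set_option autoImplicit false
set_option linter.unusedSectionVars false
set_option linter.style.haveILetI false

universe u v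

namespace Cfsg.Agent.Lib.Helper6.ZassPSL

section HalfTransitive

variable {X : Type u} {V : Type v} [Group X] [AddCommGroup V]

/-- the centraliser ring of the image of `ρ` -/
def hcRing (ρ : X →* AddMonoid.End V) : Subring (AddMonoid.End V) :=
  Subring.centralizer (Set.range ρ)

theorem mem_hcRing {ρ : X →* AddMonoid.End V} {r : AddMonoid.End V} :
    r ∈ hcRing ρ ↔ ∀ (x : X) (v : V), ρ x (r v) = r (ρ x v) := by
  unfold hcRing
  rw [Subring.mem_centralizer_iff]
  constructor
  · intro h x v
    have := h (ρ x) ⟨x, rfl⟩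
    exact DFunLike.congr_fun this v
  · rintro h _ ⟨x, rfl⟩
    ext v
    exact h x v

theorem rho_mem_hcRing {ρ : X →* AddMonoid.End V} (hcomm : ∀ x y : X, x * y = y * x) (x : X) :
    ρ x ∈ hcRing ρ := by
  rw [mem_hcRing]
  intro y v
  show (ρ y * ρ x) v = (ρ x * ρ y) v
  rw [← map_mul, ← map_mul, hcomm]

theorem rho_inv_apply (ρ : X →* AddMonoid.End V) (x : X) (v : V) : ρ x⁻¹ (ρ x v) = v := by
  show (ρ x⁻¹ * ρ x) v = v
  rw [← map_mul, inv_mul_cancel, map_one]
  rfl

theorem rho_eq_of_apply_eq {ρ : X →* AddMonoid.End V}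
    (hfree : ∀ (x : X) (v : V), v ≠ 0 → ρ x v = v → x = 1) {x y : X} {w : V} (hw : w ≠ 0)
    (h : ρ x w = ρ y w) : x = y := by
  have h1 : ρ (y⁻¹ * x) w = w := by
    rw [map_mul]
    show ρ y⁻¹ (ρ x w) = w
    rw [h, rho_inv_apply]
  have := hfree _ w hw h1
  exact (inv_mul_eq_one.mp this).symm

theorem rho_apply_ne_zero (ρ : X →* AddMonoid.End V) (x : X) {w : V} (hw : w ≠ 0) : ρ x w ≠ 0 := by
  intro h
  apply hw
  rw [← rho_inv_apply ρ x w, h, map_zero]

/-- an invariant subgroup is trivial or everything -/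
theorem invariant_eq_bot_or_top [Finite X] [Finite V] {ρ : X →* AddMonoid.End V}
    (hfree : ∀ (x : X) (v : V), v ≠ 0 → ρ x v = v → x = 1)
    (hcard : 2 * Nat.card X + 1 = Nat.card V) (W : AddSubgroup V)
    (hW : ∀ (x : X), ∀ w ∈ W, ρ x w ∈ W) : W = ⊥ ∨ W = ⊤ := by
  by_cases hbot : W = ⊥
  · exact Or.inl hbot
  right
  obtain ⟨w, hwW, hw0⟩ := (W.bot_or_exists_ne_zero).resolve_left hbot
  -- an injection `Option X → W`
  let f : Option X → W := fun o => match o with
    | none => 0
    | some x => ⟨ρ x w, hW x w hwW⟩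
  have hf : Function.Injective f := by
    intro o₁ o₂ h
    cases o₁ with
    | none =>
      cases o₂ with
      | none => rfl
      | some y =>
        exfalso
        have : (0 : V) = ρ y w := congrArg Subtype.val h
        exact rho_apply_ne_zero ρ y hw0 this.symm
    | some x =>
      cases o₂ with
      | none =>
        exfalso
        have : ρ x w = (0 : V) := congrArg Subtype.val h
        exact rho_apply_ne_zero ρ x hw0 this
      | some y =>
        have : ρ x w = ρ y w := congrArg Subtype.val h
        rw [rho_eq_of_apply_eq hfree hw0 this]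
  have h1 : Nat.card X + 1 ≤ Nat.card W := by
    have := Nat.card_le_card_of_injective f hf
    rwa [Finite.card_option] at this
  have hdvd : Nat.card W ∣ Nat.card V := AddSubgroup.card_addSubgroup_dvd_card W
  obtain ⟨m, hm⟩ := hdvd
  have hm1 : m = 1 := by
    rcases Nat.lt_or_ge m 2 with h | h
    · interval_cases m
      · rw [mul_zero] at hm
        omega
      · rfl
    · exfalso
      have : Nat.card W * 2 ≤ Nat.card W * m := Nat.mul_le_mul_left _ h
      omega
  rw [hm1, mul_one] at hm
  exact AddSubgroup.card_eq_iff_eq_top W |>.mp hm.symm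

/-- the main construction -/
theorem exists_field_of_half_transitive [Finite X] [Finite V] (ρ : X →* AddMonoid.End V)
    (hcomm : ∀ x y : X, x * y = y * x)
    (hfree : ∀ (x : X) (v : V), v ≠ 0 → ρ x v = v → x = 1)
    (hcard : 2 * Nat.card X + 1 = Nat.card V) (v₁ : V) (hv₁ : v₁ ≠ 0) :
    ∃ (C : Type v) (_ : Field C) (_ : Fintype C) (e : C ≃+ V), e 1 = v₁ ∧
      Fintype.card C = Nat.card V ∧
      (∀ x : X, ∃ s : C, s ≠ 0 ∧ IsSquare s ∧ ∀ c, e (s * c) = ρ x (e c)) ∧
      (∀ s : C, s ≠ 0 → IsSquare s → ∃ x : X, ∀ c, e (s * c) = ρ x (e c)) := by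
  classical
  -- kernel lemma
  have hker : ∀ r ∈ hcRing ρ, ∀ v : V, v ≠ 0 → r v = 0 → r = 0 := by
    intro r hr v hv hrv
    let Kr : AddSubgroup V :=
      { carrier := {w | r w = 0}
        zero_mem' := map_zero r
        add_mem' := fun {a b} ha hb => by
          show r (a + b) = 0
          rw [map_add, show r a = 0 from ha, show r b = 0 from hb, add_zero]
        neg_mem' := fun {a} ha => by
          show r (-a) = 0
          rw [map_neg, show r a = 0 from ha, neg_zero] }
    have hKr : ∀ w, w ∈ Kr ↔ r w = 0 := fun w => Iff.rfl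
    have hinv : ∀ x : X, ∀ w ∈ Kr, ρ x w ∈ Kr := by
      intro x w hw
      rw [hKr] at hw ⊢
      rw [← (mem_hcRing.mp hr) x w, hw, map_zero]
    rcases invariant_eq_bot_or_top hfree hcard _ hinv with h | h
    · exfalso
      have : v ∈ Kr := hrv
      rw [h, AddSubgroup.mem_bot] at this
      exact hv this
    · ext w
      have : w ∈ Kr := by rw [h]; trivial
      exact this
  haveI : Nontrivial (hcRing ρ) := ⟨⟨0, 1, fun h01 => hv₁ (by
    have : ((0 : hcRing ρ) : AddMonoid.End V) v₁ = ((1 : hcRing ρ) : AddMonoid.End V) v₁ := by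
      rw [h01]
    exact this.symm)⟩⟩
  haveI : NoZeroDivisors (hcRing ρ) := ⟨fun {a b} hab => by
    by_cases hb : b = 0
    · exact Or.inr hb
    left
    have hbv : (b : AddMonoid.End V) v₁ ≠ 0 := fun h => hb (Subtype.ext (hker b b.2 v₁ hv₁ h))
    apply Subtype.ext
    apply hker a a.2 _ hbv
    have h1 : ((a * b : hcRing ρ) : AddMonoid.End V) v₁ = ((0 : hcRing ρ) : AddMonoid.End V) v₁ := by
      rw [hab]
    exact h1⟩
  haveI : IsDomain (hcRing ρ) := NoZeroDivisors.to_isDomain _
  haveI : Finite (AddMonoid.End V) := DFunLike.finite (V →+ V)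
  haveI : Finite (hcRing ρ) := Subtype.finite
  letI : Fintype (hcRing ρ) := Fintype.ofFinite _
  letI : DivisionRing (hcRing ρ) := Fintype.divisionRingOfIsDomain _
  letI : Field (hcRing ρ) := littleWedderburn _
  -- evaluation at `v₁`
  let ev : hcRing ρ →+ V :=
    { toFun := fun r => (r : AddMonoid.End V) v₁
      map_zero' := rfl
      map_add' := fun r s => rfl }
  have hev_inj : Function.Injective ev := by
    intro r s hrs
    have hmem : (r : AddMonoid.End V) - s ∈ hcRing ρ := (hcRing ρ).sub_mem r.2 s.2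
    have h0 : ((r : AddMonoid.End V) - s) v₁ = 0 := by
      show (r : AddMonoid.End V) v₁ - (s : AddMonoid.End V) v₁ = 0
      rw [sub_eq_zero]
      exact hrs
    exact Subtype.ext (sub_eq_zero.mp (hker _ hmem v₁ hv₁ h0))
  have hev_surj : Function.Surjective ev := by
    have hinv : ∀ x : X, ∀ w ∈ ev.range, ρ x w ∈ ev.range := by
      rintro x _ ⟨r, rfl⟩
      refine ⟨⟨ρ x * r, (hcRing ρ).mul_mem (rho_mem_hcRing hcomm x) r.2⟩, rfl⟩
    rcases invariant_eq_bot_or_top hfree hcard _ hinv with h | h
    · exfalso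
      have : v₁ ∈ ev.range := ⟨1, rfl⟩
      rw [h, AddSubgroup.mem_bot] at this
      exact hv₁ this
    · intro w
      have : w ∈ ev.range := by rw [h]; trivial
      exact this
  let e : hcRing ρ ≃+ V := AddEquiv.ofBijective ev ⟨hev_inj, hev_surj⟩
  have he : ∀ r : hcRing ρ, e r = (r : AddMonoid.End V) v₁ := fun r => rfl
  have hcardC : Fintype.card (hcRing ρ) = Nat.card V := by
    rw [← Nat.card_eq_fintype_card]
    exact Nat.card_congr e.toEquiv
  have hoddC : Fintype.card (hcRing ρ) % 2 = 1 := by rw [hcardC, ← hcard]; omega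
  have hF : ringChar (hcRing ρ) ≠ 2 := by
    intro h
    have := FiniteField.even_card_of_char_two h
    omega
  have hhalf : Fintype.card (hcRing ρ) / 2 = Nat.card X := by rw [hcardC, ← hcard]; omega
  -- the elements of `X` in `C`
  let σ : X → hcRing ρ := fun x => ⟨ρ x, rho_mem_hcRing hcomm x⟩
  have hσmul : ∀ x (c : hcRing ρ), e (σ x * c) = ρ x (e c) := fun x c => rfl
  have hσne : ∀ x, σ x ≠ 0 := by
    intro x h
    have : ρ x v₁ = 0 := by
      have := congrArg (fun r : hcRing ρ => (r : AddMonoid.End V) v₁) h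
      exact this
    exact rho_apply_ne_zero ρ x hv₁ this
  have hσpow : ∀ x (n : ℕ), σ x ^ n = σ (x ^ n) := by
    intro x n
    apply Subtype.ext
    show ((σ x ^ n : hcRing ρ) : AddMonoid.End V) = ρ (x ^ n)
    rw [map_pow]
    rfl
  have hσone : σ 1 = 1 := by
    apply Subtype.ext
    show ρ 1 = 1
    exact map_one ρ
  have hσroot : ∀ x, σ x ^ Nat.card X = 1 := by
    intro x
    rw [hσpow, pow_card_eq_one', hσone]
  have hσinj : Function.Injective σ := by
    intro x y h
    apply rho_eq_of_apply_eq hfree hv₁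
    have := congrArg (fun r : hcRing ρ => (r : AddMonoid.End V) v₁) h
    exact this
  refine ⟨hcRing ρ, inferInstance, inferInstance, e, ?_, hcardC, ?_, ?_⟩
  · rfl
  · intro x
    refine ⟨σ x, hσne x, ?_, hσmul x⟩
    rw [FiniteField.isSquare_iff hF (hσne x), hhalf]
    exact hσroot x
  · intro s hs hsq
    rw [FiniteField.isSquare_iff hF hs, hhalf] at hsq
    have hnpos : 0 < Nat.card X := Nat.card_pos
    -- counting roots of unity
    letI : Fintype X := Fintype.ofFinite X
    have hsub : Finset.univ.image σ ⊆ Polynomial.nthRootsFinset (Nat.card X) (1 : hcRing ρ) := by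
      intro r hr
      rw [Finset.mem_image] at hr
      obtain ⟨x, -, rfl⟩ := hr
      rw [Polynomial.mem_nthRootsFinset hnpos]
      exact hσroot x
    have hle : (Polynomial.nthRootsFinset (Nat.card X) (1 : hcRing ρ)).card ≤
        (Finset.univ.image σ).card := by
      rw [Finset.card_image_of_injective _ hσinj, Finset.card_univ, ← Nat.card_eq_fintype_card,
        Polynomial.nthRootsFinset_def]
      exact (Multiset.toFinset_card_le _).trans (Polynomial.card_nthRoots _ _)
    have heq := Finset.eq_of_subset_of_card_le hsub hle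
    have hmem : s ∈ Polynomial.nthRootsFinset (Nat.card X) (1 : hcRing ρ) := by
      rw [Polynomial.mem_nthRootsFinset hnpos]
      exact hsq
    rw [← heq, Finset.mem_image] at hmem
    obtain ⟨x, -, rfl⟩ := hmem
    exact ⟨x, hσmul x⟩

end HalfTransitive

end Cfsg.Agent.Lib.Helper6.ZassPSL
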