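import Mathlib
import Cfsg.Agent.Lib.Helper59.MoebiusBasic
import Cfsg.Agent.Lib.Helper5.PSL2Small

/-!
# Recognising `PSL₂(F)` as a group of Möbius transformations (helper6)
-/

set_option autoImplicit false
set_option linter.unusedSectionVars false
set_option linter.style.haveILetI false

namespace Cfsg.Agent.Lib.Helper6.ZassPSL

open Matrix Projectivization Cfsg.Agent.Lib.Helper59
open scoped MatrixGroups LinearAlgebra.Projectivization

section Range

variable {F : Type*} [Field F]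

/-- the image of `PSL₂` in `PGL₂` -/
noncomputable def pslRange (F : Type*) [Field F] : Subgroup PGL(Fin 2, F) :=
  (Matrix.ProjectiveSpecialLinearGroup.toPGL (n := Fin 2) (R := F)).range

/-- an element of `PGL₂` with square determinant comes from `PSL₂` -/
theorem mk_mem_pslRange (g : GL (Fin 2) F) (r : F) (hr : r ≠ 0)
    (h : (g : Matrix (Fin 2) (Fin 2) F).det = r * r) :
    Matrix.ProjGenLinGroup.mk g ∈ pslRange F := by
  have hdet : (r⁻¹ • (g : Matrix (Fin 2) (Fin 2) F)).det = 1 := by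
    rw [Matrix.det_smul, Fintype.card_fin, h]
    field_simp
  let g' : Matrix.SpecialLinearGroup (Fin 2) F := ⟨r⁻¹ • (g : Matrix (Fin 2) (Fin 2) F), hdet⟩
  have hg' : (g' : Matrix (Fin 2) (Fin 2) F) = r⁻¹ • (g : Matrix (Fin 2) (Fin 2) F) := rfl
  refine ⟨QuotientGroup.mk g', ?_⟩
  show Matrix.ProjGenLinGroup.mk (Matrix.SpecialLinearGroup.toGL g') = _
  rw [Matrix.ProjGenLinGroup.mk_eq_mk_iff]
  refine ⟨Units.mk0 r hr, ?_⟩
  apply Units.ext
  rw [Units.val_mul, Matrix.SpecialLinearGroup.coe_GL_coe_matrix,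
    Matrix.GeneralLinearGroup.coe_scalar, hg']
  ext i j
  rw [Matrix.mul_apply, Fin.sum_univ_two]
  fin_cases i <;> fin_cases j <;> simp [Matrix.scalar_apply, Matrix.diagonal_apply] <;> field_simp

theorem affPGL_mem_pslRange (r b : F) (hr : r ≠ 0) :
    affPGL (r * r) b (mul_ne_zero hr hr) ∈ pslRange F := by
  unfold affPGL
  apply mk_mem_pslRange _ r hr
  show (!![r * r, b; 0, 1] : Matrix (Fin 2) (Fin 2) F).det = r * r
  rw [affMat_det]

theorem swapPGL_mem_pslRange (j : F) (hj : j * j = -1) : swapPGL F ∈ pslRange F := by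
  unfold swapPGL
  have hj0 : j ≠ 0 := by
    intro h
    rw [h, mul_zero] at hj
    exact one_ne_zero (neg_eq_zero.mp hj.symm)
  apply mk_mem_pslRange _ j hj0
  show (!![0, 1; 1, 0] : Matrix (Fin 2) (Fin 2) F).det = j * j
  rw [Matrix.det_fin_two_of, hj]
  ring

end Range

section Recog

variable {F : Type*} [Field F] {G Ω : Type*} [Group G] [MulAction G Ω]

/-- `g` acts on `Ω ≃ ℙ¹(F)` as an element of `PSL₂(F)` -/
def ActsPSL (ε : Ω ≃ ℙ F (Fin 2 → F)) (g : G) : Prop :=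
  ∃ m ∈ pslRange F, ∀ x : Ω, ε (g • x) = m • ε x

theorem actsPSL_one (ε : Ω ≃ ℙ F (Fin 2 → F)) : ActsPSL ε (1 : G) :=
  ⟨1, (pslRange F).one_mem, fun x => by rw [one_smul, one_smul]⟩

theorem actsPSL_mul {ε : Ω ≃ ℙ F (Fin 2 → F)} {g h : G} (hg : ActsPSL ε g) (hh : ActsPSL ε h) :
    ActsPSL ε (g * h) := by
  obtain ⟨m, hm, hmx⟩ := hg
  obtain ⟨m', hm', hmx'⟩ := hh
  exact ⟨m * m', (pslRange F).mul_mem hm hm', fun x => by rw [mul_smul, hmx, hmx', mul_smul]⟩

theorem actsPSL_inv {ε : Ω ≃ ℙ F (Fin 2 → F)} {g : G} (hg : ActsPSL ε g) : ActsPSL ε g⁻¹ := by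
  obtain ⟨m, hm, hmx⟩ := hg
  refine ⟨m⁻¹, (pslRange F).inv_mem hm, fun x => ?_⟩
  rw [eq_inv_smul_iff, ← hmx, smul_inv_smul]

/-- recognition of `PSL₂(F)` -/
theorem recog_psl2 [Fintype F] [Finite G] [FaithfulSMul G Ω] (ε : Ω ≃ ℙ F (Fin 2 → F))
    (hgen : ∀ g : G, ActsPSL ε g) (hcard : Nat.card G = Nat.card PSL(2, F)) :
    Nonempty (G ≃* PSL(2, F)) := by
  classical
  let Φ : PSL(2, F) →* Equiv.Perm Ω :=
    (moebiusHom ε).comp (Matrix.ProjectiveSpecialLinearGroup.toPGL (n := Fin 2) (R := F))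
  have hΦ : Function.Injective Φ :=
    (moebiusHom_injective ε).comp Matrix.ProjectiveSpecialLinearGroup.toPGL_injective
  let ψ : G →* Equiv.Perm Ω := MulAction.toPermHom G Ω
  have hψ : Function.Injective ψ := MulAction.toPerm_injective
  have hle : ψ.range ≤ Φ.range := by
    rintro _ ⟨g, rfl⟩
    obtain ⟨m, ⟨m', rfl⟩, hmx⟩ := hgen g
    refine ⟨m', ?_⟩
    ext x
    apply ε.injective
    show ε (moebiusHom ε _ x) = ε (g • x)
    rw [moebiusHom_apply, hmx]
  haveI : Finite PSL(2, F) := by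
    haveI : Finite (Matrix.SpecialLinearGroup (Fin 2) F) := Subtype.finite
    exact Quotient.finite _
  have hcΦ : Nat.card Φ.range = Nat.card PSL(2, F) :=
    Nat.card_congr (MonoidHom.ofInjective hΦ).symm.toEquiv
  have hcψ : Nat.card ψ.range = Nat.card G :=
    Nat.card_congr (MonoidHom.ofInjective hψ).symm.toEquiv
  haveI : Finite Φ.range := Finite.of_equiv _ (MonoidHom.ofInjective hΦ).toEquiv
  have heq : ψ.range = Φ.range :=
    Subgroup.eq_of_le_of_card_ge hle (by rw [hcΦ, hcψ, hcard])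
  exact ⟨((MonoidHom.ofInjective hψ).trans (MulEquiv.subgroupCongr heq)).trans
    (MonoidHom.ofInjective hΦ).symm⟩

end Recog

end Cfsg.Agent.Lib.Helper6.ZassPSL
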