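import Mathlib

/-!
# Zassenhaus groups with two-point stabiliser of order `(n-1)/2`: the field-theoretic core (helper6)

A map `t` on a finite field of odd order with `t 1 = 1`, `t (s x) = s⁻¹ t x` for squares `s`, and
satisfying the structure equation `t (t x + 1) = 1 - t (x + 1)` is the inversion.
-/

set_option autoImplicit false

namespace Cfsg.Agent.Lib.Helper6.ZassPSL

section Core

variable {C : Type*} [Field C] [Fintype C]

theorem ringChar_ne_two_of_odd (hodd : Fintype.card C % 2 = 1) : ringChar C ≠ 2 := by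
  intro h
  have := FiniteField.even_card_of_char_two h
  omega

/-- the quotient of two non-squares is a square -/
theorem isSquare_div_of_not_isSquare (hodd : Fintype.card C % 2 = 1) {w w₀ : C} (hw : w ≠ 0)
    (hw₀ : w₀ ≠ 0) (hnw : ¬ IsSquare w) (hnw₀ : ¬ IsSquare w₀) : IsSquare (w / w₀) := by
  have hF := ringChar_ne_two_of_odd hodd
  have h1 : w ^ (Fintype.card C / 2) = -1 := by
    rcases FiniteField.pow_dichotomy hF hw with h | h
    · exact absurd ((FiniteField.isSquare_iff hF hw).mpr h) hnw
    · exact h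
  have h2 : w₀ ^ (Fintype.card C / 2) = -1 := by
    rcases FiniteField.pow_dichotomy hF hw₀ with h | h
    · exact absurd ((FiniteField.isSquare_iff hF hw₀).mpr h) hnw₀
    · exact h
  rw [FiniteField.isSquare_iff hF (div_ne_zero hw hw₀), div_pow, h1, h2]
  field_simp

/-- every element of a finite field of odd order is a sum of two squares -/
theorem exists_sq_add_sq (hodd : Fintype.card C % 2 = 1) (x : C) : ∃ a b : C, a * a + b * b = x := by
  classical
  open Polynomial in
  obtain ⟨a, b, hab⟩ : ∃ a b, (X ^ 2 : C[X]).eval a + (X ^ 2 - Polynomial.C x : C[X]).eval b = 0 :=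
    FiniteField.exists_root_sum_quadratic (Polynomial.degree_X_pow 2)
      (Polynomial.degree_X_pow_sub_C (by decide) _) hodd
  refine ⟨a, b, ?_⟩
  simp only [Polynomial.eval_pow, Polynomial.eval_X, Polynomial.eval_sub, Polynomial.eval_C] at hab
  linear_combination hab

/-- the field-theoretic core -/
theorem inv_of_structure_eq (hodd : Fintype.card C % 2 = 1)
    (t : C → C) (ht1 : t 1 = 1)
    (hmul : ∀ s x : C, IsSquare s → s ≠ 0 → x ≠ 0 → t (s * x) = s⁻¹ * t x)
    (hSE : ∀ x : C, x ≠ 0 → x ≠ -1 → IsSquare x → t (t x + 1) = 1 - t (x + 1)) :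
    ∀ x : C, x ≠ 0 → t x = x⁻¹ := by
  have hS : ∀ x : C, x ≠ 0 → IsSquare x → t x = x⁻¹ := by
    intro x hx hsq
    have := hmul x 1 hsq hx one_ne_zero
    rw [mul_one, ht1, mul_one] at this
    exact this
  intro w₀ hw₀
  by_cases hsq₀ : IsSquare w₀
  · exact hS w₀ hw₀ hsq₀
  -- `w₀` is a non-square
  set β : C := w₀ * t w₀ with hβ
  have hN : ∀ w : C, w ≠ 0 → ¬ IsSquare w → t w = β / w := by
    intro w hw hnw
    have hsq := isSquare_div_of_not_isSquare hodd hw hw₀ hnw hsq₀
    have h1 := hmul (w / w₀) w₀ hsq (div_ne_zero hw hw₀) hw₀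
    rw [div_mul_cancel₀ w hw₀] at h1
    rw [h1, hβ]
    field_simp
  by_cases hβ1 : β = 1
  · have := hN w₀ hw₀ hsq₀
    rw [hβ1] at this
    rw [this, one_div]
  exfalso
  -- squares are closed under adding one
  have hadd1 : ∀ x : C, x ≠ 0 → IsSquare x → x + 1 = 0 ∨ IsSquare (x + 1) := by
    intro x hx hsq
    by_cases hx1 : x + 1 = 0
    · exact Or.inl hx1
    right
    by_contra hny
    have hxm1 : x ≠ -1 := fun h => hx1 (by rw [h]; ring)
    have h1 := hSE x hx hxm1 hsq
    rw [hS x hx hsq] at h1
    have hw : x⁻¹ + 1 = (x + 1) / x := by field_simp; ring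
    have hwne : (x + 1) / x ≠ 0 := div_ne_zero hx1 hx
    have hwn : ¬ IsSquare ((x + 1) / x) := by
      intro hcon
      apply hny
      have := hcon.mul hsq
      rwa [div_mul_cancel₀ _ hx] at this
    rw [hw, hN _ hwne hwn, hN _ hx1 hny] at h1
    apply hβ1
    field_simp at h1
    have h2 : (β - 1) * (x + 1) = 0 := by linear_combination h1
    rcases mul_eq_zero.mp h2 with h3 | h3
    · exact sub_eq_zero.mp h3
    · exact absurd h3 hx1
  -- so squares together with zero are closed under addition
  have hadd : ∀ x y : C, IsSquare x → IsSquare y → IsSquare (x + y) := by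
    intro x y hx hy
    by_cases hy0 : y = 0
    · rw [hy0, add_zero]; exact hx
    by_cases hx0 : x = 0
    · rw [hx0, zero_add]; exact hy
    have hxy : IsSquare (x / y) := hx.div hy
    rcases hadd1 (x / y) (div_ne_zero hx0 hy0) hxy with h | h
    · have : x + y = 0 := by
        have h2 : (x / y + 1) * y = x + y := by field_simp
        rw [← h2, h, zero_mul]
      rw [this]
      exact IsSquare.zero
    · have := h.mul hy
      have h2 : (x / y + 1) * y = x + y := by field_simp
      rwa [h2] at this
  obtain ⟨a, b, hab⟩ := exists_sq_add_sq hodd w₀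
  apply hsq₀
  rw [← hab]
  exact hadd _ _ ⟨a, rfl⟩ ⟨b, rfl⟩

end Core

end Cfsg.Agent.Lib.Helper6.ZassPSL
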