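import Mathlib
import Cfsg.Agent.Lib.Helper59.Zassenhaus

/-!
# Zassenhaus groups with `|G_{ab}| = (n-1)/2`: the point stabiliser in coordinates (helper6)

The data `ZData`: a group `G` acting on `Ω` in which only the identity fixes three points, an
abelian group `V` embedded in `G_a` as a regular normal subgroup, and an involution `τ`
interchanging `a` and `b`, inverting `K = G_{ab}` and fixing a further point.
-/

set_option autoImplicit false
set_option linter.unusedSectionVars false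

namespace Cfsg.Agent.Lib.Helper6.ZassPSL

open MulAction Cfsg.Agent.Lib.Helper59

/-- the data -/
structure ZData (G Ω V : Type*) [Group G] [MulAction G Ω] [AddCommGroup V] where
  a : Ω
  b : Ω
  hab : a ≠ b
  three : ∀ g : G, ∀ x y z : Ω, x ≠ y → y ≠ z → x ≠ z → g • x = x → g • y = y → g • z = z → g = 1
  tr : V → G
  tr_add : ∀ v w, tr (v + w) = tr v * tr w
  tr_inj : Function.Injective tr
  tr_a : ∀ v, tr v • a = a
  conj : ∀ g : G, g • a = a → ∀ v, ∃ w, g * tr v * g⁻¹ = tr w
  reg : ∀ c, c ≠ a → ∃ v, tr v • b = c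
  free : ∀ v c, tr v • c = c → c ≠ a → v = 0
  τ : G
  τ_sq : τ * τ = 1
  τ_a : τ • a = b
  τ_b : τ • b = a
  inv : ∀ k : G, k • a = a → k • b = b → τ * k * τ⁻¹ = k⁻¹
  v₁ : V
  v₁_ne : v₁ ≠ 0
  τ_v₁ : τ • (tr v₁ • b) = tr v₁ • b

namespace ZData

variable {G Ω V : Type*} [Group G] [MulAction G Ω] [AddCommGroup V] (D : ZData G Ω V)

theorem tr_zero : D.tr 0 = 1 := by
  have h := D.tr_add 0 0
  rw [add_zero] at h
  exact mul_eq_left.mp h.symm

theorem tr_neg (v : V) : D.tr (-v) = (D.tr v)⁻¹ := by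
  apply eq_inv_of_mul_eq_one_left
  rw [← D.tr_add, neg_add_cancel, D.tr_zero]

theorem τ_inv : D.τ⁻¹ = D.τ := inv_eq_of_mul_eq_one_left D.τ_sq

theorem τ_τ (c : Ω) : D.τ • D.τ • c = c := by
  rw [← mul_smul, D.τ_sq, one_smul]

/-- the point with coordinate `v` -/
def pt (v : V) : Ω := D.tr v • D.b

theorem pt_zero : D.pt 0 = D.b := by
  unfold pt
  rw [D.tr_zero, one_smul]

theorem pt_ne_a (v : V) : D.pt v ≠ D.a := by
  intro h
  unfold pt at h
  apply D.hab
  have h1 : D.tr v • D.b = D.tr v • D.a := by rw [h, D.tr_a]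
  exact (MulAction.injective (D.tr v) h1).symm

theorem tr_smul_pt (w v : V) : D.tr w • D.pt v = D.pt (w + v) := by
  unfold pt
  rw [← mul_smul, ← D.tr_add]

theorem pt_inj : Function.Injective D.pt := by
  intro v w h
  have h1 : D.tr (-w) • D.pt v = D.tr (-w) • D.pt w := by rw [h]
  rw [D.tr_smul_pt, D.tr_smul_pt, neg_add_cancel, D.pt_zero] at h1
  have h2 := D.free (-w + v) D.b h1 (Ne.symm D.hab)
  rw [neg_add_eq_zero] at h2
  exact h2.symm

theorem exists_pt {c : Ω} (hc : c ≠ D.a) : ∃ v, D.pt v = c := D.reg c hc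

theorem pt_ne_b {v : V} (hv : v ≠ 0) : D.pt v ≠ D.b := by
  intro h
  rw [← D.pt_zero] at h
  exact hv (D.pt_inj h)

/-- the two-point stabiliser -/
def K : Subgroup G := stabilizer G D.a ⊓ stabilizer G D.b

theorem mem_K {k : G} : k ∈ D.K ↔ k • D.a = D.a ∧ k • D.b = D.b := mem_stab2

/-- the action of `K` on `V` -/
noncomputable def act (k : D.K) (v : V) : V :=
  Classical.choose (D.conj k (D.mem_K.mp k.2).1 v)

theorem act_spec (k : D.K) (v : V) : (k : G) * D.tr v * (k : G)⁻¹ = D.tr (D.act k v) :=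
  Classical.choose_spec (D.conj k (D.mem_K.mp k.2).1 v)

theorem act_add (k : D.K) (v w : V) : D.act k (v + w) = D.act k v + D.act k w := by
  apply D.tr_inj
  rw [← D.act_spec, D.tr_add, D.tr_add, ← D.act_spec, ← D.act_spec]
  group

theorem act_one (v : V) : D.act 1 v = v := by
  apply D.tr_inj
  rw [← D.act_spec]
  simp

theorem act_mul (k k' : D.K) (v : V) : D.act (k * k') v = D.act k (D.act k' v) := by
  apply D.tr_inj
  rw [← D.act_spec, ← D.act_spec, ← D.act_spec]
  simp only [Subgroup.coe_mul]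
  group

theorem act_zero (k : D.K) : D.act k 0 = 0 := by
  have h := D.act_add k 0 0
  rw [add_zero] at h
  exact add_eq_left.mp h.symm

/-- the representation of `K` on `V` -/
noncomputable def rho : D.K →* AddMonoid.End V where
  toFun k :=
    { toFun := D.act k
      map_zero' := D.act_zero k
      map_add' := D.act_add k }
  map_one' := by
    ext v
    exact D.act_one v
  map_mul' k k' := by
    ext v
    exact D.act_mul k k' v

theorem rho_apply (k : D.K) (v : V) : D.rho k v = D.act k v := rfl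

theorem smul_pt (k : D.K) (v : V) : (k : G) • D.pt v = D.pt (D.act k v) := by
  unfold pt
  rw [← D.act_spec, mul_smul, mul_smul, inv_smul_eq_iff.mpr (D.mem_K.mp k.2).2.symm]

/-- `K` is commutative, being inverted by `τ` -/
theorem K_comm (x y : D.K) : x * y = y * x := by
  apply Subtype.ext
  have hx := D.inv x (D.mem_K.mp x.2).1 (D.mem_K.mp x.2).2
  have hy := D.inv y (D.mem_K.mp y.2).1 (D.mem_K.mp y.2).2
  have hxy := D.inv (x * y : D.K) (D.mem_K.mp (x * y).2).1 (D.mem_K.mp (x * y).2).2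
  have h1 : D.τ * ((x : G) * (y : G)) * D.τ⁻¹ = (D.τ * x * D.τ⁻¹) * (D.τ * y * D.τ⁻¹) := by group
  rw [Subgroup.coe_mul] at hxy
  rw [hxy, hx, hy, mul_inv_rev] at h1
  have h2 := congrArg (fun z => z⁻¹) h1
  simp only [mul_inv_rev, inv_inv] at h2
  rw [Subgroup.coe_mul, Subgroup.coe_mul]
  exact h2

/-- `K` acts freely on the non-zero elements of `V` -/
theorem act_free (k : D.K) (v : V) (hv : v ≠ 0) (h : D.rho k v = v) : k = 1 := by
  apply Subtype.ext
  have hk := D.mem_K.mp k.2
  have h3 : (k : G) • D.pt v = D.pt v := by rw [D.smul_pt, ← D.rho_apply, h]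
  exact D.three k D.a D.b (D.pt v) D.hab (D.pt_ne_b hv).symm (D.pt_ne_a v).symm hk.1 hk.2 h3

theorem τ_mul_K (k : D.K) : D.τ * (k : G) = (k : G)⁻¹ * D.τ := by
  have h := D.inv k (D.mem_K.mp k.2).1 (D.mem_K.mp k.2).2
  rw [← h]
  group

end ZData

end Cfsg.Agent.Lib.Helper6.ZassPSL
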