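import Mathlib
import Cfsg.Agent.Lib.Helper6.ZassPSL1
import Cfsg.Agent.Lib.Helper6.ZassPSL4

/-!
# Zassenhaus groups with `|G_{ab}| = (n-1)/2`: field coordinates and the inversion (helper6)
-/

set_option autoImplicit false
set_option linter.unusedSectionVars false

namespace Cfsg.Agent.Lib.Helper6.ZassPSL

open MulAction Cfsg.Agent.Lib.Helper59

/-- field coordinates on `V` in which `K` acts as the multiplications by the non-zero squares -/
structure ZCoord {G Ω V : Type*} [Group G] [MulAction G Ω] [AddCommGroup V] (D : ZData G Ω V)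
    (C : Type*) [Field C] [Fintype C] where
  e : C ≃+ V
  e_one : e 1 = D.v₁
  card_mod : Fintype.card C % 4 = 1
  sq_of_K : ∀ k : D.K, ∃ s : C, s ≠ 0 ∧ IsSquare s ∧ ∀ c, e (s * c) = D.act k (e c)
  K_of_sq : ∀ s : C, s ≠ 0 → IsSquare s → ∃ k : D.K, ∀ c, e (s * c) = D.act k (e c)

namespace ZCoord

variable {G Ω V : Type*} [Group G] [MulAction G Ω] [AddCommGroup V] {D : ZData G Ω V}
  {C : Type*} [Field C] [Fintype C] (Z : ZCoord D C)

include Z

/-- the point with field coordinate `x` -/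
def q (x : C) : Ω := D.pt (Z.e x)

theorem q_zero : Z.q 0 = D.b := by
  unfold q
  rw [map_zero, D.pt_zero]

theorem q_one : Z.q 1 = D.pt D.v₁ := by
  unfold q
  rw [Z.e_one]

theorem q_inj : Function.Injective Z.q := fun _ _ h => Z.e.injective (D.pt_inj h)

theorem q_ne_a (x : C) : Z.q x ≠ D.a := D.pt_ne_a _

theorem q_ne_b {x : C} (hx : x ≠ 0) : Z.q x ≠ D.b := by
  rw [← Z.q_zero]
  exact fun h => hx (Z.q_inj h)

theorem exists_q {c : Ω} (hc : c ≠ D.a) : ∃ x, Z.q x = c := by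
  obtain ⟨v, hv⟩ := D.exists_pt hc
  exact ⟨Z.e.symm v, by unfold q; rw [AddEquiv.apply_symm_apply, hv]⟩

/-- the translation by `c` -/
def u (c : C) : G := D.tr (Z.e c)

theorem u_smul_q (c x : C) : Z.u c • Z.q x = Z.q (c + x) := by
  unfold u q
  rw [D.tr_smul_pt, map_add]

theorem u_smul_a (c : C) : Z.u c • D.a = D.a := D.tr_a _

theorem u_inv (c : C) : (Z.u c)⁻¹ = Z.u (-c) := by
  unfold u
  rw [map_neg, D.tr_neg]

theorem exists_K_of_sq {s : C} (hs : s ≠ 0) (hsq : IsSquare s) :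
    ∃ k : D.K, ∀ x, (k : G) • Z.q x = Z.q (s * x) := by
  obtain ⟨k, hk⟩ := Z.K_of_sq s hs hsq
  refine ⟨k, fun x => ?_⟩
  unfold q
  rw [D.smul_pt, hk]

theorem exists_sq_of_K (k : D.K) :
    ∃ s : C, s ≠ 0 ∧ IsSquare s ∧ ∀ x, (k : G) • Z.q x = Z.q (s * x) := by
  obtain ⟨s, hs, hsq, hk⟩ := Z.sq_of_K k
  refine ⟨s, hs, hsq, fun x => ?_⟩
  unfold q
  rw [D.smul_pt, hk]

theorem isSquare_neg_one : IsSquare (-1 : C) := by
  rw [FiniteField.isSquare_neg_one_iff, Z.card_mod]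
  decide

theorem card_odd : Fintype.card C % 2 = 1 := by
  have := Z.card_mod
  omega

theorem τ_smul_q_ne_a {x : C} (hx : x ≠ 0) : D.τ • Z.q x ≠ D.a := by
  intro h
  apply Z.q_ne_b hx
  have := congrArg (fun c => D.τ • c) h
  simp only [D.τ_τ, D.τ_a] at this
  exact this

open Classical in
/-- the action of `τ` in coordinates -/
noncomputable def t (x : C) : C :=
  if h : x = 0 then 0 else Classical.choose (Z.exists_q (Z.τ_smul_q_ne_a h))

theorem q_t {x : C} (hx : x ≠ 0) : Z.q (Z.t x) = D.τ • Z.q x := by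
  unfold t
  rw [dif_neg hx]
  exact Classical.choose_spec (Z.exists_q (Z.τ_smul_q_ne_a hx))

theorem t_ne_zero {x : C} (hx : x ≠ 0) : Z.t x ≠ 0 := by
  intro h
  have h1 := Z.q_t hx
  rw [h, Z.q_zero] at h1
  have := congrArg (fun c => D.τ • c) h1
  simp only [D.τ_τ, D.τ_b] at this
  exact Z.q_ne_a x this.symm

theorem t_one : Z.t 1 = 1 := by
  apply Z.q_inj
  rw [Z.q_t one_ne_zero, Z.q_one]
  exact D.τ_v₁

theorem t_mul {s x : C} (hsq : IsSquare s) (hs : s ≠ 0) (hx : x ≠ 0) :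
    Z.t (s * x) = s⁻¹ * Z.t x := by
  obtain ⟨k, hk⟩ := Z.exists_K_of_sq hs hsq
  apply Z.q_inj
  rw [Z.q_t (mul_ne_zero hs hx), ← hk, ← mul_smul, D.τ_mul_K, mul_smul, ← Z.q_t hx,
    inv_smul_eq_iff, hk, mul_inv_cancel_left₀ hs]

theorem t_neg {x : C} (hx : x ≠ 0) : Z.t (-x) = -Z.t x := by
  have h := Z.t_mul Z.isSquare_neg_one (neg_ne_zero.mpr one_ne_zero) hx
  rw [neg_one_mul] at h
  rw [h]
  have : ((-1 : C))⁻¹ = -1 := by
    rw [inv_eq_iff_eq_inv, inv_neg, inv_one]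
  rw [this, neg_one_mul]

/-- the structure identity `τ u τ = u τ z u` -/
theorem structure_identity (z : D.K) (hz : ∀ x, (z : G) • Z.q x = Z.q (-1 * x)) :
    D.τ * Z.u 1 * D.τ = Z.u 1 * D.τ * (z : G) * Z.u 1 := by
  have hza : (z : G) • D.a = D.a := (D.mem_K.mp z.2).1
  have hzb : (z : G) • D.b = D.b := (D.mem_K.mp z.2).2
  have hτ1 : D.τ • Z.q 1 = Z.q 1 := by rw [← Z.q_t one_ne_zero, Z.t_one]
  have hm1 : (-1 : C) ≠ 0 := neg_ne_zero.mpr one_ne_zero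
  have hτm1 : D.τ • Z.q (-1) = Z.q (-1) := by
    rw [← Z.q_t hm1, Z.t_neg one_ne_zero, Z.t_one]
  have key : (Z.u 1 * D.τ * (z : G) * Z.u 1)⁻¹ * (D.τ * Z.u 1 * D.τ) = 1 := by
    apply D.three _ D.a D.b (Z.q (-1)) D.hab (Z.q_ne_b hm1).symm (Z.q_ne_a _).symm
    · rw [mul_smul, inv_smul_eq_iff]
      simp only [mul_smul]
      rw [D.τ_a, Z.u_smul_a, hza, D.τ_a, ← Z.q_zero, Z.u_smul_q, add_zero, hτ1]
    · rw [mul_smul, inv_smul_eq_iff]
      simp only [mul_smul]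
      rw [D.τ_b, Z.u_smul_a, D.τ_a, ← Z.q_zero, Z.u_smul_q, add_zero, hz, mul_one, hτm1,
        Z.u_smul_q, add_neg_cancel]
    · rw [mul_smul, inv_smul_eq_iff]
      simp only [mul_smul]
      rw [hτm1, Z.u_smul_q, add_neg_cancel, Z.q_zero, D.τ_b, hzb, D.τ_b, Z.u_smul_a]
  rw [inv_mul_eq_one] at key
  exact key.symm

/-- the structure equation for `t` -/
theorem t_structure {x : C} (hx : x ≠ 0) (hx1 : x ≠ -1) :
    Z.t (Z.t x + 1) = 1 - Z.t (x + 1) := by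
  obtain ⟨z, hz⟩ := Z.exists_K_of_sq (neg_ne_zero.mpr one_ne_zero) Z.isSquare_neg_one
  have hid := Z.structure_identity z hz
  have hx1' : 1 + x ≠ 0 := by
    intro h
    apply hx1
    rw [← add_eq_zero_iff_eq_neg', h]
  have hnx1 : -1 * (1 + x) ≠ 0 := mul_ne_zero (neg_ne_zero.mpr one_ne_zero) hx1'
  have h2 : (Z.u 1 * D.τ * (z : G) * Z.u 1) • Z.q x = Z.q (1 - Z.t (x + 1)) := by
    simp only [mul_smul]
    rw [Z.u_smul_q, hz, ← Z.q_t hnx1, Z.u_smul_q, neg_one_mul, Z.t_neg hx1', add_comm 1 x,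
      sub_eq_add_neg]
  have h1 : (D.τ * Z.u 1 * D.τ) • Z.q x = D.τ • Z.q (1 + Z.t x) := by
    simp only [mul_smul]
    rw [← Z.q_t hx, Z.u_smul_q]
  rw [hid, h2] at h1
  have hne : 1 + Z.t x ≠ 0 := by
    intro h
    rw [h, Z.q_zero, D.τ_b] at h1
    exact Z.q_ne_a _ h1
  rw [← Z.q_t hne] at h1
  rw [add_comm]
  exact (Z.q_inj h1).symm

/-- `τ` acts as the inversion -/
theorem t_eq_inv {x : C} (hx : x ≠ 0) : Z.t x = x⁻¹ :=
  inv_of_structure_eq Z.card_odd Z.t Z.t_one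
    (fun _ _ hsq hs hx => Z.t_mul hsq hs hx)
    (fun _ hx hx1 _ => Z.t_structure hx hx1) x hx

theorem τ_smul_q {x : C} (hx : x ≠ 0) : D.τ • Z.q x = Z.q x⁻¹ := by
  rw [← Z.q_t hx, Z.t_eq_inv hx]

end ZCoord

end Cfsg.Agent.Lib.Helper6.ZassPSL
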