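import Mathlib
import Cfsg.Agent.Lib.Helper6.ZassPSL2
import Cfsg.Agent.Lib.Helper6.ZassPSL3
import Cfsg.Agent.Lib.Helper6.ZassPSL5

/-!
# Zassenhaus groups with `|G_{ab}| = (n-1)/2` even: recognition of `PSL₂(q)` from `ZData` (helper6)
-/

set_option autoImplicit false
set_option linter.unusedSectionVars false
set_option linter.style.haveILetI false

universe u v w

namespace Cfsg.Agent.Lib.Helper6.ZassPSL

open MulAction Cfsg.Agent.Lib.Helper59
open scoped MatrixGroups LinearAlgebra.Projectivization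

namespace ZCoord

variable {G : Type u} {Ω : Type w} {V : Type v} [Group G] [MulAction G Ω] [AddCommGroup V]
  {D : ZData G Ω V} {C : Type*} [Field C] [Fintype C] (Z : ZCoord D C)

include Z

theorem cases_pt (y : Ω) : y = D.a ∨ ∃ x, y = Z.q x := by
  by_cases h : y = D.a
  · exact Or.inl h
  · obtain ⟨x, hx⟩ := Z.exists_q h
    exact Or.inr ⟨x, hx.symm⟩

/-- the points of `Ω` as `C ∪ {∞}` -/
noncomputable def optEquiv : Option C ≃ Ω :=
  Equiv.ofBijective (fun o => match o with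
    | none => D.a
    | some x => Z.q x) (by
    constructor
    · intro o₁ o₂ h
      cases o₁ with
      | none =>
        cases o₂ with
        | none => rfl
        | some y => exact absurd h.symm (Z.q_ne_a y)
      | some x =>
        cases o₂ with
        | none => exact absurd h (Z.q_ne_a x)
        | some y => rw [Z.q_inj h]
    · intro y
      rcases Z.cases_pt y with h | ⟨x, h⟩
      · exact ⟨none, h.symm⟩
      · exact ⟨some x, h.symm⟩)

/-- the points of `Ω` as the projective line over `C` -/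
noncomputable def lineε : Ω ≃ ℙ C (Fin 2 → C) := Z.optEquiv.symm.trans (lineEquiv C)

theorem lineε_a : Z.lineε D.a = infPt C := by
  have h : Z.optEquiv.symm D.a = none := by
    rw [Equiv.symm_apply_eq]
    rfl
  show lineEquiv C (Z.optEquiv.symm D.a) = _
  rw [h]
  rfl

theorem lineε_q (x : C) : Z.lineε (Z.q x) = finPt x := by
  have h : Z.optEquiv.symm (Z.q x) = some x := by
    rw [Equiv.symm_apply_eq]
    rfl
  show lineEquiv C (Z.optEquiv.symm (Z.q x)) = _
  rw [h]
  rfl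

theorem actsPSL_u (c : C) : ActsPSL Z.lineε (Z.u c) := by
  refine ⟨affPGL (1 * 1) c (mul_ne_zero one_ne_zero one_ne_zero),
    affPGL_mem_pslRange 1 c one_ne_zero, fun y => ?_⟩
  rcases Z.cases_pt y with h | ⟨x, h⟩
  · rw [h, Z.u_smul_a, Z.lineε_a, affPGL_infPt]
  · rw [h, Z.u_smul_q, Z.lineε_q, Z.lineε_q, affPGL_finPt]
    congr 1
    ring

theorem actsPSL_K (k : D.K) : ActsPSL Z.lineε (k : G) := by
  obtain ⟨s, hs, ⟨r, rfl⟩, hk⟩ := Z.exists_sq_of_K k
  have hr : r ≠ 0 := fun h => hs (by rw [h, mul_zero])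
  refine ⟨affPGL (r * r) 0 hs, affPGL_mem_pslRange r 0 hr, fun y => ?_⟩
  rcases Z.cases_pt y with h | ⟨x, h⟩
  · rw [h, (D.mem_K.mp k.2).1, Z.lineε_a, affPGL_infPt]
  · rw [h, hk, Z.lineε_q, Z.lineε_q, affPGL_finPt, add_zero]

theorem actsPSL_τ : ActsPSL Z.lineε D.τ := by
  obtain ⟨j, hj⟩ := Z.isSquare_neg_one
  refine ⟨swapPGL C, swapPGL_mem_pslRange j hj.symm, fun y => ?_⟩
  rcases Z.cases_pt y with h | ⟨x, h⟩
  · rw [h, D.τ_a, Z.lineε_a, ← Z.q_zero, Z.lineε_q, swapPGL_infPt]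
  · by_cases hx : x = 0
    · rw [h, hx, Z.q_zero, D.τ_b, Z.lineε_a, ← Z.q_zero, Z.lineε_q, swapPGL_zero]
    · rw [h, Z.τ_smul_q hx, Z.lineε_q, Z.lineε_q, swapPGL_finPt x hx]

theorem actsPSL_stab {g : G} (hg : g • D.a = D.a) : ActsPSL Z.lineε g := by
  have hgb : g • D.b ≠ D.a := by
    intro h
    rw [← hg] at h
    exact D.hab (MulAction.injective g h).symm
  obtain ⟨x, hx⟩ := Z.exists_q hgb
  have hk : (Z.u x)⁻¹ * g ∈ D.K := by
    rw [D.mem_K]
    constructor
    · rw [mul_smul, hg, inv_smul_eq_iff, Z.u_smul_a]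
    · rw [mul_smul, ← hx, inv_smul_eq_iff, ← Z.q_zero, Z.u_smul_q, add_zero]
  have h1 : g = Z.u x * ((Z.u x)⁻¹ * g) := by group
  rw [h1]
  exact actsPSL_mul (Z.actsPSL_u x) (Z.actsPSL_K ⟨_, hk⟩)

theorem actsPSL_all (g : G) : ActsPSL Z.lineε g := by
  by_cases hg : g • D.a = D.a
  · exact Z.actsPSL_stab hg
  · obtain ⟨x, hx⟩ := Z.exists_q hg
    have h' : ((Z.u x * D.τ)⁻¹ * g) • D.a = D.a := by
      rw [mul_smul, ← hx, inv_smul_eq_iff, mul_smul, D.τ_a, ← Z.q_zero, Z.u_smul_q, add_zero]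
    have h1 : g = Z.u x * D.τ * ((Z.u x * D.τ)⁻¹ * g) := by group
    rw [h1]
    exact actsPSL_mul (actsPSL_mul (Z.actsPSL_u x) Z.actsPSL_τ) (Z.actsPSL_stab h')

end ZCoord

namespace ZData

variable {G : Type u} {Ω : Type w} {V : Type v} [Group G] [MulAction G Ω] [AddCommGroup V]

/-- the recognition theorem from the data -/
theorem exists_iso [Finite G] [Finite V] [FaithfulSMul G Ω] (D : ZData G Ω V)
    (hK : 2 * Nat.card D.K + 1 = Nat.card V) (hKeven : Even (Nat.card D.K))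
    (hG : Nat.card G = (Nat.card V + 1) * Nat.card V * Nat.card D.K) :
    ∃ (C : Type v) (_ : Field C) (_ : Fintype C), Fintype.card C = Nat.card V ∧
      Nonempty (G ≃* PSL(2, C)) := by
  obtain ⟨C, fC, ftC, e, he1, hcardC, hsq, hKsq⟩ :=
    exists_field_of_half_transitive D.rho D.K_comm D.act_free hK D.v₁ D.v₁_ne
  refine ⟨C, fC, ftC, hcardC, ?_⟩
  have hmod : Fintype.card C % 4 = 1 := by
    obtain ⟨m, hm⟩ := hKeven
    rw [hcardC, ← hK, hm]
    omega
  let Z : ZCoord D C :=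
    { e := e
      e_one := he1
      card_mod := hmod
      sq_of_K := hsq
      K_of_sq := hKsq }
  apply recog_psl2 Z.lineε Z.actsPSL_all
  -- cardinalities
  have h2 : (2 : C) ≠ 0 := Ring.two_ne_zero (ringChar_ne_two_of_odd Z.card_odd)
  have hc := Cfsg.Agent.Lib.Helper5.card_center_SL2_of_two_ne_zero h2
  have h := Cfsg.Agent.Lib.Helper5.card_PSL2_mul (F := C)
  rw [hc, hcardC] at h
  have hq : Nat.card V = 2 * Nat.card D.K + 1 := hK.symm
  set q := Nat.card V with hqdef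
  set d := Nat.card D.K with hddef
  have h3 : q * (q ^ 2 - 1) = ((q + 1) * q * d) * 2 := by
    have h4 : q ^ 2 - 1 = (q + 1) * (2 * d) := by
      have : q ^ 2 = (q + 1) * (2 * d) + 1 := by rw [hq]; ring
      omega
    rw [h4]; ring
  rw [h3] at h
  rw [hG]
  exact (Nat.eq_of_mul_eq_mul_right (by norm_num) h).symm

end ZData

end Cfsg.Agent.Lib.Helper6.ZassPSL
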