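import Mathlib
import Cfsg.Agent.Lib.Helper59.Zassenhaus
import Cfsg.Agent.Lib.Helper6.Zassenhaus

/-!
# Zassenhaus groups: the regular normal subgroup of a point stabiliser, and involutions inverting
the two-point stabiliser (helper6)
-/

set_option autoImplicit false
set_option linter.unusedSectionVars false
set_option linter.style.haveILetI false

namespace Cfsg.Agent.Lib.Helper6.ZassPSL

open MulAction Cfsg.Agent.Lib.Helper59

section Kernel

variable {G Ω : Type*} [Group G] [MulAction G Ω]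

/-- the Frobenius kernel of the point stabiliser of a Zassenhaus group -/
theorem exists_kernel [Finite G] (hZ : Cfsg.IsZassenhausGroup G Ω) {a b : Ω} (hab : a ≠ b) :
    ∃ F : Subgroup G, F ≤ stabilizer G a ∧ (∀ g : G, g • a = a → ∀ u ∈ F, g * u * g⁻¹ ∈ F) ∧
      (∀ u ∈ F, u ≠ 1 → ∀ c : Ω, u • c = c → c = a) ∧
      (∀ c d : Ω, c ≠ a → d ≠ a → ∃ u ∈ F, u • c = d) := by
  have hZ' : Cfsg.IsZassenhausGroup G Ω := hZ
  obtain ⟨hfaith, h2, h3, -, -⟩ := hZ
  have := hfaith
  rw [is_two_pretransitive_iff] at h2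
  obtain ⟨x, hx1, hxa, hxb⟩ := zass_stab2_ne_bot hZ' hab
  let X := stabilizer G a
  let Δ := SubMulAction.ofStabilizer G a
  have hΔ : ∀ e : Δ, (e : Ω) ≠ a := fun e => (SubMulAction.mem_ofStabilizer_iff G a).mp e.2
  have : IsPretransitive X Δ := ⟨fun e f => by
    obtain ⟨g, hga, hge⟩ := h2 (a := a) (b := (e : Ω)) (c := a) (d := (f : Ω))
      (Ne.symm (hΔ e)) (Ne.symm (hΔ f))
    exact ⟨⟨g, hga⟩, Subtype.ext hge⟩⟩
  let b' : Δ := ⟨b, (SubMulAction.mem_ofStabilizer_iff G a).mpr (Ne.symm hab)⟩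
  let x' : X := ⟨x, hxa⟩
  have hx'1 : x' ≠ 1 := fun h => hx1 (congrArg Subtype.val h)
  have hx'b : x' • b' = b' := Subtype.ext hxb
  have hstab : stabilizer X b' ≠ ⊥ := by
    intro h
    have : x' ∈ stabilizer X b' := hx'b
    rw [h, Subgroup.mem_bot] at this
    exact hx'1 this
  have hnt : ∃ e : Δ, e ≠ b' := by
    obtain ⟨e, he⟩ := exists_smul_ne_of_ne_one (Ω := Ω) hx1
    have hea : e ≠ a := fun h => he (h ▸ hxa)
    have heb : e ≠ b := fun h => he (h ▸ hxb)
    exact ⟨⟨e, (SubMulAction.mem_ofStabilizer_iff G a).mpr hea⟩,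
      fun h => heb (congrArg Subtype.val h)⟩
  have h2' : ∀ e f : Δ, e ≠ f → ∀ y : X, y • e = e → y • f = f → y = 1 := by
    intro e f hef y hye hyf
    apply Subtype.ext
    have hef' : (e : Ω) ≠ (f : Ω) := fun h => hef (Subtype.ext h)
    exact h3 (y : G) a e f (Ne.symm (hΔ e)) hef' (Ne.symm (hΔ f)) y.2
      (congrArg Subtype.val hye) (congrArg Subtype.val hyf)
  obtain ⟨K, hKn, hKmem, hKtr⟩ :=
    exists_regular_normal_of_frobenius_action (X := X) b' hstab hnt h2'
  refine ⟨K.map X.subtype, ?_, ?_, ?_, ?_⟩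
  · rintro _ ⟨k, -, rfl⟩
    exact k.2
  · rintro g hg _ ⟨k, hk, rfl⟩
    refine ⟨⟨g, hg⟩ * k * ⟨g, hg⟩⁻¹, hKn.conj_mem k hk ⟨g, hg⟩, rfl⟩
  · rintro _ ⟨k, hk, rfl⟩ hk1 c hc
    by_contra hca
    rcases (hKmem k).mp hk with h | h
    · apply hk1
      rw [h]
      rfl
    · exact h ⟨c, (SubMulAction.mem_ofStabilizer_iff G a).mpr hca⟩ (Subtype.ext hc)
  · intro c d hc hd
    obtain ⟨k, hk, hkc⟩ := hKtr ⟨c, (SubMulAction.mem_ofStabilizer_iff G a).mpr hc⟩
      ⟨d, (SubMulAction.mem_ofStabilizer_iff G a).mpr hd⟩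
    exact ⟨(k : G), ⟨k, hk, rfl⟩, congrArg Subtype.val hkc⟩

end Kernel

section Invert

variable {G Ω : Type*} [Group G] [MulAction G Ω]

/-- an element swapping `a` and `b` normalises the two point stabiliser -/
theorem swap_conj_mem' {a b : Ω} {t : G} (hta : t • a = b) (htb : t • b = a) {x : G}
    (hx : x ∈ stabilizer G a ⊓ stabilizer G b) :
    t * x * t⁻¹ ∈ stabilizer G a ⊓ stabilizer G b := by
  have hia : t⁻¹ • a = b := by rw [inv_smul_eq_iff, htb]
  have hib : t⁻¹ • b = a := by rw [inv_smul_eq_iff, hta]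
  obtain ⟨hxa, hxb⟩ := mem_stab2.1 hx
  refine mem_stab2.2 ⟨?_, ?_⟩
  · rw [mul_smul, mul_smul, hia, hxb, htb]
  · rw [mul_smul, mul_smul, hib, hxa, hta]

/-- If the two point stabiliser `K` has order `(|Ω| - 2)/2` and an involution `τ` interchanging
`a` and `b` has a fixed point, then every element of `K τ` fixes a point, and `τ` inverts `K`. -/
theorem inverts_of_fixed [Finite G] [Fintype Ω]
    (three : ∀ g : G, ∀ x y z : Ω, x ≠ y → y ≠ z → x ≠ z → g • x = x → g • y = y → g • z = z →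
      g = 1) {a b : Ω} (hab : a ≠ b)
    (hcard : 2 * Nat.card ↥(stabilizer G a ⊓ stabilizer G b : Subgroup G) = Fintype.card Ω - 2)
    (τ : G) (hτ2 : τ * τ = 1) (hτa : τ • a = b) (hτb : τ • b = a) (c₀ : Ω) (hc₀ : τ • c₀ = c₀)
    (hfix2 : ∀ s : G, s ≠ 1 → s * s = 1 → s • a = b → s • b = a →
      Nat.card (fixedBy Ω s) ≤ 2) :
    ∀ k ∈ stabilizer G a ⊓ stabilizer G b, τ * k * τ⁻¹ = k⁻¹ := by
  classical
  letI : Fintype G := Fintype.ofFinite G
  set K : Subgroup G := stabilizer G a ⊓ stabilizer G b with hKdef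
  have hτinv : τ⁻¹ = τ := inv_eq_of_mul_eq_one_left hτ2
  have hττ : ∀ c : Ω, τ • τ • c = c := fun c => by rw [← mul_smul, hτ2, one_smul]
  have hc₀a : c₀ ≠ a := by
    intro h
    rw [h, hτa] at hc₀
    exact hab hc₀.symm
  have hc₀b : c₀ ≠ b := by
    intro h
    rw [h, hτb] at hc₀
    exact hab hc₀
  -- freeness
  have hfree : ∀ k ∈ K, ∀ c : Ω, c ≠ a → c ≠ b → k • c = c → k = 1 := by
    intro k hk c hca hcb hkc
    obtain ⟨hka, hkb⟩ := mem_stab2.1 hk
    exact three k a b c hab (Ne.symm hcb) (Ne.symm hca) hka hkb hkc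
  have hfree' : ∀ k ∈ K, ∀ k' ∈ K, ∀ c : Ω, c ≠ a → c ≠ b → k • c = k' • c → k = k' := by
    intro k hk k' hk' c hca hcb h
    have h1 : (k'⁻¹ * k) • c = c := by rw [mul_smul, h, inv_smul_smul]
    have := hfree _ (K.mul_mem (K.inv_mem hk') hk) c hca hcb h1
    exact (inv_mul_eq_one.mp this).symm
  have hKne : ∀ k ∈ K, ∀ c : Ω, c ≠ a → c ≠ b → k • c ≠ a ∧ k • c ≠ b := by
    intro k hk c hca hcb
    obtain ⟨hka, hkb⟩ := mem_stab2.1 hk
    constructor
    · intro h
      rw [← hka] at h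
      exact hca (MulAction.injective k h)
    · intro h
      rw [← hkb] at h
      exact hcb (MulAction.injective k h)
  let Kf : Finset G := Finset.univ.filter (· ∈ K)
  have hKf : ∀ k, k ∈ Kf ↔ k ∈ K := fun k => by simp [Kf]
  have hKfcard : Kf.card = Nat.card K := by
    rw [Nat.card_eq_fintype_card, Fintype.card_subtype]
  let Ω' : Finset Ω := (Finset.univ.erase a).erase b
  have hΩ' : ∀ c, c ∈ Ω' ↔ c ≠ a ∧ c ≠ b := fun c => by
    simp only [Ω', Finset.mem_erase, Finset.mem_univ, and_true]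
    tauto
  have hΩ'card : Ω'.card = Fintype.card Ω - 2 := by
    have hb : b ∈ Finset.univ.erase a := Finset.mem_erase.mpr ⟨Ne.symm hab, Finset.mem_univ _⟩
    rw [Finset.card_erase_of_mem hb, Finset.card_erase_of_mem (Finset.mem_univ _),
      Finset.card_univ]
    omega
  -- the orbit of a point
  let orb : Ω → Finset Ω := fun c => Kf.image (fun k => k • c)
  have horbcard : ∀ c, c ≠ a → c ≠ b → (orb c).card = Nat.card K := by
    intro c hca hcb
    rw [← hKfcard]
    apply Finset.card_image_of_injOn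
    intro k hk k' hk' h
    exact hfree' k ((hKf k).mp hk) k' ((hKf k').mp hk') c hca hcb h
  have horbsub : ∀ c, c ≠ a → c ≠ b → orb c ⊆ Ω' := by
    intro c hca hcb d hd
    rw [Finset.mem_image] at hd
    obtain ⟨k, hk, rfl⟩ := hd
    rw [hΩ']
    exact hKne k ((hKf k).mp hk) c hca hcb
  -- every point outside `a, b` is fixed by some `k τ`
  have hex : ∀ c ∈ Ω', ∃ k ∈ K, (k * τ) • c = c := by
    intro c hc
    obtain ⟨hca, hcb⟩ := (hΩ' c).mp hc
    by_cases hc0 : c ∈ orb c₀
    · rw [Finset.mem_image] at hc0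
      obtain ⟨k', hk', rfl⟩ := hc0
      have hk'K := (hKf k').mp hk'
      refine ⟨k' * (τ * k' * τ⁻¹)⁻¹, K.mul_mem hk'K (K.inv_mem (swap_conj_mem' hτa hτb hk'K)), ?_⟩
      have h1 : τ • k' • c₀ = (τ * k' * τ⁻¹) • c₀ := by
        rw [mul_smul, mul_smul, hτinv, hc₀]
      rw [mul_smul, h1, mul_smul, inv_smul_smul]
    · -- the other orbit
      have hdisj : Disjoint (orb c) (orb c₀) := by
        rw [Finset.disjoint_left]
        intro d hd hd0
        rw [Finset.mem_image] at hd hd0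
        obtain ⟨k, hk, rfl⟩ := hd
        obtain ⟨k', hk', h⟩ := hd0
        apply hc0
        rw [Finset.mem_image]
        refine ⟨k⁻¹ * k', (hKf _).mpr (K.mul_mem (K.inv_mem ((hKf k).mp hk)) ((hKf k').mp hk')), ?_⟩
        show (k⁻¹ * k') • c₀ = c
        rw [mul_smul, h, inv_smul_smul]
      have hunion : orb c ∪ orb c₀ = Ω' := by
        apply Finset.eq_of_subset_of_card_le
          (Finset.union_subset (horbsub c hca hcb) (horbsub c₀ hc₀a hc₀b))
        rw [Finset.card_union_of_disjoint hdisj, horbcard c hca hcb, horbcard c₀ hc₀a hc₀b,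
          hΩ'card, ← hcard]
        omega
      have hτc : τ • c ∈ Ω' := by
        rw [hΩ']
        constructor
        · intro h
          apply hcb
          rw [← hττ c, h, hτa]
        · intro h
          apply hca
          rw [← hττ c, h, hτb]
      have hτc0 : τ • c ∉ orb c₀ := by
        intro h
        rw [Finset.mem_image] at h
        obtain ⟨k', hk', h⟩ := h
        have hk'K := (hKf k').mp hk'
        apply hc0
        rw [Finset.mem_image]
        refine ⟨τ * k' * τ⁻¹, (hKf _).mpr (swap_conj_mem' hτa hτb hk'K), ?_⟩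
        show (τ * k' * τ⁻¹) • c₀ = c
        rw [mul_smul, mul_smul, hτinv, hc₀, h, hττ]
      rw [← hunion, Finset.mem_union] at hτc
      rcases hτc with h | h
      · rw [Finset.mem_image] at h
        obtain ⟨k', hk', h⟩ := h
        refine ⟨k'⁻¹, K.inv_mem ((hKf k').mp hk'), ?_⟩
        rw [mul_smul, ← h, inv_smul_smul]
      · exact absurd h hτc0
  -- squares
  have hsq : ∀ k ∈ K, ∀ c ∈ Ω', (k * τ) • c = c → (k * τ) * (k * τ) = 1 := by
    intro k hk c hc hkc
    obtain ⟨hca, hcb⟩ := (hΩ' c).mp hc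
    have hmem : (k * τ) * (k * τ) ∈ K := by
      have : (k * τ) * (k * τ) = k * (τ * k * τ⁻¹) := by
        rw [hτinv]; group
      rw [this]
      exact K.mul_mem hk (swap_conj_mem' hτa hτb hk)
    apply hfree _ hmem c hca hcb
    rw [mul_smul, hkc, hkc]
  -- the good elements
  let T : Finset G := Kf.filter (fun k => (k * τ) * (k * τ) = 1)
  have hcover : Ω' ⊆ T.biUnion (fun k => Finset.univ.filter (fun c : Ω => (k * τ) • c = c)) := by
    intro c hc
    obtain ⟨k, hk, hkc⟩ := hex c hc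
    rw [Finset.mem_biUnion]
    refine ⟨k, ?_, ?_⟩
    · rw [Finset.mem_filter]
      exact ⟨(hKf k).mpr hk, hsq k hk c hc hkc⟩
    · rw [Finset.mem_filter]
      exact ⟨Finset.mem_univ _, hkc⟩
  have hle2 : ∀ k ∈ T, (Finset.univ.filter (fun c : Ω => (k * τ) • c = c)).card ≤ 2 := by
    intro k hk
    rw [Finset.mem_filter] at hk
    obtain ⟨hkK, hk2⟩ := hk
    obtain ⟨hka, hkb⟩ := mem_stab2.1 ((hKf k).mp hkK)
    have hne : k * τ ≠ 1 := by
      intro h
      have : (k * τ) • a = a := by rw [h, one_smul]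
      rw [mul_smul, hτa, hkb] at this
      exact hab this.symm
    have := hfix2 (k * τ) hne hk2 (by rw [mul_smul, hτa, hkb]) (by rw [mul_smul, hτb, hka])
    rw [Nat.card_eq_fintype_card, Fintype.card_subtype] at this
    convert this using 2
    ext c
    simp [MulAction.mem_fixedBy]
  have hTle : Ω'.card ≤ 2 * T.card := by
    calc Ω'.card ≤ (T.biUnion (fun k => Finset.univ.filter (fun c : Ω => (k * τ) • c = c))).card :=
          Finset.card_le_card hcover
      _ ≤ ∑ k ∈ T, (Finset.univ.filter (fun c : Ω => (k * τ) • c = c)).card :=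
          Finset.card_biUnion_le
      _ ≤ ∑ _k ∈ T, 2 := Finset.sum_le_sum hle2
      _ = 2 * T.card := by rw [Finset.sum_const, smul_eq_mul, mul_comm]
  have hTK : T = Kf := by
    apply Finset.eq_of_subset_of_card_le (Finset.filter_subset _ _)
    show Kf.card ≤ T.card
    rw [hΩ'card, ← hcard] at hTle
    rw [hKfcard]
    omega
  intro k hk
  have hkT : k ∈ T := by rw [hTK]; exact (hKf k).mpr hk
  rw [Finset.mem_filter] at hkT
  have h := hkT.2
  rw [hτinv]
  have h1 : k * (τ * k * τ) = 1 := by rw [← h]; group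
  exact eq_inv_of_mul_eq_one_right h1

end Invert

end Cfsg.Agent.Lib.Helper6.ZassPSL
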