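import Mathlib
import Cfsg.Prelude.Def_GeometricClasses
import Cfsg.Agent.Lib.Helper99.AschDefs
import Cfsg.Agent.Lib.Helper55.Oe.Defs
import Cfsg.Agent.Lib.Helper37.Asch.TensorForm
import Cfsg.Agent.Lib.Helper25.AschSpFormKit
import Cfsg.Agent.Lib.Helper25.AschC4Aux
import Cfsg.Agent.Lib.Helper25.AschSpC4Swap
import Cfsg.Agent.Lib.Helper6.AschSpC4EvenRed
import Cfsg.Agent.Lib.Helper6.AschSpC4TwoIso

/-!
# ASCHOE-[C-TENSOR] (helper6, project of helper55): a tensor normal form inside the isometry group of a quadratic form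
gives a tensor decomposition of the polar form into two symmetric forms (characteristic not 2) or two alternating
forms with `Q` vanishing on the pure tensors.
-/

set_option autoImplicit false
set_option linter.unusedSectionVars false

namespace Cfsg.Agent.Lib.Helper6.Oe

open Cfsg Cfsg.Geo Cfsg.Agent.Lib.Helper99.Asch Cfsg.Agent.Lib.Helper23.AschSp
open Cfsg.Agent.Lib.Helper37.Asch
open scoped MatrixGroups Matrix Kronecker

variable {F : Type*} [Field F]

/-- a symmetric Kronecker product has both factors symmetric or both skew -/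
theorem sym_kronecker_split {d e : Type} [Fintype d] [DecidableEq d] [Fintype e] [DecidableEq e]
    {G₁ : Matrix d d F} {G₂ : Matrix e e F} (hG₁ : G₁ ≠ 0) (hG₂ : G₂ ≠ 0)
    (hsym : ∀ p p', (G₁ ⊗ₖ G₂) p p' = (G₁ ⊗ₖ G₂) p' p) :
    (G₁ᵀ = G₁ ∧ G₂ᵀ = G₂) ∨ (G₁ᵀ = -G₁ ∧ G₂ᵀ = -G₂) := by
  have hT : ((G₁ ⊗ₖ G₂).map (RingEquiv.refl F))ᵀ = (1 : F) • (G₁ ⊗ₖ G₂) := by
    ext p p'
    rw [Matrix.transpose_apply, Matrix.map_apply, Matrix.smul_apply, hsym p' p]
    simp
  obtain ⟨c, hc1, hc2⟩ := kronecker_hermitian_split (RingEquiv.refl F) hG₁ hG₂ 1 hT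
  have hc1' : G₁ᵀ = c • G₁ := by
    rw [← hc1]; ext i j; simp
  have hc2' : G₂ = c • G₂ᵀ := by
    have : (G₂.map (RingEquiv.refl F))ᵀ = G₂ᵀ := by ext i j; simp
    rw [this, one_smul] at hc2
    exact hc2
  have hcc : c * c = 1 := by
    obtain ⟨i, j, hij⟩ : ∃ i j, G₁ i j ≠ 0 := by
      by_contra hno
      push Not at hno
      exact hG₁ (Matrix.ext hno)
    have h1 : G₁ j i = c * G₁ i j := by
      have := congrFun (congrFun hc1' i) j
      simpa using this
    have h2 : G₁ i j = c * G₁ j i := by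
      have := congrFun (congrFun hc1' j) i
      simpa using this
    rw [h1] at h2
    have h3 : (c * c - 1) * G₁ i j = 0 := by linear_combination -h2
    have := (mul_eq_zero.mp h3).resolve_right hij
    linear_combination this
  have hc2'' : G₂ᵀ = c • G₂ := by
    conv_rhs => rw [hc2', smul_smul, hcc, one_smul]
  have hc : c = 1 ∨ c = -1 := by
    have : (c - 1) * (c + 1) = 0 := by linear_combination hcc
    rcases mul_eq_zero.mp this with h | h
    · left; linear_combination h
    · right; linear_combination h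
  rcases hc with h | h
  · left
    rw [hc1', hc2'', h, one_smul, one_smul]
    exact ⟨rfl, rfl⟩
  · right
    rw [hc1', hc2'', h, neg_one_smul, neg_one_smul]
    exact ⟨rfl, rfl⟩

theorem formOfGram_single' {κ : Type} [Fintype κ] [DecidableEq κ] (G : Matrix κ κ F) (p p' : κ) :
    formOfGram id G (Pi.single p 1) (Pi.single p' 1) = G p p' := by
  unfold formOfGram
  simp [Pi.single_apply]

/-- `polar Q v v = 2 Q v` -/
theorem polar_self {ι : Type} {Q : (ι → F) → F} (hsm : ∀ (c : F) (v : ι → F), Q (c • v) = c ^ 2 * Q v)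
    (v : ι → F) : QuadraticMap.polar Q v v = 2 * Q v := by
  have h2 : v + v = (2 : F) • v := (two_smul F v).symm
  rw [QuadraticMap.polar, h2, hsm]
  ring

end Cfsg.Agent.Lib.Helper6.Oe

namespace Cfsg.Agent.Lib.Helper55.Oe

open Cfsg Cfsg.Geo Cfsg.Agent.Lib.Helper99.Asch
open Cfsg.Agent.Lib.Helper37.Asch Cfsg.Agent.Lib.Helper23.AschSp Cfsg.Agent.Lib.Helper6.AschSp
  Cfsg.Agent.Lib.Helper6.Oe
open scoped MatrixGroups Matrix Kronecker

variable {n : ℕ} {F : Type*} [Field F] [Fintype F]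

/-- ASCHOE-[C-TENSOR] -/
theorem out_of_tensorNF {Q : (Fin n → F) → F} (hQ : IsNondegenerateQuadraticForm Q)
    {H : Subgroup (GL (Fin n) F)} (hH : H ≤ isometryGroup F Q) (hirr : ActsIrreducibly (matrixSet H))
    (N : Subgroup (GL (Fin n) F)) (hN : N ≤ isometryGroup F Q) (d e : ℕ) (hd : 2 ≤ d) (he : 2 ≤ e)
    (idx : Fin n ≃ Fin d × Fin e) (B : GL (Fin n) F) (hNF : TensorNF N d e idx B)
    (hkr : ∀ h ∈ H, ∃ (a : GL (Fin d) F) (b : GL (Fin e) F),
      ((B * h * B⁻¹ : GL (Fin n) F) : Matrix (Fin n) (Fin n) F) =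
        Matrix.reindex idx.symm idx.symm ((a : Matrix (Fin d) (Fin d) F) ⊗ₖ (b : Matrix (Fin e) (Fin e) F))) :
    OutTensorSym Q H ∨ OutTensorAlt Q H := by
  classical
  set Bf : (Fin n → F) → (Fin n → F) → F := QuadraticMap.polar Q with hBf
  have hbil : IsBilinearForm Bf := hQ.polar_bilinear
  have hnd : IsNondegenerateForm Bf := hQ.nondegenerate
  have hBsymm : ∀ u v, Bf u v = Bf v u := fun u v => QuadraticMap.polar_comm Q u v
  -- isometries of `Q` are isometries of the polar form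
  have hpres : ∀ g : GL (Fin n) F, g ∈ isometryGroup F Q → ∀ u v,
      Bf ((g : Matrix (Fin n) (Fin n) F) *ᵥ u) ((g : Matrix (Fin n) (Fin n) F) *ᵥ v) = Bf u v := by
    intro g hg u v
    have hg' : ∀ w, Q ((g : Matrix (Fin n) (Fin n) F) *ᵥ w) = Q w := fun w => hg w w
    simp only [hBf, QuadraticMap.polar, ← Matrix.mulVec_add, hg']
  have hHiso : H ≤ isoGL Bf := fun h hh => mem_isoGL.mpr (hpres h (hH hh))
  have hNsim : N ≤ similarityGroup Bf := by
    intro x hx
    refine ⟨1, fun u v => ?_⟩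
    rw [Units.val_one, one_mul]
    exact hpres x (hN hx) u v
  obtain ⟨G₁, G₂, hu1, hu2, hgram, -⟩ :=
    tensor_gram_of_tensorNF (isSesq_of_bilinear hbil) hnd N hNsim d e (by omega) (by omega) idx B hNF
  have hgram' : ∀ x y : Fin d × Fin e → F,
      Bf (((B⁻¹ : GL (Fin n) F) : Matrix (Fin n) (Fin n) F) *ᵥ (x ∘ idx))
        (((B⁻¹ : GL (Fin n) F) : Matrix (Fin n) (Fin n) F) *ᵥ (y ∘ idx)) =
        formOfGram id (G₁ ⊗ₖ G₂) x y := fun x y => hgram x y
  have hd1 : G₁.det ≠ 0 := ((Matrix.isUnit_iff_isUnit_det _).mp hu1).ne_zero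
  have hd2 : G₂.det ≠ 0 := ((Matrix.isUnit_iff_isUnit_det _).mp hu2).ne_zero
  have hG₁ : G₁ ≠ 0 := by
    rintro rfl
    have : Nonempty (Fin d) := ⟨⟨0, by omega⟩⟩
    exact hd1 Matrix.det_zero
  have hG₂ : G₂ ≠ 0 := by
    rintro rfl
    have : Nonempty (Fin e) := ⟨⟨0, by omega⟩⟩
    exact hd2 Matrix.det_zero
  have hsplit := sym_kronecker_split hG₁ hG₂ (by
    intro p p'
    rw [← formOfGram_single' (G₁ ⊗ₖ G₂) p p', ← formOfGram_single' (G₁ ⊗ₖ G₂) p' p, ← hgram', ← hgram']
    exact hBsymm _ _)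
  have hD : TensorFormData Bf H d e idx B G₁ G₂ := ⟨hkr, hgram', hd1, hd2⟩
  -- `H` lies in the tensor product subgroup
  have hHle : H ≤ tensorProductSubgroup d e idx B⁻¹ := by
    intro h hh
    obtain ⟨a, b, hab⟩ := hkr h hh
    apply Cfsg.Agent.Lib.Helper25.AschC4.mem_conj_reindex idx B h
    refine ⟨a, b, ?_⟩
    rw [Cfsg.Agent.Lib.Helper25.AschC4.glReindex_val, hab]
    ext i j
    simp
  have hstruct : IsTensorFormStructure id Bf (formOfGram id G₁) (formOfGram id G₂) idx B⁻¹ := by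
    refine ⟨1, one_ne_zero, fun x y => ?_⟩
    rw [Cfsg.Agent.Lib.Helper25.AschSp.gramMatrix_formOfGram,
      Cfsg.Agent.Lib.Helper25.AschSp.gramMatrix_formOfGram, one_mul]
    exact hgram' x y
  -- the polar form on pure tensors
  have hpure : ∀ (x₁ y₁ : Fin d → F) (x₂ y₂ : Fin e → F),
      Bf (tmap idx B x₂ x₁) (tmap idx B y₂ y₁) = (x₁ ⬝ᵥ (G₁ *ᵥ y₁)) * (x₂ ⬝ᵥ (G₂ *ᵥ y₂)) := by
    intro x₁ y₁ x₂ y₂
    rw [tmap_apply, tmap_apply, hgram', formOfGram_pureT]
  have hself : ∀ v, Bf v v = 2 * Q v := fun v => polar_self hQ.smul v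
  by_cases h2 : (2 : F) = 0
  · -- characteristic 2
    right
    have hnegM : ∀ {κ : Type} (M : Matrix κ κ F), -M = M := by
      intro κ M
      ext i j
      have : M i j + M i j = 0 := by linear_combination (M i j) * h2
      simp only [Matrix.neg_apply]
      linear_combination -this
    have hs1 : G₁ᵀ = G₁ := by
      rcases hsplit with h | h
      · exact h.1
      · rw [h.1, hnegM]
    have hs2 : G₂ᵀ = G₂ := by
      rcases hsplit with h | h
      · exact h.2
      · rw [h.2, hnegM]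
    have hdiag : ∀ i k, G₁ i i * G₂ k k = 0 := by
      intro i k
      have h1 : (G₁ ⊗ₖ G₂) (i, k) (i, k) = 0 := by
        rw [← formOfGram_single' (G₁ ⊗ₖ G₂) (i, k) (i, k), ← hgram', hself, h2, zero_mul]
      simpa [Matrix.kroneckerMap_apply] using h1
    have heven : ¬ Odd (Fintype.card F) := by
      have hchar : ringChar F = 2 :=
        CharP.ringChar_of_prime_eq_zero Nat.prime_two (by exact_mod_cast h2)
      have := FiniteField.even_card_iff_char_two.mp hchar
      rw [Nat.odd_iff]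
      omega
    -- both factors have zero diagonal
    have hz1 : ∀ i, G₁ i i = 0 := by
      by_contra hcon
      push Not at hcon
      exact not_irreducible_of_tensor_nonalt heven H hHiso hd (by omega) idx B G₁ G₂ hD hs1 hcon hirr
    have hz2 : ∀ k, G₂ k k = 0 := by
      by_contra hcon
      push Not at hcon
      have hD' := tensorFormData_swap H idx B G₁ G₂ hD
      exact not_irreducible_of_tensor_nonalt heven H hHiso he (by omega) _ B G₂ G₁ hD' hs2 hcon hirr
    have ha1 : IsAltMat G₁ := ⟨by rw [hs1, hnegM], hz1⟩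
    have ha2 : IsAltMat G₂ := ⟨by rw [hs2, hnegM], hz2⟩
    have hself1 : ∀ x₁ : Fin d → F, x₁ ⬝ᵥ (G₁ *ᵥ x₁) = 0 := fun x₁ => by
      rw [← Cfsg.Agent.Lib.Helper25.AschSp.formOfGram_id_eq]
      exact Cfsg.Agent.Lib.Helper25.AschSp.formOfGram_self_of_isAltMat G₁ ha1 x₁
    have hself2 : ∀ x₂ : Fin e → F, x₂ ⬝ᵥ (G₂ *ᵥ x₂) = 0 := fun x₂ => by
      rw [← Cfsg.Agent.Lib.Helper25.AschSp.formOfGram_id_eq]
      exact Cfsg.Agent.Lib.Helper25.AschSp.formOfGram_self_of_isAltMat G₂ ha2 x₂
    -- square roots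
    have hsqrt : ∀ x : F, ∃ c : F, c * c = x := by
      intro x
      have hevenc : Even (Fintype.card F) := Nat.not_odd_iff_even.mp heven
      obtain ⟨k₂, hk₂⟩ := hevenc
      refine ⟨x ^ k₂, ?_⟩
      rw [← pow_add, ← hk₂, FiniteField.pow_card]
    -- `Q` vanishes on pure tensors
    have hQpure : ∀ (x₁ : Fin d → F) (x₂ : Fin e → F), Q (tmap idx B x₂ x₁) = 0 := by
      intro x₁ x₂
      set ψ : (Fin d → F) → F := fun u => Q (tmap idx B x₂ u) with hψ
      have hψadd : ∀ u v, ψ (u + v) = ψ u + ψ v := by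
        intro u v
        have hp : Bf (tmap idx B x₂ u) (tmap idx B x₂ v) = 0 := by
          rw [hpure, hself2, mul_zero]
        have : Q (tmap idx B x₂ u + tmap idx B x₂ v) =
            Q (tmap idx B x₂ u) + Q (tmap idx B x₂ v) + Bf (tmap idx B x₂ u) (tmap idx B x₂ v) := by
          simp only [hBf, QuadraticMap.polar]
          ring
        simp only [hψ, map_add]
        rw [this, hp, add_zero]
      have hψsmul : ∀ (c : F) u, ψ (c • u) = c * c * ψ u := by
        intro c u
        simp only [hψ, map_smul]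
        rw [hQ.smul]
        ring
      let V : Submodule F (Fin d → F) :=
        { carrier := {u | ψ u = 0}
          add_mem' := by
            intro u v hu hv
            show ψ (u + v) = 0
            rw [hψadd, hu, hv, add_zero]
          zero_mem' := by
            show ψ 0 = 0
            have := hψsmul 0 0
            rw [zero_smul, zero_mul, zero_mul] at this
            exact this
          smul_mem' := by
            intro c u hu
            show ψ (c • u) = 0
            rw [hψsmul, hu, mul_zero] }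
      have hVmem : ∀ u, u ∈ V ↔ ψ u = 0 := fun u => Iff.rfl
      have hVinv : ∀ s ∈ {a : Matrix (Fin d) (Fin d) F | ∃ x ∈ N,
          ((B * x * B⁻¹ : GL (Fin n) F) : Matrix (Fin n) (Fin n) F) =
            Matrix.reindex idx.symm idx.symm (a ⊗ₖ (1 : Matrix (Fin e) (Fin e) F))},
          V.map (Matrix.toLin' s) ≤ V := by
        rintro s ⟨x, hx, hxs⟩ _ ⟨u, hu, rfl⟩
        have hu' : ψ u = 0 := hu
        have h1 := toLin'_tmap idx B x s (1 : Matrix (Fin e) (Fin e) F) hxs x₂ u
        rw [Matrix.one_mulVec, Matrix.toLin'_apply] at h1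
        show Q (tmap idx B x₂ (Matrix.toLin' s u)) = 0
        rw [Matrix.toLin'_apply, ← h1]
        have hx' : ∀ w, Q ((x : Matrix (Fin n) (Fin n) F) *ᵥ w) = Q w := fun w => (hN hx) w w
        rw [hx']
        exact hu'
      have hVne : V ≠ ⊥ := by
        intro hbot
        set e₀ : Fin d → F := Pi.single ⟨0, by omega⟩ 1 with he₀
        set e₁ : Fin d → F := Pi.single ⟨1, by omega⟩ 1 with he₁
        have h01 : (⟨1, by omega⟩ : Fin d) ≠ ⟨0, by omega⟩ := by simp [Fin.ext_iff]
        by_cases h0 : ψ e₀ = 0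
        · have hmem : e₀ ∈ V := h0
          rw [hbot, Submodule.mem_bot] at hmem
          have := congrFun hmem ⟨0, by omega⟩
          simp [he₀] at this
        · obtain ⟨c, hc⟩ := hsqrt (ψ e₁ / ψ e₀)
          have hmem : c • e₀ + e₁ ∈ V := by
            rw [hVmem, hψadd, hψsmul, hc, div_mul_cancel₀ _ h0]
            linear_combination (ψ e₁) * h2
          rw [hbot, Submodule.mem_bot] at hmem
          have := congrFun hmem ⟨1, by omega⟩
          simp [he₀, he₁, h01] at this
      rcases hNF.2.1 V hVinv with hb | ht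
      · exact absurd hb hVne
      · have : x₁ ∈ V := by rw [ht]; exact Submodule.mem_top
        exact this
    refine ⟨d, e, idx, B⁻¹, formOfGram id G₁, formOfGram id G₂, hd, he,
      Cfsg.Agent.Lib.Helper25.AschSp.isSymplecticForm_formOfGram G₁ ha1 hd1,
      Cfsg.Agent.Lib.Helper25.AschSp.isSymplecticForm_formOfGram G₂ ha2 hd2, hstruct, ?_, hHle⟩
    intro x₁ x₂
    exact hQpure x₁ x₂
  · -- characteristic not 2
    rcases hsplit with ⟨hs1, hs2⟩ | ⟨hs1, hs2⟩
    · left
      exact ⟨h2, d, e, idx, B⁻¹, formOfGram id G₁, formOfGram id G₂, hd, he,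
        Cfsg.Agent.Lib.Helper25.AschSp.isSymmetricForm_formOfGram G₁ hs1 hd1,
        Cfsg.Agent.Lib.Helper25.AschSp.isSymmetricForm_formOfGram G₂ hs2 hd2, hstruct, hHle⟩
    · right
      have hz : ∀ {κ : Type} (G : Matrix κ κ F), Gᵀ = -G → ∀ i, G i i = 0 := by
        intro κ G hG i
        have := congrFun (congrFun hG i) i
        simp only [Matrix.transpose_apply, Matrix.neg_apply] at this
        have h3 : (2 : F) * G i i = 0 := by linear_combination this
        exact (mul_eq_zero.mp h3).resolve_left h2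
      have ha1 : IsAltMat G₁ := ⟨hs1, hz G₁ hs1⟩
      have ha2 : IsAltMat G₂ := ⟨hs2, hz G₂ hs2⟩
      have hself1 : ∀ x₁ : Fin d → F, x₁ ⬝ᵥ (G₁ *ᵥ x₁) = 0 := fun x₁ => by
        rw [← Cfsg.Agent.Lib.Helper25.AschSp.formOfGram_id_eq]
        exact Cfsg.Agent.Lib.Helper25.AschSp.formOfGram_self_of_isAltMat G₁ ha1 x₁
      refine ⟨d, e, idx, B⁻¹, formOfGram id G₁, formOfGram id G₂, hd, he,
        Cfsg.Agent.Lib.Helper25.AschSp.isSymplecticForm_formOfGram G₁ ha1 hd1,
        Cfsg.Agent.Lib.Helper25.AschSp.isSymplecticForm_formOfGram G₂ ha2 hd2, hstruct, ?_, hHle⟩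
      intro x₁ x₂
      have h1 : Bf (tmap idx B x₂ x₁) (tmap idx B x₂ x₁) = 0 := by
        rw [hpure, hself1, zero_mul]
      rw [hself] at h1
      exact (mul_eq_zero.mp h1).resolve_left h2

end Cfsg.Agent.Lib.Helper55.Oe
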