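import Mathlib
import Cfsg.Prelude.Def_Amalgam
import Cfsg.Agent.Lib.Helper68.AmalBDefs
import Cfsg.Agent.Lib.Helper68.AmalBTools
import Cfsg.Agent.Lib.Helper12.AmalVTQuot

/-!
# S2751 (helper68's sheet), module GSB-[THREE] (helper6, hedge)

A subgroup `N ≤ G_x` normalized by `G_x` and not contained in `Q_x` contains an element of
order `3` outside `Q_x`.
-/

set_option autoImplicit false

namespace Cfsg.Agent.Lib.Helper68.AmalB

open Cfsg Cfsg.Agent.Lib.Helper12.Amal Cfsg.Agent.Lib.Helper68.AmalD Cfsg.Agent.Lib.Helper68.AmalW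

variable {G : Type*} [Group G] {P₁ P₂ : Subgroup G}

theorem exists_three_of_normal (hW : BaseW P₁ P₂) {x : CosetVertex P₁ P₂} {N : Subgroup G}
    (hN : N ≤ Gv x) (hnorm : Gv x ≤ Subgroup.normalizer (N : Set G)) (hNQ : ¬ N ≤ Qv x) :
    ∃ d ∈ N, d ∉ Qv x ∧ d * d * d = 1 := by
  have hfinG : Finite ↥(Gv x) := hW.fin x
  have hfinN : Finite ↥N :=
    Finite.of_injective (Subgroup.inclusion hN) (Subgroup.inclusion_injective hN)
  have hfinQ : Finite ↥(Qv x) :=
    Finite.of_injective (Subgroup.inclusion (Q_le_G hW x))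
      (Subgroup.inclusion_injective (Q_le_G hW x))
  obtain ⟨k, hk⟩ := (hW.Q_two x).exists_card_eq
  have hcardG : Nat.card ↥(Gv x) = 6 * 2 ^ k := by rw [hW.card_G x, hk]
  have hdvd : Nat.card ↥N ∣ 6 * 2 ^ k := hcardG ▸ Subgroup.card_dvd_of_le hN
  have h3 : 3 ∣ Nat.card ↥N := by
    by_contra h3
    apply hNQ
    have hcop : Nat.Coprime (Nat.card ↥N) 3 :=
      (Nat.Coprime.symm ((Nat.Prime.coprime_iff_not_dvd Nat.prime_three).2 h3))
    have hdvd' : Nat.card ↥N ∣ 2 ^ (k + 1) := by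
      have h6 : 6 * 2 ^ k = 2 ^ (k + 1) * 3 := by rw [pow_succ]; ring
      rw [h6] at hdvd
      exact hcop.dvd_of_dvd_mul_right hdvd
    obtain ⟨j, _, hj⟩ := (Nat.dvd_prime_pow Nat.prime_two).1 hdvd'
    have hp : IsPGroup 2 ↥N := IsPGroup.of_card hj
    exact Cfsg.Agent.Lib.Helper12.Amal.VTQ.le_Qof hN hnorm hp
  have : Fact (Nat.Prime 3) := ⟨Nat.prime_three⟩
  obtain ⟨d, hd⟩ := exists_prime_orderOf_dvd_card' 3 h3
  refine ⟨(d : G), d.2, ?_, ?_⟩
  · intro hdQ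
    obtain ⟨j, hj⟩ := (hW.Q_two x) ⟨(d : G), hdQ⟩
    have hj' : ((d : G)) ^ (2 ^ j) = 1 := by
      have := congrArg (fun z : ↥(Qv x) => (z : G)) hj
      simpa using this
    have hord : orderOf (d : G) = 3 := by rw [Subgroup.orderOf_coe]; exact hd
    have hdiv : 3 ∣ 2 ^ j := hord ▸ orderOf_dvd_of_pow_eq_one hj'
    have := (Nat.Prime.dvd_of_dvd_pow Nat.prime_three hdiv)
    omega
  · have hpow : d ^ 3 = 1 := hd ▸ pow_orderOf_eq_one d
    have hpow' : ((d : G)) ^ 3 = 1 := by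
      have := congrArg (fun z : ↥N => (z : G)) hpow
      simpa using this
    rw [← hpow']; simp [pow_succ]

end Cfsg.Agent.Lib.Helper68.AmalB
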