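/-
helper6: S2156 module [VPAR] (helper69's Steinberg project): `V ∩ P_i = X_{-α_i}` for the minimal parabolic
subgroup `P_i`, by counting: `Q = V ∩ P_i` normalises `U_p` (the positive root subgroups other than `X_p`), meets
it trivially, so `Q U_p` is a `p`-subgroup of the group of order `|Q| |U_p| ≥ |Q| q^{N-1}`, at most the Sylow order
`q^N`.
-/
import Cfsg.Agent.Lib.Helper6.AutSYL
import Cfsg.Agent.Lib.Helper18.UFact2
import Cfsg.Agent.S1036
import Cfsg.Agent.S1037
import Cfsg.Agent.S1047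
import Cfsg.Agent.S1053
import Cfsg.Agent.Lib.Helper61.ChevJ.Norm

set_option autoImplicit false

namespace Cfsg.Agent.Lib.Helper6.Aut

open Cfsg Cfsg.Lie Cfsg.Agent.Lib.Helper18 Cfsg.Agent.Lib.Helper91.ChevGen Cfsg.Agent.Lib.Helper69.Aut
open Cfsg.Agent.Lib.Helper61.ChevJ

universe u

variable {F : Type u} [Field F] {D : ChevalleyDatum}

/-- A `p`-subgroup of the group has at most `q^N` elements. -/
theorem card_le_of_isPGroup [Fintype F] (hD : D ∈ [chevG2, chevB2, chevD4, chevF4, chevE6, chevE7, chevE8])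
    (p : ℕ) [hp : Fact p.Prime] [CharP F p] (S : Subgroup (GL D.Idx F)) (hS : S ≤ D.group F)
    (hSp : IsPGroup p ↥S) : Nat.card ↥S ≤ Fintype.card F ^ (D.nroots / 2) := by
  obtain ⟨n, -, hn⟩ := FiniteField.card F p
  have hpq : p ∣ Fintype.card F := by
    rw [hn]
    exact dvd_pow_self p n.ne_zero
  have hUG : D.posUnipotent F ≤ D.group F := Cfsg.Agent.S1043.posUnipotent_le_group D hD
  have hidx := not_dvd_index_posUnipotent (F := F) hD hp.out hpq
  have hPG : IsPGroup p ↥((D.posUnipotent F).subgroupOf (D.group F)) :=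
    (isPGroup_posUnipotent (F := F) hD p).of_equiv (Subgroup.subgroupOfEquivOfLe hUG).symm
  let P : Sylow p ↥(D.group F) := hPG.toSylow hidx
  have hS' : IsPGroup p ↥(S.subgroupOf (D.group F)) := hSp.of_equiv (Subgroup.subgroupOfEquivOfLe hS).symm
  obtain ⟨Q, hQ⟩ := hS'.exists_le_sylow
  have h1 : Nat.card ↥S = Nat.card ↥(S.subgroupOf (D.group F)) :=
    (Nat.card_congr (Subgroup.subgroupOfEquivOfLe hS).toEquiv).symm
  have h2 : Nat.card ↥(S.subgroupOf (D.group F)) ≤ Nat.card ↥(Q : Subgroup ↥(D.group F)) :=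
    Subgroup.card_le_of_le hQ
  have h3 : Nat.card ↥(Q : Subgroup ↥(D.group F)) = Nat.card ↥(P : Subgroup ↥(D.group F)) := by
    rw [Sylow.card_eq_multiplicity, Sylow.card_eq_multiplicity]
  have h4 : Nat.card ↥(P : Subgroup ↥(D.group F)) = Fintype.card F ^ (D.nroots / 2) := by
    show Nat.card ↥((D.posUnipotent F).subgroupOf (D.group F)) = _
    rw [Nat.card_congr (Subgroup.subgroupOfEquivOfLe hUG).toEquiv]
    exact Cfsg.Agent.S1027.card_posUnipotent D hD
  rw [h1]
  exact h2.trans (le_of_eq (h3.trans h4))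

/-- `|X_r| = q`. -/
theorem card_rootSubgroup [Fintype F] (hD : D ∈ [chevG2, chevB2, chevD4, chevF4, chevE6, chevE7, chevE8])
    (r : ℕ) (hr : r < D.nroots) : Nat.card ↥(D.rootSubgroup F r) = Fintype.card F := by
  let f : F → ↥(D.rootSubgroup F r) := fun t => ⟨xG hD r t, (mem_rootSubgroup_iff hD r _).mpr ⟨t, rfl⟩⟩
  have hf : Function.Bijective f := by
    constructor
    · intro a b h
      exact xG_injective hD r hr (congrArg Subtype.val h)
    · rintro ⟨g, hg⟩
      obtain ⟨t, rfl⟩ := (mem_rootSubgroup_iff hD r g).mp hg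
      exact ⟨t, rfl⟩
  rw [← Nat.card_congr (Equiv.ofBijective f hf), Nat.card_eq_fintype_card]

/-- `-α_i` is a negative root. -/
theorem isNegRoot_neg_simple (hD : D ∈ [chevG2, chevB2, chevD4, chevF4, chevE6, chevE7, chevE8])
    (i : ℕ) (hi : i < D.rank) : D.IsNegRoot (D.neg (D.simple i)) := by
  obtain ⟨C⟩ := nonempty_chevData.{0} D hD
  have hev := nroots_even hD
  have h1 := C.simple_lt i hi
  have h2 := C.half_le_simple i hi
  have h3 := C.neg_eq (D.simple i) h1
  have h4 := C.nroots_eq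
  have h5 : D.neg (D.simple i) = D.nroots - 1 - D.simple i := by
    rw [h3]
    unfold FastDatum.neg
    rw [h4]
  apply isNegRoot_of_lt D (signOK_of_mem D hD)
  · omega
  · omega

/-- The minimal parabolic subgroup `P_i` normalises `U_p`. -/
theorem parabolic_le_normalizer_Up (hD : D ∈ [chevG2, chevB2, chevD4, chevF4, chevE6, chevE7, chevE8])
    (i : ℕ) (hi : i < D.rank) :
    D.parabolicSubgroup F {i} ≤ Subgroup.normalizer (Up D F i : Set (GL D.Idx F)) := by
  obtain ⟨C⟩ := nonempty_chevData.{u} D hD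
  unfold ChevalleyDatum.parabolicSubgroup ChevalleyDatum.borelSubgroup
  refine sup_le (sup_le ?_ ?_) ?_
  · rw [← Up_sup_rootSubgroup hD C i hi]
    exact sup_le Subgroup.le_normalizer (rootSubgroup_le_normalizer_Up hD C i hi _ (Or.inl rfl))
  · intro h hh
    unfold Up
    apply mem_normalizer_closure_of_conj
    · rintro g ⟨s, t, hs, hne, hg⟩
      obtain ⟨t', ht'⟩ := Cfsg.Agent.S1036.conj_root_elem D hD h hh g s hs.1 t hg
      exact Subgroup.subset_closure ⟨s, t', hs, hne, ht'⟩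
    · rintro g ⟨s, t, hs, hne, hg⟩
      obtain ⟨t', ht'⟩ := Cfsg.Agent.S1036.conj_root_elem D hD h⁻¹ (inv_mem hh) g s hs.1 t hg
      rw [inv_inv] at ht'
      exact Subgroup.subset_closure ⟨s, t', hs, hne, ht'⟩
  · rw [Subgroup.closure_le]
    rintro g ⟨j, hj, -, hg⟩
    have hji : j = i := hj
    subst hji
    have hg' : g = sG hD C j := Units.ext (hg.trans (coe_sG hD C j hi).symm)
    rw [hg']
    show sG hD C j ∈ Subgroup.normalizer (Up D F j : Set (GL D.Idx F))
    rw [Subgroup.mem_normalizer_iff]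
    intro n
    constructor
    · intro hn
      exact (sG_conj_mem_Up hD C j hi n hn).1
    · intro hn
      have := (sG_conj_mem_Up hD C j hi _ hn).2
      have e : (sG hD C j)⁻¹ * (sG hD C j * n * (sG hD C j)⁻¹) * sG hD C j = n := by group
      rwa [e] at this

theorem negUnipotent_inf_parabolic [Finite F]
    (hD : D ∈ [chevG2, chevB2, chevD4, chevF4, chevE6, chevE7, chevE8]) (i : ℕ) (hi : i < D.rank) :
    D.negUnipotent F ⊓ D.parabolicSubgroup F {i} = D.rootSubgroup F (D.neg (D.simple i)) := by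
  cases nonempty_fintype F
  obtain ⟨p, hchar⟩ := CharP.exists F
  have hp : Fact p.Prime := ⟨CharP.char_is_prime F p⟩
  obtain ⟨C⟩ := nonempty_chevData.{u} D hD
  obtain ⟨X⟩ := nonempty_jData.{u} D hD
  have hUG : D.posUnipotent F ≤ D.group F := Cfsg.Agent.S1043.posUnipotent_le_group D hD
  have hVG : D.negUnipotent F ≤ D.group F := Cfsg.Agent.S1043.negUnipotent_le_group D hD
  have hsl := C.simple_lt i hi
  have hnl : D.neg (D.simple i) < D.nroots := X.neg_lt _ hsl
  -- `X_{-α_i} ≤ V ∩ P_i`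
  have hle : D.rootSubgroup F (D.neg (D.simple i)) ≤ D.negUnipotent F ⊓ D.parabolicSubgroup F {i} := by
    intro g hg
    obtain ⟨t, rfl⟩ := (mem_rootSubgroup_iff hD _ g).mp hg
    refine Subgroup.mem_inf.mpr ⟨?_, ?_⟩
    · exact Subgroup.subset_closure ⟨_, t, isNegRoot_neg_simple hD i hi, rfl⟩
    · exact Cfsg.Agent.S1047.xG_mem_parabolic hD X {i} _
        (X.inRootSub_neg {i} _ (X.inRootSub_simple {i} i hi rfl)) t
  symm
  apply Subgroup.eq_of_le_of_card_ge hle
  rw [card_rootSubgroup hD _ hnl]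
  -- the counting
  obtain ⟨Q, hQ⟩ : ∃ Q : Subgroup (GL D.Idx F), Q = D.negUnipotent F ⊓ D.parabolicSubgroup F {i} := ⟨_, rfl⟩
  rw [← hQ]
  have hQV : Q ≤ D.negUnipotent F := hQ ▸ inf_le_left
  have hQP : Q ≤ D.parabolicSubgroup F {i} := hQ ▸ inf_le_right
  have hQN : Q ≤ Subgroup.normalizer (Up D F i : Set (GL D.Idx F)) :=
    hQP.trans (parabolic_le_normalizer_Up hD i hi)
  have hUpU : Up D F i ≤ D.posUnipotent F := Up_le_posUnipotent D i
  have hdisj : Disjoint Q (Up D F i) := by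
    rw [disjoint_iff, eq_bot_iff]
    intro g hg
    obtain ⟨h1, h2⟩ := Subgroup.mem_inf.mp hg
    have h3 : g ∈ D.borelSubgroup F ⊓ D.negUnipotent F :=
      Subgroup.mem_inf.mpr ⟨borel_of_posUnipotent g (hUpU h2), hQV h1⟩
    rw [(Cfsg.Agent.S1037.result D hD).1] at h3
    exact h3
  -- `p`-groups
  have hUp : IsPGroup p ↥(D.posUnipotent F) := isPGroup_posUnipotent (F := F) hD p
  have hVp : IsPGroup p ↥(D.negUnipotent F) := by
    obtain ⟨n, -, hn⟩ := Cfsg.Agent.S1053.result (F := F) D hD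
    rw [← hn]
    exact hUp.map _
  have hQp : IsPGroup p ↥Q := hVp.to_le hQV
  have hUpp : IsPGroup p ↥(Up D F i) := hUp.to_le hUpU
  have hsup : IsPGroup p ↥(Q ⊔ Up D F i) := hQp.to_sup_of_normal_right' hUpp hQN
  have hsupG : Q ⊔ Up D F i ≤ D.group F := sup_le (hQV.trans hVG) (hUpU.trans hUG)
  have hc1 : Nat.card ↥(Q ⊔ Up D F i) ≤ Fintype.card F ^ (D.nroots / 2) :=
    card_le_of_isPGroup hD p _ hsupG hsup
  -- `|Q| |U_p| ≤ |Q U_p|`
  have hc2 : Nat.card ↥Q * Nat.card ↥(Up D F i) ≤ Nat.card ↥(Q ⊔ Up D F i) := by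
    rw [← Nat.card_prod]
    let f : ↥Q × ↥(Up D F i) → ↥(Q ⊔ Up D F i) := fun x =>
      ⟨(x.1 : GL D.Idx F) * x.2, mul_mem (Subgroup.mem_sup_left x.1.2) (Subgroup.mem_sup_right x.2.2)⟩
    apply Nat.card_le_card_of_injective f
    intro a b h
    exact Subgroup.mul_injective_of_disjoint hdisj (congrArg Subtype.val h)
  -- `|U| ≤ |U_p| q`
  have hc3 : Fintype.card F ^ (D.nroots / 2) ≤ Nat.card ↥(Up D F i) * Fintype.card F := by
    rw [← Cfsg.Agent.S1027.card_posUnipotent D hD, ← Nat.card_eq_fintype_card (α := F), ← Nat.card_prod]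
    let f : ↥(Up D F i) × F → ↥(D.posUnipotent F) := fun x =>
      ⟨(x.1 : GL D.Idx F) * xG hD (D.simple i) x.2, mul_mem (hUpU x.1.2)
        (xG_mem_posUnipotent hD _ _ ((isPosRoot_iff hD _).mpr ⟨hsl, C.half_le_simple i hi⟩))⟩
    apply Nat.card_le_card_of_surjective f
    rintro ⟨g, hg⟩
    obtain ⟨u', hu', t, rfl⟩ := exists_Up_mul_xG hD C i hi g hg
    exact ⟨(⟨u', hu'⟩, t), rfl⟩
  have hpos : 0 < Nat.card ↥(Up D F i) := Nat.card_pos
  have h5 : Nat.card ↥Q * Nat.card ↥(Up D F i) ≤ Fintype.card F * Nat.card ↥(Up D F i) := by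
    calc Nat.card ↥Q * Nat.card ↥(Up D F i) ≤ Nat.card ↥(Q ⊔ Up D F i) := hc2
      _ ≤ Fintype.card F ^ (D.nroots / 2) := hc1
      _ ≤ Nat.card ↥(Up D F i) * Fintype.card F := hc3
      _ = Fintype.card F * Nat.card ↥(Up D F i) := mul_comm _ _
  exact Nat.le_of_mul_le_mul_right h5 hpos

end Cfsg.Agent.Lib.Helper6.Aut
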