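import Mathlib
import Cfsg.Agent.Lib.Helper50.Lemma141

/-!
# Module [CNIL] for S1376/S1436 (helper22 #3146)

Thompson's theorem with central fixed points: if `y` (with `y ^ q = 1`) normalizes `C`, and all
fixed points of `y` on `C` lie in a central subgroup `K` of `C` of order prime to `q` that is
centralized by `y`, then `C` is nilpotent.
-/

set_option autoImplicit false
set_option linter.unusedSectionVars false
set_option linter.unusedVariables false
set_option linter.style.haveILetI false

namespace Cfsg.Agent.Lib.Helper6.BGCnil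

variable {G : Type*} [Group G] [Finite G]

theorem isNilpotent_of_centralizer_le_center (q : ℕ) (hq : q.Prime) (C K : Subgroup G) (y : G)
    (hyq : y ^ q = 1) (hyC : ∀ c ∈ C, y * c * y⁻¹ ∈ C) (hKC : K ≤ C)
    (hKZ : ∀ k ∈ K, ∀ c ∈ C, k * c = c * k) (hyK : ∀ k ∈ K, y * k = k * y)
    (hcop : (Nat.card K).Coprime q)
    (hfix : ∀ c ∈ C, y * c = c * y → c ∈ K) : Group.IsNilpotent C := by
  -- ambient group: the normalizer of `K`
  set H : Subgroup G := Subgroup.normalizer (K : Set G) with hH
  have hyH : y ∈ H := by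
    rw [hH, Subgroup.mem_normalizer_iff]
    intro k
    constructor
    · intro hk
      rw [hyK k hk, mul_assoc, mul_inv_cancel, mul_one]
      exact hk
    · intro hk
      have h1 : y * (y * k * y⁻¹) = (y * k * y⁻¹) * y := hyK _ hk
      have h7 : k = y * k * y⁻¹ := by
        calc k = y⁻¹ * ((y * k * y⁻¹) * y) := by group
          _ = y⁻¹ * (y * (y * k * y⁻¹)) := by rw [h1]
          _ = y * k * y⁻¹ := by group
      rw [h7]
      exact hk
  have hCH : C ≤ H := by
    intro c hc
    rw [hH, Subgroup.mem_normalizer_iff]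
    intro k
    constructor
    · intro hk
      have h1 : k * c = c * k := hKZ k hk c hc
      have h2 : c * k * c⁻¹ = k := by rw [← h1, mul_assoc, mul_inv_cancel, mul_one]
      rw [h2]
      exact hk
    · intro hk
      have h1 : (c * k * c⁻¹) * c = c * (c * k * c⁻¹) := hKZ _ hk c hc
      have h3 : c * k * c⁻¹ * c = c * k := by group
      rw [h3] at h1
      have h4 : k = c * k * c⁻¹ := mul_left_cancel h1
      rw [h4]
      exact hk
  haveI hN : (K.subgroupOf H).Normal := Subgroup.normal_in_normalizer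
  set π : ↥H →* ↥H ⧸ K.subgroupOf H := QuotientGroup.mk' (K.subgroupOf H) with hπ
  set yH : ↥H := ⟨y, hyH⟩ with hyHdef
  set Cbar : Subgroup (↥H ⧸ K.subgroupOf H) := (C.subgroupOf H).map π with hCbar
  -- conjugation formula: `y⁻¹ c y = c k` implies `y⁻ⁿ c yⁿ = c kⁿ`
  have hiter : ∀ c ∈ C, ∀ k ∈ K, y⁻¹ * c * y = c * k → ∀ n : ℕ, (y⁻¹) ^ n * c * y ^ n = c * k ^ n := by
    intro c hc k hk h n
    induction n with
    | zero => simp
    | succ n ih =>
      have hyk : y⁻¹ * k ^ n * y = k ^ n := by
        have := hyK (k ^ n) (K.pow_mem hk n)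
        rw [mul_assoc, ← this, ← mul_assoc, inv_mul_cancel, one_mul]
      calc (y⁻¹) ^ (n + 1) * c * y ^ (n + 1)
          = y⁻¹ * ((y⁻¹) ^ n * c * y ^ n) * y := by
            rw [pow_succ' (y⁻¹), pow_succ y]; group
        _ = y⁻¹ * (c * k ^ n) * y := by rw [ih]
        _ = (y⁻¹ * c * y) * (y⁻¹ * k ^ n * y) := by group
        _ = c * k * k ^ n := by rw [h, hyk]
        _ = c * k ^ (n + 1) := by rw [pow_succ' k, mul_assoc]
  have hnil : Group.IsNilpotent Cbar := by
    apply Cfsg.Agent.Lib.Helper50.isNilpotent_of_fpf_conj hq Cbar (π yH)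
    · rw [← map_pow]
      have : yH ^ q = 1 := by
        apply Subtype.ext
        simpa using hyq
      rw [this, map_one]
    · rintro _ ⟨c, hc, rfl⟩
      refine ⟨yH * c * yH⁻¹, ?_, by simp⟩
      have hc' : (c : G) ∈ C := hc
      show ((yH * c * yH⁻¹ : ↥H) : G) ∈ C
      simpa using hyC _ hc'
    · rintro _ ⟨c, hc0, rfl⟩ hcomm
      have hc : (c : G) ∈ C := hc0
      rw [← map_mul, ← map_mul, hπ, QuotientGroup.mk'_apply, QuotientGroup.mk'_apply,
        QuotientGroup.eq, Subgroup.mem_subgroupOf] at hcomm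
      -- `k := (y c)⁻¹ (c y) ∈ K`
      have hk : ((c : G))⁻¹ * y⁻¹ * (c : G) * y ∈ K := by
        have : ((yH * c)⁻¹ * (c * yH) : ↥H) = ((c : G))⁻¹ * y⁻¹ * (c : G) * y := by
          simp [hyHdef, mul_assoc]
        rw [← this]
        exact hcomm
      set k : G := ((c : G))⁻¹ * y⁻¹ * (c : G) * y with hkdef
      have h1 : y⁻¹ * (c : G) * y = (c : G) * k := by
        rw [hkdef]; group
      have h2 := hiter (c : G) hc k hk h1 q
      rw [inv_pow, hyq] at h2
      simp only [inv_one, one_mul, mul_one] at h2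
      have hkq : k ^ q = 1 := by
        have : (c : G) * 1 = (c : G) * k ^ q := by rw [mul_one]; exact h2
        exact (mul_left_cancel this).symm
      have hkK : k ^ Nat.card K = 1 := by
        have h0 : (⟨k, hk⟩ : K) ^ Nat.card K = 1 := pow_card_eq_one'
        have h00 := congrArg Subtype.val h0
        rw [Subgroup.coe_pow, Subgroup.coe_one] at h00
        exact h00
      have hk1 : k = 1 := by
        have h3 : orderOf k ∣ q := orderOf_dvd_of_pow_eq_one hkq
        have h4 : orderOf k ∣ Nat.card K := orderOf_dvd_of_pow_eq_one hkK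
        have h5 : orderOf k ∣ Nat.gcd (Nat.card K) q := Nat.dvd_gcd h4 h3
        rw [hcop] at h5
        exact orderOf_eq_one_iff.mp (Nat.dvd_one.mp h5)
      rw [hk1, mul_one] at h1
      have h6 : y * (c : G) = (c : G) * y := by
        have : y * (y⁻¹ * (c : G) * y) = y * (c : G) := by rw [h1]
        rw [← this]; group
      have hcK : (c : G) ∈ K := hfix (c : G) hc h6
      rw [hπ, QuotientGroup.mk'_apply, QuotientGroup.eq_one_iff, Subgroup.mem_subgroupOf]
      exact hcK
  -- pull back along `C → Cbar`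
  let f : ↥C →* ↥Cbar :=
    (π.comp (Subgroup.inclusion hCH)).codRestrict Cbar (by
      intro c
      refine ⟨Subgroup.inclusion hCH c, ?_, rfl⟩
      show ((Subgroup.inclusion hCH c : ↥H) : G) ∈ C
      exact c.2)
  have hker : f.ker ≤ Subgroup.center ↥C := by
    intro c hc
    rw [MonoidHom.mem_ker] at hc
    have h1 : π (Subgroup.inclusion hCH c) = 1 := by
      have h0 := congrArg Subtype.val hc
      exact h0
    rw [hπ, QuotientGroup.mk'_apply, QuotientGroup.eq_one_iff, Subgroup.mem_subgroupOf] at h1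
    have hcK : (c : G) ∈ K := by simpa using h1
    rw [Subgroup.mem_center_iff]
    intro d
    apply Subtype.ext
    have := hKZ (c : G) hcK (d : G) d.2
    simpa using this.symm
  haveI := hnil
  exact Subgroup.isNilpotent_of_ker_le_center f hker

end Cfsg.Agent.Lib.Helper6.BGCnil
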