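import Mathlib
import Cfsg.Agent.S0041
import Cfsg.Agent.S0055

/-!
# Module [LIN] for S1376/S1436 (helper22 #3146)

`C_s × C_s` acting on an elementary abelian `p`-group `A` of order at most `p ^ 2` (`p ≠ s`):
for every `x ∈ A` some nonidentity element of `B` normalizes `⟨x⟩`.
-/

set_option autoImplicit false
set_option linter.unusedSectionVars false
set_option linter.unusedVariables false
set_option linter.style.haveILetI false

namespace Cfsg.Agent.Lib.Helper6.BGLin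

variable {G : Type*} [Group G] [Finite G]

/-- A subgroup `B` normalizing the cyclic group generated by an element `g` of prime order `p`
acts on it through a character `B →* (ZMod p)ˣ`. -/
theorem exists_powHom (p : ℕ) [Fact p.Prime] (B : Subgroup G) (g : G) (hg : orderOf g = p)
    (hB : ∀ b ∈ B, b * g * b⁻¹ ∈ Subgroup.zpowers g) :
    ∃ κ : ↥B →* (ZMod p)ˣ, ∀ b : ↥B, (b : G) * g * (b : G)⁻¹ = g ^ ((κ b : ZMod p).val) := by
  have h1 : ∀ b : ↥B, ∃ n : ℕ, (b : G) * g * (b : G)⁻¹ = g ^ n := by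
    intro b
    obtain ⟨k, hk⟩ := Subgroup.mem_zpowers_iff.mp (hB b b.2)
    refine ⟨(k % (p : ℤ)).toNat, ?_⟩
    have hp0 : (p : ℤ) ≠ 0 := by exact_mod_cast (Fact.out : p.Prime).ne_zero
    rw [← hk, ← zpow_natCast, Int.toNat_of_nonneg (Int.emod_nonneg _ hp0), ← hg, zpow_mod_orderOf]
  choose f hf using h1
  have key : ∀ (m n : ℕ), g ^ m = g ^ n → (m : ZMod p) = (n : ZMod p) := by
    intro m n h
    rw [pow_eq_pow_iff_modEq, hg] at h
    exact (ZMod.natCast_eq_natCast_iff m n p).mpr h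
  have hF : ∀ b : ↥B, (b : G) * g * (b : G)⁻¹ = g ^ ((f b : ZMod p)).val := by
    intro b
    rw [hf b, ZMod.val_natCast]
    conv_rhs => rw [← hg]
    rw [pow_mod_orderOf]
  have hconj_pow : ∀ (c : G) (n : ℕ), c * g ^ n * c⁻¹ = (c * g * c⁻¹) ^ n := by
    intro c n
    rw [conj_pow]
  let F : ↥B →* ZMod p :=
    { toFun := fun b => (f b : ZMod p)
      map_one' := by
        have h := hF 1
        simp only [Subgroup.coe_one, one_mul, inv_one, mul_one] at h
        have h2 : g ^ 1 = g ^ ((f 1 : ZMod p)).val := by rw [pow_one]; exact h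
        have h3 := key _ _ h2
        rw [ZMod.natCast_zmod_val] at h3
        rw [← h3]; simp
      map_mul' := by
        intro b b'
        have h : g ^ ((f (b * b') : ZMod p)).val
            = g ^ (((f b : ZMod p)).val * ((f b' : ZMod p)).val) := by
          rw [← hF (b * b'), pow_mul, ← hF b, ← hconj_pow, ← hF b']
          simp only [Subgroup.coe_mul, mul_inv_rev]
          group
        have h3 := key _ _ h
        rw [ZMod.natCast_zmod_val, Nat.cast_mul, ZMod.natCast_zmod_val, ZMod.natCast_zmod_val] at h3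
        exact h3 }
  refine ⟨F.toHomUnits, ?_⟩
  intro b
  rw [MonoidHom.coe_toHomUnits]
  exact hF b

/-- A proper nontrivial subgroup of a `p`-group of order at most `p ^ 2` has order `p`. -/
theorem card_eq_prime_of_lt (p : ℕ) [Fact p.Prime] (A L : Subgroup G) (hA : IsPGroup p A)
    (hAcard : Nat.card A ≤ p ^ 2) (hLA : L ≤ A) (hL1 : L ≠ ⊥) (hL2 : L ≠ A) :
    Nat.card L = p := by
  have hp : p.Prime := Fact.out
  obtain ⟨n, hn⟩ := IsPGroup.iff_card.mp hA
  have hn2 : n ≤ 2 := by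
    by_contra h
    push Not at h
    have : p ^ 2 < p ^ n := Nat.pow_lt_pow_right hp.one_lt h
    omega
  have hdvd : Nat.card L ∣ p ^ n := by
    rw [← hn]
    exact Subgroup.card_dvd_of_le hLA
  obtain ⟨m, hmn, hm⟩ := (Nat.dvd_prime_pow hp).mp hdvd
  have hm0 : m ≠ 0 := by
    rintro rfl
    rw [pow_zero] at hm
    exact hL1 (Subgroup.card_eq_one.mp hm)
  have hmn' : m ≠ n := by
    rintro rfl
    apply hL2
    exact Subgroup.eq_of_le_of_card_ge hLA (by rw [hm, hn])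
  have : m = 1 := by omega
  rw [hm, this, pow_one]

/-- Elements of the join of two elementwise commuting subgroups are products. -/
theorem exists_mul_of_mem_sup_of_commute (L1 L2 : Subgroup G)
    (hc : ∀ u ∈ L1, ∀ v ∈ L2, u * v = v * u) (x : G) (hx : x ∈ L1 ⊔ L2) :
    ∃ x1 ∈ L1, ∃ x2 ∈ L2, x1 * x2 = x := by
  let S : Subgroup G :=
    { carrier := {x | ∃ x1 ∈ L1, ∃ x2 ∈ L2, x1 * x2 = x}
      mul_mem' := by
        rintro _ _ ⟨x1, hx1, x2, hx2, rfl⟩ ⟨y1, hy1, y2, hy2, rfl⟩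
        refine ⟨x1 * y1, L1.mul_mem hx1 hy1, x2 * y2, L2.mul_mem hx2 hy2, ?_⟩
        have h := hc y1 hy1 x2 hx2
        calc x1 * y1 * (x2 * y2) = x1 * (y1 * x2) * y2 := by group
          _ = x1 * (x2 * y1) * y2 := by rw [h]
          _ = x1 * x2 * (y1 * y2) := by group
      one_mem' := ⟨1, L1.one_mem, 1, L2.one_mem, by simp⟩
      inv_mem' := by
        rintro _ ⟨x1, hx1, x2, hx2, rfl⟩
        refine ⟨x1⁻¹, L1.inv_mem hx1, x2⁻¹, L2.inv_mem hx2, ?_⟩
        have h := hc x1⁻¹ (L1.inv_mem hx1) x2⁻¹ (L2.inv_mem hx2)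
        rw [h, mul_inv_rev] }
  have h1 : L1 ≤ S := fun u hu => ⟨u, hu, 1, L2.one_mem, by simp⟩
  have h2 : L2 ≤ S := fun v hv => ⟨1, L1.one_mem, v, hv, by simp⟩
  exact (sup_le h1 h2) hx

theorem exists_normalizes_zpowers (p s : ℕ) [Fact p.Prime] [Fact s.Prime] (hps : p ≠ s)
    (A B : Subgroup G) (hBA : B ≤ Subgroup.normalizer (A : Set G))
    (hAab : ∀ a ∈ A, ∀ b ∈ A, a * b = b * a) (hAexp : ∀ a ∈ A, a ^ p = 1)
    (hAcard : Nat.card A ≤ p ^ 2)
    (hBab : ∀ a ∈ B, ∀ b ∈ B, a * b = b * a) (hBexp : ∀ b ∈ B, b ^ s = 1)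
    (hBcard : Nat.card B = s ^ 2) (x : G) (hx : x ∈ A) :
    ∃ b ∈ B, b ≠ 1 ∧ b * x * b⁻¹ ∈ Subgroup.zpowers x := by
  have hp : p.Prime := Fact.out
  have hs : s.Prime := Fact.out
  haveI hAcomm : IsMulCommutative A := ⟨⟨fun a b => Subtype.ext (hAab a a.2 b b.2)⟩⟩
  haveI hBcomm : IsMulCommutative B := ⟨⟨fun a b => Subtype.ext (hBab a a.2 b b.2)⟩⟩
  -- `B` is not cyclic
  have hBnc : ¬ IsCyclic B := by
    intro hcyc
    obtain ⟨g, hg⟩ := hcyc.exists_generator
    have h1 : orderOf g = Nat.card B := orderOf_eq_card_of_forall_mem_zpowers hg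
    have h2 : g ^ s = 1 := by
      apply Subtype.ext
      simpa using hBexp g g.2
    have h3 : orderOf g ∣ s := orderOf_dvd_of_pow_eq_one h2
    rw [h1, hBcard] at h3
    have h4 : s ^ 2 ≤ s := Nat.le_of_dvd hs.pos h3
    have h5 : s < s ^ 2 := by
      have := hs.one_lt
      nlinarith
    omega
  have hBne : ∃ b ∈ B, b ≠ 1 := by
    by_contra h
    push Not at h
    have : B = ⊥ := by
      rw [Subgroup.eq_bot_iff_forall]
      exact h
    rw [this] at hBcard
    simp at hBcard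
    have := hs.one_lt
    have h5 : 1 < s ^ 2 := by nlinarith
    omega
  -- normalizer in elementwise form
  have hnorm : ∀ b ∈ B, ∀ a ∈ A, b * a * b⁻¹ ∈ A := by
    intro b hb a ha
    exact (Subgroup.mem_normalizer_iff.mp (hBA hb) a).mp ha
  by_cases hA1 : A = ⊥
  · obtain ⟨b, hb, hb1⟩ := hBne
    have hx1 : x = 1 := by
      rw [hA1] at hx
      exact Subgroup.mem_bot.mp hx
    refine ⟨b, hb, hb1, ?_⟩
    rw [hx1]
    simp
  -- Step 1: some `b1 ≠ 1` has a nontrivial fixed point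
  have step1 : ∃ b1 ∈ B, b1 ≠ 1 ∧ A ⊓ Subgroup.centralizer {b1} ≠ ⊥ := by
    by_contra h
    push Not at h
    exact hBnc (Cfsg.Agent.S0041.result B A hA1 hBA h (Or.inl hBcomm))
  obtain ⟨b1, hb1B, hb1, hfix⟩ := step1
  by_cases hcent : ∀ a ∈ A, b1 * a = a * b1
  · refine ⟨b1, hb1B, hb1, ?_⟩
    rw [hcent x hx]
    simp
  -- Step 2: decomposition
  have hApg : IsPGroup p A := by
    intro a
    refine ⟨1, ?_⟩
    apply Subtype.ext
    simpa using hAexp a a.2
  have hZB : Subgroup.zpowers b1 ≤ B := by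
    rw [Subgroup.zpowers_le]
    exact hb1B
  have hZnorm : Subgroup.zpowers b1 ≤ Subgroup.normalizer (A : Set G) := hZB.trans hBA
  have hordb1 : orderOf b1 = s := by
    have h3 : orderOf b1 ∣ s := orderOf_dvd_of_pow_eq_one (hBexp b1 hb1B)
    rcases (Nat.dvd_prime hs).mp h3 with h | h
    · exact absurd (orderOf_eq_one_iff.mp h) hb1
    · exact h
  have hcop : (Nat.card (Subgroup.zpowers b1)).Coprime (Nat.card A) := by
    rw [Nat.card_zpowers, hordb1]
    obtain ⟨n, hn⟩ := IsPGroup.iff_card.mp hApg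
    rw [hn]
    apply Nat.Coprime.pow_right
    rw [Nat.coprime_primes hs hp]
    exact fun h => hps h.symm
  obtain ⟨hinf, hsup⟩ := Cfsg.Agent.S0055.result (Subgroup.zpowers b1) A hZnorm hcop
  set L1 : Subgroup G := A ⊓ Subgroup.centralizer ((Subgroup.zpowers b1 : Subgroup G) : Set G)
    with hL1def
  set L2 : Subgroup G := ⁅A, Subgroup.zpowers b1⁆ with hL2def
  have hL1A : L1 ≤ A := inf_le_left
  have hL2A : L2 ≤ A := by
    rw [← hsup]
    exact le_sup_right
  have hcz : Subgroup.centralizer ((Subgroup.zpowers b1 : Subgroup G) : Set G)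
      = Subgroup.centralizer {b1} := by
    rw [Subgroup.zpowers_eq_closure, Subgroup.centralizer_closure]
  have hL1ne : L1 ≠ ⊥ := by
    rw [hL1def, hcz]
    exact hfix
  have hL1neA : L1 ≠ A := by
    intro h
    apply hcent
    intro a ha
    have ha' : a ∈ L1 := by rw [h]; exact ha
    have h2 := ha'.2
    rw [hcz] at h2
    exact (Subgroup.mem_centralizer_iff.mp h2 b1 (Set.mem_singleton b1))
  have hL2ne : L2 ≠ ⊥ := by
    intro h
    apply hL1neA
    rw [h, sup_bot_eq] at hsup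
    exact hsup
  have hL2neA : L2 ≠ A := by
    intro h
    apply hL1ne
    rw [h] at hinf
    rw [← hinf]
    exact (inf_eq_left.mpr hL1A).symm
  have hcL1 : Nat.card L1 = p := card_eq_prime_of_lt p A L1 hApg hAcard hL1A hL1ne hL1neA
  have hcL2 : Nat.card L2 = p := card_eq_prime_of_lt p A L2 hApg hAcard hL2A hL2ne hL2neA
  -- `B` normalizes `L1` and `L2`
  have hBL1 : ∀ b ∈ B, ∀ v ∈ L1, b * v * b⁻¹ ∈ L1 := by
    intro b hb v hv
    refine ⟨hnorm b hb v hv.1, ?_⟩
    show b * v * b⁻¹ ∈ Subgroup.centralizer ((Subgroup.zpowers b1 : Subgroup G) : Set G)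
    rw [Subgroup.mem_centralizer_iff]
    intro z hz
    have hzB : z ∈ B := hZB hz
    have h1 : z * v = v * z := Subgroup.mem_centralizer_iff.mp hv.2 z hz
    have h2 : z * b = b * z := hBab z hzB b hb
    have h3 : z * b⁻¹ = b⁻¹ * z := by
      rw [eq_inv_mul_iff_mul_eq, ← mul_assoc, ← h2, mul_assoc, mul_inv_cancel, mul_one]
    calc z * (b * v * b⁻¹) = (z * b) * v * b⁻¹ := by group
      _ = b * (z * v) * b⁻¹ := by rw [h2]; group
      _ = b * v * (z * b⁻¹) := by rw [h1]; group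
      _ = b * v * b⁻¹ * z := by rw [h3]; group
  have hBL2 : ∀ b ∈ B, ∀ v ∈ L2, b * v * b⁻¹ ∈ L2 := by
    intro b hb v hv
    have hmapA : A.map (MulAut.conj b).toMonoidHom = A := by
      apply le_antisymm
      · rintro _ ⟨a, ha, rfl⟩
        simpa using hnorm b hb a ha
      · intro a ha
        refine ⟨b⁻¹ * a * b, ?_, ?_⟩
        · have := hnorm b⁻¹ (B.inv_mem hb) a ha
          simpa using this
        · simp [mul_assoc]
    have hmapZ : (Subgroup.zpowers b1).map (MulAut.conj b).toMonoidHom = Subgroup.zpowers b1 := by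
      rw [MonoidHom.map_zpowers]
      congr 1
      have h2 : b * b1 = b1 * b := hBab b hb b1 hb1B
      simp only [MulEquiv.toMonoidHom_eq_coe, MonoidHom.coe_coe, MulAut.conj_apply]
      rw [h2, mul_assoc, mul_inv_cancel, mul_one]
    have hmap : L2.map (MulAut.conj b).toMonoidHom = L2 := by
      rw [hL2def, Subgroup.map_commutator, hmapA, hmapZ]
    rw [← hmap]
    exact ⟨v, hv, by simp⟩
  -- generators
  haveI : Fact (Nat.card L1).Prime := ⟨by rw [hcL1]; exact hp⟩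
  haveI : Fact (Nat.card L2).Prime := ⟨by rw [hcL2]; exact hp⟩
  obtain ⟨g1, hg1⟩ := (isCyclic_of_prime_card (α := L1) rfl).exists_generator
  obtain ⟨g2, hg2⟩ := (isCyclic_of_prime_card (α := L2) rfl).exists_generator
  have hog1 : orderOf (g1 : G) = p := by
    rw [Subgroup.orderOf_coe, orderOf_eq_card_of_forall_mem_zpowers hg1, hcL1]
  have hog2 : orderOf (g2 : G) = p := by
    rw [Subgroup.orderOf_coe, orderOf_eq_card_of_forall_mem_zpowers hg2, hcL2]
  have hmemz : ∀ (L : Subgroup G) (g : L), (∀ y : L, y ∈ Subgroup.zpowers g) →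
      ∀ v ∈ L, v ∈ Subgroup.zpowers (g : G) := by
    intro L g hgen v hv
    obtain ⟨k, hk⟩ := Subgroup.mem_zpowers_iff.mp (hgen ⟨v, hv⟩)
    rw [Subgroup.mem_zpowers_iff]
    refine ⟨k, ?_⟩
    have := congrArg Subtype.val hk
    simpa using this
  obtain ⟨κ1, hκ1⟩ := exists_powHom p B (g1 : G) hog1
    (fun b hb => hmemz L1 g1 hg1 _ (hBL1 b hb g1 g1.2))
  obtain ⟨κ2, hκ2⟩ := exists_powHom p B (g2 : G) hog2
    (fun b hb => hmemz L2 g2 hg2 _ (hBL2 b hb g2 g2.2))
  -- the ratio character is not injective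
  have hninj : ¬ Function.Injective (κ1 / κ2 : ↥B →* (ZMod p)ˣ) := by
    intro hinj
    exact hBnc (isCyclic_of_injective (κ1 / κ2) hinj)
  have : ∃ b0 : ↥B, b0 ≠ 1 ∧ κ1 b0 = κ2 b0 := by
    by_contra h
    push Not at h
    apply hninj
    rw [injective_iff_map_eq_one]
    intro b hb
    by_contra hb1
    apply h b hb1
    rw [MonoidHom.div_apply, div_eq_one] at hb
    exact hb
  obtain ⟨b0, hb01, hb0⟩ := this
  refine ⟨(b0 : G), b0.2, fun h => hb01 (Subtype.ext h), ?_⟩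
  -- decompose `x`
  have hxsup : x ∈ L1 ⊔ L2 := by rw [hsup]; exact hx
  have hL1L2comm : ∀ u ∈ L1, ∀ v ∈ L2, u * v = v * u := fun u hu v hv =>
    hAab u (hL1A hu) v (hL2A hv)
  obtain ⟨x1, hx1, x2, hx2, rfl⟩ := exists_mul_of_mem_sup_of_commute L1 L2 hL1L2comm x hxsup
  obtain ⟨i, hi⟩ := Subgroup.mem_zpowers_iff.mp (hmemz L1 g1 hg1 x1 hx1)
  obtain ⟨j, hj⟩ := Subgroup.mem_zpowers_iff.mp (hmemz L2 g2 hg2 x2 hx2)
  set k : ℕ := ((κ1 b0 : ZMod p)).val with hk
  have e1 : (b0 : G) * x1 * (b0 : G)⁻¹ = x1 ^ k := by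
    rw [← hi]
    have : (b0 : G) * (g1 : G) ^ i * (b0 : G)⁻¹ = ((b0 : G) * (g1 : G) * (b0 : G)⁻¹) ^ i := by
      rw [conj_zpow]
    rw [this, hκ1 b0, ← zpow_natCast, ← zpow_natCast, ← zpow_mul, ← zpow_mul, mul_comm]
  have e2 : (b0 : G) * x2 * (b0 : G)⁻¹ = x2 ^ k := by
    rw [← hj]
    have : (b0 : G) * (g2 : G) ^ j * (b0 : G)⁻¹ = ((b0 : G) * (g2 : G) * (b0 : G)⁻¹) ^ j := by
      rw [conj_zpow]
    rw [this, hκ2 b0, ← hb0, ← zpow_natCast, ← zpow_natCast, ← zpow_mul, ← zpow_mul, mul_comm]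
  have e3 : (b0 : G) * (x1 * x2) * (b0 : G)⁻¹ = (x1 * x2) ^ k := by
    have hc : Commute x1 x2 := hL1L2comm x1 hx1 x2 hx2
    rw [hc.mul_pow, ← e1, ← e2]
    group
  rw [e3]
  exact Subgroup.npow_mem_zpowers _ _

end Cfsg.Agent.Lib.Helper6.BGLin
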