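import Mathlib
import Cfsg.Prelude.Def_LieExceptional

set_option autoImplicit false

namespace Cfsg.Agent.Lib.Helper6

open Cfsg

variable {G : Type*} [Group G] (P : Cfsg.BNPair G)

/-- membership in the double coset `B n B`, unfolded. -/
def InDC (n g : G) : Prop := ∃ x ∈ P.B, ∃ y ∈ P.B, g = x * n * y

theorem inDC_iff {n g : G} :
    InDC P n g ↔ g ∈ DoubleCoset.doubleCoset n (P.B : Set G) P.B := by
  unfold InDC
  rw [DoubleCoset.mem_doubleCoset]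
  rfl

theorem inDC_self (n : G) : InDC P n n := ⟨1, P.B.one_mem, 1, P.B.one_mem, by simp⟩

theorem inDC_mul_left {n g b : G} (hb : b ∈ P.B) (h : InDC P n g) : InDC P n (b * g) := by
  obtain ⟨x, hx, y, hy, rfl⟩ := h
  exact ⟨b * x, P.B.mul_mem hb hx, y, hy, by group⟩

theorem inDC_mul_right {n g b : G} (hb : b ∈ P.B) (h : InDC P n g) : InDC P n (g * b) := by
  obtain ⟨x, hx, y, hy, rfl⟩ := h
  exact ⟨x, hx, y * b, P.B.mul_mem hy hb, by group⟩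

theorem inDC_symm {n g : G} (h : InDC P n g) : InDC P g n := by
  obtain ⟨x, hx, y, hy, rfl⟩ := h
  exact ⟨x⁻¹, P.B.inv_mem hx, y⁻¹, P.B.inv_mem hy, by group⟩

theorem inDC_trans {n m g : G} (h1 : InDC P n m) (h2 : InDC P m g) : InDC P n g := by
  obtain ⟨x, hx, y, hy, rfl⟩ := h1
  obtain ⟨x', hx', y', hy', rfl⟩ := h2
  exact ⟨x' * x, P.B.mul_mem hx' hx, y * y', P.B.mul_mem hy hy', by group⟩

theorem inDC_inv {n g : G} (h : InDC P n g) : InDC P n⁻¹ g⁻¹ := by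
  obtain ⟨x, hx, y, hy, rfl⟩ := h
  exact ⟨y⁻¹, P.B.inv_mem hy, x⁻¹, P.B.inv_mem hx, by group⟩

/-- change of representative on the right by an element of `B` -/
theorem inDC_of_rel {n n' g : G} (hr : n⁻¹ * n' ∈ P.B) (h : InDC P n g) : InDC P n' g := by
  obtain ⟨x, hx, y, hy, rfl⟩ := h
  exact ⟨x, hx, (n⁻¹ * n')⁻¹ * y, P.B.mul_mem (P.B.inv_mem hr) hy, by group⟩

theorem inDC_one_iff {g : G} : InDC P 1 g ↔ g ∈ P.B := by
  constructor
  · rintro ⟨x, hx, y, hy, rfl⟩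
    simpa using P.B.mul_mem hx hy
  · intro h
    exact ⟨g, h, 1, P.B.one_mem, by simp⟩

theorem inDC_of_mem_B {b g : G} (hb : b ∈ P.B) : InDC P b g ↔ g ∈ P.B := by
  constructor
  · rintro ⟨x, hx, y, hy, rfl⟩
    exact P.B.mul_mem (P.B.mul_mem hx hb) hy
  · intro h
    exact ⟨g * b⁻¹, P.B.mul_mem h (P.B.inv_mem hb), 1, P.B.one_mem, by group⟩

/-- `T = B ⊓ N` -/
theorem S_mem_N {s : G} (hs : s ∈ P.S) : s ∈ P.N := P.subset hs

theorem sq_mem_T {s : G} (hs : s ∈ P.S) : s * s ∈ P.B ⊓ P.N :=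
  ⟨P.sq_mem s hs, P.N.mul_mem (S_mem_N P hs) (S_mem_N P hs)⟩

/-- conjugation of `T` by `N` lands in `T`. -/
theorem conj_mem_T {n t : G} (hn : n ∈ P.N) (ht : t ∈ P.B ⊓ P.N) : n * t * n⁻¹ ∈ P.B ⊓ P.N :=
  ⟨P.conj_mem n hn t ht, P.N.mul_mem (P.N.mul_mem hn ht.2) (P.N.inv_mem hn)⟩

theorem conj_mem_T' {n t : G} (hn : n ∈ P.N) (ht : t ∈ P.B ⊓ P.N) : n⁻¹ * t * n ∈ P.B ⊓ P.N := by
  have := conj_mem_T P (P.N.inv_mem hn) ht
  simpa using this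

/-- `s⁻¹ = s * t` with `t ∈ T`. -/
theorem S_inv_eq {s : G} (hs : s ∈ P.S) : ∃ t ∈ P.B ⊓ P.N, s⁻¹ = s * t :=
  ⟨(s * s)⁻¹, (P.B ⊓ P.N).inv_mem (sq_mem_T P hs), by group⟩

/-- The basic axiom, in `InDC` form. -/
theorem axiom_left {s n b : G} (hs : s ∈ P.S) (hn : n ∈ P.N) (hb : b ∈ P.B) :
    InDC P (s * n) (s * b * n) ∨ InDC P n (s * b * n) := by
  have := P.mul_mem_union s hs n hn b hb
  rcases this with h | h
  · left; exact (inDC_iff P).2 h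
  · right; exact (inDC_iff P).2 h

/-- `C(s) C(n) ⊆ C(sn) ∪ C(n)` -/
theorem dc_mul_left {s n g h : G} (hs : s ∈ P.S) (hn : n ∈ P.N) (hg : InDC P s g) (hh : InDC P n h) :
    InDC P (s * n) (g * h) ∨ InDC P n (g * h) := by
  obtain ⟨x, hx, y, hy, rfl⟩ := hg
  obtain ⟨x', hx', y', hy', rfl⟩ := hh
  have key := axiom_left P hs hn (P.B.mul_mem hy hx')
  have e : x * s * y * (x' * n * y') = x * (s * (y * x') * n) * y' := by group
  rw [e]
  rcases key with k | k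
  · left; exact inDC_mul_right P hy' (inDC_mul_left P hx k)
  · right; exact inDC_mul_right P hy' (inDC_mul_left P hx k)

/-- version with `s⁻¹`: `C(s⁻¹) C(n) ⊆ C(sn) ∪ C(n)`, and `C(s⁻¹) = C(s)`. -/
theorem inDC_S_inv {s : G} (hs : s ∈ P.S) : InDC P s s⁻¹ := by
  obtain ⟨t, ht, e⟩ := S_inv_eq P hs
  rw [e]
  exact inDC_mul_right P ht.1 (inDC_self P s)

/-- `C(n) C(s) ⊆ C(ns) ∪ C(n)` -/
theorem dc_mul_right {s n g h : G} (hs : s ∈ P.S) (hn : n ∈ P.N) (hg : InDC P s g) (hh : InDC P n h) :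
    InDC P (n * s) (h * g) ∨ InDC P n (h * g) := by
  -- invert: (h g)⁻¹ = g⁻¹ h⁻¹ ∈ C(s⁻¹) C(n⁻¹) = C(s) C(n⁻¹)
  have hg' : InDC P s g⁻¹ := by
    have h1 := inDC_inv P hg  -- InDC s⁻¹ g⁻¹
    exact inDC_trans P (inDC_S_inv P hs) h1
  have hh' : InDC P n⁻¹ h⁻¹ := inDC_inv P hh
  rcases dc_mul_left P hs (P.N.inv_mem hn) hg' hh' with k | k
  · left
    have k' := inDC_inv P k
    have e : (g⁻¹ * h⁻¹)⁻¹ = h * g := by group
    rw [e] at k'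
    -- (s * n⁻¹)⁻¹ = n * s⁻¹ ~ n * s
    have e2 : (s * n⁻¹)⁻¹ = n * s⁻¹ := by group
    rw [e2] at k'
    obtain ⟨t, ht, e3⟩ := S_inv_eq P hs
    refine inDC_of_rel P ?_ k'
    rw [e3]
    have hh : (n * (s * t))⁻¹ * (n * s) = t⁻¹ := by group
    rw [hh]
    exact P.B.inv_mem ht.1
  · right
    have k' := inDC_inv P k
    have e : (g⁻¹ * h⁻¹)⁻¹ = h * g := by group
    rw [e] at k'
    simpa using k'

end Cfsg.Agent.Lib.Helper6
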