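import Cfsg.Agent.Lib.Helper6.BNParabolic

set_option autoImplicit false

namespace Cfsg.Agent.Lib.Helper6

open Cfsg

variable {G : Type*} [Group G] (P : Cfsg.BNPair G)

/-- products of `{s}`-words are in `B` or equivalent to `s`. -/
theorem singleton_word_prod {s : G} (hs : s ∈ P.S) : ∀ l : List G, IsWord {s} l →
    l.prod ∈ P.B ∨ Rel P s l.prod := by
  intro l
  induction l with
  | nil => intro _; left; simp [P.B.one_mem]
  | cons a l ih =>
    intro hl
    have hW := isWord_cons.1 hl
    have ha : a = s := hW.1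
    subst ha
    rw [List.prod_cons]
    rcases ih hW.2 with h | h
    · right
      unfold Rel
      have : a⁻¹ * (a * l.prod) = l.prod := by group
      rw [this]; exact h
    · left
      have : a * l.prod = (a * a) * (a⁻¹ * l.prod) := by group
      rw [this]
      exact P.B.mul_mem (P.sq_mem a hs) h

/-- `P_{s} = B ∪ B s B`. -/
theorem mem_parabolic_singleton_iff {s : G} (hs : s ∈ P.S) (g : G) :
    g ∈ P.parabolic {s} ↔ g ∈ P.B ∨ InDC P s g := by
  have hsub : ({s} : Set G) ⊆ P.S := by
    intro x hx; rw [Set.mem_singleton_iff] at hx; rw [hx]; exact hs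
  constructor
  · intro hg
    obtain ⟨n, hn, hdc⟩ := (mem_parabolic_iff P hsub g).1 hg
    obtain ⟨l, hl, rl⟩ := exists_word_of_mem P hsub (n := n) (Subgroup.mem_sup_left hn)
    rcases singleton_word_prod P hs l hl with h | h
    · left
      have hnB : n ∈ P.B := by
        have : n = l.prod * (l.prod⁻¹ * n) := by group
        rw [this]; exact P.B.mul_mem h rl
      exact (inDC_of_mem_B P hnB).1 hdc
    · right
      exact (inDC_congr_left P (rel_trans P h rl)).2 hdc
  · rintro (h | ⟨x, hx, y, hy, rfl⟩)
    · exact B_le_parabolic P _ h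
    · exact Subgroup.mul_mem _ (Subgroup.mul_mem _ (B_le_parabolic P _ hx)
        (closure_le_parabolic P _ (Subgroup.subset_closure rfl))) (B_le_parabolic P _ hy)

/-- if a subgroup `H ≥ B` contains `n ∈ N ∖ B` then it contains some `s ∈ S`, namely the letters
of a reduced word of `n`. -/
theorem exists_S_mem_of_mem {H : Subgroup G} (hB : P.B ≤ H) {n : G} (hn : n ∈ P.N) (hnH : n ∈ H)
    (hnB : n ∉ P.B) : ∃ s ∈ P.S, s ∈ H := by
  obtain ⟨l, hl, hlen⟩ := exists_rep_len P hn
  have hletters := letters_mem P hB l n hn hnH hl hlen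
  match l, hl, hletters with
  | [], hl, _ =>
    exfalso
    apply hnB
    have := hl.2
    simpa [Rel] using this
  | s :: l', hl, hletters =>
    exact ⟨s, hl.1 s (by simp), hletters s (by simp)⟩

end Cfsg.Agent.Lib.Helper6
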