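import Mathlib
import Cfsg.Agent.Lib.Helper79.BrauerN.Defs
import Cfsg.Agent.Lib.Helper79.BrauerN.Partition
import Cfsg.Agent.Lib.Helper79.BrauerN.Arith3
import Cfsg.Agent.Lib.Helper78.CharMore
import Cfsg.Agent.Lib.Helper64.BrauerNNV

/-!
# Module [E1-DECOMP] for S0999 / S4701 (helper79, board #3615)

Decomposition of a character `Φ` of degree `1 + (t - 1) p` that is `1` on `P ∖ 1`, in the rigid
configuration with `ε = -1`.
-/

set_option autoImplicit false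
set_option linter.unusedSectionVars false
set_option linter.unusedVariables false
set_option linter.style.haveILetI false
set_option maxHeartbeats 800000

open Cfsg Cfsg.Agent.Lib.Helper79.BrauerN Cfsg.Agent.Lib.Helper78

namespace Cfsg.Agent.Lib.Helper6.BrauerN

theorem rigid_decomp {G : Type*} [Group G] [Fintype G] {p : ℕ} [Fact p.Prime] {P : Sylow p G}
    {q t : ℕ} {ε : ℤ} {a : IrrCharacter G → ℤ} {X Y : Finset (IrrCharacter G)}
    (D : RigidData p P q t ε a X Y) (hε : ε = -1)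
    (hvan : ∀ ζ : IrrCharacter G, ζ ∉ X → ζ ∉ Y → ∀ x : G, x ∈ (P : Subgroup G) → x ≠ 1 →
      (ζ : G → ℂ) x = 0)
    (hsumP : ∀ θ ∈ Y, ∑ᶠ x ∈ ((P : Subgroup G) : Set G), (θ : G → ℂ) x = (p : ℂ))
    {Φ : G → ℂ} (hΦ : IsCharacter G Φ) (hΦ1 : Φ 1 = ((1 + (t - 1) * p : ℕ) : ℂ))
    (hΦP : ∀ x : G, x ∈ (P : Subgroup G) → x ≠ 1 → Φ x = 1)
    (triv : IrrCharacter G) (htriv : (triv : G → ℂ) = fun _ => 1) :
    (classInner Φ (triv : G → ℂ) = 1 →
      ∀ ζ : IrrCharacter G, ζ ∈ X ∨ ζ ∈ Y → ζ ≠ triv → classInner Φ (ζ : G → ℂ) = 0) ∧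
    (classInner Φ (triv : G → ℂ) = 0 →
      (∃ χ ∈ X, a χ = 1 ∧ χ ≠ triv ∧ Φ = (χ : G → ℂ)) ∨
      ((∀ χ ∈ X, classInner Φ (χ : G → ℂ) = 0) ∧
        ∑ θ ∈ Y, classInner Φ (θ : G → ℂ) = (t : ℂ) ∧
        ∀ ζ : IrrCharacter G, ζ ∉ X → ζ ∉ Y → classInner Φ (ζ : G → ℂ) = 0)) := by
  classical
  have hpqt := D.hpqt
  have hq := D.hq
  have ht := D.ht
  have h7 := D.p_ge_seven
  have hqp : q ≤ p := by nlinarith
  -- the trivial character
  obtain ⟨triv', htriv', hX', ha', hY'⟩ := D.exists_triv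
  have htt : triv' = triv := Subtype.ext (by rw [htriv', htriv])
  rw [htt] at hX' ha' hY'
  -- the multiplicities
  obtain ⟨m, hm⟩ := (isCharacter_iff_exists_nat_combination Φ).mp hΦ
  have hinner : ∀ ζ : IrrCharacter G, classInner Φ (ζ : G → ℂ) = (m ζ : ℂ) := by
    intro ζ
    rw [hm]
    exact classInner_nat_combination (fun φ => (m φ : ℂ)) ζ
  have hΦx : ∀ x : G, Φ x = ∑ ζ : IrrCharacter G, (m ζ : ℂ) * (ζ : G → ℂ) x := by
    intro x
    have h1 := congrFun hm x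
    rw [h1, Finset.sum_apply]
    simp only [Pi.smul_apply, smul_eq_mul]
  -- sums over `P`
  haveI : Fintype (P : Subgroup G) := Fintype.ofFinite _
  have hcardP : Fintype.card (P : Subgroup G) = p := by
    rw [← Nat.card_eq_fintype_card]; exact D.hPcard
  have hT_const : ∀ (f : G → ℂ) (c : ℂ), (∀ x : G, x ∈ (P : Subgroup G) → x ≠ 1 → f x = c) →
      ∑ x : (P : Subgroup G), f x = f 1 + ((p : ℂ) - 1) * c := by
    intro f c hf
    rw [← Finset.add_sum_erase Finset.univ (fun x : (P : Subgroup G) => f x)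
      (Finset.mem_univ (1 : (P : Subgroup G)))]
    have h1 : ∑ x ∈ Finset.univ.erase (1 : (P : Subgroup G)), f x
        = ∑ x ∈ Finset.univ.erase (1 : (P : Subgroup G)), c := by
      apply Finset.sum_congr rfl
      intro x hx
      have hx1 : x ≠ 1 := (Finset.mem_erase.mp hx).1
      exact hf x x.2 (fun h => hx1 (Subtype.ext h))
    rw [h1, Finset.sum_const, Finset.card_erase_of_mem (Finset.mem_univ _), Finset.card_univ,
      hcardP, nsmul_eq_mul, Nat.cast_sub (by omega : 1 ≤ p)]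
    simp
  -- casts
  have e1 : ((p - 1 : ℕ) : ℂ) = (p : ℂ) - 1 := by rw [Nat.cast_sub (by omega)]; simp
  -- values of the sums over `P`
  have hTΦ : ∑ x : (P : Subgroup G), Φ x = ((1 + (t - 1) * p : ℕ) : ℂ) + ((p - 1 : ℕ) : ℂ) := by
    rw [hT_const Φ 1 hΦP, hΦ1, e1, mul_one]
  have hTtriv : ∑ x : (P : Subgroup G), (triv : G → ℂ) x = (p : ℂ) := by
    rw [htriv]
    simp [hcardP]
  have hTA : ∀ χ ∈ setA a X triv, ∑ x : (P : Subgroup G), (χ : G → ℂ) x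
      = ((1 + (t - 1) * p : ℕ) : ℂ) + ((p - 1 : ℕ) : ℂ) := by
    intro χ hχ
    obtain ⟨h1, h2, h3⟩ := mem_setA.mp hχ
    have hv : ∀ x : G, x ∈ (P : Subgroup G) → x ≠ 1 → (χ : G → ℂ) x = 1 := by
      intro x hx hx1
      rw [D.hXval χ h1 x hx hx1, h2]; simp
    rw [hT_const _ 1 hv, D.hdegXp χ h1 h2 (fun h => h3 (Subtype.ext (by rw [h, htriv]))), e1,
      mul_one]
  have hTB : ∀ χ ∈ setB a X, ∑ x : (P : Subgroup G), (χ : G → ℂ) x = 0 := by
    intro χ hχ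
    obtain ⟨h1, h2⟩ := mem_setB.mp hχ
    have hv : ∀ x : G, x ∈ (P : Subgroup G) → x ≠ 1 → (χ : G → ℂ) x = -1 := by
      intro x hx hx1
      rw [D.hXval χ h1 x hx hx1, h2]; simp
    rw [hT_const _ (-1) hv, D.hdegXm χ h1 h2, e1]
    ring
  have hTY : ∀ θ ∈ Y, ∑ x : (P : Subgroup G), (θ : G → ℂ) x = (p : ℂ) := by
    intro θ hθ
    rw [← Cfsg.Agent.Lib.Helper64.BrauerN.finsum_mem_subgroup]
    exact hsumP θ hθ
  have hTR : ∀ ζ ∈ setR X Y, ∑ x : (P : Subgroup G), (ζ : G → ℂ) x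
      = (charDegree (ζ : G → ℂ) : ℂ) := by
    intro ζ hζ
    obtain ⟨h1, h2⟩ := mem_setR.mp hζ
    rw [hT_const _ 0 (hvan ζ h1 h2), mul_zero, add_zero, irr_apply_one]
  -- degrees
  have hdA : ∀ χ ∈ setA a X triv, (χ : G → ℂ) 1 = ((1 + (t - 1) * p : ℕ) : ℂ) := by
    intro χ hχ
    obtain ⟨h1, h2, h3⟩ := mem_setA.mp hχ
    exact D.hdegXp χ h1 h2 (fun h => h3 (Subtype.ext (by rw [h, htriv])))
  have hdB : ∀ χ ∈ setB a X, (χ : G → ℂ) 1 = ((p - 1 : ℕ) : ℂ) := by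
    intro χ hχ
    obtain ⟨h1, h2⟩ := mem_setB.mp hχ
    exact D.hdegXm χ h1 h2
  have hdY : ∀ θ ∈ Y, (θ : G → ℂ) 1 = ((p - q : ℕ) : ℂ) := by
    intro θ hθ
    have hne : ε ≠ 1 := by rw [hε]; norm_num
    rw [D.hdegY θ hθ, if_neg hne]
  -- the five totals
  set Dn : ℕ := 1 + (t - 1) * p with hDn
  set m₀ : ℕ := m triv with hm₀
  set mA : ℕ := ∑ χ ∈ setA a X triv, m χ with hmA
  set mB : ℕ := ∑ χ ∈ setB a X, m χ with hmB
  set mY : ℕ := ∑ θ ∈ Y, m θ with hmY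
  set r : ℕ := ∑ ζ ∈ setR X Y, m ζ * charDegree (ζ : G → ℂ) with hr
  -- first equation: value at `1`
  have E1 : Dn = m₀ + Dn * mA + (p - 1) * mB + (p - q) * mY + r := by
    have h1 := hΦx 1
    rw [hΦ1, D.sum_split hX' ha'] at h1
    have hA : ∑ χ ∈ setA a X triv, (m χ : ℂ) * (χ : G → ℂ) 1 = (Dn : ℂ) * (mA : ℂ) := by
      rw [hmA, Nat.cast_sum, Finset.mul_sum]
      apply Finset.sum_congr rfl
      intro χ hχ
      rw [hdA χ hχ, mul_comm]
    have hB : ∑ χ ∈ setB a X, (m χ : ℂ) * (χ : G → ℂ) 1 = ((p - 1 : ℕ) : ℂ) * (mB : ℂ) := by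
      rw [hmB, Nat.cast_sum, Finset.mul_sum]
      apply Finset.sum_congr rfl
      intro χ hχ
      rw [hdB χ hχ, mul_comm]
    have hYs : ∑ θ ∈ Y, (m θ : ℂ) * (θ : G → ℂ) 1 = ((p - q : ℕ) : ℂ) * (mY : ℂ) := by
      rw [hmY, Nat.cast_sum, Finset.mul_sum]
      apply Finset.sum_congr rfl
      intro θ hθ
      rw [hdY θ hθ, mul_comm]
    have hR : ∑ ζ ∈ setR X Y, (m ζ : ℂ) * (ζ : G → ℂ) 1 = (r : ℂ) := by
      rw [hr, Nat.cast_sum]
      apply Finset.sum_congr rfl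
      intro ζ hζ
      rw [irr_apply_one, Nat.cast_mul]
    rw [hA, hB, hYs, hR, htriv] at h1
    have h1' : (Dn : ℂ) = (m₀ : ℂ) * 1 + ((Dn : ℂ) * (mA : ℂ) + ((p - 1 : ℕ) : ℂ) * (mB : ℂ))
        + ((p - q : ℕ) : ℂ) * (mY : ℂ) + (r : ℂ) := h1
    have h2 : ((Dn : ℕ) : ℂ) = ((m₀ + Dn * mA + (p - 1) * mB + (p - q) * mY + r : ℕ) : ℂ) := by
      push_cast
      linear_combination h1'
    exact_mod_cast h2
  -- second equation: sum over `P`
  have E2 : Dn + (p - 1) = p * m₀ + (Dn + (p - 1)) * mA + p * mY + r := by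
    have h1 : ∑ x : (P : Subgroup G), Φ x
        = ∑ ζ : IrrCharacter G, (m ζ : ℂ) * ∑ x : (P : Subgroup G), (ζ : G → ℂ) x := by
      simp_rw [hΦx, Finset.mul_sum]
      exact Finset.sum_comm
    rw [hTΦ, D.sum_split hX' ha'] at h1
    have hA : ∑ χ ∈ setA a X triv, (m χ : ℂ) * ∑ x : (P : Subgroup G), (χ : G → ℂ) x
        = ((Dn : ℂ) + ((p - 1 : ℕ) : ℂ)) * (mA : ℂ) := by
      rw [hmA, Nat.cast_sum, Finset.mul_sum]
      apply Finset.sum_congr rfl
      intro χ hχ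
      rw [hTA χ hχ, mul_comm]
    have hB : ∑ χ ∈ setB a X, (m χ : ℂ) * ∑ x : (P : Subgroup G), (χ : G → ℂ) x = 0 := by
      apply Finset.sum_eq_zero
      intro χ hχ
      rw [hTB χ hχ, mul_zero]
    have hYs : ∑ θ ∈ Y, (m θ : ℂ) * ∑ x : (P : Subgroup G), (θ : G → ℂ) x
        = (p : ℂ) * (mY : ℂ) := by
      rw [hmY, Nat.cast_sum, Finset.mul_sum]
      apply Finset.sum_congr rfl
      intro θ hθ
      rw [hTY θ hθ, mul_comm]
    have hR : ∑ ζ ∈ setR X Y, (m ζ : ℂ) * ∑ x : (P : Subgroup G), (ζ : G → ℂ) x = (r : ℂ) := by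
      rw [hr, Nat.cast_sum]
      apply Finset.sum_congr rfl
      intro ζ hζ
      rw [hTR ζ hζ, Nat.cast_mul]
    rw [hA, hB, hYs, hR, hTtriv] at h1
    have h1' : (Dn : ℂ) + ((p - 1 : ℕ) : ℂ) = (m₀ : ℂ) * (p : ℂ)
        + (((Dn : ℂ) + ((p - 1 : ℕ) : ℂ)) * (mA : ℂ) + 0) + (p : ℂ) * (mY : ℂ) + (r : ℂ) := h1
    have h2 : ((Dn + (p - 1) : ℕ) : ℂ)
        = ((p * m₀ + (Dn + (p - 1)) * mA + p * mY + r : ℕ) : ℂ) := by
      push_cast
      linear_combination h1'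
    exact_mod_cast h2
  -- classification of an irreducible character
  have hclass : ∀ ζ : IrrCharacter G, ζ = triv ∨ ζ ∈ setA a X triv ∨ ζ ∈ setB a X ∨ ζ ∈ Y ∨
      ζ ∈ setR X Y := by
    intro ζ
    by_cases h1 : ζ = triv
    · exact Or.inl h1
    by_cases hX : ζ ∈ X
    · rcases D.haX ζ hX with h | h
      · exact Or.inr (Or.inl (mem_setA.mpr ⟨hX, h, h1⟩))
      · exact Or.inr (Or.inr (Or.inl (mem_setB.mpr ⟨hX, h⟩)))
    by_cases hY : ζ ∈ Y
    · exact Or.inr (Or.inr (Or.inr (Or.inl hY)))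
    · exact Or.inr (Or.inr (Or.inr (Or.inr (mem_setR.mpr ⟨hX, hY⟩))))
  have hzero_of_sum : ∀ (S : Finset (IrrCharacter G)), ∑ χ ∈ S, m χ = 0 → ∀ χ ∈ S, m χ = 0 := by
    intro S hS χ hχ
    exact (Finset.sum_eq_zero_iff.mp hS) χ hχ
  have hR_zero : r = 0 → ∀ ζ ∈ setR X Y, m ζ = 0 := by
    intro h ζ hζ
    have h1 := (Finset.sum_eq_zero_iff.mp h) ζ hζ
    rcases Nat.mul_eq_zero.mp h1 with h2 | h2
    · exact h2
    · exact absurd h2 (IsIrrCharacter.charDegree_pos ζ.2).ne'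
  constructor
  · intro h0 ζ hζ hne
    have hm1 : m₀ = 1 := by
      have : (m₀ : ℂ) = 1 := by rw [← hinner triv]; exact h0
      exact_mod_cast this
    obtain ⟨hA0, hB0, hY0⟩ := (decomp_arith hpqt hq ht hDn E1 E2 (by omega)).1 hm1
    rw [hinner ζ]
    rcases hclass ζ with h | h | h | h | h
    · exact absurd h hne
    · exact_mod_cast hzero_of_sum _ hA0 ζ h
    · exact_mod_cast hzero_of_sum _ hB0 ζ h
    · exact_mod_cast hzero_of_sum _ hY0 ζ h
    · obtain ⟨h1, h2⟩ := mem_setR.mp h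
      rcases hζ with h3 | h3
      · exact absurd h3 h1
      · exact absurd h3 h2
  · intro h0
    have hm0 : m₀ = 0 := by
      have : (m₀ : ℂ) = 0 := by rw [← hinner triv]; exact h0
      exact_mod_cast this
    rcases (decomp_arith hpqt hq ht hDn E1 E2 (by omega)).2 hm0 with
      ⟨hA1, hB0, hY0, hr0⟩ | ⟨hA0, hB0, hYt, hr0⟩
    · left
      -- a unique `χ ∈ A` with multiplicity one
      have hne : ∑ χ ∈ setA a X triv, m χ ≠ 0 := by rw [← hmA, hA1]; norm_num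
      obtain ⟨χ, hχA, hχ0⟩ := Finset.exists_ne_zero_of_sum_ne_zero hne
      have hsplit := Finset.add_sum_erase (setA a X triv) m hχA
      rw [← hmA, hA1] at hsplit
      have hχ1 : m χ = 1 := by omega
      have hrest : ∑ χ' ∈ (setA a X triv).erase χ, m χ' = 0 := by omega
      obtain ⟨h1, h2, h3⟩ := mem_setA.mp hχA
      refine ⟨χ, h1, h2, h3, ?_⟩
      have hall : ∀ ζ : IrrCharacter G, ζ ≠ χ → m ζ = 0 := by
        intro ζ hζ
        rcases hclass ζ with h | h | h | h | h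
        · rw [h]; exact hm0
        · exact hzero_of_sum _ hrest ζ (Finset.mem_erase.mpr ⟨hζ, h⟩)
        · exact hzero_of_sum _ hB0 ζ h
        · exact hzero_of_sum _ hY0 ζ h
        · exact hR_zero hr0 ζ h
      rw [hm, Finset.sum_eq_single χ]
      · rw [hχ1]; simp
      · intro ζ _ hζ
        rw [hall ζ hζ]; simp
      · intro h; exact absurd (Finset.mem_univ χ) h
    · right
      refine ⟨?_, ?_, ?_⟩
      · intro χ hχ
        rw [hinner χ]
        rcases hclass χ with h | h | h | h | h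
        · rw [h]; exact_mod_cast hm0
        · exact_mod_cast hzero_of_sum _ hA0 χ h
        · exact_mod_cast hzero_of_sum _ hB0 χ h
        · exact absurd h (Finset.disjoint_left.mp D.hdisj hχ)
        · exact absurd hχ (mem_setR.mp h).1
      · simp_rw [hinner]
        rw [← Nat.cast_sum, ← hmY, hYt]
      · intro ζ h1 h2
        rw [hinner ζ]
        exact_mod_cast hR_zero hr0 ζ (mem_setR.mpr ⟨h1, h2⟩)

end Cfsg.Agent.Lib.Helper6.BrauerN
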