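import Mathlib

/-!
# Module [INV-B] for S0999 / S4701 (helper79, Lib/Helper79/BrauerN/SPINE.md)

Structure of the centralizer of an involution `s` from the count of pairs of conjugates of `s`
with product `s`.
-/

set_option autoImplicit false
set_option linter.unusedSectionVars false
set_option linter.unusedVariables false
set_option linter.style.haveILetI false

namespace Cfsg.Agent.Lib.Helper6.BrauerNInv

/-- In a finite cyclic group, an element of order two is unique. -/
theorem eq_of_orderOf_two_of_isCyclic {Z : Type*} [Group Z] [Finite Z] [IsCyclic Z] (a b : Z)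
    (ha : orderOf a = 2) (hb : orderOf b = 2) : a = b := by
  classical
  haveI : Fintype Z := Fintype.ofFinite Z
  by_contra hab
  have h1 : (1 : Z) ≠ a := by
    intro h; rw [← h, orderOf_one] at ha; norm_num at ha
  have h2 : (1 : Z) ≠ b := by
    intro h; rw [← h, orderOf_one] at hb; norm_num at hb
  have ha2 : a ^ 2 = 1 := by rw [← ha]; exact pow_orderOf_eq_one a
  have hb2 : b ^ 2 = 1 := by rw [← hb]; exact pow_orderOf_eq_one b
  have hsub : ({1, a, b} : Finset Z) ⊆ Finset.univ.filter (fun x : Z => x ^ 2 = 1) := by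
    intro x hx
    simp only [Finset.mem_insert, Finset.mem_singleton] at hx
    simp only [Finset.mem_filter, Finset.mem_univ, true_and]
    rcases hx with rfl | rfl | rfl
    · simp
    · exact ha2
    · exact hb2
  have hcard : ({1, a, b} : Finset Z).card = 3 := by
    rw [Finset.card_insert_of_notMem, Finset.card_insert_of_notMem, Finset.card_singleton]
    · simpa using hab
    · simp only [Finset.mem_insert, Finset.mem_singleton, not_or]
      exact ⟨h1, h2⟩
  have hle := IsCyclic.card_pow_eq_one_le (α := Z) (n := 2) (by norm_num)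
  have := Finset.card_le_card hsub
  omega

theorem involution_centralizer_structure {G : Type*} [Group G] [Finite G] (q t : ℕ) (s : G)
    (hs : orderOf s = 2) (Z : Subgroup G) (hZ : Z ≤ Subgroup.centralizer ({s} : Set G))
    (hZcyc : IsCyclic Z) (hZcard : Nat.card Z = q) (hsZ : s ∈ Z)
    (hC : Nat.card (Subgroup.centralizer ({s} : Set G)) = q * t)
    (hcount : Nat.card {ab : G × G // ab.1 * s * ab.1⁻¹ * (ab.2 * s * ab.2⁻¹) = s} =
      (q * t) ^ 2 * (q * t - q)) :
    (q = 2 ∨ t ≤ 2) ∧
      ∀ g ∈ Subgroup.centralizer ({s} : Set G), g ∉ Z → IsConj g s := by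
  classical
  set C : Subgroup G := Subgroup.centralizer ({s} : Set G) with hCdef
  have hs2 : s * s = 1 := by
    rw [← pow_two, ← hs]; exact pow_orderOf_eq_one s
  have hs1 : s ≠ 1 := by
    intro h; rw [h, orderOf_one] at hs; norm_num at hs
  have hsinv : s⁻¹ = s := inv_eq_of_mul_eq_one_left hs2
  have hq0 : 0 < q := by rw [← hZcard]; exact Nat.card_pos
  have hc0 : 0 < q * t := by rw [← hC]; exact Nat.card_pos
  have hmemC : ∀ g : G, g ∈ C ↔ s * g = g * s := by
    intro g
    rw [hCdef, Subgroup.mem_centralizer_iff]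
    constructor
    · intro h; exact h s (Set.mem_singleton s)
    · intro h x hx
      rw [Set.mem_singleton_iff.mp hx]; exact h
  -- conjugates of `s` are involutions
  have hcj2 : ∀ a : G, (a * s * a⁻¹) * (a * s * a⁻¹) = 1 := by
    intro a
    calc (a * s * a⁻¹) * (a * s * a⁻¹) = a * (s * s) * a⁻¹ := by group
      _ = 1 := by rw [hs2]; group
  have hcj1 : ∀ a : G, a * s * a⁻¹ ≠ 1 := by
    intro a h
    apply hs1
    have : s = a⁻¹ * (a * s * a⁻¹) * a := by group
    rw [this, h]; group
  have hcjord : ∀ a : G, orderOf (a * s * a⁻¹) = 2 := by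
    intro a
    exact orderOf_eq_prime (by rw [pow_two]; exact hcj2 a) (hcj1 a)
  -- key fact
  have key : ∀ a b : G, a * s * a⁻¹ * (b * s * b⁻¹) = s →
      a * s * a⁻¹ ∈ C ∧ a * s * a⁻¹ ∉ Z := by
    intro a b hab
    set g := a * s * a⁻¹ with hg
    set g' := b * s * b⁻¹ with hg'
    have hgg : g * g = 1 := hcj2 a
    have hg'g' : g' * g' = 1 := hcj2 b
    have hginv : g⁻¹ = g := inv_eq_of_mul_eq_one_left hgg
    have hg'eq : g' = g * s := by
      have : g' = g⁻¹ * (g * g') := by group
      rw [this, hab, hginv]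
    have hcomm : s * g = g * s := by
      have h1 : (g * s) * (g * s) = 1 := by rw [← hg'eq]; exact hg'g'
      have h2 : (g * s)⁻¹ = g * s := inv_eq_of_mul_eq_one_left h1
      rw [mul_inv_rev, hsinv, hginv] at h2
      exact h2
    refine ⟨(hmemC g).mpr hcomm, ?_⟩
    intro hgZ
    haveI := hZcyc
    have h3 : (⟨g, hgZ⟩ : Z) = ⟨s, hsZ⟩ := by
      apply eq_of_orderOf_two_of_isCyclic
      · rw [← Subgroup.orderOf_coe]; exact hcjord a
      · rw [← Subgroup.orderOf_coe]; exact hs
    have h4 : g = s := congrArg Subtype.val h3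
    have h5 : g' = 1 := by rw [hg'eq, h4, hs2]
    exact hcj1 b h5
  -- the set `W` of elements of `C ∖ Z` conjugate to `s`
  let W := {g : G // g ∈ C ∧ g ∉ Z ∧ ∃ a : G, a * s * a⁻¹ = g}
  let CZ := {g : G // g ∈ C ∧ g ∉ Z}
  let A := {ab : G × G // ab.1 * s * ab.1⁻¹ * (ab.2 * s * ab.2⁻¹) = s}
  -- representatives
  have hrep : ∀ g : G, ∃ r : G, (∃ a : G, a * s * a⁻¹ = g) → r * s * r⁻¹ = g := by
    intro g
    by_cases h : ∃ a : G, a * s * a⁻¹ = g
    · obtain ⟨a, ha⟩ := h
      exact ⟨a, fun _ => ha⟩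
    · exact ⟨1, fun h' => absurd h' h⟩
  choose r hr using hrep
  have hrC : ∀ a : G, (r (a * s * a⁻¹))⁻¹ * a ∈ C := by
    intro a
    have h1 := hr (a * s * a⁻¹) ⟨a, rfl⟩
    rw [hmemC]
    set ρ := r (a * s * a⁻¹) with hρ
    have h2 : s = ρ⁻¹ * (a * s * a⁻¹) * ρ := by rw [← h1]; group
    calc s * (ρ⁻¹ * a) = (ρ⁻¹ * (a * s * a⁻¹) * ρ) * (ρ⁻¹ * a) := by rw [← h2]
      _ = ρ⁻¹ * a * s := by group
  let Ψ : A → W × C × C := fun x =>
    (⟨x.1.1 * s * x.1.1⁻¹, (key x.1.1 x.1.2 x.2).1, (key x.1.1 x.1.2 x.2).2, x.1.1, rfl⟩,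
      ⟨(r (x.1.1 * s * x.1.1⁻¹))⁻¹ * x.1.1, hrC x.1.1⟩,
      ⟨(r (x.1.2 * s * x.1.2⁻¹))⁻¹ * x.1.2, hrC x.1.2⟩)
  have hΨ : Function.Injective Ψ := by
    intro x y hxy
    have h1 : x.1.1 * s * x.1.1⁻¹ = y.1.1 * s * y.1.1⁻¹ := by
      have := congrArg (fun z => (z.1 : G)) hxy
      exact this
    have h2 : (r (x.1.1 * s * x.1.1⁻¹))⁻¹ * x.1.1 = (r (y.1.1 * s * y.1.1⁻¹))⁻¹ * y.1.1 := by
      have := congrArg (fun z => (z.2.1 : G)) hxy
      exact this
    have h3 : (r (x.1.2 * s * x.1.2⁻¹))⁻¹ * x.1.2 = (r (y.1.2 * s * y.1.2⁻¹))⁻¹ * y.1.2 := by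
      have := congrArg (fun z => (z.2.2 : G)) hxy
      exact this
    have e1 : x.1.1 = y.1.1 := by
      rw [h1] at h2
      exact mul_left_cancel h2
    have h4 : x.1.2 * s * x.1.2⁻¹ = y.1.2 * s * y.1.2⁻¹ := by
      have aux : ∀ a b : G, a * s * a⁻¹ * (b * s * b⁻¹) = s →
          b * s * b⁻¹ = (a * s * a⁻¹)⁻¹ * s := by
        intro a b h
        have h' : b * s * b⁻¹ = (a * s * a⁻¹)⁻¹ * (a * s * a⁻¹ * (b * s * b⁻¹)) := by group
        rw [h', h]
      have hx' := aux x.1.1 x.1.2 x.2
      have hy' := aux y.1.1 y.1.2 y.2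
      rw [hx', hy', h1]
    have e2 : x.1.2 = y.1.2 := by
      rw [h4] at h3
      exact mul_left_cancel h3
    apply Subtype.ext
    exact Prod.ext e1 e2
  haveI : Finite A := Subtype.finite
  haveI : Finite W := Subtype.finite
  haveI : Finite CZ := Subtype.finite
  have hcardA : Nat.card A ≤ Nat.card W * (q * t * (q * t)) := by
    have h := Nat.card_le_card_of_injective Ψ hΨ
    rw [Nat.card_prod, Nat.card_prod, hC] at h
    exact h
  have hWCZ : Nat.card W ≤ Nat.card CZ := by
    apply Nat.card_le_card_of_injective (fun w : W => (⟨w.1, w.2.1, w.2.2.1⟩ : CZ))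
    intro w w' h
    apply Subtype.ext
    exact congrArg (fun z : CZ => (z : G)) h
  -- `|C ∖ Z| = q t - q`
  have hcardCZ : Nat.card CZ = q * t - q := by
    have e : CZ ≃ {x : C // x ∉ Z.subgroupOf C} :=
      { toFun := fun g => ⟨⟨g.1, g.2.1⟩, fun h => g.2.2 (Subgroup.mem_subgroupOf.mp h)⟩
        invFun := fun x => ⟨x.1.1, x.1.2, fun h => x.2 (Subgroup.mem_subgroupOf.mpr h)⟩
        left_inv := fun g => rfl
        right_inv := fun x => rfl }
    rw [Nat.card_congr e]
    haveI : Fintype C := Fintype.ofFinite C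
    have h1 : Nat.card {x : C // x ∉ Z.subgroupOf C}
        = Nat.card C - Nat.card {x : C // x ∈ Z.subgroupOf C} := by
      rw [Nat.card_eq_fintype_card, Nat.card_eq_fintype_card, Nat.card_eq_fintype_card,
        Fintype.card_subtype_compl]
    rw [h1, hC]
    have h2 : Nat.card {x : C // x ∈ Z.subgroupOf C} = q := by
      rw [← hZcard]
      exact Nat.card_congr (Subgroup.subgroupOfEquivOfLe hZ).toEquiv
    rw [h2]
  -- hence `W = C ∖ Z`
  have hWeq : Nat.card W = Nat.card CZ := by
    apply le_antisymm hWCZ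
    rw [hcardCZ]
    have h1 : (q * t) ^ 2 * (q * t - q) ≤ Nat.card W * (q * t * (q * t)) := by
      rw [← hcount]; exact hcardA
    have h2 : (q * t - q) * (q * t * (q * t)) ≤ Nat.card W * (q * t * (q * t)) := by
      calc (q * t - q) * (q * t * (q * t)) = (q * t) ^ 2 * (q * t - q) := by ring
        _ ≤ _ := h1
    exact Nat.le_of_mul_le_mul_right h2 (Nat.mul_pos hc0 hc0)
  have hsurj : Function.Surjective (fun w : W => (⟨w.1, w.2.1, w.2.2.1⟩ : CZ)) := by
    have hinj : Function.Injective (fun w : W => (⟨w.1, w.2.1, w.2.2.1⟩ : CZ)) := by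
      intro w w' h
      apply Subtype.ext
      exact congrArg (fun z : CZ => (z : G)) h
    exact (Nat.bijective_iff_injective_and_card _).mpr ⟨hinj, hWeq⟩ |>.2
  have hconj : ∀ g ∈ C, g ∉ Z → ∃ a : G, a * s * a⁻¹ = g := by
    intro g hgC hgZ
    obtain ⟨w, hw⟩ := hsurj ⟨g, hgC, hgZ⟩
    have : w.1 = g := congrArg (fun z : CZ => (z : G)) hw
    rw [← this]
    exact w.2.2.2
  refine ⟨?_, ?_⟩
  · -- `q = 2 ∨ t ≤ 2`
    by_cases hq2 : q = 2
    · exact Or.inl hq2
    right
    haveI := hZcyc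
    obtain ⟨z, hz⟩ := hZcyc.exists_generator
    have hzord : orderOf z = q := by
      rw [orderOf_eq_card_of_forall_mem_zpowers hz, hZcard]
    have hzC : (z : G) ∈ C := hZ z.2
    -- `z ≠ z⁻¹`
    have hzne : (z : G) * (z : G) ≠ 1 := by
      intro h
      have h1 : z ^ 2 = 1 := by
        apply Subtype.ext
        rw [pow_two]; exact h
      have h2 : q ∣ 2 := by rw [← hzord]; exact orderOf_dvd_of_pow_eq_one h1
      have h3 : q ≤ 2 := Nat.le_of_dvd (by norm_num) h2
      -- `q` is even since `s ∈ Z` has order two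
      have h4 : 2 ∣ q := by
        rw [← hZcard, ← hs]
        have : orderOf (⟨s, hsZ⟩ : Z) = orderOf s := by rw [← Subgroup.orderOf_coe]
        rw [← this]
        exact orderOf_dvd_natCard _
      have h5 : 2 ≤ q := Nat.le_of_dvd hq0 h4
      omega
    -- every `u ∈ C ∖ Z` inverts `z`
    have hinvz : ∀ u ∈ C, u ∉ Z → u * (z : G) * u⁻¹ = (z : G)⁻¹ := by
      intro u huC huZ
      have huz : u * (z : G) ∈ C := C.mul_mem huC hzC
      have huzZ : u * (z : G) ∉ Z := by
        intro h
        apply huZ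
        have : u = u * (z : G) * (z : G)⁻¹ := by group
        rw [this]
        exact Z.mul_mem h (Z.inv_mem z.2)
      obtain ⟨a, ha⟩ := hconj u huC huZ
      obtain ⟨b, hb⟩ := hconj (u * (z : G)) huz huzZ
      have hu2 : u * u = 1 := by rw [← ha]; exact hcj2 a
      have huz2 : (u * (z : G)) * (u * (z : G)) = 1 := by rw [← hb]; exact hcj2 b
      have huinv : u⁻¹ = u := inv_eq_of_mul_eq_one_left hu2
      rw [huinv]
      have : u * (z : G) * u = (z : G)⁻¹ * ((z : G) * u * (z : G) * u) := by group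
      rw [this]
      have h2 : (z : G) * u * (z : G) * u = 1 := by
        have : (z : G) * u * (z : G) * u = u⁻¹ * ((u * (z : G)) * (u * (z : G))) * u := by group
        rw [this, huz2]; group
      rw [h2, mul_one]
    -- `C ∖ Z ⊆ u Z`
    by_cases hex : ∃ u ∈ C, u ∉ Z
    · obtain ⟨u, huC, huZ⟩ := hex
      have hinj : Function.Injective (fun g : CZ => (⟨u⁻¹ * g.1, by
          by_contra hnot
          have hgC : u⁻¹ * g.1 ∈ C := C.mul_mem (C.inv_mem huC) g.2.1
          have h1 := hinvz (u⁻¹ * g.1) hgC hnot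
          have h2 := hinvz u huC huZ
          have h3 := hinvz g.1 g.2.1 g.2.2
          have h4 : (u⁻¹ * g.1) * (z : G) * (u⁻¹ * g.1)⁻¹ = (z : G) := by
            calc (u⁻¹ * g.1) * (z : G) * (u⁻¹ * g.1)⁻¹
                = u⁻¹ * (g.1 * (z : G) * g.1⁻¹) * u := by group
              _ = u⁻¹ * (z : G)⁻¹ * u := by rw [h3]
              _ = (u⁻¹ * (z : G) * u)⁻¹ := by group
              _ = (z : G) := by
                have : u⁻¹ * (z : G) * u = (z : G)⁻¹ := by
                  have h5 : (z : G) = u⁻¹ * (u * (z : G) * u⁻¹) * u := by group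
                  rw [h2] at h5
                  have h6 : u⁻¹ * (z : G) * u = u⁻¹ * (u⁻¹ * (z : G)⁻¹ * u) * u := by
                    conv_lhs => rw [h5]
                  -- use involution property of `u`
                  obtain ⟨a, ha⟩ := hconj u huC huZ
                  have hu2 : u * u = 1 := by rw [← ha]; exact hcj2 a
                  have huinv : u⁻¹ = u := inv_eq_of_mul_eq_one_left hu2
                  rw [huinv] at h2 ⊢
                  exact h2
                rw [this, inv_inv]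
          rw [h4] at h1
          apply hzne
          calc (z : G) * (z : G) = (z : G) * (z : G)⁻¹ := by rw [← h1]
            _ = 1 := mul_inv_cancel _⟩ : Z)) := by
        intro g g' h
        have h1 : u⁻¹ * g.1 = u⁻¹ * g'.1 := congrArg Subtype.val h
        apply Subtype.ext
        exact mul_left_cancel h1
      have hle := Nat.card_le_card_of_injective _ hinj
      rw [hcardCZ, hZcard] at hle
      -- `q t - q ≤ q`
      have : q * t ≤ q * 2 := by omega
      exact Nat.le_of_mul_le_mul_left this hq0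
    · push Not at hex
      -- `C ≤ Z`, so `q t ≤ q`
      have hCZ0 : Nat.card CZ = 0 := by
        haveI : IsEmpty CZ := ⟨fun g => g.2.2 (hex g.1 g.2.1)⟩
        exact Nat.card_of_isEmpty
      rw [hcardCZ] at hCZ0
      have : q * t ≤ q * 1 := by omega
      have := Nat.le_of_mul_le_mul_left this hq0
      omega
  · intro g hgC hgZ
    obtain ⟨a, ha⟩ := hconj g hgC hgZ
    rw [isConj_comm, isConj_iff]
    exact ⟨a, ha⟩

end Cfsg.Agent.Lib.Helper6.BrauerNInv
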