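import Cfsg.Agent.Lib.Helper91.D4Inv.Conj
import Cfsg.Agent.Lib.Helper91.TwOut.D4Syl

/-!
# D4INV-[SYL] (helper6, project of helper91 for S2183): involutions of `³D₄(q)`, `q` even, are conjugate into `U¹`.
-/

set_option autoImplicit false
set_option linter.unusedSectionVars false

namespace Cfsg.Agent.Lib.Helper6.D4Inv

open Cfsg Cfsg.Lie Cfsg.Agent.Lib.Helper18 Cfsg.Agent.Lib.Helper91.TwOut Cfsg.Agent.Lib.Helper91.ExcAut
  Cfsg.Agent.Lib.Helper91.D4Inv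

universe u

variable {K : Type u} [Field K] [CharP K 2] (φ : K ≃+* K)

/-- D4INV-[SYL] -/
theorem exists_conj_mem_U [Fintype K] (f : ℕ) (hφ : ∀ t : K, φ t = t ^ (2 ^ f)) (hK : Fintype.card K = (2 ^ f) ^ 3)
    (hf : 1 ≤ f) (g : GL chevD4.Idx K) (hg : g ∈ GD4 φ) (ho : orderOf g = 2) :
    ∃ k ∈ GD4 φ, k * g * k⁻¹ ∈ chevD4.posUnipotent K := by
  classical
  have : Fact (Nat.Prime 2) := ⟨Nat.prime_two⟩
  obtain ⟨hp1, hp2⟩ := sylow_D4' φ 2 f hφ hK hf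
  set P : Sylow 2 ↥(GD4 φ) := hp1.toSylow hp2 with hPdef
  have ho' : orderOf (⟨g, hg⟩ : ↥(GD4 φ)) = 2 := by
    rw [← ho]
    exact Subgroup.orderOf_mk g hg
  have hpg : IsPGroup 2 (Subgroup.zpowers (⟨g, hg⟩ : ↥(GD4 φ))) := by
    apply IsPGroup.of_card (n := 1)
    rw [Nat.card_zpowers, ho', pow_one]
  obtain ⟨Q, hQ⟩ := hpg.exists_le_sylow
  obtain ⟨k, hk⟩ := MulAction.exists_smul_eq (↥(GD4 φ)) Q P
  refine ⟨k, k.2, ?_⟩
  have h1 : (⟨g, hg⟩ : ↥(GD4 φ)) ∈ (Q : Subgroup ↥(GD4 φ)) := hQ (Subgroup.mem_zpowers _)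
  have h2 : MulAut.conj k • (⟨g, hg⟩ : ↥(GD4 φ)) ∈ (P : Subgroup ↥(GD4 φ)) := by
    rw [← hk, Sylow.coe_subgroup_smul]
    exact Subgroup.smul_mem_pointwise_smul _ _ _ h1
  rw [hPdef, IsPGroup.toSylow_coe, mem_UD4] at h2
  exact h2

end Cfsg.Agent.Lib.Helper6.D4Inv
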