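import Cfsg.Agent.Lib.Helper6.D4InvNF
import Cfsg.Agent.Lib.Helper6.D4InvSyl
import Cfsg.Agent.Lib.Helper18.TwFrob

/-!
# D4INV-[FIN] (helper6, project of helper91 for S2183): `³D₄(q)`, `q` even, has exactly two classes of involutions,
in `_of` form: the hypotheses are the modules [NC] (`not_conj`) and [CLS] (`invol_U`) of the sheet, verbatim.
-/

set_option autoImplicit false
set_option linter.unusedSectionVars false

namespace Cfsg.Agent.Lib.Helper6.D4Inv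

open Cfsg Cfsg.Lie Cfsg.Agent.Lib.Helper18 Cfsg.Agent.Lib.Helper91.TwOut Cfsg.Agent.Lib.Helper91.ExcAut
  Cfsg.Agent.Lib.Helper91.D4Inv

universe u

variable {K : Type u} [Field K] [CharP K 2] (φ : K ≃+* K)

theorem sq_of_commute_three' {G : Type*} [Group G] {A B E : G} (hAB : B * A = A * B) (hBE : E * B = B * E)
    (hAE : A * E = E * A) (hA : A * A = 1) (hB : B * B = 1) (hE : E * E = 1) :
    (A * (B * E)) * (A * (B * E)) = 1 := by
  calc A * (B * E) * (A * (B * E)) = A * B * (E * A) * (B * E) := by group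
    _ = A * B * (A * E) * (B * E) := by rw [hAE]
    _ = A * (B * A) * (E * B) * E := by group
    _ = A * (A * B) * (B * E) * E := by rw [hAB, hBE]
    _ = (A * A) * (B * B) * (E * E) := by group
    _ = 1 := by rw [hA, hB, hE, one_mul, one_mul]

theorem x2abG_sq (t : K) : x2abG φ t * x2abG φ t = 1 := by
  have hTw : twCfg_D4.g.twOK chevData_D4.{u}.T 3 = true := cfg_twOK chevData_D4 twCfg_D4 twCfg_D4_ok'
  have r17 : twCfg_D4.g.rho 17 = 20 := by decide
  have r20 : twCfg_D4.g.rho 20 = 21 := by decide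
  have r21 : twCfg_D4.g.rho 21 = 17 := by decide
  have c1 := xG_comm_rho (K := K) hD4 chevData_D4.{u} twCfg_D4.g 3 hTw 17 (by decide) (by rw [r17]; decide)
  have c2 := xG_comm_rho (K := K) hD4 chevData_D4.{u} twCfg_D4.g 3 hTw 20 (by decide) (by rw [r20]; decide)
  have c3 := xG_comm_rho (K := K) hD4 chevData_D4.{u} twCfg_D4.g 3 hTw 21 (by decide) (by rw [r21]; decide)
  rw [r17] at c1
  rw [r20] at c2
  rw [r21] at c3
  unfold x2abG
  exact sq_of_commute_three' (c1 _ _) (c2 _ _) (c3 _ _) (xG_sq 17 _) (xG_sq 20 _) (xG_sq 21 _)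

theorem x23_eq_uu : xG hD4 23 (1 : K) = uu φ 0 0 0 0 0 1 := by
  unfold uu xabG x2abG
  rw [xaG_zero]
  simp only [map_zero, xG_zero, one_mul, mul_one]

theorem x2abG_eq_uu : x2abG φ (1 : K) = uu φ 0 0 0 1 0 0 := by
  unfold uu xabG
  rw [xaG_zero]
  simp only [map_zero, xG_zero, one_mul, mul_one]

theorem one_eq_uu : (1 : GL chevD4.Idx K) = uu φ 0 0 0 0 0 0 := by
  unfold uu xabG x2abG
  rw [xaG_zero]
  simp only [map_zero, xG_zero, mul_one]

/-- D4INV-[FIN], in `_of` form -/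
theorem ncard_invol_of [Fintype K] (q : ℕ) (hK : Fintype.card K = q ^ 3)
    (hNC : ∀ (φ : K ≃+* K) (k : GL chevD4.Idx K), k ∈ chevD4.group K →
      k * xG hD4 23 (1 : K) * k⁻¹ = x2abG φ 1 → False)
    (hCLS : ∀ (φ : K ≃+* K), (∀ a : K, φ (φ (φ a)) = a) → ∀ u₁ a c d u₂ u₃ : K, φ u₁ = u₁ → φ u₂ = u₂ →
      φ u₃ = u₃ → uu φ u₁ a c d u₂ u₃ ≠ 1 → uu φ u₁ a c d u₂ u₃ * uu φ u₁ a c d u₂ u₃ = 1 →
      GConj φ (uu φ u₁ a c d u₂ u₃) (xG hD4 23 1) ∨ GConj φ (uu φ u₁ a c d u₂ u₃) (x2abG φ 1)) :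
    (ConjClasses.mk '' {g : ↥(Cfsg.Lie.twistedD4 K q) | orderOf g = 2}).ncard = 2 := by
  classical
  -- `q = 2 ^ f`, `f ≥ 1`
  obtain ⟨f, hf, rfl⟩ : ∃ f : ℕ, 1 ≤ f ∧ q = 2 ^ f := by
    obtain ⟨n, hn⟩ := FiniteField.card K 2
    have hdvd : q ∣ 2 ^ (n : ℕ) := by
      rw [← hn.2, hK]
      exact dvd_pow_self q (by norm_num)
    obtain ⟨f, -, rfl⟩ := (Nat.dvd_prime_pow Nat.prime_two).mp hdvd
    refine ⟨f, ?_, rfl⟩
    rcases Nat.eq_zero_or_pos f with h0 | h0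
    · exfalso
      rw [h0, pow_zero, one_pow] at hK
      have := Fintype.one_lt_card (α := K)
      omega
    · exact h0
  have hpp : IsPrimePow (2 ^ f) := ⟨2, f, Nat.prime_iff.mp Nat.prime_two, by omega, rfl⟩
  obtain ⟨φ, hφ⟩ := exists_frobEquiv hpp hK
  have : Fact (Nat.Prime 2) := ⟨Nat.prime_two⟩
  have hφ3 := phi_cube φ 2 f hφ hK
  rw [twistedD4_eq (2 ^ f) φ hφ hK]
  -- the two representatives
  have hzmem : xG hD4 23 (1 : K) ∈ GD4 φ := by
    rw [x23_eq_uu φ]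
    exact uu_mem φ hφ3 0 0 0 0 0 1 (map_zero φ) (map_zero φ) (map_one φ)
  have hymem : x2abG φ (1 : K) ∈ GD4 φ := by
    rw [x2abG_eq_uu φ]
    exact uu_mem φ hφ3 0 0 0 1 0 0 (map_zero φ) (map_zero φ) (map_zero φ)
  have hzne : xG hD4 23 (1 : K) ≠ 1 := by
    intro h
    rw [x23_eq_uu φ, one_eq_uu φ] at h
    have := (uu_injective φ _ _ _ _ _ _ _ _ _ _ _ _ h).2.2.2.2.2
    exact one_ne_zero this
  have hyne : x2abG φ (1 : K) ≠ 1 := by
    intro h
    rw [x2abG_eq_uu φ, one_eq_uu φ] at h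
    have := (uu_injective φ _ _ _ _ _ _ _ _ _ _ _ _ h).2.2.2.1
    exact one_ne_zero this
  set z : ↥(GD4 φ) := ⟨xG hD4 23 (1 : K), hzmem⟩ with hz
  set y : ↥(GD4 φ) := ⟨x2abG φ (1 : K), hymem⟩ with hy
  have hzo : orderOf z = 2 := by
    apply orderOf_eq_prime
    · apply Subtype.ext
      rw [pow_two]
      exact xG_sq 23 1
    · intro h
      exact hzne (congrArg Subtype.val h)
  have hyo : orderOf y = 2 := by
    apply orderOf_eq_prime
    · apply Subtype.ext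
      rw [pow_two]
      exact x2abG_sq φ 1
    · intro h
      exact hyne (congrArg Subtype.val h)
  have hne : ConjClasses.mk z ≠ ConjClasses.mk y := by
    intro h
    rw [ConjClasses.mk_eq_mk_iff_isConj, isConj_iff] at h
    obtain ⟨c, hc⟩ := h
    have hc' := congrArg Subtype.val hc
    exact hNC φ c.1 (Gtw_le_group hD4 chevData_D4.{u} twCfg_D4 φ c.2) hc'
  have hset : ConjClasses.mk '' {g : ↥(GD4 φ) | orderOf g = 2} = {ConjClasses.mk z, ConjClasses.mk y} := by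
    apply Set.Subset.antisymm
    · rintro _ ⟨g, hg, rfl⟩
      have hg2 : orderOf (g : GL chevD4.Idx K) = 2 := by
        rw [← hg]
        exact (Subgroup.orderOf_coe g)
      obtain ⟨k, hk, hkU⟩ := exists_conj_mem_U φ f hφ hK hf g.1 g.2 hg2
      have hkG : k * g.1 * k⁻¹ ∈ GD4 φ := mul_mem (mul_mem hk g.2) (inv_mem hk)
      obtain ⟨u₁, a, c, d, u₂, u₃, h₁, h₂, h₃, he⟩ := exists_uu φ hφ3 _ hkG hkU
      have hgk : GConj φ g.1 (uu φ u₁ a c d u₂ u₃) := ⟨k, hk, he⟩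
      have hsq : g.1 * g.1 = 1 := by rw [← pow_two, ← hg2, pow_orderOf_eq_one]
      have hne1 : g.1 ≠ 1 := by
        intro h1
        rw [h1, orderOf_one] at hg2
        norm_num at hg2
      have hconj : ∀ w : ↥(GD4 φ), GConj φ g.1 w.1 → ConjClasses.mk g = ConjClasses.mk w := by
        rintro w ⟨l, hl, hlw⟩
        rw [ConjClasses.mk_eq_mk_iff_isConj, isConj_iff]
        exact ⟨⟨l, hl⟩, Subtype.ext hlw⟩
      rcases hCLS φ hφ3 u₁ a c d u₂ u₃ h₁ h₂ h₃ (GConj.ne_one φ hgk hne1) (GConj.sq φ hgk hsq) with h | h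
      · exact Or.inl (hconj z (GConj.trans φ hgk h))
      · exact Or.inr (hconj y (GConj.trans φ hgk h))
    · rintro _ (rfl | rfl)
      · exact ⟨z, hzo, rfl⟩
      · exact ⟨y, hyo, rfl⟩
  rw [hset]
  exact Set.ncard_pair hne

end Cfsg.Agent.Lib.Helper6.D4Inv
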