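import Cfsg.Agent.Lib.Helper91.D4Inv.Conj
import Cfsg.Agent.Lib.Helper91.D4Inv.Arith
import Cfsg.Agent.Lib.Helper91.TwOut.D4Syl
import Cfsg.Agent.Lib.Helper18.TwD4
import Cfsg.Agent.Lib.Helper18.Tw28

/-!
# D4INV-[NF] (helper6, project of helper91 for S2183): the normal form `uu` of the elements of `U¹` in `³D₄(q)`, `q` even:
existence, uniqueness, membership.
-/

set_option autoImplicit false
set_option linter.unusedSectionVars false

namespace Cfsg.Agent.Lib.Helper6.D4Inv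

open Cfsg Cfsg.Lie Cfsg.Agent.Lib.Helper18 Cfsg.Agent.Lib.Helper91.TwOut Cfsg.Agent.Lib.Helper91.ExcAut
  Cfsg.Agent.Lib.Helper91.D4Inv

universe u

variable {K : Type u} [Field K] [CharP K 2] (φ : K ≃+* K)

/-- the reordered class representatives -/
def reps' : List ℕ := [14, 18, 19, 17, 22, 23]

theorem reps'_perm : reps'.Perm twCfg_D4.reps := by decide

theorem clsList_reps' :
    twCfg_D4.g.clsList twCfg_D4.m reps' = [14, 18, 13, 12, 19, 16, 15, 17, 20, 21, 22, 23] := by decide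

/-- in characteristic 2 the signs disappear -/
theorem gam_cast (r : ℕ) (hr : r ∈ [14, 18, 13, 12, 19, 16, 15, 17, 20, 21, 22, 23]) :
    ((twCfg_D4.g.gam r : ℤ) : K) = 1 := by
  have h : ∀ r ∈ [14, 18, 13, 12, 19, 16, 15, 17, 20, 21, 22, 23],
      twCfg_D4.g.gam r = 1 ∨ twCfg_D4.g.gam r = -1 := by decide
  rcases h r hr with h1 | h1
  · rw [h1, Int.cast_one]
  · rw [h1, Int.cast_neg, Int.cast_one, CharTwo.neg_eq]

/-- the twisting condition, root by root -/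
theorem twT_eq (t : ℕ → K) :
    twT twCfg_D4.g φ twCfg_D4.m t 14 = φ (t 14) ∧
    twT twCfg_D4.g φ twCfg_D4.m t 18 = φ (t 12) ∧
    twT twCfg_D4.g φ twCfg_D4.m t 13 = φ (t 18) ∧
    twT twCfg_D4.g φ twCfg_D4.m t 12 = φ (t 13) ∧
    twT twCfg_D4.g φ twCfg_D4.m t 19 = φ (t 15) ∧
    twT twCfg_D4.g φ twCfg_D4.m t 16 = φ (t 19) ∧
    twT twCfg_D4.g φ twCfg_D4.m t 15 = φ (t 16) ∧
    twT twCfg_D4.g φ twCfg_D4.m t 17 = φ (t 21) ∧
    twT twCfg_D4.g φ twCfg_D4.m t 20 = φ (t 17) ∧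
    twT twCfg_D4.g φ twCfg_D4.m t 21 = φ (t 20) ∧
    twT twCfg_D4.g φ twCfg_D4.m t 22 = φ (t 22) ∧
    twT twCfg_D4.g φ twCfg_D4.m t 23 = φ (t 23) := by
  have hm : twCfg_D4.m - 1 = 2 := by decide
  have r14 : twCfg_D4.g.rho^[2] 14 = 14 := by decide
  have r18 : twCfg_D4.g.rho^[2] 18 = 12 := by decide
  have r13 : twCfg_D4.g.rho^[2] 13 = 18 := by decide
  have r12 : twCfg_D4.g.rho^[2] 12 = 13 := by decide
  have r19 : twCfg_D4.g.rho^[2] 19 = 15 := by decide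
  have r16 : twCfg_D4.g.rho^[2] 16 = 19 := by decide
  have r15 : twCfg_D4.g.rho^[2] 15 = 16 := by decide
  have r17 : twCfg_D4.g.rho^[2] 17 = 21 := by decide
  have r20 : twCfg_D4.g.rho^[2] 20 = 17 := by decide
  have r21 : twCfg_D4.g.rho^[2] 21 = 20 := by decide
  have r22 : twCfg_D4.g.rho^[2] 22 = 22 := by decide
  have r23 : twCfg_D4.g.rho^[2] 23 = 23 := by decide
  unfold twT
  rw [hm, r14, r18, r13, r12, r19, r16, r15, r17, r20, r21, r22, r23]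
  simp only [gam_cast (K := K) _ (by decide : (14 : ℕ) ∈ [14, 18, 13, 12, 19, 16, 15, 17, 20, 21, 22, 23]),
    gam_cast (K := K) _ (by decide : (18 : ℕ) ∈ [14, 18, 13, 12, 19, 16, 15, 17, 20, 21, 22, 23]),
    gam_cast (K := K) _ (by decide : (13 : ℕ) ∈ [14, 18, 13, 12, 19, 16, 15, 17, 20, 21, 22, 23]),
    gam_cast (K := K) _ (by decide : (12 : ℕ) ∈ [14, 18, 13, 12, 19, 16, 15, 17, 20, 21, 22, 23]),
    gam_cast (K := K) _ (by decide : (19 : ℕ) ∈ [14, 18, 13, 12, 19, 16, 15, 17, 20, 21, 22, 23]),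
    gam_cast (K := K) _ (by decide : (16 : ℕ) ∈ [14, 18, 13, 12, 19, 16, 15, 17, 20, 21, 22, 23]),
    gam_cast (K := K) _ (by decide : (15 : ℕ) ∈ [14, 18, 13, 12, 19, 16, 15, 17, 20, 21, 22, 23]),
    gam_cast (K := K) _ (by decide : (17 : ℕ) ∈ [14, 18, 13, 12, 19, 16, 15, 17, 20, 21, 22, 23]),
    gam_cast (K := K) _ (by decide : (20 : ℕ) ∈ [14, 18, 13, 12, 19, 16, 15, 17, 20, 21, 22, 23]),
    gam_cast (K := K) _ (by decide : (21 : ℕ) ∈ [14, 18, 13, 12, 19, 16, 15, 17, 20, 21, 22, 23]),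
    gam_cast (K := K) _ (by decide : (22 : ℕ) ∈ [14, 18, 13, 12, 19, 16, 15, 17, 20, 21, 22, 23]),
    gam_cast (K := K) _ (by decide : (23 : ℕ) ∈ [14, 18, 13, 12, 19, 16, 15, 17, 20, 21, 22, 23]),
    one_mul, and_self]

/-- `uu` as an ordered product over the reordered class list -/
theorem prodL_clsList (t : ℕ → K) :
    prodL hD4 [14, 18, 13, 12, 19, 16, 15, 17, 20, 21, 22, 23] t =
      xG hD4 14 (t 14) * (xG hD4 18 (t 18) * (xG hD4 13 (t 13) * xG hD4 12 (t 12))) *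
        (xG hD4 19 (t 19) * (xG hD4 16 (t 16) * xG hD4 15 (t 15))) *
        (xG hD4 17 (t 17) * (xG hD4 20 (t 20) * xG hD4 21 (t 21))) * xG hD4 22 (t 22) * xG hD4 23 (t 23) := by
  simp only [prodL_cons, prodL_nil, mul_one, mul_assoc]

/-- the coefficient function of `uu` -/
def uuT (u₁ a c d u₂ u₃ : K) : ℕ → K := fun r =>
  if r = 14 then u₁ else if r = 18 then a else if r = 13 then φ a else if r = 12 then φ (φ a)
  else if r = 19 then c else if r = 16 then φ c else if r = 15 then φ (φ c)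
  else if r = 17 then d else if r = 20 then φ d else if r = 21 then φ (φ d)
  else if r = 22 then u₂ else if r = 23 then u₃ else 0

theorem uu_eq_prodL (u₁ a c d u₂ u₃ : K) :
    uu φ u₁ a c d u₂ u₃ = prodL hD4 [14, 18, 13, 12, 19, 16, 15, 17, 20, 21, 22, 23] (uuT φ u₁ a c d u₂ u₃) := by
  rw [prodL_clsList]
  rfl

/-- D4INV-[NF], existence -/
theorem exists_uu [Fintype K] (hφ3 : ∀ a : K, φ (φ (φ a)) = a) (x : GL chevD4.Idx K) (hx : x ∈ GD4 φ)
    (hU : x ∈ chevD4.posUnipotent K) :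
    ∃ u₁ a c d u₂ u₃ : K, φ u₁ = u₁ ∧ φ u₂ = u₂ ∧ φ u₃ = u₃ ∧ x = uu φ u₁ a c d u₂ u₃ := by
  have hfix := csig_eq_of_mem_Gtw hD4 chevData_D4.{u} twCfg_D4 φ twCfg_D4_ok' x hx
  obtain ⟨t, ht, hxt⟩ := exists_prodL_of_fixed_perm hD4 chevData_D4.{u} twCfg_D4 φ twCfg_D4_ok' reps' reps'_perm
    x hU hfix
  rw [clsList_reps'] at ht hxt
  obtain ⟨e14, e18, e13, e12, e19, e16, e15, e17, e20, e21, e22, e23⟩ := twT_eq φ t
  have h14 := ht 14 (by decide)
  have h13 := ht 13 (by decide)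
  have h12 := ht 12 (by decide)
  have h16 := ht 16 (by decide)
  have h15 := ht 15 (by decide)
  have h20 := ht 20 (by decide)
  have h21 := ht 21 (by decide)
  have h22 := ht 22 (by decide)
  have h23 := ht 23 (by decide)
  rw [e14] at h14
  rw [e13] at h13
  rw [e12, h13] at h12
  rw [e16] at h16
  rw [e15, h16] at h15
  rw [e20] at h20
  rw [e21, h20] at h21
  rw [e22] at h22
  rw [e23] at h23
  refine ⟨t 14, t 18, t 19, t 17, t 22, t 23, h14.symm, h22.symm, h23.symm, ?_⟩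
  rw [hxt, prodL_clsList, h13, h12, h16, h15, h20, h21]
  rfl

/-- D4INV-[NF], uniqueness -/
theorem uu_injective [Fintype K] (u₁ a c d u₂ u₃ u₁' a' c' d' u₂' u₃' : K)
    (h : uu φ u₁ a c d u₂ u₃ = uu φ u₁' a' c' d' u₂' u₃') :
    u₁ = u₁' ∧ a = a' ∧ c = c' ∧ d = d' ∧ u₂ = u₂' ∧ u₃ = u₃' := by
  obtain ⟨hl, hnd, hall, -, -⟩ := repsOK_spec_perm hD4 chevData_D4.{u} twCfg_D4 twCfg_D4_ok' reps' reps'_perm
  rw [clsList_reps'] at hl hnd hall
  rw [uu_eq_prodL, uu_eq_prodL] at h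
  have key := prodL_injective_of_fintype hD4 _ hl hnd hall _ _ h
  refine ⟨key 14 (by decide), key 18 (by decide), key 19 (by decide), key 17 (by decide), key 22 (by decide),
    key 23 (by decide)⟩

/-- D4INV-[NF], membership -/
theorem uu_mem (hφ3 : ∀ a : K, φ (φ (φ a)) = a) (u₁ a c d u₂ u₃ : K) (h₁ : φ u₁ = u₁) (h₂ : φ u₂ = u₂)
    (h₃ : φ u₃ = u₃) : uu φ u₁ a c d u₂ u₃ ∈ GD4 φ := by
  rw [uu_eq_prodL, ← clsList_reps']
  apply prodL_cls_mem_Gtw hD4 chevData_D4.{u} twCfg_D4 φ twCfg_D4_ok' reps'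
    (fun s hs => reps'_perm.mem_iff.mp hs)
  rw [clsList_reps']
  obtain ⟨e14, e18, e13, e12, e19, e16, e15, e17, e20, e21, e22, e23⟩ := twT_eq φ (uuT φ u₁ a c d u₂ u₃)
  intro r hr
  simp only [List.mem_cons, List.not_mem_nil, or_false] at hr
  rcases hr with rfl | rfl | rfl | rfl | rfl | rfl | rfl | rfl | rfl | rfl | rfl | rfl
  · rw [e14]; exact h₁.symm
  · rw [e18]; exact (hφ3 a).symm
  · rw [e13]; rfl
  · rw [e12]; rfl
  · rw [e19]; exact (hφ3 c).symm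
  · rw [e16]; rfl
  · rw [e15]; rfl
  · rw [e17]; exact (hφ3 d).symm
  · rw [e20]; rfl
  · rw [e21]; rfl
  · rw [e22]; exact h₂.symm
  · rw [e23]; exact h₃.symm

end Cfsg.Agent.Lib.Helper6.D4Inv
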