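import Cfsg.Agent.Lib.Helper91.F4Out.F4Defs

/-!
# Project F4OUT (S2128), module [C-CU] (helper6, for helper91): `C_{U¹}(H¹) = 1` in `²F₄(2^(2m+1))`, `m ≥ 1`

An element of `U¹` is an ordered product over the 24 positive roots of `F₄`; conjugation by the torus element
`f4H c d` multiplies the coefficient of the root `s` by the character value
`(d^θ)^(A₀ s) (c^θ)^(A₁ s) c^(A₂ s) d^(A₃ s)`, `A_i s = cartan i s`.  With `d` (resp. `c`) a generator of `Kˣ` the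
value is `ζ^(θ A₀ + A₃)` (resp. `ζ^(θ A₁ + A₂)`), which is `1` only if `q - 1 = 2θ² - 1` divides the exponent; a table
of the 24 quadruples `A_i s` excludes this.
-/

set_option autoImplicit false
set_option linter.unusedSectionVars false

namespace Cfsg.Agent.Lib.Helper6.F4Out

open Cfsg Cfsg.Lie Cfsg.Agent.Lib.Helper18 Cfsg.Agent.Lib.Helper18.F4T Cfsg.Agent.Lib.Helper91.TwOut
open Cfsg.Agent.Lib.Helper91.ReeF4 Cfsg.Agent.Lib.Helper91.SigAbs Cfsg.Agent.Lib.Helper91.ExcAut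
open Cfsg.Agent.Lib.Helper61.ReeF4 Cfsg.Agent.Lib.Helper91.F4Out

universe u

/-- the arithmetic: `2θ² - 1 ∣ θ A + B` with small `A`, `B` forces `A = B = 0`, or `θ = 2` and `2A + B = 0`. -/
theorem dvd_lin_small (θ : ℤ) (hθ : 2 ≤ θ) (A B : ℤ) (hA1 : -2 ≤ A) (hA2 : A ≤ 2) (hB1 : -2 ≤ B)
    (hB2 : B ≤ 2) (h : (2 * θ * θ - 1) ∣ θ * A + B) : (A = 0 ∧ B = 0) ∨ (θ = 2 ∧ 2 * A + B = 0) := by
  have h0 : θ * A + B = 0 := by
    apply Int.eq_zero_of_abs_lt_dvd h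
    rw [abs_lt]
    constructor
    · interval_cases A <;> interval_cases B <;> nlinarith [mul_self_nonneg (θ - 2)]
    · interval_cases A <;> interval_cases B <;> nlinarith [mul_self_nonneg (θ - 2)]
  interval_cases A <;> interval_cases B <;> omega

/-- the table of the Cartan integers of the 24 positive roots -/
theorem cartan_table : ∀ r ∈ rootsL posBlks,
    (-2 ≤ chevF4.cartan 0 r ∧ chevF4.cartan 0 r ≤ 2) ∧ (-2 ≤ chevF4.cartan 1 r ∧ chevF4.cartan 1 r ≤ 2) ∧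
    (-2 ≤ chevF4.cartan 2 r ∧ chevF4.cartan 2 r ≤ 2) ∧ (-2 ≤ chevF4.cartan 3 r ∧ chevF4.cartan 3 r ≤ 2) ∧
    ¬ (chevF4.cartan 0 r = 0 ∧ chevF4.cartan 3 r = 0 ∧ chevF4.cartan 1 r = 0 ∧ chevF4.cartan 2 r = 0) ∧
    ¬ (2 * chevF4.cartan 0 r + chevF4.cartan 3 r = 0 ∧ 2 * chevF4.cartan 1 r + chevF4.cartan 2 r = 0) := by
  decide

section

variable (K : Type u) [Field K] [Fintype K] [CharP K 2] (m : ℕ) (hq : ∀ t : K, t ^ (2 * 2 ^ m * 2 ^ m) = t)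

/-- conjugation of a root element by `f4H θ 1 d` -/
theorem f4H_one_left_conj_xG (th : ℕ) (d : Kˣ) (s : ℕ) (hs : s < 48) (t : K) :
    f4H th 1 d * xG hD4 s t * (f4H th 1 d)⁻¹
      = xG hD4 s (((d ^ ((th : ℤ) * chevF4.cartan 0 s + chevF4.cartan 3 s) : Kˣ) : K) * t) := by
  unfold f4H
  rw [tor4_conj_xG _ _ _ _ s hs]
  congr 2
  rw [one_pow, Units.val_one, one_zpow, one_zpow, mul_one, mul_one, zpow_add, Units.val_mul, zpow_mul,
    zpow_natCast, Units.val_zpow_eq_zpow_val, Units.val_zpow_eq_zpow_val]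

/-- conjugation of a root element by `f4H θ c 1` -/
theorem f4H_one_right_conj_xG (th : ℕ) (c : Kˣ) (s : ℕ) (hs : s < 48) (t : K) :
    f4H th c 1 * xG hD4 s t * (f4H th c 1)⁻¹
      = xG hD4 s (((c ^ ((th : ℤ) * chevF4.cartan 1 s + chevF4.cartan 2 s) : Kˣ) : K) * t) := by
  unfold f4H
  rw [tor4_conj_xG _ _ _ _ s hs]
  congr 2
  rw [one_pow, Units.val_one, one_zpow, one_zpow, one_mul, mul_one, zpow_add, Units.val_mul, zpow_mul,
    zpow_natCast, Units.val_zpow_eq_zpow_val, Units.val_zpow_eq_zpow_val]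

include hq in
/-- [C-CU] -/
theorem centralizer_torus_U (hm : 1 ≤ m) (hK : Fintype.card K = 2 ^ (2 * m + 1)) (g : ↥(GF4 K m))
    (hg : g ∈ UF4 K m) (hc : ∀ c d : Kˣ, hF4 K m hq c d * g * (hF4 K m hq c d)⁻¹ = g) : g = 1 := by
  obtain ⟨hok, hnd, hl, hall, -⟩ := perm_facts posBlks (List.Perm.refl _)
  obtain ⟨L⟩ := nonempty_levelData chevF4 hD4
  set l := rootsL posBlks with hldef
  obtain ⟨t, ht⟩ := exists_prodL hD4 chevData_F4.{u} L l hl hnd hall (g : GL chevF4.Idx K)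
    ((mem_UF4 K m g).mp hg)
  have hlt : ∀ r ∈ l, r < 48 := fun r hr => (hl r hr).1
  -- a generator of the multiplicative group
  obtain ⟨ζ, hζ⟩ := IsCyclic.exists_generator (α := Kˣ)
  have hord : orderOf ζ = 2 ^ (2 * m + 1) - 1 := by
    rw [orderOf_eq_card_of_forall_mem_zpowers hζ, Nat.card_units, Nat.card_eq_fintype_card, hK]
  have hθ2 : (2 : ℤ) ≤ ((2 ^ m : ℕ) : ℤ) := by
    have : 2 ^ 1 ≤ 2 ^ m := Nat.pow_le_pow_right (by norm_num) hm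
    exact_mod_cast this
  have hordZ : ((orderOf ζ : ℕ) : ℤ) = 2 * ((2 ^ m : ℕ) : ℤ) * ((2 ^ m : ℕ) : ℤ) - 1 := by
    rw [hord]
    have h1 : 1 ≤ 2 ^ (2 * m + 1) := Nat.one_le_two_pow
    rw [Nat.cast_sub h1]
    push_cast
    ring
  -- the coefficient equations
  have hcoe : ∀ c d : Kˣ, f4H (2 ^ m) c d * prodL hD4 l t * (f4H (2 ^ m) c d)⁻¹ = prodL hD4 l t := by
    intro c d
    have := congrArg (fun x : ↥(GF4 K m) => (x : GL chevF4.Idx K)) (hc c d)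
    simp only [Subgroup.coe_mul, Subgroup.coe_inv, coe_hF4] at this
    rw [ht] at this
    exact this
  have hvan : ∀ r ∈ l, t r = 0 := by
    intro r hr
    by_contra htr
    obtain ⟨⟨a1, a2⟩, ⟨b1, b2⟩, ⟨c1, c2⟩, ⟨d1, d2⟩, hnz, hn2⟩ := cartan_table r hr
    -- `d = ζ`
    have e1 := hcoe 1 ζ
    rw [conj_prodL_of hD4 (f4H (2 ^ m) 1 ζ)
      (fun s => ((ζ ^ (((2 ^ m : ℕ) : ℤ) * chevF4.cartan 0 s + chevF4.cartan 3 s) : Kˣ) : K)) l
      (fun s hs a => f4H_one_left_conj_xG K (2 ^ m) ζ s (hlt s hs) a) t] at e1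
    have e1r := prodL_injective_of_fintype hD4 l hl hnd hall _ _ e1 r hr
    have h1 : ((ζ ^ (((2 ^ m : ℕ) : ℤ) * chevF4.cartan 0 r + chevF4.cartan 3 r) : Kˣ) : K) = 1 := by
      have : ((ζ ^ (((2 ^ m : ℕ) : ℤ) * chevF4.cartan 0 r + chevF4.cartan 3 r) : Kˣ) : K) * t r
          = 1 * t r := by rw [one_mul]; exact e1r
      exact mul_right_cancel₀ htr this
    have h1' : ζ ^ (((2 ^ m : ℕ) : ℤ) * chevF4.cartan 0 r + chevF4.cartan 3 r) = 1 := Units.ext h1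
    have hd1 := orderOf_dvd_iff_zpow_eq_one.mpr h1'
    rw [hordZ] at hd1
    -- `c = ζ`
    have e2 := hcoe ζ 1
    rw [conj_prodL_of hD4 (f4H (2 ^ m) ζ 1)
      (fun s => ((ζ ^ (((2 ^ m : ℕ) : ℤ) * chevF4.cartan 1 s + chevF4.cartan 2 s) : Kˣ) : K)) l
      (fun s hs a => f4H_one_right_conj_xG K (2 ^ m) ζ s (hlt s hs) a) t] at e2
    have e2r := prodL_injective_of_fintype hD4 l hl hnd hall _ _ e2 r hr
    have h2 : ((ζ ^ (((2 ^ m : ℕ) : ℤ) * chevF4.cartan 1 r + chevF4.cartan 2 r) : Kˣ) : K) = 1 := by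
      have : ((ζ ^ (((2 ^ m : ℕ) : ℤ) * chevF4.cartan 1 r + chevF4.cartan 2 r) : Kˣ) : K) * t r
          = 1 * t r := by rw [one_mul]; exact e2r
      exact mul_right_cancel₀ htr this
    have h2' : ζ ^ (((2 ^ m : ℕ) : ℤ) * chevF4.cartan 1 r + chevF4.cartan 2 r) = 1 := Units.ext h2
    have hd2 := orderOf_dvd_iff_zpow_eq_one.mpr h2'
    rw [hordZ] at hd2
    rcases dvd_lin_small _ hθ2 _ _ a1 a2 d1 d2 hd1 with ⟨x1, x2⟩ | ⟨x1, x2⟩ <;>
      rcases dvd_lin_small _ hθ2 _ _ b1 b2 c1 c2 hd2 with ⟨y1, y2⟩ | ⟨y1, y2⟩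
    · exact hnz ⟨x1, x2, y1, y2⟩
    · exact hn2 ⟨by rw [x1, x2]; norm_num, y2⟩
    · exact hn2 ⟨x2, by rw [y1, y2]; norm_num⟩
    · exact hn2 ⟨x2, y2⟩
  apply Subtype.ext
  rw [ht, Subgroup.coe_one, ← prodL_zero (F := K) hD4 l]
  exact prodL_congr hD4 l _ _ hvan

end

end Cfsg.Agent.Lib.Helper6.F4Out
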