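import Cfsg.Agent.Lib.Helper91.F4Out.F4Defs
import Cfsg.Agent.S1040

/-!
# Project F4OUT (S2128), module [C-H] (helper6, for helper91): the torus `H¹ = B¹ ∩ N¹` of `²F₄`
-/

set_option autoImplicit false
set_option linter.unusedSectionVars false

namespace Cfsg.Agent.Lib.Helper6.F4Out

open Cfsg Cfsg.Lie Cfsg.Agent.Lib.Helper18 Cfsg.Agent.Lib.Helper18.F4T Cfsg.Agent.Lib.Helper91.TwOut
open Cfsg.Agent.Lib.Helper91.ReeF4 Cfsg.Agent.Lib.Helper91.SigAbs Cfsg.Agent.Lib.Helper91.ExcAut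
open Cfsg.Agent.Lib.Helper61.ReeF4 Cfsg.Agent.Lib.Helper91.F4Out

universe u

variable (K : Type u) [Field K] [Fintype K] [CharP K 2] (m : ℕ) (hq : ∀ t : K, t ^ (2 * 2 ^ m * 2 ^ m) = t)

/-- membership in `B¹ ∩ N¹` is membership of the matrix in the diagonal subgroup -/
theorem mem_PH_F4 (P : Cfsg.BNPair ↥(GF4 K m))
    (hPB : P.B = (chevF4.borelSubgroup K ⊓ GF4 K m).subgroupOf (GF4 K m))
    (hPN : P.N = (chevF4.monomialSubgroup K ⊓ GF4 K m).subgroupOf (GF4 K m)) (h : ↥(GF4 K m)) :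
    h ∈ P.B ⊓ P.N ↔ (h : GL chevF4.Idx K) ∈ chevF4.diagonalSubgroup K := by
  rw [Subgroup.mem_inf, hPB, hPN, Subgroup.mem_subgroupOf, Subgroup.mem_subgroupOf, Subgroup.mem_inf,
    Subgroup.mem_inf, ← (Cfsg.Agent.S1040.result chevF4 hD4).2, Subgroup.mem_inf]
  constructor
  · rintro ⟨⟨h1, -⟩, ⟨h2, -⟩⟩
    exact ⟨h1, h2⟩
  · rintro ⟨h1, h2⟩
    exact ⟨⟨h1, h.2⟩, ⟨h2, h.2⟩⟩

include hq in
/-- [C-H] -/
theorem mem_H_iff (P : Cfsg.BNPair ↥(GF4 K m))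
    (hPB : P.B = (chevF4.borelSubgroup K ⊓ GF4 K m).subgroupOf (GF4 K m))
    (hPN : P.N = (chevF4.monomialSubgroup K ⊓ GF4 K m).subgroupOf (GF4 K m)) (h : ↥(GF4 K m)) :
    h ∈ P.B ⊓ P.N ↔ ∃ c d : Kˣ, h = hF4 K m hq c d := by
  rw [mem_PH_F4 K m P hPB hPN]
  constructor
  · intro hd
    have h1 : (h : GL chevF4.Idx K) ∈ chevF4.diagonalSubgroup K ⊓ twistedF4 K (2 ^ m) :=
      Subgroup.mem_inf.mpr ⟨hd, h.2⟩
    rw [diag_inf_twisted_eq K m hq] at h1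
    obtain ⟨c, d, hcd⟩ := f4H_surj m hq _ h1.1 h1.2
    exact ⟨c, d, Subtype.ext hcd⟩
  · rintro ⟨c, d, rfl⟩
    rw [coe_hF4]
    exact f4H_mem_H _ c d

/-- [C-H] the order of the torus -/
theorem card_H (hK : Fintype.card K = 2 ^ (2 * m + 1)) (P : Cfsg.BNPair ↥(GF4 K m))
    (hPB : P.B = (chevF4.borelSubgroup K ⊓ GF4 K m).subgroupOf (GF4 K m))
    (hPN : P.N = (chevF4.monomialSubgroup K ⊓ GF4 K m).subgroupOf (GF4 K m)) :
    Nat.card ↥(P.B ⊓ P.N) = (Fintype.card K - 1) * (Fintype.card K - 1) := by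
  have hq : ∀ t : K, t ^ (2 * 2 ^ m * 2 ^ m) = t := by
    intro t
    have e : 2 * 2 ^ m * 2 ^ m = Fintype.card K := by rw [hK]; ring
    rw [e, FiniteField.pow_card]
  let f : ↥(P.B ⊓ P.N) ≃ ↥(chevF4.diagonalSubgroup K ⊓ twistedF4 K (2 ^ m)) :=
    { toFun := fun x => ⟨((x : ↥(GF4 K m)) : GL chevF4.Idx K),
        Subgroup.mem_inf.mpr ⟨(mem_PH_F4 K m P hPB hPN x.1).mp x.2, x.1.2⟩⟩
      invFun := fun y => ⟨⟨y.1, (Subgroup.mem_inf.mp y.2).2⟩,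
        (mem_PH_F4 K m P hPB hPN _).mpr (Subgroup.mem_inf.mp y.2).1⟩
      left_inv := fun x => rfl
      right_inv := fun y => rfl }
  rw [Nat.card_congr f, diag_inf_twisted_eq K m hq, card_H_inf_F m hK, hK, pow_two]

/-- [C-H] the normal core of `B¹` is trivial -/
theorem normalCore_B (P : Cfsg.BNPair ↥(GF4 K m))
    (hPB : P.B = (chevF4.borelSubgroup K ⊓ GF4 K m).subgroupOf (GF4 K m)) : P.B.normalCore = ⊥ := by
  rw [hPB]
  exact normalCore_f4 K m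

end Cfsg.Agent.Lib.Helper6.F4Out
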