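import Mathlib
import Cfsg.Agent.Lib.Helper2.FWDefs

/-!
# Project FW (S3211), module [FW-F2] (helper6, for helper2): the square roots of `u = a * (n a n⁻¹)` inside
`L₁L₂` lie in one coset of `{1, j, u, u j}`
-/

set_option autoImplicit false

namespace Cfsg.Agent.Lib.Helper6.FW

open Cfsg.Agent.Lib.Helper2.FW

variable {G : Type*} [Group G] {L₁ L₂ : Subgroup G} {j n : G}

/-- `b = n a n⁻¹` lies in `L₂` and squares to `j`. -/
theorem conj_n_facts (H : Hyp L₁ L₂ j n) {a : G} (ha : a ∈ L₁) (haa : a * a = j) :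
    n * a * n⁻¹ ∈ L₂ ∧ (n * a * n⁻¹) * (n * a * n⁻¹) = j := by
  refine ⟨H.swap₁ a ha, ?_⟩
  calc n * a * n⁻¹ * (n * a * n⁻¹) = n * (a * a) * n⁻¹ := by group
    _ = n * j * n⁻¹ := by rw [haa]
    _ = j := by rw [H.n_comm, mul_inv_cancel_right]

/-- an element of `L₁ ∩ L₂` commutes with `L₁` and with `L₂`. -/
theorem inter_comm (H : Hyp L₁ L₂ j n) {ε : G} (h1 : ε ∈ L₁) (h2 : ε ∈ L₂) :
    (∀ x ∈ L₁, x * ε = ε * x) ∧ (∀ y ∈ L₂, y * ε = ε * y) := by
  rcases H.inter ε h1 h2 with rfl | rfl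
  · exact ⟨fun x _ => by rw [mul_one, one_mul], fun y _ => by rw [mul_one, one_mul]⟩
  · exact ⟨H.cent₁, H.cent₂⟩

/-- a square root `x y` of `a b` inside `L₁L₂`: `x` commutes with `a`, `y` with `b`. -/
theorem sqrt_comm (H : Hyp L₁ L₂ j n) {a b x y : G} (ha : a ∈ L₁) (hb : b ∈ L₂) (hx : x ∈ L₁)
    (hy : y ∈ L₂) (h : (x * y) * (x * y) = a * b) : x * a = a * x ∧ y * b = b * y := by
  have hyx : Commute y x := (H.comm x hx y hy).symm
  have h1 : (x * x) * (y * y) = a * b := by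
    rw [← h]
    exact (Commute.mul_mul_mul_comm hyx x y).symm
  set ε := a⁻¹ * (x * x) with hε
  have hε1 : ε ∈ L₁ := L₁.mul_mem (L₁.inv_mem ha) (L₁.mul_mem hx hx)
  have hε2' : ε = b * (y * y)⁻¹ := by
    have : ε * (y * y) = b := by
      rw [hε, mul_assoc, h1, inv_mul_cancel_left]
    rw [← this, mul_inv_cancel_right]
  have hε2 : ε ∈ L₂ := by
    rw [hε2']
    exact L₂.mul_mem hb (L₂.inv_mem (L₂.mul_mem hy hy))
  obtain ⟨c1, c2⟩ := inter_comm H hε1 hε2
  have hxx : x * x = a * ε := by rw [hε, mul_inv_cancel_left]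
  have hyy : b = ε * (y * y) := by
    rw [hε2', inv_mul_cancel_right]
  constructor
  · -- `a = (x * x) * ε⁻¹`
    have hae : a = (x * x) * ε⁻¹ := by rw [hxx, mul_inv_cancel_right]
    have hxe : x * ε⁻¹ = ε⁻¹ * x := by
      have := c1 x hx
      calc x * ε⁻¹ = ε⁻¹ * (ε * x) * ε⁻¹ := by group
        _ = ε⁻¹ * (x * ε) * ε⁻¹ := by rw [this]
        _ = ε⁻¹ * x := by group
    rw [hae]
    calc x * (x * x * ε⁻¹) = x * x * (x * ε⁻¹) := by group
      _ = x * x * (ε⁻¹ * x) := by rw [hxe]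
      _ = x * x * ε⁻¹ * x := by group
  · rw [hyy]
    calc y * (ε * (y * y)) = (y * ε) * (y * y) := by group
      _ = (ε * y) * (y * y) := by rw [c2 y hy]
      _ = ε * (y * y) * y := by group

/-- [FW-F2] square roots of `u` inside `L₁L₂` lie in one coset of `{1, j, u, uj}`. -/
theorem roots_in_L (H : Hyp L₁ L₂ j n) {a : G} (ha : a ∈ L₁) (haa : a * a = j) {s k : G}
    (hs : InL L₁ L₂ s) (hk : InL L₁ L₂ k) (hss : s * s = a * (n * a * n⁻¹))
    (hkk : k * k = a * (n * a * n⁻¹)) :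
    k = s ∨ k = s * j ∨ k = s * (a * (n * a * n⁻¹)) ∨ k = s * ((a * (n * a * n⁻¹)) * j) := by
  obtain ⟨hb, hbb⟩ := conj_n_facts H ha haa
  set b := n * a * n⁻¹ with hbdef
  obtain ⟨x, hx, y, hy, rfl⟩ := hs
  obtain ⟨x', hx', y', hy', rfl⟩ := hk
  obtain ⟨hxa, hyb⟩ := sqrt_comm H ha hb hx hy hss
  obtain ⟨hxa', hyb'⟩ := sqrt_comm H ha hb hx' hy' hkk
  have hxx' : x * x' = x' * x := H.abel₁ a ha haa x hx x' hx' hxa hxa'
  have hyy' : y * y' = y' * y := H.abel₂ b hb hbb y hy y' hy' hyb hyb'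
  set p := x⁻¹ * x' with hp
  set q := y⁻¹ * y' with hq
  have hpL : p ∈ L₁ := L₁.mul_mem (L₁.inv_mem hx) hx'
  have hqL : q ∈ L₂ := L₂.mul_mem (L₂.inv_mem hy) hy'
  have hpq : Commute p q := H.comm p hpL q hqL
  -- `k = s * (p * q)`
  have hk : x' * y' = (x * y) * (p * q) := by
    have hyp : Commute y p := (H.comm p hpL y hy).symm
    calc x' * y' = x * (x⁻¹ * x') * (y * (y⁻¹ * y')) := by group
      _ = x * (p * y) * q := by rw [← hp, ← hq]; group
      _ = x * (y * p) * q := by rw [hyp.eq]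
      _ = (x * y) * (p * q) := by group
  -- `p` commutes with `a`, `q` with `b`
  have hpa : p * a = a * p := by
    have hxi : x⁻¹ * a = a * x⁻¹ := by
      calc x⁻¹ * a = x⁻¹ * (a * x) * x⁻¹ := by group
        _ = x⁻¹ * (x * a) * x⁻¹ := by rw [hxa]
        _ = a * x⁻¹ := by group
    calc p * a = x⁻¹ * (x' * a) := by rw [hp]; group
      _ = x⁻¹ * (a * x') := by rw [hxa']
      _ = (x⁻¹ * a) * x' := by group
      _ = (a * x⁻¹) * x' := by rw [hxi]
      _ = a * p := by rw [hp]; group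
  have hqb : q * b = b * q := by
    have hyi : y⁻¹ * b = b * y⁻¹ := by
      calc y⁻¹ * b = y⁻¹ * (b * y) * y⁻¹ := by group
        _ = y⁻¹ * (y * b) * y⁻¹ := by rw [hyb]
        _ = b * y⁻¹ := by group
    calc q * b = y⁻¹ * (y' * b) := by rw [hq]; group
      _ = y⁻¹ * (b * y') := by rw [hyb']
      _ = (y⁻¹ * b) * y' := by group
      _ = (b * y⁻¹) * y' := by rw [hyi]
      _ = b * q := by rw [hq]; group
  -- `(p * p) * (q * q) = 1`
  have hsk : (x * y) * (x' * y') = (x' * y') * (x * y) := by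
    have c1 : Commute y x' := (H.comm x' hx' y hy).symm
    have c2 : Commute y' x := (H.comm x hx y' hy').symm
    calc x * y * (x' * y') = x * (y * x') * y' := by group
      _ = x * (x' * y) * y' := by rw [c1.eq]
      _ = (x * x') * (y * y') := by group
      _ = (x' * x) * (y' * y) := by rw [hxx', hyy']
      _ = x' * (x * y') * y := by group
      _ = x' * (y' * x) * y := by rw [c2.eq]
      _ = x' * y' * (x * y) := by group
  have hdd : (p * q) * (p * q) = 1 := by
    have e : p * q = (x * y)⁻¹ * (x' * y') := by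
      rw [hk, inv_mul_cancel_left]
    have hsk' : (x' * y') * (x * y)⁻¹ = (x * y)⁻¹ * (x' * y') := by
      calc x' * y' * (x * y)⁻¹ = (x * y)⁻¹ * ((x * y) * (x' * y')) * (x * y)⁻¹ := by group
        _ = (x * y)⁻¹ * ((x' * y') * (x * y)) * (x * y)⁻¹ := by rw [hsk]
        _ = (x * y)⁻¹ * (x' * y') := by group
    rw [e]
    calc (x * y)⁻¹ * (x' * y') * ((x * y)⁻¹ * (x' * y'))
        = (x * y)⁻¹ * ((x' * y') * (x * y)⁻¹) * (x' * y') := by group
      _ = (x * y)⁻¹ * ((x * y)⁻¹ * (x' * y')) * (x' * y') := by rw [hsk']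
      _ = ((x * y) * (x * y))⁻¹ * ((x' * y') * (x' * y')) := by group
      _ = 1 := by rw [hss, hkk, inv_mul_cancel]
  have hppqq : (p * p) * (q * q) = 1 := by
    rw [← hdd]
    exact (Commute.mul_mul_mul_comm hpq.symm p q).symm
  -- `p * p ∈ L₁ ∩ L₂`
  have hpp1 : p * p ∈ L₁ := L₁.mul_mem hpL hpL
  have hpp2 : p * p ∈ L₂ := by
    have : p * p = (q * q)⁻¹ := eq_inv_of_mul_eq_one_left hppqq
    rw [this]
    exact L₂.inv_mem (L₂.mul_mem hqL hqL)
  have hjinv : j⁻¹ = j := inv_eq_of_mul_eq_one_left H.j_sq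
  rw [hk]
  rcases H.inter _ hpp1 hpp2 with h1 | h1
  · -- `p * p = 1`
    have hq1 : q * q = 1 := by rw [h1, one_mul] at hppqq; exact hppqq
    rcases H.invol₁ p hpL h1 with e1 | e1 <;> rcases H.invol₂ q hqL hq1 with e2 | e2
    · left; rw [e1, e2, mul_one, mul_one]
    · right; left; rw [e1, e2, one_mul]
    · right; left; rw [e1, e2, mul_one]
    · left; rw [e1, e2, H.j_sq, mul_one]
  · -- `p * p = j`
    have hq1 : q * q = j := by
      rw [h1] at hppqq
      have : q * q = j⁻¹ := eq_inv_of_mul_eq_one_right hppqq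
      rw [this, hjinv]
    have hainv : a⁻¹ * a⁻¹ = j := by
      rw [← mul_inv_rev, haa, hjinv]
    have hbinv : b⁻¹ * b⁻¹ = j := by
      rw [← mul_inv_rev, hbb, hjinv]
    have hpai : p * a⁻¹ = a⁻¹ * p := by
      calc p * a⁻¹ = a⁻¹ * (a * p) * a⁻¹ := by group
        _ = a⁻¹ * (p * a) * a⁻¹ := by rw [hpa]
        _ = a⁻¹ * p := by group
    have hqbi : q * b⁻¹ = b⁻¹ * q := by
      calc q * b⁻¹ = b⁻¹ * (b * q) * b⁻¹ := by group
        _ = b⁻¹ * (q * b) * b⁻¹ := by rw [hqb]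
        _ = b⁻¹ * q := by group
    have hpa2 : (p * a⁻¹) * (p * a⁻¹) = 1 := by
      calc p * a⁻¹ * (p * a⁻¹) = p * (a⁻¹ * p) * a⁻¹ := by group
        _ = p * (p * a⁻¹) * a⁻¹ := by rw [hpai]
        _ = (p * p) * (a⁻¹ * a⁻¹) := by group
        _ = 1 := by rw [h1, hainv, H.j_sq]
    have hqb2 : (q * b⁻¹) * (q * b⁻¹) = 1 := by
      calc q * b⁻¹ * (q * b⁻¹) = q * (b⁻¹ * q) * b⁻¹ := by group
        _ = q * (q * b⁻¹) * b⁻¹ := by rw [hqbi]
        _ = (q * q) * (b⁻¹ * b⁻¹) := by group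
        _ = 1 := by rw [hq1, hbinv, H.j_sq]
    have hjb : j * b = b * j := (H.cent₂ b hb).symm
    have hja : j * a = a * j := (H.cent₁ a ha).symm
    rcases H.invol₁ _ (L₁.mul_mem hpL (L₁.inv_mem ha)) hpa2 with e1 | e1 <;>
      rcases H.invol₂ _ (L₂.mul_mem hqL (L₂.inv_mem hb)) hqb2 with e2 | e2
    · -- `p = a`, `q = b`
      have e1' : p = a := by rw [mul_inv_eq_one] at e1; exact e1
      have e2' : q = b := by rw [mul_inv_eq_one] at e2; exact e2
      right; right; left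
      rw [e1', e2']
    · -- `p = a`, `q = j b`
      have e1' : p = a := by rw [mul_inv_eq_one] at e1; exact e1
      have e2' : q = j * b := by rw [mul_inv_eq_iff_eq_mul] at e2; exact e2
      right; right; right
      rw [e1', e2', hjb]
      simp only [mul_assoc]
    · -- `p = j a`, `q = b`
      have e1' : p = j * a := by rw [mul_inv_eq_iff_eq_mul] at e1; exact e1
      have e2' : q = b := by rw [mul_inv_eq_one] at e2; exact e2
      right; right; right
      rw [e1', e2', hja]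
      have : a * j * b = a * b * j := by rw [mul_assoc, hjb, ← mul_assoc]
      simp only [mul_assoc] at this ⊢
      rw [this]
    · -- `p = j a`, `q = j b`
      have e1' : p = j * a := by rw [mul_inv_eq_iff_eq_mul] at e1; exact e1
      have e2' : q = j * b := by rw [mul_inv_eq_iff_eq_mul] at e2; exact e2
      right; right; left
      rw [e1', e2']
      have : j * a * (j * b) = a * b := by
        calc j * a * (j * b) = (j * a) * j * b := by group
          _ = (a * j) * j * b := by rw [hja]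
          _ = a * (j * j) * b := by group
          _ = a * b := by rw [H.j_sq, mul_one]
      rw [this]

end Cfsg.Agent.Lib.Helper6.FW
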