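import Mathlib
import Cfsg.Agent.Lib.Helper2.FWDefs

/-!
# Project FW (S3211), module [FW-M1] (helper6, for helper2): in `SL₂(F)`, `2 ≠ 0`, the centralizer of a
square root of `-1` is commutative
-/

set_option autoImplicit false

namespace Cfsg.Agent.Lib.Helper6.FW

open Cfsg.Agent.Lib.Helper2.FW

/-- the entries of a square root of `-1` in `SL₂(F)`: trace zero and `p² + q r = -1`. -/
theorem sl2_sqrt_neg_one_entries {F : Type*} [Field F]
    (a : Matrix.SpecialLinearGroup (Fin 2) F) (ha : a * a = -1) :
    a.1 1 1 = - a.1 0 0 ∧ a.1 0 0 * a.1 0 0 + a.1 0 1 * a.1 1 0 = -1 := by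
  have hA := congrArg (fun m : Matrix.SpecialLinearGroup (Fin 2) F => (m : Matrix (Fin 2) (Fin 2) F)) ha
  simp only [Matrix.SpecialLinearGroup.coe_mul, Matrix.SpecialLinearGroup.coe_neg,
    Matrix.SpecialLinearGroup.coe_one] at hA
  have h00 := congrFun (congrFun hA 0) 0
  have h01 := congrFun (congrFun hA 0) 1
  have h10 := congrFun (congrFun hA 1) 0
  have h11 := congrFun (congrFun hA 1) 1
  simp only [Matrix.mul_apply, Fin.sum_univ_two, Matrix.neg_apply, Matrix.one_apply_eq,
    Matrix.one_apply_ne, ne_eq, zero_ne_one, one_ne_zero, not_false_eq_true, neg_zero,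
    Fin.isValue] at h00 h01 h10 h11
  have hdet : a.1 0 0 * a.1 1 1 - a.1 0 1 * a.1 1 0 = 1 := by
    have := a.2
    rwa [Matrix.det_fin_two] at this
  set p := a.1 0 0
  set q := a.1 0 1
  set r := a.1 1 0
  set s := a.1 1 1
  have hps : p + s = 0 := by
    by_contra hne
    have hq : q = 0 := by
      have : q * (p + s) = 0 := by linear_combination h01
      rcases mul_eq_zero.mp this with h | h
      · exact h
      · exact absurd h hne
    have hr : r = 0 := by
      have : r * (p + s) = 0 := by linear_combination h10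
      rcases mul_eq_zero.mp this with h | h
      · exact h
      · exact absurd h hne
    have : (p + s) * (p + s) = 0 := by
      rw [hq, hr] at *
      linear_combination h00 + h11 + 2 * hdet
    exact hne (mul_self_eq_zero.mp this)
  have hs : s = -p := by linear_combination hps
  exact ⟨hs, h00⟩

/-- [FW-M1] the centralizer in `SL₂(F)` of a square root of `-1` is commutative. -/
theorem sl2_abel {F : Type*} [Field F] (h2 : (2 : F) ≠ 0)
    (a x y : Matrix.SpecialLinearGroup (Fin 2) F) (ha : a * a = -1) (hx : x * a = a * x)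
    (hy : y * a = a * y) : x * y = y * x := by
  obtain ⟨hs, hpq⟩ := sl2_sqrt_neg_one_entries a ha
  -- the commutation relations, entrywise
  have key : ∀ z : Matrix.SpecialLinearGroup (Fin 2) F, z * a = a * z →
      z.1 0 1 * a.1 1 0 = a.1 0 1 * z.1 1 0 ∧
      a.1 0 1 * (z.1 0 0 - z.1 1 1) = 2 * a.1 0 0 * z.1 0 1 ∧
      a.1 1 0 * (z.1 0 0 - z.1 1 1) = 2 * a.1 0 0 * z.1 1 0 := by
    intro z hz
    have hZ := congrArg (fun m : Matrix.SpecialLinearGroup (Fin 2) F =>
      (m : Matrix (Fin 2) (Fin 2) F)) hz
    simp only [Matrix.SpecialLinearGroup.coe_mul] at hZ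
    have h00 := congrFun (congrFun hZ 0) 0
    have h01 := congrFun (congrFun hZ 0) 1
    have h10 := congrFun (congrFun hZ 1) 0
    simp only [Matrix.mul_apply, Fin.sum_univ_two, Fin.isValue] at h00 h01 h10
    rw [hs] at h01 h10
    refine ⟨?_, ?_, ?_⟩
    · linear_combination h00
    · linear_combination h01
    · linear_combination -h10
  obtain ⟨x1, x2, x3⟩ := key x hx
  obtain ⟨y1, y2, y3⟩ := key y hy
  set p := a.1 0 0
  set q := a.1 0 1
  set r := a.1 1 0
  -- the three identities to prove
  have goal : x.1 0 1 * y.1 1 0 = y.1 0 1 * x.1 1 0 ∧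
      y.1 0 1 * (x.1 0 0 - x.1 1 1) = x.1 0 1 * (y.1 0 0 - y.1 1 1) ∧
      x.1 1 0 * (y.1 0 0 - y.1 1 1) = y.1 1 0 * (x.1 0 0 - x.1 1 1) := by
    by_cases hq : q = 0
    · by_cases hr : r = 0
      · -- `q = r = 0`, `p² = -1`
        have hp : p ≠ 0 := by
          intro hp
          rw [hp, hq] at hpq
          simp at hpq
        have h2p : 2 * p ≠ 0 := mul_ne_zero h2 hp
        have hx2 : x.1 0 1 = 0 := by
          rw [hq] at x2
          have : 2 * p * x.1 0 1 = 0 := by linear_combination -x2
          rcases mul_eq_zero.mp this with h | h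
          · exact absurd h h2p
          · exact h
        have hx3 : x.1 1 0 = 0 := by
          rw [hr] at x3
          have : 2 * p * x.1 1 0 = 0 := by linear_combination -x3
          rcases mul_eq_zero.mp this with h | h
          · exact absurd h h2p
          · exact h
        have hy2 : y.1 0 1 = 0 := by
          rw [hq] at y2
          have : 2 * p * y.1 0 1 = 0 := by linear_combination -y2
          rcases mul_eq_zero.mp this with h | h
          · exact absurd h h2p
          · exact h
        have hy3 : y.1 1 0 = 0 := by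
          rw [hr] at y3
          have : 2 * p * y.1 1 0 = 0 := by linear_combination -y3
          rcases mul_eq_zero.mp this with h | h
          · exact absurd h h2p
          · exact h
        rw [hx2, hx3, hy2, hy3]
        simp
      · -- `r ≠ 0`
        have g1 : x.1 0 1 * y.1 1 0 = y.1 0 1 * x.1 1 0 := by
          apply mul_left_cancel₀ hr
          linear_combination y.1 1 0 * x1 - x.1 1 0 * y1
        refine ⟨g1, ?_, ?_⟩
        · apply mul_left_cancel₀ hr
          linear_combination y.1 0 1 * x3 - x.1 0 1 * y3 - 2 * p * g1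
        · apply mul_left_cancel₀ hr
          linear_combination x.1 1 0 * y3 - y.1 1 0 * x3
    · -- `q ≠ 0`
      have g1 : x.1 0 1 * y.1 1 0 = y.1 0 1 * x.1 1 0 := by
        apply mul_left_cancel₀ hq
        linear_combination y.1 0 1 * x1 - x.1 0 1 * y1
      refine ⟨g1, ?_, ?_⟩
      · apply mul_left_cancel₀ hq
        linear_combination y.1 0 1 * x2 - x.1 0 1 * y2
      · apply mul_left_cancel₀ hq
        linear_combination x.1 1 0 * y2 - y.1 1 0 * x2 - 2 * p * g1
  obtain ⟨g1, g2, g3⟩ := goal
  apply Subtype.ext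
  ext i j
  simp only [Matrix.SpecialLinearGroup.coe_mul, Matrix.mul_apply, Fin.sum_univ_two]
  fin_cases i <;> fin_cases j <;> simp only [Fin.zero_eta, Fin.mk_one, Fin.isValue]
  · linear_combination g1
  · linear_combination g2
  · linear_combination g3
  · linear_combination -g1

end Cfsg.Agent.Lib.Helper6.FW
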