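import Mathlib
import Cfsg.Agent.Lib.Helper2.FWDefs
import Cfsg.Agent.Lib.Helper6.FWM1

/-!
# Project FW (S3211), module [FW-M5a] (helper6, for helper2): normal form of a square root of `-1` in
`SL₂(F)`, `F` a finite field of odd order
-/

set_option autoImplicit false

namespace Cfsg.Agent.Lib.Helper6.FW

open Cfsg.Agent.Lib.Helper2.FW Polynomial

/-- every element of a finite field of odd order is a sum of two squares -/
theorem exists_sq_add_sq {F : Type*} [Field F] [Fintype F] (hF : Fintype.card F % 2 = 1) (t : F) :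
    ∃ α β : F, α * α + β * β = t := by
  let f : F[X] := X ^ 2
  let g : F[X] := X ^ 2 - C t
  obtain ⟨a, b, hab⟩ : ∃ a b, f.eval a + g.eval b = 0 :=
    FiniteField.exists_root_sum_quadratic (f := f) (g := g) (degree_X_pow 2)
      (degree_X_pow_sub_C (by decide) _) hF
  refine ⟨a, b, ?_⟩
  simp only [f, g, eval_C, eval_X, eval_pow, eval_sub] at hab
  linear_combination hab

/-- `2 ≠ 0` in a finite field of odd order -/
theorem two_ne_zero_of_odd_card {F : Type*} [Field F] [Fintype F] (hF : Odd (Fintype.card F)) :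
    (2 : F) ≠ 0 := by
  have hchar : ringChar F ≠ 2 := by
    intro h
    have := FiniteField.even_card_of_char_two h
    rw [Nat.odd_iff] at hF
    omega
  exact Ring.two_ne_zero hchar

/-- [FW-M5a] normal form of a square root of `-1` in `SL₂(F)`, `F` a finite field of odd order. -/
theorem sl2_normal_form {F : Type*} [Field F] [Fintype F] (hF : Odd (Fintype.card F))
    (a : Matrix.SpecialLinearGroup (Fin 2) F) (ha : a * a = -1) :
    ∃ g : Matrix.SpecialLinearGroup (Fin 2) F,
      (g : Matrix (Fin 2) (Fin 2) F) * (a : Matrix (Fin 2) (Fin 2) F) =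
        !![0, -1; 1, 0] * (g : Matrix (Fin 2) (Fin 2) F) := by
  have h2 : (2 : F) ≠ 0 := two_ne_zero_of_odd_card hF
  obtain ⟨hs, hpq⟩ := sl2_sqrt_neg_one_entries a ha
  set p := a.1 0 0 with hp
  set q := a.1 0 1 with hq
  set r := a.1 1 0 with hr
  -- a row vector on which the quadratic form does not vanish
  obtain ⟨w1, w2, hd⟩ : ∃ w1 w2 : F, -q * w1 * w1 + 2 * p * w1 * w2 + r * w2 * w2 ≠ 0 := by
    by_cases hq0 : q = 0
    · by_cases hr0 : r = 0
      · refine ⟨1, 1, ?_⟩
        have hp0 : p ≠ 0 := by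
          intro h0
          rw [h0, hq0] at hpq
          simp at hpq
        rw [hq0, hr0]
        simpa using mul_ne_zero h2 hp0
      · exact ⟨0, 1, by simpa using hr0⟩
    · exact ⟨1, 0, by simpa using hq0⟩
  set d := -q * w1 * w1 + 2 * p * w1 * w2 + r * w2 * w2 with hddef
  obtain ⟨α, β, hαβ⟩ := exists_sq_add_sq (Nat.odd_iff.mp hF) d⁻¹
  set g3 : F := -(w1 * p + w2 * r) with hg3
  set g4 : F := -(w1 * q - w2 * p) with hg4
  have hdet : (!![α * w1 - β * g3, α * w2 - β * g4; β * w1 + α * g3, β * w2 + α * g4] :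
      Matrix (Fin 2) (Fin 2) F).det = 1 := by
    rw [Matrix.det_fin_two_of]
    have h1 : (α * α + β * β) * d = 1 := by rw [hαβ, inv_mul_cancel₀ hd]
    rw [hddef] at h1
    rw [hg3, hg4]
    linear_combination h1
  refine ⟨⟨_, hdet⟩, ?_⟩
  show (!![α * w1 - β * g3, α * w2 - β * g4; β * w1 + α * g3, β * w2 + α * g4] :
      Matrix (Fin 2) (Fin 2) F) * a.1 = !![0, -1; 1, 0] * !![α * w1 - β * g3, α * w2 - β * g4;
        β * w1 + α * g3, β * w2 + α * g4]
  ext i j
  fin_cases i <;> fin_cases j <;>
    simp only [Matrix.mul_apply, Fin.sum_univ_two, Fin.zero_eta, Fin.mk_one, Fin.isValue,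
      Matrix.of_apply, Matrix.cons_val', Matrix.cons_val_zero, Matrix.cons_val_one,
      Matrix.cons_val_fin_one, Matrix.empty_val'] <;>
    rw [hg3, hg4]
  · linear_combination (β * w1) * hpq
  · linear_combination (β * w2) * hpq + (α * w2 - β * g4) * hs
  · linear_combination (-α * w1) * hpq
  · linear_combination (-α * w2) * hpq + (β * w2 + α * g4) * hs

end Cfsg.Agent.Lib.Helper6.FW
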