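/-
helper6: KSL-[NUM-LARGE] (sheet KSL = S2479, helper99) in `_of` form (hedge).
`num_large_of q n hq hn hsum` : the numerical bound for `n ≥ 5`, from the statement `hsum` of [SUM-W] (`sum_w_dvd_le`).
-/
import Cfsg.Agent.Lib.Helper99.KSL.Defs

set_option autoImplicit false

namespace Cfsg.Agent.Lib.Helper6.KSL

open Finset
open Cfsg.Agent.Lib.Helper99.GLClass Cfsg.Agent.Lib.Helper99.KSL

/-- `dgcd d` divides `n` for a degree sequence of `n` -/
theorem dgcd_dvd {n : ℕ} {d : Fin n → ℕ} (hd : d ∈ degSeq n) : dgcd d ∣ n := by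
  unfold degSeq at hd
  rw [mem_filter] at hd
  have hsum : dgcd d ∣ ∑ j : Fin n, ((j : ℕ) + 1) * d j := by
    apply Finset.dvd_sum
    intro j _
    by_cases h0 : d j = 0
    · rw [h0, mul_zero]
      exact dvd_zero _
    · apply Dvd.dvd.mul_right
      unfold dgcd
      exact Finset.gcd_dvd (f := fun j : Fin n => (j : ℕ) + 1) (mem_filter.mpr ⟨mem_univ j, h0⟩)
  rw [hd.2] at hsum
  exact hsum

/-- each summand of the degree sum is divisible by `dgcd d` -/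
theorem dgcd_dvd_aux {n : ℕ} {d : Fin n → ℕ} (j : Fin n) : dgcd d ∣ ((j : ℕ) + 1) * d j := by
  by_cases h0 : d j = 0
  · rw [h0, mul_zero]
    exact dvd_zero _
  · apply Dvd.dvd.mul_right
    unfold dgcd
    exact Finset.gcd_dvd (f := fun j : Fin n => (j : ℕ) + 1) (mem_filter.mpr ⟨mem_univ j, h0⟩)

/-- the geometric sum bound -/
theorem geom_le (q k : ℕ) (hq : 1 ≤ q) : (q - 1) * ∑ m ∈ Icc 1 k, q ^ m ≤ q ^ (k + 1) := by
  have h1 : ∑ m ∈ Icc 1 k, q ^ m ≤ ∑ m ∈ range (k + 1), q ^ m := by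
    apply Finset.sum_le_sum_of_subset
    intro m hm
    rw [mem_Icc] at hm
    rw [mem_range]
    omega
  have h2 := geom_sum_mul_add (q - 1) (k + 1)
  rw [Nat.sub_add_cancel hq] at h2
  calc (q - 1) * ∑ m ∈ Icc 1 k, q ^ m ≤ (q - 1) * ∑ m ∈ range (k + 1), q ^ m := Nat.mul_le_mul_left _ h1
    _ = (∑ m ∈ range (k + 1), q ^ m) * (q - 1) := Nat.mul_comm _ _
    _ ≤ q ^ (k + 1) := by omega

/-- the sum over the divisors `γ ≥ 2` of `n` -/
theorem sum_divisors_le (q n : ℕ) (hn : 1 ≤ n) :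
    ∑ γ ∈ (Nat.divisors n).filter (fun γ => 2 ≤ γ), q ^ (n / γ) ≤ ∑ m ∈ Icc 1 (n / 2), q ^ m := by
  have hinj : Set.InjOn (fun γ => n / γ) ((Nat.divisors n).filter (fun γ => 2 ≤ γ) : Set ℕ) := by
    intro a ha b hb hab
    simp only [coe_filter, Set.mem_ofPred_eq, Nat.mem_divisors] at ha hb
    simp only at hab
    have ea : n / (n / a) = a := Nat.div_div_self ha.1.1 (by omega)
    have eb : n / (n / b) = b := Nat.div_div_self hb.1.1 (by omega)
    rw [← ea, ← eb, hab]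
  rw [← Finset.sum_image (f := fun m => q ^ m) hinj]
  apply Finset.sum_le_sum_of_subset
  intro m hm
  rw [mem_image] at hm
  obtain ⟨γ, hγ, rfl⟩ := hm
  rw [mem_filter, Nat.mem_divisors] at hγ
  rw [mem_Icc]
  constructor
  · exact Nat.div_pos (Nat.le_of_dvd (by omega) hγ.1.1) (by omega)
  · exact Nat.div_le_div_left hγ.2 (by norm_num)

theorem num_large_of (q n : ℕ) (hq : 2 ≤ q) (hn : 5 ≤ n)
    (hsum : ∀ γ : ℕ, 1 ≤ γ → γ ∣ n →
      ∑ d ∈ (degSeq n).filter (fun d => γ ∣ dgcd d), w q d ≤ q ^ (n / γ)) :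
    ∑ d ∈ degSeq n, w q d * gd q d ^ 2 ≤ (q - 1) * (q ^ (n - 1) + 3 * q ^ (n - 2)) := by
  classical
  set S : Finset ℕ := (Nat.divisors n).filter (fun γ => 2 ≤ γ) with hS
  -- termwise bound
  have hA : ∀ d ∈ degSeq n, w q d * gd q d ^ 2 ≤
      w q d + ∑ γ ∈ S, (if γ ∣ dgcd d then w q d * (q - 1) ^ 2 else 0) := by
    intro d hd
    have h1 : gd q d ∣ q - 1 := Nat.gcd_dvd_left _ _
    have h2 : gd q d ∣ dgcd d := Nat.gcd_dvd_right _ _
    have h3 : gd q d ≤ q - 1 := Nat.le_of_dvd (by omega) h1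
    have h4 : 1 ≤ gd q d := Nat.pos_of_dvd_of_pos h1 (by omega)
    by_cases h5 : gd q d = 1
    · rw [h5]
      simp
    · have h6 : 2 ≤ gd q d := by omega
      have hmem : gd q d ∈ S := by
        rw [hS, mem_filter, Nat.mem_divisors]
        exact ⟨⟨h2.trans (dgcd_dvd hd), by omega⟩, h6⟩
      have h7 := Finset.single_le_sum (f := fun γ => if γ ∣ dgcd d then w q d * (q - 1) ^ 2 else 0)
        (fun γ _ => Nat.zero_le _) hmem
      simp only [if_pos h2] at h7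
      have h8 : w q d * gd q d ^ 2 ≤ w q d * (q - 1) ^ 2 :=
        Nat.mul_le_mul_left _ (Nat.pow_le_pow_left h3 2)
      omega
  have hB : ∑ d ∈ degSeq n, w q d ≤ q ^ n := by
    have := hsum 1 le_rfl (one_dvd n)
    rw [Nat.div_one, Finset.filter_true_of_mem (fun d _ => one_dvd _)] at this
    exact this
  have hC : ∑ d ∈ degSeq n, ∑ γ ∈ S, (if γ ∣ dgcd d then w q d * (q - 1) ^ 2 else 0) ≤
      (q - 1) ^ 2 * ∑ γ ∈ S, q ^ (n / γ) := by
    rw [Finset.sum_comm, Finset.mul_sum]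
    apply Finset.sum_le_sum
    intro γ hγ
    rw [hS, mem_filter, Nat.mem_divisors] at hγ
    rw [← Finset.sum_filter, ← Finset.sum_mul, Nat.mul_comm]
    exact Nat.mul_le_mul_left _ (hsum γ (by omega) hγ.1.1)
  have hD : (q - 1) * ∑ γ ∈ S, q ^ (n / γ) ≤ q ^ (n - 2) := by
    calc (q - 1) * ∑ γ ∈ S, q ^ (n / γ) ≤ (q - 1) * ∑ m ∈ Icc 1 (n / 2), q ^ m :=
          Nat.mul_le_mul_left _ (sum_divisors_le q n (by omega))
      _ ≤ q ^ (n / 2 + 1) := geom_le q (n / 2) (by omega)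
      _ ≤ q ^ (n - 2) := Nat.pow_le_pow_right (by omega) (by omega)
  have hE : ∑ d ∈ degSeq n, w q d * gd q d ^ 2 ≤ q ^ n + (q - 1) * q ^ (n - 2) := by
    calc ∑ d ∈ degSeq n, w q d * gd q d ^ 2
        ≤ ∑ d ∈ degSeq n, (w q d + ∑ γ ∈ S, (if γ ∣ dgcd d then w q d * (q - 1) ^ 2 else 0)) :=
          Finset.sum_le_sum hA
      _ = ∑ d ∈ degSeq n, w q d +
            ∑ d ∈ degSeq n, ∑ γ ∈ S, (if γ ∣ dgcd d then w q d * (q - 1) ^ 2 else 0) :=
          Finset.sum_add_distrib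
      _ ≤ q ^ n + (q - 1) ^ 2 * ∑ γ ∈ S, q ^ (n / γ) := Nat.add_le_add hB hC
      _ = q ^ n + (q - 1) * ((q - 1) * ∑ γ ∈ S, q ^ (n / γ)) := by rw [pow_two, Nat.mul_assoc]
      _ ≤ q ^ n + (q - 1) * q ^ (n - 2) := Nat.add_le_add_left (Nat.mul_le_mul_left _ hD) _
  refine hE.trans ?_
  obtain ⟨k, rfl⟩ : ∃ k, n = k + 2 := ⟨n - 2, by omega⟩
  obtain ⟨x, rfl⟩ : ∃ x, q = x + 2 := ⟨q - 2, by omega⟩
  have e1 : x + 2 - 1 = x + 1 := by omega
  have e2 : k + 2 - 1 = k + 1 := by omega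
  have e3 : k + 2 - 2 = k := by omega
  rw [e1, e2, e3, pow_succ, pow_succ]
  nlinarith [Nat.zero_le ((x + 2) ^ k), Nat.zero_le x, Nat.zero_le (x * (x + 2) ^ k)]

end Cfsg.Agent.Lib.Helper6.KSL
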