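import Mathlib
import Cfsg.Prelude.Def_LieTypeChar
import Cfsg.Agent.Lib.Helper6.AutSYL
import Cfsg.Agent.Lib.Helper18.BN1
import Cfsg.Agent.Lib.Helper72.Lie2Gen

/-!
# Project LIE2 (helper72): module `S4625-[M-EXC]` (helper6)

`sqComm_chev` : for the Chevalley groups `G2, F4, E6, E7, E8` over a finite field of characteristic 2,
squares of elements of a Sylow 2-subgroup `P` lie in `P'`.  The subgroup `U` generated by the positive root
elements is a Sylow 2-subgroup (`Helper6.Aut`), and every root element is an involution: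
`x_r(t)^2 = x_r(t + t) = x_r(0) = 1`.
-/

set_option autoImplicit false

namespace Cfsg.Agent.Lib.Helper6.Lie2

open Cfsg Cfsg.Lie Cfsg.Agent.Lib.Helper72.Lie2 Cfsg.Agent.Lib.Helper18

/-- `SqComm` only depends on the isomorphism type of the subgroup -/
theorem sqComm_of_mulEquiv {G H : Type*} [Group G] [Group H] {P : Subgroup G} {Q : Subgroup H}
    (e : ↥P ≃* ↥Q) (h : SqComm P) : SqComm Q := by
  intro x
  have h1 := h (e.symm x)
  have h2 : (commutator ↥P).map e.toMonoidHom = commutator ↥Q := by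
    rw [commutator_def, commutator_def, Subgroup.map_commutator]
    have : (⊤ : Subgroup ↥P).map e.toMonoidHom = ⊤ := by
      rw [← MonoidHom.range_eq_map, MonoidHom.range_eq_top]
      exact e.surjective
    rw [this]
  have h3 : x ^ 2 = e.toMonoidHom ((e.symm x) ^ 2) := by
    rw [map_pow]
    simp
  rw [h3, ← h2]
  exact Subgroup.mem_map_of_mem _ h1

/-- in characteristic 2 the positive unipotent subgroup has `SqComm`: it is generated by involutions -/
theorem sqComm_posUnipotent {F : Type*} [Field F] [CharP F 2] (D : Cfsg.Lie.ChevalleyDatum)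
    (hD : D ∈ [chevG2, chevB2, chevD4, chevF4, chevE6, chevE7, chevE8]) :
    SqComm (D.posUnipotent F) := by
  apply sqComm_of_closure_sq_eq_one (D.posUnipotent F)
    {g | ∃ (r : ℕ) (t : F), D.IsPosRoot r ∧ (g : Matrix D.Idx D.Idx F) = D.x F r t} rfl
  rintro s ⟨r, t, -, hs⟩
  apply Units.ext
  rw [pow_two, Units.val_mul, hs, x_add' hD, CharTwo.add_self_eq_zero, x_zero hD, Units.val_one]

/-- `S4625-[M-EXC]` -/
theorem sqComm_chev {F : Type} [Field F] [Fintype F] [CharP F 2] (D : Cfsg.Lie.ChevalleyDatum)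
    (hD : D ∈ [Cfsg.Lie.chevG2, Cfsg.Lie.chevF4, Cfsg.Lie.chevE6, Cfsg.Lie.chevE7, Cfsg.Lie.chevE8])
    (P : Sylow 2 (D.group F)) : SqComm (P : Subgroup (D.group F)) := by
  have hD' : D ∈ [chevG2, chevB2, chevD4, chevF4, chevE6, chevE7, chevE8] := by
    simp only [List.mem_cons, List.not_mem_nil, or_false] at hD ⊢
    tauto
  have : Fact (Nat.Prime 2) := ⟨Nat.prime_two⟩
  have hUG : D.posUnipotent F ≤ D.group F := Cfsg.Agent.S1043.posUnipotent_le_group D hD'
  have hpq : 2 ∣ Fintype.card F := by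
    obtain ⟨n, -, hn⟩ := FiniteField.card F 2
    rw [hn]
    exact dvd_pow_self 2 n.ne_zero
  have hidx := Cfsg.Agent.Lib.Helper6.Aut.not_dvd_index_posUnipotent (F := F) hD'
    Nat.prime_two hpq
  have hPG : IsPGroup 2 ↥((D.posUnipotent F).subgroupOf (D.group F)) :=
    (Cfsg.Agent.Lib.Helper6.Aut.isPGroup_posUnipotent (F := F) hD' 2).of_equiv
      (Subgroup.subgroupOfEquivOfLe hUG).symm
  have hsq : SqComm ((D.posUnipotent F).subgroupOf (D.group F)) :=
    sqComm_of_mulEquiv (Subgroup.subgroupOfEquivOfLe hUG).symm (sqComm_posUnipotent D hD')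
  apply sqComm_all_sylow_of_one (hPG.toSylow hidx)
  rw [IsPGroup.toSylow_coe]
  exact hsq

end Cfsg.Agent.Lib.Helper6.Lie2
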