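import Mathlib
import Cfsg.Prelude.Def_LieTypeChar
import Cfsg.Agent.Lib.Helper18.TwOrdD4
import Cfsg.Agent.Lib.Helper18.TwOrdE6
import Cfsg.Agent.Lib.Helper18.TwD4
import Cfsg.Agent.Lib.Helper18.TwE6
import Cfsg.Agent.Lib.Helper18.TwFrob
import Cfsg.Agent.Lib.Helper72.Lie2Gen
import Cfsg.Agent.Lib.Helper6.Lie2Exc

/-!
# Project LIE2 (helper72): modules `S4625-[M-3D4]` and `S4625-[M-2E6]` (helper6)

For the twisted groups `³D₄(q)` and `²E₆(q)` in characteristic 2, squares of elements of a Sylow 2-subgroup `P`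
lie in `P'`.  `U¹ = U ∩ G¹` (helper18's twisted tower) has order `q^N`, the 2-part of the group order, and every
element of `U¹` is an ordered product of "blocks" `∏_{r ∈ ρ-orbit} x_r(t_r) ∈ U¹`; the factors of a block commute
(`xG_comm_rho`), so in characteristic 2 every block is an involution.
-/

set_option autoImplicit false

namespace Cfsg.Agent.Lib.Helper6.Lie2

open Cfsg Cfsg.Lie Cfsg.Agent.Lib.Helper72.Lie2 Cfsg.Agent.Lib.Helper18 Cfsg.Agent.Lib.Helper17

universe u

section Generic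

variable {K : Type u} [Field K] [CharP K 2] {D : ChevalleyDatum}
  (hD : D ∈ [chevG2, chevB2, chevD4, chevF4, chevE6, chevE7, chevE8]) (C : ChevData.{u} D)
  (g : GraphData) (m : ℕ) (hTw : g.twOK C.T m = true)

omit [CharP K 2] in
theorem sq_of_commute_two {G : Type*} [Group G] {A B : G} (hAB : B * A = A * B) (hA : A * A = 1)
    (hB : B * B = 1) : (A * (B * 1)) * (A * (B * 1)) = 1 := by
  rw [mul_one]
  calc A * B * (A * B) = A * (B * A) * B := by group
    _ = A * (A * B) * B := by rw [hAB]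
    _ = (A * A) * (B * B) := by group
    _ = 1 := by rw [hA, hB, one_mul]

omit [CharP K 2] in
theorem sq_of_commute_three {G : Type*} [Group G] {A B E : G} (hAB : B * A = A * B) (hBE : E * B = B * E)
    (hAE : A * E = E * A) (hA : A * A = 1) (hB : B * B = 1) (hE : E * E = 1) :
    (A * (B * (E * 1))) * (A * (B * (E * 1))) = 1 := by
  rw [mul_one]
  calc A * (B * E) * (A * (B * E)) = A * B * (E * A) * (B * E) := by group
    _ = A * B * (A * E) * (B * E) := by rw [hAE]
    _ = A * (B * A) * (E * B) * E := by group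
    _ = A * (A * B) * (B * E) * E := by rw [hAB, hBE]
    _ = (A * A) * (B * B) * (E * E) := by group
    _ = 1 := by rw [hA, hB, hE, one_mul, one_mul]

include hD in
theorem xG_mul_self (r : ℕ) (a : K) : xG hD r a * xG hD r a = 1 := by
  rw [xG_mul, CharTwo.add_self_eq_zero, xG_zero]

include hTw in
/-- in characteristic 2 every block (ordered product over a `ρ`-orbit) is an involution or trivial -/
theorem block_mul_self (hm : m = 2 ∨ m = 3) (s : ℕ) (hs : s < D.nroots) (t : ℕ → K) :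
    prodL hD (g.orb m s) t * prodL hD (g.orb m s) t = 1 := by
  unfold GraphData.orb
  by_cases hfix : g.rho s = s
  · rw [if_pos hfix]
    simp only [prodL_cons, prodL_nil, mul_one]
    exact xG_mul_self hD s _
  · rw [if_neg hfix]
    have hm' := rho_iterate_m C g m hTw s hs
    rcases hm with rfl | rfl
    · simp only [List.range_succ, List.range_zero, List.nil_append, List.cons_append, List.map_cons,
        List.map_nil, Function.iterate_zero, id_eq, Function.iterate_succ, Function.comp_apply,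
        prodL_cons, prodL_nil]
      exact sq_of_commute_two (xG_comm_rho hD C g 2 hTw s hs hfix _ _) (xG_mul_self hD _ _)
        (xG_mul_self hD _ _)
    · have h3 : g.rho (g.rho (g.rho s)) = s := hm'
      have hs1 := rho_lt C g 3 hTw s hs
      have hs2 := rho_lt C g 3 hTw _ hs1
      have hfix1 : g.rho (g.rho s) ≠ g.rho s := by
        intro e
        apply hfix
        have e2 := congrArg g.rho e
        rw [h3, e] at e2
        exact e2.symm
      have hfix2 : g.rho (g.rho (g.rho s)) ≠ g.rho (g.rho s) := by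
        rw [h3]
        intro e
        apply hfix
        have := congrArg g.rho e
        rw [h3] at this
        exact this
      simp only [List.range_succ, List.range_zero, List.nil_append, List.cons_append, List.map_cons,
        List.map_nil, Function.iterate_zero, id_eq, Function.iterate_succ, Function.comp_apply,
        prodL_cons, prodL_nil]
      have c1 := xG_comm_rho (K := K) hD C g 3 hTw s hs hfix
      have c2 := xG_comm_rho (K := K) hD C g 3 hTw _ hs1 hfix1
      have c3 := xG_comm_rho (K := K) hD C g 3 hTw _ hs2 hfix2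
      rw [h3] at c3
      exact sq_of_commute_three (c1 _ _) (c2 _ _) (c3 _ _) (xG_mul_self hD _ _) (xG_mul_self hD _ _)
        (xG_mul_self hD _ _)

end Generic

section U1

variable {K : Type u} [Field K] [Fintype K] [CharP K 2] {D : ChevalleyDatum}
  (hD : D ∈ [chevG2, chevB2, chevD4, chevF4, chevE6, chevE7, chevE8]) (C : ChevData.{u} D)
  (cfg : TwCfg) (φ : K ≃+* K) (hcfg : cfg.ok C.T C.tabs C.simples = true)

include hcfg in
/-- `U¹ = U ∩ G¹` is generated by involutions, hence has `SqComm` -/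
theorem sqComm_U1 : SqComm (D.posUnipotent K ⊓ Gtw hD C cfg φ) := by
  have hTw := cfg_twOK C cfg hcfg
  have hm := cfg_m C cfg hcfg
  obtain ⟨hl, -, -⟩ := repsOK_spec hD C cfg hcfg
  apply sqComm_of_closure_sq_eq_one (D.posUnipotent K ⊓ Gtw hD C cfg φ)
    {y | y ∈ D.posUnipotent K ⊓ Gtw hD C cfg φ ∧ y ^ 2 = 1}
  · apply le_antisymm
    · rw [Subgroup.closure_le]
      exact fun y hy => hy.1
    · intro x hx
      obtain ⟨hxU, hxG⟩ := Subgroup.mem_inf.mp hx
      have hfix := csig_eq_of_mem_Gtw hD C cfg φ hcfg x hxG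
      obtain ⟨t, ht, rfl⟩ := exists_prodL_of_fixed hD C cfg φ hcfg x hxU hfix
      have key : ∀ reps : List ℕ, (∀ s ∈ reps, s ∈ cfg.reps) →
          (∀ r ∈ cfg.g.clsList cfg.m reps, t r = twT cfg.g φ cfg.m t r) →
          prodL hD (cfg.g.clsList cfg.m reps) t ∈ Subgroup.closure
            {y | y ∈ D.posUnipotent K ⊓ Gtw hD C cfg φ ∧ y ^ 2 = 1} := by
        intro reps
        induction reps with
        | nil =>
          intro _ _
          simp [GraphData.clsList, prodL_nil, one_mem]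
        | cons s reps ih =>
          intro hreps ht'
          have e : cfg.g.clsList cfg.m (s :: reps) = cfg.g.orb cfg.m s ++ cfg.g.clsList cfg.m reps := by
            unfold GraphData.clsList
            rw [List.flatMap_cons]
          rw [e] at ht'
          rw [e, prodL_append]
          have hs := hreps s List.mem_cons_self
          apply mul_mem
          · apply Subgroup.subset_closure
            refine ⟨Subgroup.mem_inf.mpr ⟨prodL_mem_posUnipotent hD _ ?_ _,
              block_mem_Gtw hD C cfg φ hcfg s hs t fun r hr => ht' r (List.mem_append_left _ hr)⟩, ?_⟩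
            · intro r hr
              apply hl r
              unfold GraphData.clsList
              rw [List.mem_flatMap]
              exact ⟨s, hs, hr⟩
            · rw [pow_two]
              exact block_mul_self hD C cfg.g cfg.m hTw hm s (reps_lt hD C cfg hcfg s hs) t
          · exact ih (fun s' hs' => hreps s' (List.mem_cons_of_mem _ hs'))
              fun r hr => ht' r (List.mem_append_right _ hr)
      exact key cfg.reps (fun s hs => hs) ht
  · intro s hs
    exact hs.2

include hcfg in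
/-- `U¹` as a subgroup of the group `G¹`: a 2-group with `SqComm`, of index `|G¹| / q^N` -/
theorem U1_facts (q : ℕ) (hq : 2 ≤ q) (hK : Fintype.card K = q ^ cfg.m)
    (hφ : ∀ t : K, φ t = t ^ q) :
    SqComm ((D.posUnipotent K ⊓ Gtw hD C cfg φ).subgroupOf (Gtw hD C cfg φ)) ∧
      IsPGroup 2 ↥((D.posUnipotent K ⊓ Gtw hD C cfg φ).subgroupOf (Gtw hD C cfg φ)) ∧
      q ^ (D.nroots / 2) * ((D.posUnipotent K ⊓ Gtw hD C cfg φ).subgroupOf (Gtw hD C cfg φ)).index =
        Nat.card ↥(Gtw hD C cfg φ) := by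
  have hle : D.posUnipotent K ⊓ Gtw hD C cfg φ ≤ Gtw hD C cfg φ := inf_le_right
  have hcard : Nat.card ↥((D.posUnipotent K ⊓ Gtw hD C cfg φ).subgroupOf (Gtw hD C cfg φ)) =
      q ^ (D.nroots / 2) := by
    rw [Nat.card_congr (Subgroup.subgroupOfEquivOfLe hle).toEquiv]
    exact card_posUnipotent_inf_Gtw hD C cfg φ hcfg q hq hK hφ
  refine ⟨sqComm_of_mulEquiv (Subgroup.subgroupOfEquivOfLe hle).symm (sqComm_U1 hD C cfg φ hcfg), ?_, ?_⟩
  · -- `q` is a power of 2
    have hKp : ∃ n : ℕ, Fintype.card K = 2 ^ n := by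
      obtain ⟨n, -, hn⟩ := FiniteField.card K 2
      exact ⟨n, hn⟩
    obtain ⟨n, hn⟩ := hKp
    have hqdvd : q ∣ 2 ^ n := by
      rw [← hn, hK]
      rcases cfg_m C cfg hcfg with h | h <;> rw [h]
      · exact Dvd.intro_left (q ^ 1) (by ring)
      · exact Dvd.intro_left (q ^ 2) (by ring)
    obtain ⟨k, -, hk⟩ := (Nat.dvd_prime_pow Nat.prime_two).mp hqdvd
    apply IsPGroup.of_card (n := k * (D.nroots / 2))
    rw [hcard, hk, pow_mul]
  · rw [← hcard]
    exact Subgroup.card_mul_index _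

end U1

/-- `S4625-[M-3D4]` -/
theorem sqComm_twistedD4 {K : Type} [Field K] [Fintype K] [CharP K 2] (q : ℕ) (hq : IsPrimePow q)
    (hK : Fintype.card K = q ^ 3) (P : Sylow 2 (Cfsg.Lie.twistedD4 K q)) :
    SqComm (P : Subgroup (Cfsg.Lie.twistedD4 K q)) := by
  have : Fact (Nat.Prime 2) := ⟨Nat.prime_two⟩
  obtain ⟨φ, hφ⟩ := exists_frobEquiv hq hK
  have hq2 : 2 ∣ q := by
    have h1 : 2 ∣ Fintype.card K := by
      obtain ⟨n, -, hn⟩ := FiniteField.card K 2
      rw [hn]
      exact dvd_pow_self 2 n.ne_zero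
    rw [hK] at h1
    exact Nat.Prime.dvd_of_dvd_pow Nat.prime_two h1
  have hm : twCfg_D4.m = 3 := by decide
  have hK' : Fintype.card K = q ^ twCfg_D4.m := by rw [hm]; exact hK
  obtain ⟨hsq, hp, hidx⟩ := U1_facts hD4 chevData_D4.{0} twCfg_D4 φ twCfg_D4_ok' q hq.two_le hK' hφ
  revert P
  rw [twistedD4_eq q φ hφ hK]
  intro P
  have hN : chevD4.nroots / 2 = 12 := by decide
  rw [card_twD4 q φ hφ hK hq.two_le, hN, mul_assoc, mul_assoc] at hidx
  have hpos : 0 < q ^ 12 := pow_pos (by have := hq.two_le; omega) _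
  have hidx' := Nat.eq_of_mul_eq_mul_left hpos hidx
  have hodd : ¬ 2 ∣ ((chevD4.posUnipotent K ⊓ Gtw hD4 chevData_D4.{0} twCfg_D4 φ).subgroupOf
      (Gtw hD4 chevData_D4.{0} twCfg_D4 φ)).index := by
    rw [hidx']
    obtain ⟨k, rfl⟩ := hq2
    have hk : 1 ≤ k := by have := hq.two_le; omega
    have h1 : ¬ 2 ∣ (2 * k) ^ 2 - 1 := by
      have : 1 ≤ (2 * k) ^ 2 := Nat.one_le_pow _ _ (by omega)
      have h2 : 2 ∣ (2 * k) ^ 2 := Dvd.dvd.pow (Dvd.intro k rfl) (by norm_num)
      omega
    have h2 : ¬ 2 ∣ (2 * k) ^ 6 - 1 := by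
      have : 1 ≤ (2 * k) ^ 6 := Nat.one_le_pow _ _ (by omega)
      have h2 : 2 ∣ (2 * k) ^ 6 := Dvd.dvd.pow (Dvd.intro k rfl) (by norm_num)
      omega
    have h3 : ¬ 2 ∣ (2 * k) ^ 8 + (2 * k) ^ 4 + 1 := by
      have h2 : 2 ∣ (2 * k) ^ 8 := Dvd.dvd.pow (Dvd.intro k rfl) (by norm_num)
      have h4 : 2 ∣ (2 * k) ^ 4 := Dvd.dvd.pow (Dvd.intro k rfl) (by norm_num)
      omega
    intro h
    simp only [Nat.Prime.dvd_mul Nat.prime_two] at h
    rcases h with h | h | h
    · exact h1 h
    · exact h2 h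
    · exact h3 h
  apply sqComm_all_sylow_of_one (hp.toSylow hodd)
  rw [IsPGroup.toSylow_coe]
  exact hsq

/-- `S4625-[M-2E6]` -/
theorem sqComm_twistedE6 {K : Type} [Field K] [Fintype K] [CharP K 2] (q : ℕ) (hq : IsPrimePow q)
    (hK : Fintype.card K = q ^ 2) (P : Sylow 2 (Cfsg.Lie.twistedE6 K q)) :
    SqComm (P : Subgroup (Cfsg.Lie.twistedE6 K q)) := by
  have : Fact (Nat.Prime 2) := ⟨Nat.prime_two⟩
  obtain ⟨φ, hφ⟩ := exists_frobEquiv hq hK
  have hq2 : 2 ∣ q := by
    have h1 : 2 ∣ Fintype.card K := by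
      obtain ⟨n, -, hn⟩ := FiniteField.card K 2
      rw [hn]
      exact dvd_pow_self 2 n.ne_zero
    rw [hK] at h1
    exact Nat.Prime.dvd_of_dvd_pow Nat.prime_two h1
  have hm : twCfg_E6.m = 2 := by decide
  have hK' : Fintype.card K = q ^ twCfg_E6.m := by rw [hm]; exact hK
  obtain ⟨hsq, hp, hidx⟩ := U1_facts hE6 chevData_E6.{0} twCfg_E6 φ twCfg_E6_ok' q hq.two_le hK' hφ
  revert P
  rw [twistedE6_eq q φ hφ hK]
  intro P
  have hN : chevE6.nroots / 2 = 36 := by decide
  have hcard := card_twE6 q φ hφ hK hq.two_le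
  rw [← hidx, hN] at hcard
  have hpos : 0 < q ^ 36 := pow_pos (by have := hq.two_le; omega) _
  have hcard' : Nat.gcd 3 (q + 1) * ((chevE6.posUnipotent K ⊓ Gtw hE6 chevData_E6.{0} twCfg_E6 φ).subgroupOf
      (Gtw hE6 chevData_E6.{0} twCfg_E6 φ)).index =
      (q ^ 2 - 1) * (q ^ 5 + 1) * (q ^ 6 - 1) * (q ^ 8 - 1) * (q ^ 9 + 1) * (q ^ 12 - 1) := by
    apply Nat.eq_of_mul_eq_mul_left hpos
    have e1 : ∀ g I : ℕ, q ^ 36 * (g * I) = g * (q ^ 36 * I) := fun g I => by ring
    rw [e1, hcard]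
    ring
  have hodd : ¬ 2 ∣ ((chevE6.posUnipotent K ⊓ Gtw hE6 chevData_E6.{0} twCfg_E6 φ).subgroupOf
      (Gtw hE6 chevData_E6.{0} twCfg_E6 φ)).index := by
    intro h
    have h' : 2 ∣ (q ^ 2 - 1) * (q ^ 5 + 1) * (q ^ 6 - 1) * (q ^ 8 - 1) * (q ^ 9 + 1) * (q ^ 12 - 1) := by
      rw [← hcard']
      exact Dvd.dvd.mul_left h _
    obtain ⟨k, rfl⟩ := hq2
    have hk : 1 ≤ k := by have := hq.two_le; omega
    have hm1 : ∀ e : ℕ, e ≠ 0 → ¬ 2 ∣ (2 * k) ^ e - 1 := by
      intro e he
      have : 1 ≤ (2 * k) ^ e := Nat.one_le_pow _ _ (by omega)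
      have h2 : 2 ∣ (2 * k) ^ e := Dvd.dvd.pow (Dvd.intro k rfl) he
      omega
    have hp1 : ∀ e : ℕ, e ≠ 0 → ¬ 2 ∣ (2 * k) ^ e + 1 := by
      intro e he
      have h2 : 2 ∣ (2 * k) ^ e := Dvd.dvd.pow (Dvd.intro k rfl) he
      omega
    simp only [Nat.Prime.dvd_mul Nat.prime_two] at h'
    rcases h' with ((((h' | h') | h') | h') | h') | h'
    · exact hm1 2 (by norm_num) h'
    · exact hp1 5 (by norm_num) h'
    · exact hm1 6 (by norm_num) h'
    · exact hm1 8 (by norm_num) h'
    · exact hp1 9 (by norm_num) h'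
    · exact hm1 12 (by norm_num) h'
  apply sqComm_all_sylow_of_one (hp.toSylow hodd)
  rw [IsPGroup.toSylow_coe]
  exact hsq

end Cfsg.Agent.Lib.Helper6.Lie2
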