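import Mathlib
import Cfsg.Agent.Lib.Helper41.N22.Defs
import Cfsg.Agent.Lib.Helper11.N22Lines

set_option autoImplicit false

namespace Cfsg.Agent.Lib.Helper6.N22
open Cfsg.Agent.Lib.Helper41.N22
open scoped Pointwise

section A
variable {G : Type*} [Group G] [Finite G]

/-- [A-CORE] -/
theorem inf_le_sylow (h22 : Nat.card (Sylow 3 G) = 22)
    (h2t : ∀ P Q P' Q' : Sylow 3 G, P ≠ Q → P' ≠ Q' → ∃ g : G, g • P = P' ∧ g • Q = Q')
    (hidx : ∀ P Q : Sylow 3 G, P ≠ Q → Nat.card (P : Subgroup G) =
      3 * Nat.card ((P : Subgroup G) ⊓ (Q : Subgroup G) : Subgroup G))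
    (P Q R : Sylow 3 G) (hPQ : P ≠ Q) :
    (P : Subgroup G) ⊓ (Q : Subgroup G) ≤ (R : Subgroup G) := by
  classical
  have : Fact (Nat.Prime 3) := ⟨Nat.prime_three⟩
  let _ : Fintype (Sylow 3 G) := Fintype.ofFinite _
  have hΩ : Fintype.card (Sylow 3 G) = 22 := by
    rw [← Nat.card_eq_fintype_card, h22]
  -- all Sylow subgroups have the same order
  have hcardS : ∀ a b : Sylow 3 G, Nat.card (a : Subgroup G) = Nat.card (b : Subgroup G) := by
    intro a b
    rw [Sylow.card_eq_multiplicity a, Sylow.card_eq_multiplicity b]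
  let B : Sylow 3 G → Sylow 3 G → Finset (Sylow 3 G) := fun a b =>
    Finset.univ.filter (fun R => (a : Subgroup G) ⊓ (b : Subgroup G) ≤ (R : Subgroup G))
  have hB : ∀ a b R, R ∈ B a b ↔ (a : Subgroup G) ⊓ (b : Subgroup G) ≤ (R : Subgroup G) := by
    intro a b R
    simp [B]
  have hmem : ∀ a b : Sylow 3 G, a ≠ b → a ∈ B a b ∧ b ∈ B a b := by
    intro a b _
    exact ⟨(hB a b a).mpr inf_le_left, (hB a b b).mpr inf_le_right⟩
  have heq : ∀ a b c d : Sylow 3 G, a ≠ b → c ∈ B a b → d ∈ B a b → c ≠ d → B c d = B a b := by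
    intro a b c d hab hc hd hcd
    have h1 : (a : Subgroup G) ⊓ (b : Subgroup G) ≤ (c : Subgroup G) ⊓ (d : Subgroup G) :=
      le_inf ((hB a b c).mp hc) ((hB a b d).mp hd)
    have h2 : Nat.card ((c : Subgroup G) ⊓ (d : Subgroup G) : Subgroup G)
        ≤ Nat.card ((a : Subgroup G) ⊓ (b : Subgroup G) : Subgroup G) := by
      have e1 := hidx a b hab
      have e2 := hidx c d hcd
      have e3 := hcardS a c
      omega
    have h3 : (a : Subgroup G) ⊓ (b : Subgroup G) = (c : Subgroup G) ⊓ (d : Subgroup G) :=
      Subgroup.eq_of_le_of_card_ge h1 h2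
    ext R
    rw [hB, hB, h3]
  -- conjugation
  have hconj : ∀ (g : G) (a b R : Sylow 3 G), R ∈ B a b ↔ g • R ∈ B (g • a) (g • b) := by
    intro g a b R
    rw [hB, hB]
    have e : ((g • a : Sylow 3 G) : Subgroup G) ⊓ ((g • b : Sylow 3 G) : Subgroup G)
        = MulAut.conj g • ((a : Subgroup G) ⊓ (b : Subgroup G)) := by
      rw [Subgroup.smul_inf]
      rfl
    rw [e]
    have e' : ((g • R : Sylow 3 G) : Subgroup G) = MulAut.conj g • (R : Subgroup G) := rfl
    rw [e', Subgroup.pointwise_smul_le_pointwise_smul_iff]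
  have hcard : ∀ a b : Sylow 3 G, a ≠ b → (B a b).card = (B P Q).card := by
    intro a b hab
    obtain ⟨g, hga, hgb⟩ := h2t P Q a b hPQ hab
    have himg : B a b = (B P Q).image (fun R => g • R) := by
      ext R
      rw [Finset.mem_image]
      constructor
      · intro hR
        refine ⟨g⁻¹ • R, ?_, smul_inv_smul g R⟩
        rw [hconj g P Q (g⁻¹ • R), smul_inv_smul, hga, hgb]
        exact hR
      · rintro ⟨R', hR', rfl⟩
        rw [← hga, ← hgb, ← hconj g P Q R']
        exact hR'
    rw [himg, Finset.card_image_of_injective _ (MulAction.injective g)]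
  -- `f ≥ 3`
  have hf : 3 ≤ (B P Q).card := by
    -- an element of `P` not in `Q`
    have hnle : ¬ (P : Subgroup G) ≤ (Q : Subgroup G) := by
      intro hle
      apply hPQ
      apply Sylow.ext
      exact Subgroup.eq_of_le_of_card_ge hle (le_of_eq (hcardS Q P))
    obtain ⟨p, hpP, hpQ⟩ := SetLike.not_le_iff_exists.mp hnle
    -- `P ⊓ Q` is normalized by `p`
    have hnorm : MulAut.conj p • ((P : Subgroup G) ⊓ (Q : Subgroup G))
        = (P : Subgroup G) ⊓ (Q : Subgroup G) := by
      have hDP : ((P : Subgroup G) ⊓ (Q : Subgroup G)) ≤ (P : Subgroup G) := inf_le_left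
      have hn : (((P : Subgroup G) ⊓ (Q : Subgroup G)).subgroupOf (P : Subgroup G)).Normal := by
        apply Subgroup.normal_of_index_eq_minFac_card
        have e1 : (((P : Subgroup G) ⊓ (Q : Subgroup G)).subgroupOf (P : Subgroup G)).index
            = ((P : Subgroup G) ⊓ (Q : Subgroup G)).relIndex (P : Subgroup G) := rfl
        have e2 : Nat.card ((P : Subgroup G) ⊓ (Q : Subgroup G) : Subgroup G)
            * ((P : Subgroup G) ⊓ (Q : Subgroup G)).relIndex (P : Subgroup G)
            = Nat.card (P : Subgroup G) := by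
          have := Subgroup.relIndex_mul_relIndex (⊥ : Subgroup G)
            ((P : Subgroup G) ⊓ (Q : Subgroup G)) (P : Subgroup G) bot_le hDP
          rwa [Subgroup.relIndex_bot_left, Subgroup.relIndex_bot_left] at this
        have e3 := hidx P Q hPQ
        have hpos : 0 < Nat.card ((P : Subgroup G) ⊓ (Q : Subgroup G) : Subgroup G) :=
          Nat.card_pos
        have e4 : ((P : Subgroup G) ⊓ (Q : Subgroup G)).relIndex (P : Subgroup G) = 3 := by
          have : Nat.card ((P : Subgroup G) ⊓ (Q : Subgroup G) : Subgroup G)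
            * ((P : Subgroup G) ⊓ (Q : Subgroup G)).relIndex (P : Subgroup G)
            = Nat.card ((P : Subgroup G) ⊓ (Q : Subgroup G) : Subgroup G) * 3 := by
            rw [e2, e3, mul_comm]
          exact Nat.eq_of_mul_eq_mul_left hpos this
        rw [e1, e4]
        have e5 : Nat.card (P : Subgroup G) = 3 ^ (Nat.card G).factorization 3 :=
          Sylow.card_eq_multiplicity P
        have hk : (Nat.card G).factorization 3 ≠ 0 := by
          intro h0
          rw [h0, pow_zero] at e5
          rw [e5] at e3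
          omega
        rw [e5, Nat.Prime.pow_minFac Nat.prime_three hk]
      have hle : (P : Subgroup G) ≤ Subgroup.normalizer
          ((((P : Subgroup G) ⊓ (Q : Subgroup G)) : Subgroup G) : Set G) :=
        (Subgroup.normal_subgroupOf_iff_le_normalizer hDP).mp hn
      have := hle hpP
      rw [Subgroup.mem_normalizer_iff_map_conj_eq] at this
      exact this
    have hpQ' : p • Q ∈ B P Q := by
      have h1 := (hconj p P Q Q).mp (hmem P Q hPQ).2
      have h2 : p • P = P := by
        rw [Sylow.smul_eq_iff_mem_normalizer]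
        exact Subgroup.le_normalizer hpP
      rw [h2] at h1
      rw [hB] at h1 ⊢
      have e : ((P : Subgroup G) ⊓ ((p • Q : Sylow 3 G) : Subgroup G))
          = MulAut.conj p • ((P : Subgroup G) ⊓ (Q : Subgroup G)) := by
        rw [Subgroup.smul_inf]
        have : MulAut.conj p • (P : Subgroup G) = (P : Subgroup G) :=
          congrArg Sylow.toSubgroup h2
        rw [this]
        rfl
      rw [e, hnorm] at h1
      exact h1
    have hne1 : p • Q ≠ Q := by
      intro h
      rw [Sylow.smul_eq_iff_mem_normalizer] at h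
      have h' := P.isPGroup'.inf_normalizer_sylow Q
      have h'' : p ∈ (P : Subgroup G) ⊓ (Q : Subgroup G) := by
        rw [← h']
        exact ⟨hpP, h⟩
      exact hpQ h''.2
    have hne2 : p • Q ≠ P := by
      intro h
      have h2 : p • P = P := by
        rw [Sylow.smul_eq_iff_mem_normalizer]
        exact Subgroup.le_normalizer hpP
      rw [← h2] at h
      exact hPQ (MulAction.injective p h).symm
    have hsub : ({P, Q, p • Q} : Finset (Sylow 3 G)) ⊆ B P Q := by
      intro x hx
      simp only [Finset.mem_insert, Finset.mem_singleton] at hx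
      rcases hx with rfl | rfl | rfl
      · exact (hmem _ _ hPQ).1
      · exact (hmem _ _ hPQ).2
      · exact hpQ'
    have hc3 : ({P, Q, p • Q} : Finset (Sylow 3 G)).card = 3 := by
      rw [Finset.card_insert_of_notMem, Finset.card_insert_of_notMem, Finset.card_singleton]
      · simp only [Finset.mem_singleton]
        exact fun h => hne1 h.symm
      · simp only [Finset.mem_insert, Finset.mem_singleton, not_or]
        exact ⟨hPQ, fun h => hne2 h.symm⟩
    calc 3 = ({P, Q, p • Q} : Finset (Sylow 3 G)).card := hc3.symm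
      _ ≤ (B P Q).card := Finset.card_le_card hsub
  have hfin := Cfsg.Agent.Lib.Helper11.N22.lines_22 hΩ B (B P Q).card hmem heq hcard hf
  have huniv : B P Q = Finset.univ := by
    apply Finset.eq_univ_of_card
    rw [hfin, hΩ]
  have : R ∈ B P Q := by rw [huniv]; exact Finset.mem_univ R
  exact (hB P Q R).mp this

end A

end Cfsg.Agent.Lib.Helper6.N22
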