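import Mathlib
import Cfsg.Agent.Lib.Helper41.N22.Defs

set_option autoImplicit false

namespace Cfsg.Agent.Lib.Helper6.N22
open Cfsg.Agent.Lib.Helper41.N22

section A
variable {G : Type*} [Group G] [Finite G]

/-- [A-NINE] -/
theorem not_nine_dvd_card_range
    (hidx : ∀ P Q : Sylow 3 G, P ≠ Q → Nat.card (P : Subgroup G) =
      3 * Nat.card ((P : Subgroup G) ⊓ (Q : Subgroup G) : Subgroup G))
    (hcore : ∀ P Q R : Sylow 3 G, P ≠ Q → (P : Subgroup G) ⊓ (Q : Subgroup G) ≤ (R : Subgroup G))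
    (P Q : Sylow 3 G) (hPQ : P ≠ Q) :
    ¬ 9 ∣ Nat.card (MulAction.toPermHom G (Sylow 3 G)).range := by
  have : Fact (Nat.Prime 3) := ⟨Nat.prime_three⟩
  intro h9
  set φ := MulAction.toPermHom G (Sylow 3 G) with hφ
  set D : Subgroup G := (P : Subgroup G) ⊓ (Q : Subgroup G) with hD
  -- `D ≤ ker φ`
  have hDker : D ≤ φ.ker := by
    intro d hd
    rw [MonoidHom.mem_ker]
    ext R : 1
    rw [MulAction.toPermHom_apply, MulAction.toPerm_apply, Equiv.Perm.coe_one, id]
    rw [Sylow.smul_eq_iff_mem_normalizer]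
    exact Subgroup.le_normalizer (hcore P Q R hPQ hd)
  have h1 : Nat.card D ∣ Nat.card φ.ker := Subgroup.card_dvd_of_le hDker
  have h2 : Nat.card φ.ker * Nat.card φ.range = Nat.card G := by
    rw [← Subgroup.index_ker, Subgroup.card_mul_index]
  have h3 : Nat.card (P : Subgroup G) = 3 * Nat.card D := hidx P Q hPQ
  have h4 : Nat.card (P : Subgroup G) = 3 ^ (Nat.card G).factorization 3 :=
    Sylow.card_eq_multiplicity P
  have h5 : 3 ^ ((Nat.card G).factorization 3 + 1) ∣ Nat.card G := by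
    rw [pow_succ, ← h4, h3, ← h2]
    have : 3 * Nat.card D * 3 = Nat.card D * 9 := by ring
    rw [this]
    exact Nat.mul_dvd_mul h1 h9
  exact Nat.pow_succ_factorization_not_dvd Nat.card_pos.ne' Nat.prime_three h5

end A

end Cfsg.Agent.Lib.Helper6.N22
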