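import Mathlib
import Cfsg.Agent.Lib.Helper41.N22.Defs

set_option autoImplicit false

namespace Cfsg.Agent.Lib.Helper6.N22
open Cfsg.Agent.Lib.Helper41.N22

section A
variable {G : Type*} [Group G] [Finite G]

/-- [A-PRIM] -/
theorem isPreprimitive_sylow (h22 : Nat.card (Sylow 3 G) = 22) :
    MulAction.IsPreprimitive G (Sylow 3 G) := by
  have : Fact (Nat.Prime 3) := ⟨Nat.prime_three⟩
  have hnt : Nontrivial (Sylow 3 G) := by
    rw [← Finite.one_lt_card_iff_nontrivial, h22]
    norm_num
  obtain ⟨P⟩ : Nonempty (Sylow 3 G) := inferInstance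
  rw [← MulAction.isCoatom_stabilizer_iff_preprimitive G P]
  obtain ⟨N, hN⟩ : ∃ N : Subgroup G, N = Subgroup.normalizer ((P : Subgroup G) : Set G) := ⟨_, rfl⟩
  have hst : MulAction.stabilizer G P = N := by
    rw [hN]; exact Sylow.stabilizer_eq_normalizer P
  rw [hst]
  have hidx : N.index = 22 := by
    rw [← h22, hN]; exact (Sylow.card_eq_index_normalizer P).symm
  have hPN : (P : Subgroup G) ≤ N := by
    rw [hN]; exact Subgroup.le_normalizer
  refine ⟨?_, ?_⟩
  · intro htop
    rw [htop, Subgroup.index_top] at hidx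
    norm_num at hidx
  · intro M hNM
    have hPM : (P : Subgroup G) ≤ M := hPN.trans hNM.le
    -- number of Sylow 3-subgroups of `M`
    have h1 : Nat.card (Sylow 3 ↥M) = N.relIndex M := by
      have e1 := Sylow.card_eq_index_normalizer (P.subtype hPM)
      have e2 : Subgroup.normalizer (((P.subtype hPM : Sylow 3 ↥M) : Subgroup ↥M) : Set ↥M)
          = N.subgroupOf M := by
        rw [hN, Subgroup.subgroupOf_normalizer_eq hPM]
        rfl
      rw [e1]
      have e3 : (Subgroup.normalizer (((P.subtype hPM : Sylow 3 ↥M) : Subgroup ↥M) : Set ↥M)).index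
          = (N.subgroupOf M).index := by rw [e2]
      exact e3
    have h2 : Nat.card (Sylow 3 ↥M) ≡ 1 [MOD 3] := card_sylow_modEq_one 3 ↥M
    have h3 : N.relIndex M * M.index = 22 := by
      rw [Subgroup.relIndex_mul_index hNM.le, hidx]
    have h4 : N.relIndex M ≠ 1 := by
      intro h
      rw [Subgroup.relIndex_eq_one] at h
      exact absurd hNM (not_lt_of_ge h)
    rw [h1] at h2
    -- arithmetic
    have h5 : N.relIndex M ∣ 22 := Dvd.intro _ h3
    have h6 : N.relIndex M ≤ 22 := Nat.le_of_dvd (by norm_num) h5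
    have h7 : N.relIndex M = 22 := by
      generalize N.relIndex M = k at h2 h4 h5 h6
      unfold Nat.ModEq at h2
      interval_cases k <;> first | rfl | omega
    rw [h7] at h3
    have h8 : M.index = 1 := by omega
    exact Subgroup.index_eq_one.mp h8

end A

end Cfsg.Agent.Lib.Helper6.N22
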