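/-
helper6: project PIM (helper41, S4427), module PIM-[LIFT-HENSEL]: a product of linear factors over a local
ring whose roots reduce to `0` or `1` splits into two coprime factors reducing to `X ^ s` and `(X - 1) ^ t`.
-/
import Mathlib
import Cfsg.Agent.Lib.Helper41.PIM.Defs

set_option autoImplicit false

namespace Cfsg.Agent.Lib.Helper6.PIM

open Cfsg Cfsg.Agent.Lib.Helper16 Cfsg.Agent.Lib.Helper41.PIM Polynomial

section general

variable {R : Type*} [CommRing R]

theorem isCoprime_multiset_prod_left (A : Multiset R) (x : R) (h : ∀ a ∈ A, IsCoprime a x) :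
    IsCoprime A.prod x := by
  induction A using Multiset.induction with
  | empty => rw [Multiset.prod_zero]; exact isCoprime_one_left
  | cons a A ih =>
    rw [Multiset.prod_cons]
    exact IsCoprime.mul_left (h a (Multiset.mem_cons_self a A))
      (ih fun b hb => h b (Multiset.mem_cons_of_mem hb))

theorem isCoprime_multiset_prod (A B : Multiset R) (h : ∀ a ∈ A, ∀ b ∈ B, IsCoprime a b) :
    IsCoprime A.prod B.prod := by
  apply isCoprime_multiset_prod_left
  intro a ha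
  apply IsCoprime.symm
  apply isCoprime_multiset_prod_left
  intro b hb
  exact (h a ha b hb).symm

theorem isCoprime_X_sub_C_of_isUnit_sub (ρ σ : R) (h : IsUnit (σ - ρ)) :
    IsCoprime (X - C ρ) (X - C σ) := by
  obtain ⟨w, hw⟩ := h
  refine ⟨C (↑w⁻¹ : R), -C (↑w⁻¹ : R), ?_⟩
  have : C (↑w⁻¹ : R) * (X - C ρ) + -C (↑w⁻¹ : R) * (X - C σ) = C ((↑w⁻¹ : R) * (σ - ρ)) := by
    rw [C_mul, C_sub]; ring
  rw [this, ← hw, Units.inv_mul, C_1]

theorem map_prod_X_sub_C_const {k : Type*} [CommRing k] (f : R →+* k) (A : Multiset R) (c : k)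
    (h : ∀ ρ ∈ A, f ρ = c) :
    ((A.map (fun ρ => X - C ρ)).prod).map f = (X - C c) ^ Multiset.card A := by
  rw [Polynomial.map_multiset_prod, Multiset.map_map]
  have : A.map (Polynomial.map f ∘ fun ρ => X - C ρ) = A.map (fun _ => X - C c) := by
    apply Multiset.map_congr rfl
    intro ρ hρ
    rw [Function.comp_apply, Polynomial.map_sub, Polynomial.map_X, Polynomial.map_C, h ρ hρ]
  rw [this, Multiset.map_const', Multiset.prod_replicate]

open Classical in
/-- the general form over a ring in which every element outside the ideal `I` is a unit -/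
theorem exists_coprime_factors_of_units (I : Ideal R) (hI : ∀ z : R, z ∉ I → IsUnit z)
    (S : Multiset R)
    (hS : ∀ ρ ∈ S, Ideal.Quotient.mk I ρ = 0 ∨ Ideal.Quotient.mk I ρ = 1) :
    ∃ g₀ g₁ u v : Polynomial R,
      (S.map (fun ρ => X - C ρ)).prod = g₀ * g₁ ∧ u * g₀ + v * g₁ = 1 ∧
      (∃ s : ℕ, g₀.map (Ideal.Quotient.mk I) = X ^ s) ∧
      (∃ t : ℕ, g₁.map (Ideal.Quotient.mk I) = (X - 1) ^ t) := by
  set S₀ := S.filter (fun ρ => Ideal.Quotient.mk I ρ = 0) with hS₀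
  set S₁ := S.filter (fun ρ => ¬ Ideal.Quotient.mk I ρ = 0) with hS₁
  have hsplit : S₀ + S₁ = S := Multiset.filter_add_not _ S
  have h0 : ∀ ρ ∈ S₀, Ideal.Quotient.mk I ρ = 0 := fun ρ hρ => (Multiset.mem_filter.mp hρ).2
  have h1 : ∀ ρ ∈ S₁, Ideal.Quotient.mk I ρ = 1 := by
    intro ρ hρ
    obtain ⟨hρS, hρ0⟩ := Multiset.mem_filter.mp hρ
    rcases hS ρ hρS with h | h
    · exact absurd h hρ0
    · exact h
  have h1' : ∀ ρ ∈ S₁, Ideal.Quotient.mk I ρ ≠ 0 := fun ρ hρ => (Multiset.mem_filter.mp hρ).2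
  have hcop : IsCoprime (S₀.map (fun ρ => X - C ρ)).prod (S₁.map (fun ρ => X - C ρ)).prod := by
    apply isCoprime_multiset_prod
    intro a ha b hb
    obtain ⟨ρ, hρ, rfl⟩ := Multiset.mem_map.mp ha
    obtain ⟨σ, hσ, rfl⟩ := Multiset.mem_map.mp hb
    apply isCoprime_X_sub_C_of_isUnit_sub
    apply hI
    intro hmem
    have : Ideal.Quotient.mk I (σ - ρ) = 0 := Ideal.Quotient.eq_zero_iff_mem.mpr hmem
    rw [map_sub, h0 ρ hρ, sub_zero] at this
    exact h1' σ hσ this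
  obtain ⟨u, v, huv⟩ := hcop
  refine ⟨(S₀.map (fun ρ => X - C ρ)).prod, (S₁.map (fun ρ => X - C ρ)).prod, u, v, ?_, huv,
    ⟨Multiset.card S₀, ?_⟩, ⟨Multiset.card S₁, ?_⟩⟩
  · rw [← Multiset.prod_add, ← Multiset.map_add, hsplit]
  · rw [map_prod_X_sub_C_const _ S₀ 0 h0, C_0, sub_zero]
  · rw [map_prod_X_sub_C_const _ S₁ 1 h1, C_1]

end general

universe u

/-! ### PIM-[LIFT-HENSEL] -/
theorem exists_coprime_factors (M : Ideal AlgInt) [M.IsPrime] (S : Multiset (OO M))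
    (hS : ∀ ρ ∈ S, Ideal.Quotient.mk (localIdeal M) ρ = 0 ∨ Ideal.Quotient.mk (localIdeal M) ρ = 1) :
    ∃ g₀ g₁ u v : Polynomial (OO M),
      (S.map (fun ρ => X - C ρ)).prod = g₀ * g₁ ∧ u * g₀ + v * g₁ = 1 ∧
      (∃ s : ℕ, g₀.map (Ideal.Quotient.mk (localIdeal M)) = X ^ s) ∧
      (∃ t : ℕ, g₁.map (Ideal.Quotient.mk (localIdeal M)) = (X - 1) ^ t) :=
  exists_coprime_factors_of_units (localIdeal M) (fun _ hz => isUnit_of_not_mem_localIdeal hz) S hS

end Cfsg.Agent.Lib.Helper6.PIM
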