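/-
helper6: project PIM (helper41, S4427), module PIM-[LIFT-SPLIT]: a monic polynomial over the integrally closed
local ring `O` whose reduction is `X ^ n (X - 1) ^ n'` is a product of linear factors over `O`, with all roots
reducing to `0` or `1`.
-/
import Mathlib
import Cfsg.Agent.Lib.Helper41.PIM.Defs

set_option autoImplicit false

namespace Cfsg.Agent.Lib.Helper6.PIM

open Cfsg Cfsg.Agent.Lib.Helper16 Cfsg.Agent.Lib.Helper41.PIM Polynomial

/-- a monic polynomial over a subring `O` of an algebraically closed field, integrally closed in it, is a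
product of linear factors over `O` -/
theorem exists_multiset_of_closed {K : Type*} [Field K] [IsAlgClosed K] (O : Subring K)
    (hcl : ∀ z : K, IsIntegral O z → z ∈ O) (f : Polynomial O) (hf : f.Monic) :
    ∃ S : Multiset O, f = (S.map (fun ρ => X - C ρ)).prod := by
  have hsp : (f.map O.subtype).Splits := IsAlgClosed.splits _
  have hmon : (f.map O.subtype).Monic := hf.map _
  have hprod := hsp.eq_prod_roots_of_monic hmon
  have hmem : ∀ z ∈ (f.map O.subtype).roots, z ∈ O := by
    intro z hz
    apply hcl
    refine ⟨f, hf, ?_⟩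
    have hroot : (f.map O.subtype).IsRoot z := (Polynomial.mem_roots hmon.ne_zero).mp hz
    rw [Polynomial.IsRoot.def, Polynomial.eval_map] at hroot
    exact hroot
  refine ⟨(f.map O.subtype).roots.attach.map (fun z => ⟨z.1, hmem z.1 z.2⟩), ?_⟩
  apply Polynomial.map_injective O.subtype Subtype.val_injective
  rw [Polynomial.map_multiset_prod, Multiset.map_map, Multiset.map_map]
  conv_lhs => rw [hprod]
  conv_lhs => rw [← Multiset.attach_map_val (f.map O.subtype).roots]
  rw [Multiset.map_map]
  congr 1
  apply Multiset.map_congr rfl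
  intro z _
  simp only [Function.comp_apply, Polynomial.map_sub, Polynomial.map_X, Polynomial.map_C,
    Subring.subtype_apply]

/-- the residue of a root of `f` when `f` reduces to `X ^ n (X - 1) ^ n'` modulo a prime ideal -/
theorem residue_zero_or_one {R : Type*} [CommRing R] (I : Ideal R) [I.IsPrime] (S : Multiset R)
    (n n' : ℕ)
    (hred : ((S.map (fun ρ => X - C ρ)).prod).map (Ideal.Quotient.mk I) = X ^ n * (X - 1) ^ n') :
    ∀ ρ ∈ S, Ideal.Quotient.mk I ρ = 0 ∨ Ideal.Quotient.mk I ρ = 1 := by
  intro ρ hρ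
  have hroot : ((S.map (fun ρ => X - C ρ)).prod).eval ρ = 0 := by
    rw [Polynomial.eval_multiset_prod]
    apply Multiset.prod_eq_zero
    rw [Multiset.map_map]
    apply Multiset.mem_map.mpr
    exact ⟨ρ, hρ, by simp⟩
  have h2 := congrArg (Polynomial.eval (Ideal.Quotient.mk I ρ)) hred
  rw [Polynomial.eval_map_apply, hroot, map_zero] at h2
  simp only [Polynomial.eval_mul, Polynomial.eval_pow, Polynomial.eval_X, Polynomial.eval_sub,
    Polynomial.eval_one] at h2
  rcases mul_eq_zero.mp h2.symm with h | h
  · left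
    exact eq_zero_of_pow_eq_zero h
  · right
    exact sub_eq_zero.mp (eq_zero_of_pow_eq_zero h)

universe u

/-! ### PIM-[LIFT-SPLIT] -/
theorem exists_multiset_roots (M : Ideal AlgInt) [M.IsPrime]
    (hcl : ∀ z : ℂ, IsIntegral (localSubring M) z → z ∈ localSubring M)
    (f : Polynomial (OO M)) (hf : f.Monic) (n n' : ℕ)
    (hred : f.map (Ideal.Quotient.mk (localIdeal M)) = X ^ n * (X - 1) ^ n') :
    ∃ S : Multiset (OO M), f = (S.map (fun ρ => X - C ρ)).prod ∧
      ∀ ρ ∈ S, Ideal.Quotient.mk (localIdeal M) ρ = 0 ∨ Ideal.Quotient.mk (localIdeal M) ρ = 1 := by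
  obtain ⟨S, hS⟩ := exists_multiset_of_closed (localSubring M) hcl f hf
  refine ⟨S, hS, ?_⟩
  apply residue_zero_or_one (localIdeal M) S n n'
  rw [← hS]
  exact hred

end Cfsg.Agent.Lib.Helper6.PIM
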