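import Mathlib

/-!
# S3086 (helper26's proof), step (E2): a ring with a finite faithful semisimple module is semisimple
(helper6; Mathlib only)
-/

set_option autoImplicit false

namespace Cfsg.Agent.Lib.Helper6.PGV

/-- A ring acting faithfully on a finite semisimple module is a semisimple ring: `r ↦ (m ↦ r • m)`
embeds `R` into the semisimple module `M → M`. -/
theorem isSemisimpleRing_of_faithful {R M : Type*} [Ring R] [AddCommGroup M] [Module R M]
    [IsSemisimpleModule R M] [Finite M] (hfaith : ∀ r : R, (∀ m : M, r • m = 0) → r = 0) :
    IsSemisimpleRing R := by
  let f : R →ₗ[R] (M → M) :=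
    { toFun := fun r m => r • m
      map_add' := fun r s => by funext m; simp [add_smul]
      map_smul' := fun s r => by funext m; simp [mul_smul] }
  have hf : Function.Injective f := by
    intro r s h
    have : r - s = 0 := hfaith _ (fun m => by
      have := congrFun h m
      simp only [f, LinearMap.coe_mk, AddHom.coe_mk] at this
      rw [sub_smul, this, sub_self])
    exact sub_eq_zero.1 this
  exact IsSemisimpleModule.of_injective f hf

/-- the same for a subring (or subalgebra) of an endomorphism ring acting on the module: stated for a
`Subring` of `Module.End k V` with `V` finite, whose action on `V` is semisimple. -/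
theorem isSemisimpleRing_subring_end {k V : Type*} [CommRing k] [AddCommGroup V] [Module k V]
    [Finite V] (S : Subring (Module.End k V)) [IsSemisimpleModule S V] : IsSemisimpleRing S := by
  apply isSemisimpleRing_of_faithful (M := V)
  intro r hr
  apply Subtype.ext
  apply LinearMap.ext
  intro v
  have := hr v
  exact this

end Cfsg.Agent.Lib.Helper6.PGV
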