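import Mathlib
import Cfsg.Prelude.Def_Sporadic_a
import Cfsg.Agent.Lib.Helper6.Steiner

/-!
# The projective plane of order 4 as an abstract Steiner system `S(2,5,21)` (helper6)

Basic incidence facts: existence and uniqueness of the line through two points, five lines through
every point, any two lines meet, `21` lines.
-/

set_option autoImplicit false

namespace Cfsg.Agent.Lib.Helper6

open Finset Cfsg

variable {α : Type*} [Fintype α] [DecidableEq α] {L : Set (Finset α)}

omit [Fintype α] in
/-- There is a line through two distinct points. -/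
theorem p4_exists_line (hL : IsSteinerSystem 2 5 L) {P Q : α} (h : P ≠ Q) :
    ∃ l ∈ L, P ∈ l ∧ Q ∈ l := by
  obtain ⟨l, ⟨hl, hsub⟩, -⟩ := hL.2 {P, Q} (Finset.card_pair h)
  exact ⟨l, hl, hsub (by simp), hsub (by simp)⟩

omit [Fintype α] in
/-- The line through two distinct points is unique. -/
theorem p4_line_unique (hL : IsSteinerSystem 2 5 L) {P Q : α} (h : P ≠ Q) {l l' : Finset α}
    (hl : l ∈ L) (hl' : l' ∈ L) (hP : P ∈ l) (hQ : Q ∈ l) (hP' : P ∈ l') (hQ' : Q ∈ l') :
    l = l' := by
  obtain ⟨m, -, huniq⟩ := hL.2 {P, Q} (Finset.card_pair h)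
  have h1 := huniq l ⟨hl, by intro x hx; simp at hx; rcases hx with rfl | rfl <;> assumption⟩
  have h2 := huniq l' ⟨hl', by intro x hx; simp at hx; rcases hx with rfl | rfl <;> assumption⟩
  rw [h1, h2]

/-- Every point lies on exactly five lines. -/
theorem p4_card_lines_through (hα : Fintype.card α = 21) (hL : IsSteinerSystem 2 5 L) (P : α) :
    (blocksThrough L {P}).card = 5 := by
  have := card_blocksThrough_mul hL {P} (by simp)
  rw [hα, Finset.card_singleton] at this
  norm_num at this
  omega

/-- There are exactly `21` lines. -/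
theorem p4_card_lines (hα : Fintype.card α = 21) (hL : IsSteinerSystem 2 5 L) :
    (blocksOf L).card = 21 := by
  have := card_blocksOf_mul hL
  rw [hα] at this
  have h1 : (5 : ℕ).choose 2 = 10 := by decide
  have h2 : (21 : ℕ).choose 2 = 210 := by decide
  rw [h1, h2] at this
  omega

/-- Any two lines meet. -/
theorem p4_lines_meet (hα : Fintype.card α = 21) (hL : IsSteinerSystem 2 5 L) {l l' : Finset α}
    (hl : l ∈ L) (hl' : l' ∈ L) : ∃ P, P ∈ l ∧ P ∈ l' := by
  by_cases hll : l = l'
  · subst hll
    have : l.Nonempty := by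
      rw [← Finset.card_pos, hL.1 l hl]; norm_num
    obtain ⟨P, hP⟩ := this
    exact ⟨P, hP, hP⟩
  -- a point of l' off l
  obtain ⟨P, hPl', hPl⟩ : ∃ P, P ∈ l' ∧ P ∉ l := by
    by_contra hcon
    push Not at hcon
    have hsub : l' ⊆ l := hcon
    have := Finset.eq_of_subset_of_card_le hsub (by rw [hL.1 l hl, hL.1 l' hl'])
    exact hll this.symm
  -- the lines joining P to the points of l
  have hne : ∀ X ∈ l, P ≠ X := fun X hX h => hPl (h ▸ hX)
  classical
  let f : α → Finset α := fun X =>
    if h : P = X then l else Classical.choose (p4_exists_line hL h)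
  have hf : ∀ X ∈ l, f X ∈ L ∧ P ∈ f X ∧ X ∈ f X := by
    intro X hX
    have h := hne X hX
    simp only [f, dif_neg h]
    exact Classical.choose_spec (p4_exists_line hL h)
  have hinj : Set.InjOn f (l : Set α) := by
    intro X hX Y hY hXY
    by_contra hne'
    obtain ⟨h1, h2, h3⟩ := hf X hX
    obtain ⟨-, -, h6⟩ := hf Y hY
    rw [← hXY] at h6
    have := p4_line_unique hL hne' h1 hl h3 h6 hX hY
    exact hPl (this ▸ h2)
  have himg : l.image f = blocksThrough L {P} := by
    apply Finset.eq_of_subset_of_card_le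
    · intro m hm
      obtain ⟨X, hX, rfl⟩ := Finset.mem_image.mp hm
      obtain ⟨h1, h2, -⟩ := hf X hX
      rw [mem_blocksThrough]
      exact ⟨h1, by simpa using h2⟩
    · rw [Finset.card_image_of_injOn hinj, hL.1 l hl, p4_card_lines_through hα hL]
  have hmem : l' ∈ blocksThrough L {P} := by
    rw [mem_blocksThrough]
    exact ⟨hl', by simpa using hPl'⟩
  rw [← himg] at hmem
  obtain ⟨X, hX, hfX⟩ := Finset.mem_image.mp hmem
  exact ⟨X, hX, hfX ▸ (hf X hX).2.2⟩

/-- Two distinct lines meet in exactly one point. -/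
theorem p4_exists_unique_meet (hα : Fintype.card α = 21) (hL : IsSteinerSystem 2 5 L)
    {l l' : Finset α} (hl : l ∈ L) (hl' : l' ∈ L) (hne : l ≠ l') : ∃! P, P ∈ l ∧ P ∈ l' := by
  obtain ⟨P, hP, hP'⟩ := p4_lines_meet hα hL hl hl'
  refine ⟨P, ⟨hP, hP'⟩, ?_⟩
  rintro Q ⟨hQ, hQ'⟩
  by_contra hQP
  exact hne (p4_line_unique hL hQP hl hl' hQ hP hQ' hP')

/-! ### Counting the independent 4-sets -/

/-- In a set of `21` points, the number of `4`-sets meeting a given `5`-set in at least three
points is `165`. -/
theorem p4_card_filter_three_le_inter (hα : Fintype.card α = 21) {l : Finset α} (hl : l.card = 5) :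
    (((Finset.univ : Finset α).powersetCard 4).filter (fun S => 3 ≤ (l ∩ S).card)).card = 165 := by
  set 𝒜 : Finset (Finset α) := l.powersetCard 4 with h𝒜
  set ℬ : Finset (Finset α) := ((l.powersetCard 3) ×ˢ lᶜ).image (fun p => insert p.2 p.1) with hℬ
  have hunion : ((Finset.univ : Finset α).powersetCard 4).filter (fun S => 3 ≤ (l ∩ S).card) =
      𝒜 ∪ ℬ := by
    ext S
    simp only [Finset.mem_filter, Finset.mem_powersetCard, Finset.subset_univ, true_and,
      Finset.mem_union, h𝒜, hℬ, Finset.mem_image, Finset.mem_product, Finset.mem_compl, Prod.exists]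
    constructor
    · rintro ⟨hS4, h3⟩
      have hle : (l ∩ S).card ≤ 4 := hS4 ▸ Finset.card_le_card Finset.inter_subset_right
      rcases Nat.lt_or_ge (l ∩ S).card 4 with h4 | h4
      · right
        have h3' : (l ∩ S).card = 3 := by omega
        have hsd : (S \ l).card = 1 := by
          have := Finset.card_sdiff_add_card_inter S l
          rw [Finset.inter_comm, h3', hS4] at this
          omega
        obtain ⟨P, hP⟩ := Finset.card_eq_one.mp hsd
        have hPmem : P ∈ S \ l := by rw [hP]; simp
        rw [Finset.mem_sdiff] at hPmem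
        refine ⟨l ∩ S, P, ⟨⟨Finset.inter_subset_left, h3'⟩, hPmem.2⟩, ?_⟩
        ext x
        simp only [Finset.mem_insert, Finset.mem_inter]
        constructor
        · rintro (rfl | ⟨-, hx⟩)
          · exact hPmem.1
          · exact hx
        · intro hx
          by_cases hxl : x ∈ l
          · exact Or.inr ⟨hxl, hx⟩
          · left
            have : x ∈ S \ l := Finset.mem_sdiff.mpr ⟨hx, hxl⟩
            rw [hP] at this
            simpa using this
      · left
        have h4' : (l ∩ S).card = 4 := le_antisymm hle h4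
        have : l ∩ S = S := Finset.eq_of_subset_of_card_le Finset.inter_subset_right (by rw [h4', hS4])
        exact ⟨this ▸ Finset.inter_subset_left, hS4⟩
    · rintro (⟨hSl, hS4⟩ | ⟨U, P, ⟨⟨hUl, hU3⟩, hPl⟩, rfl⟩)
      · refine ⟨hS4, ?_⟩
        rw [Finset.inter_eq_right.mpr hSl, hS4]
        norm_num
      · have hPU : P ∉ U := fun h => hPl (hUl h)
        refine ⟨by rw [Finset.card_insert_of_notMem hPU, hU3], ?_⟩
        have : l ∩ insert P U = U := by
          ext x
          simp only [Finset.mem_inter, Finset.mem_insert]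
          constructor
          · rintro ⟨hxl, rfl | hxU⟩
            · exact absurd hxl hPl
            · exact hxU
          · intro hxU
            exact ⟨hUl hxU, Or.inr hxU⟩
        rw [this, hU3]
  have hdisj : Disjoint 𝒜 ℬ := by
    rw [Finset.disjoint_left]
    intro S hSA hSB
    rw [h𝒜, Finset.mem_powersetCard] at hSA
    rw [hℬ, Finset.mem_image] at hSB
    obtain ⟨⟨U, P⟩, hUP, rfl⟩ := hSB
    rw [Finset.mem_product, Finset.mem_compl] at hUP
    exact hUP.2 (hSA.1 (Finset.mem_insert_self P U))
  have hA : 𝒜.card = 5 := by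
    rw [h𝒜, Finset.card_powersetCard, hl]
    decide
  have hB : ℬ.card = 160 := by
    rw [hℬ, Finset.card_image_of_injOn, Finset.card_product, Finset.card_powersetCard, hl,
      Finset.card_compl, hα, hl]
    · decide
    · rintro ⟨U, P⟩ hUP ⟨U', P'⟩ hUP' heq
      simp only [Finset.coe_product, Set.mem_prod, Finset.mem_coe, Finset.mem_powersetCard,
        Finset.mem_compl] at hUP hUP'
      simp only at heq
      have hU : U = U' := by
        ext x
        constructor
        · intro hx
          have : x ∈ insert P' U' := heq ▸ Finset.mem_insert_of_mem hx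
          rcases Finset.mem_insert.mp this with rfl | h
          · exact absurd (hUP.1.1 hx) hUP'.2
          · exact h
        · intro hx
          have : x ∈ insert P U := heq ▸ Finset.mem_insert_of_mem hx
          rcases Finset.mem_insert.mp this with rfl | h
          · exact absurd (hUP'.1.1 hx) hUP.2
          · exact h
      have hP : P = P' := by
        have : P ∈ insert P' U' := heq ▸ Finset.mem_insert_self P U
        rcases Finset.mem_insert.mp this with h | h
        · exact h
        · exact absurd (hUP'.1.1 h) hUP.2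
      rw [hU, hP]
  rw [hunion, Finset.card_union_of_disjoint hdisj, hA, hB]

/-- There are exactly `2520` independent 4-sets (quadrangles). -/
theorem p4_card_quadrangles (hα : Fintype.card α = 21) (hL : IsSteinerSystem 2 5 L) :
    {S : Finset α | S.card = 4 ∧ ∀ l ∈ L, (l ∩ S).card ≤ 2}.ncard = 2520 := by
  classical
  set 𝒲 : Finset (Finset α) := (Finset.univ : Finset α).powersetCard 4 with h𝒲
  have h𝒲card : 𝒲.card = 5985 := by
    rw [h𝒲, Finset.card_powersetCard, Finset.card_univ, hα]
    decide
  set 𝒟 : Finset (Finset α) := (blocksOf L).biUnion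
    (fun l => 𝒲.filter (fun S => 3 ≤ (l ∩ S).card)) with h𝒟
  have h𝒟card : 𝒟.card = 3465 := by
    rw [h𝒟, Finset.card_biUnion]
    · rw [Finset.sum_const_nat (m := 165), p4_card_lines hα hL]
      intro l hl
      rw [mem_blocksOf] at hl
      exact p4_card_filter_three_le_inter hα (hL.1 l hl)
    · intro l hl l' hl' hne
      rw [Finset.mem_coe, mem_blocksOf] at hl hl'
      rw [Function.onFun, Finset.disjoint_left]
      intro S hS hS'
      simp only [Finset.mem_filter, h𝒲, Finset.mem_powersetCard] at hS hS'
      have hlt := card_inter_lt hL hl hl' hne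
      -- |l ∩ S| + |l' ∩ S| ≤ |S| + |l ∩ l' ∩ S|
      have h1 : ((l ∩ S) ∪ (l' ∩ S)).card ≤ 4 := by
        rw [← hS.1.2]
        exact Finset.card_le_card (Finset.union_subset Finset.inter_subset_right
          Finset.inter_subset_right)
      have h2 := Finset.card_union_add_card_inter (l ∩ S) (l' ∩ S)
      have h3 : ((l ∩ S) ∩ (l' ∩ S)).card ≤ (l ∩ l').card := by
        apply Finset.card_le_card
        intro x hx
        simp only [Finset.mem_inter] at hx ⊢
        exact ⟨hx.1.1, hx.2.1⟩
      omega
  have hset : {S : Finset α | S.card = 4 ∧ ∀ l ∈ L, (l ∩ S).card ≤ 2} = ↑(𝒲 \ 𝒟) := by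
    ext S
    simp only [Set.mem_ofPred_eq, Finset.coe_sdiff, Set.mem_sdiff, Finset.mem_coe, h𝒲,
      Finset.mem_powersetCard, Finset.subset_univ, true_and, h𝒟, Finset.mem_biUnion,
      Finset.mem_filter, mem_blocksOf]
    constructor
    · rintro ⟨h4, hind⟩
      refine ⟨h4, ?_⟩
      rintro ⟨l, hl, -, h3⟩
      have := hind l hl
      omega
    · rintro ⟨h4, hnot⟩
      refine ⟨h4, fun l hl => ?_⟩
      by_contra hcon
      exact hnot ⟨l, hl, h4, by omega⟩
  have hsub : 𝒟 ⊆ 𝒲 := by
    intro S hS
    rw [h𝒟, Finset.mem_biUnion] at hS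
    obtain ⟨l, -, hS⟩ := hS
    exact (Finset.mem_filter.mp hS).1
  rw [hset, Set.ncard_coe_finset, Finset.card_sdiff_of_subset hsub, h𝒲card, h𝒟card]

end Cfsg.Agent.Lib.Helper6
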