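import Mathlib
import Cfsg.Prelude.Def_Sporadic_a
import Cfsg.Agent.Lib.Helper6.Plane4

/-!
# Quadrangles and hyperovals in the projective plane of order 4 (helper6)
-/

set_option autoImplicit false

namespace Cfsg.Agent.Lib.Helper6

open Finset Cfsg

variable {α : Type*} [Fintype α] [DecidableEq α] {L : Set (Finset α)}

/-- On a line `m` through `A`, three lines not through `A` whose pairwise intersections are off `m`
leave exactly one further point of `m` uncovered. -/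
theorem p4_free_line (hα : Fintype.card α = 21) (hL : IsSteinerSystem 2 5 L)
    {m l1 l2 l3 : Finset α} (hm : m ∈ L) (h1 : l1 ∈ L) (h2 : l2 ∈ L) (h3 : l3 ∈ L) {A : α}
    (hA : A ∈ m) (hA1 : A ∉ l1) (hA2 : A ∉ l2) (hA3 : A ∉ l3)
    (h12 : ∀ x, x ∈ l1 → x ∈ l2 → x ∉ m) (h13 : ∀ x, x ∈ l1 → x ∈ l3 → x ∉ m)
    (h23 : ∀ x, x ∈ l2 → x ∈ l3 → x ∉ m) :
    ∃! R, R ∈ m ∧ R ≠ A ∧ R ∉ l1 ∧ R ∉ l2 ∧ R ∉ l3 := by
  have hm1 : m ≠ l1 := fun h => hA1 (h ▸ hA)
  have hm2 : m ≠ l2 := fun h => hA2 (h ▸ hA)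
  have hm3 : m ≠ l3 := fun h => hA3 (h ▸ hA)
  obtain ⟨R1, ⟨hR1m, hR1l⟩, hR1u⟩ := p4_exists_unique_meet hα hL hm h1 hm1
  obtain ⟨R2, ⟨hR2m, hR2l⟩, hR2u⟩ := p4_exists_unique_meet hα hL hm h2 hm2
  obtain ⟨R3, ⟨hR3m, hR3l⟩, hR3u⟩ := p4_exists_unique_meet hα hL hm h3 hm3
  have hR1A : A ≠ R1 := fun h => hA1 (h ▸ hR1l)
  have hR2A : A ≠ R2 := fun h => hA2 (h ▸ hR2l)
  have hR3A : A ≠ R3 := fun h => hA3 (h ▸ hR3l)
  have hR12 : R1 ≠ R2 := fun h => h12 R1 hR1l (h ▸ hR2l) hR1m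
  have hR13 : R1 ≠ R3 := fun h => h13 R1 hR1l (h ▸ hR3l) hR1m
  have hR23 : R2 ≠ R3 := fun h => h23 R2 hR2l (h ▸ hR3l) hR2m
  have hsub : ({A, R1, R2, R3} : Finset α) ⊆ m := by
    intro x hx
    simp only [Finset.mem_insert, Finset.mem_singleton] at hx
    rcases hx with rfl | rfl | rfl | rfl <;> assumption
  have hcard4 : ({A, R1, R2, R3} : Finset α).card = 4 := by
    rw [Finset.card_eq_four]
    exact ⟨A, R1, R2, R3, hR1A, hR2A, hR3A, hR12, hR13, hR23, rfl⟩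
  have hcard1 : (m \ {A, R1, R2, R3}).card = 1 := by
    rw [Finset.card_sdiff_of_subset hsub, hL.1 m hm, hcard4]
  obtain ⟨R, hR⟩ := Finset.card_eq_one.mp hcard1
  have hRmem : R ∈ m \ {A, R1, R2, R3} := by rw [hR]; simp
  simp only [Finset.mem_sdiff, Finset.mem_insert, Finset.mem_singleton, not_or] at hRmem
  obtain ⟨hRm, hRA, hRR1, hRR2, hRR3⟩ := hRmem
  refine ⟨R, ⟨hRm, hRA, ?_, ?_, ?_⟩, ?_⟩
  · intro h; exact hRR1 (hR1u R ⟨hRm, h⟩)
  · intro h; exact hRR2 (hR2u R ⟨hRm, h⟩)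
  · intro h; exact hRR3 (hR3u R ⟨hRm, h⟩)
  · rintro R' ⟨hR'm, hR'A, hR'1, hR'2, hR'3⟩
    have : R' ∈ m \ {A, R1, R2, R3} := by
      simp only [Finset.mem_sdiff, Finset.mem_insert, Finset.mem_singleton, not_or]
      refine ⟨hR'm, hR'A, ?_, ?_, ?_⟩
      · rintro rfl; exact hR'1 hR1l
      · rintro rfl; exact hR'2 hR2l
      · rintro rfl; exact hR'3 hR3l
    rw [hR] at this
    simpa using this

open Classical in
/-- The points off an independent set `S` lying on no secant of `S`. -/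
noncomputable def p4Ext (L : Set (Finset α)) (S : Finset α) : Finset α :=
  Finset.univ.filter (fun P => P ∉ S ∧ ∀ l ∈ L, 2 ≤ (l ∩ S).card → P ∉ l)

theorem mem_p4Ext {S : Finset α} {P : α} :
    P ∈ p4Ext L S ↔ P ∉ S ∧ ∀ l ∈ L, 2 ≤ (l ∩ S).card → P ∉ l := by
  simp [p4Ext]

omit [Fintype α] in
theorem two_le_card_inter_of_mem {l S : Finset α} {x y : α} (hxy : x ≠ y) (hxl : x ∈ l) (hyl : y ∈ l)
    (hxS : x ∈ S) (hyS : y ∈ S) : 2 ≤ (l ∩ S).card := by
  have hsub : ({x, y} : Finset α) ⊆ l ∩ S := by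
    intro w hw
    simp only [Finset.mem_insert, Finset.mem_singleton] at hw
    rw [Finset.mem_inter]
    rcases hw with rfl | rfl
    · exact ⟨hxl, hxS⟩
    · exact ⟨hyl, hyS⟩
  have := Finset.card_le_card hsub
  rwa [Finset.card_pair hxy] at this

/-- The structure of a quadrangle seen from one of its points `A`: exactly two points `X, Y` lie
on no side, and they are not collinear with `A`. -/
theorem p4_quadrangle_core (hα : Fintype.card α = 21) (hL : IsSteinerSystem 2 5 L) {S : Finset α}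
    (hS4 : S.card = 4) (hind : ∀ l ∈ L, (l ∩ S).card ≤ 2) {A : α} (hA : A ∈ S) :
    ∃ X Y, X ≠ Y ∧ p4Ext L S = {X, Y} ∧ ∀ l ∈ L, A ∈ l → X ∈ l → Y ∉ l := by
  classical
  have h3 : (S.erase A).card = 3 := by rw [Finset.card_erase_of_mem hA, hS4]
  obtain ⟨B, C, D, hBC, hBD, hCD, hBCD⟩ := Finset.card_eq_three.mp h3
  have hB : B ∈ S.erase A := by rw [hBCD]; simp
  have hC : C ∈ S.erase A := by rw [hBCD]; simp
  have hD : D ∈ S.erase A := by rw [hBCD]; simp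
  rw [Finset.mem_erase] at hB hC hD
  obtain ⟨hBA, hBS⟩ := hB
  obtain ⟨hCA, hCS⟩ := hC
  obtain ⟨hDA, hDS⟩ := hD
  have hAB : A ≠ B := Ne.symm hBA
  have hAC : A ≠ C := Ne.symm hCA
  have hAD : A ≠ D := Ne.symm hDA
  have hS : ∀ x, x ∈ S ↔ x = A ∨ x = B ∨ x = C ∨ x = D := by
    intro x
    by_cases hx : x = A
    · subst hx; simp [hA]
    · have : x ∈ S ↔ x ∈ S.erase A := by rw [Finset.mem_erase]; tauto
      rw [this, hBCD]; simp [hx]
  -- no three points of S on a line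
  have hno3 : ∀ l ∈ L, ∀ x y z, x ∈ S → y ∈ S → z ∈ S → x ≠ y → x ≠ z → y ≠ z →
      x ∈ l → y ∈ l → z ∉ l := by
    intro l hl x y z hx hy hz hxy hxz hyz hxl hyl hzl
    have hsub : ({x, y, z} : Finset α) ⊆ l ∩ S := by
      intro w hw
      simp only [Finset.mem_insert, Finset.mem_singleton] at hw
      rw [Finset.mem_inter]
      rcases hw with rfl | rfl | rfl
      · exact ⟨hxl, hx⟩
      · exact ⟨hyl, hy⟩
      · exact ⟨hzl, hz⟩
    have h1 := Finset.card_le_card hsub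
    rw [Finset.card_eq_three.mpr ⟨x, y, z, hxy, hxz, hyz, rfl⟩] at h1
    have h2 := hind l hl
    omega
  -- the six sides
  obtain ⟨lAB, hlAB, hA_AB, hB_AB⟩ := p4_exists_line hL hAB
  obtain ⟨lAC, hlAC, hA_AC, hC_AC⟩ := p4_exists_line hL hAC
  obtain ⟨lAD, hlAD, hA_AD, hD_AD⟩ := p4_exists_line hL hAD
  obtain ⟨lBC, hlBC, hB_BC, hC_BC⟩ := p4_exists_line hL hBC
  obtain ⟨lBD, hlBD, hB_BD, hD_BD⟩ := p4_exists_line hL hBD
  obtain ⟨lCD, hlCD, hC_CD, hD_CD⟩ := p4_exists_line hL hCD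
  have hC_AB : C ∉ lAB := hno3 lAB hlAB A B C hA hBS hCS hAB hAC hBC hA_AB hB_AB
  have hD_AB : D ∉ lAB := hno3 lAB hlAB A B D hA hBS hDS hAB hAD hBD hA_AB hB_AB
  have hB_AC : B ∉ lAC := hno3 lAC hlAC A C B hA hCS hBS hAC hAB hBC.symm hA_AC hC_AC
  have hD_AC : D ∉ lAC := hno3 lAC hlAC A C D hA hCS hDS hAC hAD hCD hA_AC hC_AC
  have hB_AD : B ∉ lAD := hno3 lAD hlAD A D B hA hDS hBS hAD hAB hBD.symm hA_AD hD_AD
  have hC_AD : C ∉ lAD := hno3 lAD hlAD A D C hA hDS hCS hAD hAC hCD.symm hA_AD hD_AD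
  have hA_BC : A ∉ lBC := hno3 lBC hlBC B C A hBS hCS hA hBC hBA hCA hB_BC hC_BC
  have hD_BC : D ∉ lBC := hno3 lBC hlBC B C D hBS hCS hDS hBC hBD hCD hB_BC hC_BC
  have hA_BD : A ∉ lBD := hno3 lBD hlBD B D A hBS hDS hA hBD hBA hDA hB_BD hD_BD
  have hC_BD : C ∉ lBD := hno3 lBD hlBD B D C hBS hDS hCS hBD hBC hCD.symm hB_BD hD_BD
  have hA_CD : A ∉ lCD := hno3 lCD hlCD C D A hCS hDS hA hCD hCA hDA hC_CD hD_CD
  have hB_CD : B ∉ lCD := hno3 lCD hlCD C D B hCS hDS hBS hCD hBC.symm hBD.symm hC_CD hD_CD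
  -- every secant is one of the six sides
  have hsix : ∀ l ∈ L, 2 ≤ (l ∩ S).card →
      l = lAB ∨ l = lAC ∨ l = lAD ∨ l = lBC ∨ l = lBD ∨ l = lCD := by
    intro l hl h2
    obtain ⟨x, hx, y, hy, hxy⟩ := Finset.one_lt_card.mp (by omega : 1 < (l ∩ S).card)
    rw [Finset.mem_inter] at hx hy
    obtain ⟨hxl, hxS⟩ := hx
    obtain ⟨hyl, hyS⟩ := hy
    rcases (hS x).mp hxS with rfl | rfl | rfl | rfl <;>
      rcases (hS y).mp hyS with rfl | rfl | rfl | rfl
    · exact absurd rfl hxy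
    · exact Or.inl (p4_line_unique hL hAB hl hlAB hxl hyl hA_AB hB_AB)
    · exact Or.inr (Or.inl (p4_line_unique hL hAC hl hlAC hxl hyl hA_AC hC_AC))
    · exact Or.inr (Or.inr (Or.inl (p4_line_unique hL hAD hl hlAD hxl hyl hA_AD hD_AD)))
    · exact Or.inl (p4_line_unique hL hAB hl hlAB hyl hxl hA_AB hB_AB)
    · exact absurd rfl hxy
    · exact Or.inr (Or.inr (Or.inr (Or.inl (p4_line_unique hL hBC hl hlBC hxl hyl hB_BC hC_BC))))
    · exact Or.inr (Or.inr (Or.inr (Or.inr (Or.inl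
        (p4_line_unique hL hBD hl hlBD hxl hyl hB_BD hD_BD)))))
    · exact Or.inr (Or.inl (p4_line_unique hL hAC hl hlAC hyl hxl hA_AC hC_AC))
    · exact Or.inr (Or.inr (Or.inr (Or.inl (p4_line_unique hL hBC hl hlBC hyl hxl hB_BC hC_BC))))
    · exact absurd rfl hxy
    · exact Or.inr (Or.inr (Or.inr (Or.inr (Or.inr
        (p4_line_unique hL hCD hl hlCD hxl hyl hC_CD hD_CD)))))
    · exact Or.inr (Or.inr (Or.inl (p4_line_unique hL hAD hl hlAD hyl hxl hA_AD hD_AD)))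
    · exact Or.inr (Or.inr (Or.inr (Or.inr (Or.inl
        (p4_line_unique hL hBD hl hlBD hyl hxl hB_BD hD_BD)))))
    · exact Or.inr (Or.inr (Or.inr (Or.inr (Or.inr
        (p4_line_unique hL hCD hl hlCD hyl hxl hC_CD hD_CD)))))
    · exact absurd rfl hxy
  -- characterisation of the exterior points
  have hext : ∀ P, P ∈ p4Ext L S ↔ P ∉ S ∧ P ∉ lAB ∧ P ∉ lAC ∧ P ∉ lAD ∧ P ∉ lBC ∧ P ∉ lBD ∧
      P ∉ lCD := by
    intro P
    rw [mem_p4Ext]
    constructor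
    · rintro ⟨hPS, hP⟩
      exact ⟨hPS, hP lAB hlAB (two_le_card_inter_of_mem hAB hA_AB hB_AB hA hBS),
        hP lAC hlAC (two_le_card_inter_of_mem hAC hA_AC hC_AC hA hCS),
        hP lAD hlAD (two_le_card_inter_of_mem hAD hA_AD hD_AD hA hDS),
        hP lBC hlBC (two_le_card_inter_of_mem hBC hB_BC hC_BC hBS hCS),
        hP lBD hlBD (two_le_card_inter_of_mem hBD hB_BD hD_BD hBS hDS),
        hP lCD hlCD (two_le_card_inter_of_mem hCD hC_CD hD_CD hCS hDS)⟩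
    · rintro ⟨hPS, h1, h2, h3, h4, h5, h6⟩
      refine ⟨hPS, fun l hl h2l => ?_⟩
      rcases hsix l hl h2l with rfl | rfl | rfl | rfl | rfl | rfl <;> assumption
  -- the two free lines through A
  have hAB_AC : lAB ≠ lAC := fun h => hC_AB (h ▸ hC_AC)
  have hAB_AD : lAB ≠ lAD := fun h => hD_AB (h ▸ hD_AD)
  have hAC_AD : lAC ≠ lAD := fun h => hD_AC (h ▸ hD_AD)
  have hsub3 : ({lAB, lAC, lAD} : Finset (Finset α)) ⊆ blocksThrough L {A} := by
    intro l hl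
    simp only [Finset.mem_insert, Finset.mem_singleton] at hl
    rw [mem_blocksThrough, Finset.singleton_subset_iff]
    rcases hl with rfl | rfl | rfl
    · exact ⟨hlAB, hA_AB⟩
    · exact ⟨hlAC, hA_AC⟩
    · exact ⟨hlAD, hA_AD⟩
  have hcard3 : ({lAB, lAC, lAD} : Finset (Finset α)).card = 3 :=
    Finset.card_eq_three.mpr ⟨lAB, lAC, lAD, hAB_AC, hAB_AD, hAC_AD, rfl⟩
  have hfree : (blocksThrough L {A} \ {lAB, lAC, lAD}).card = 2 := by
    rw [Finset.card_sdiff_of_subset hsub3, p4_card_lines_through hα hL, hcard3]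
  obtain ⟨m1, m2, hm12, hfree'⟩ := Finset.card_eq_two.mp hfree
  have hmem_free : ∀ m, m ∈ blocksThrough L {A} \ {lAB, lAC, lAD} ↔
      (m ∈ L ∧ A ∈ m) ∧ m ≠ lAB ∧ m ≠ lAC ∧ m ≠ lAD := by
    intro m
    simp only [Finset.mem_sdiff, mem_blocksThrough, Finset.singleton_subset_iff,
      Finset.mem_insert, Finset.mem_singleton, not_or]
  have hm1 : m1 ∈ blocksThrough L {A} \ {lAB, lAC, lAD} := by rw [hfree']; simp
  have hm2 : m2 ∈ blocksThrough L {A} \ {lAB, lAC, lAD} := by rw [hfree']; simp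
  rw [hmem_free] at hm1 hm2
  -- the key facts about a free line
  have hfreeline : ∀ m, (m ∈ L ∧ A ∈ m) ∧ m ≠ lAB ∧ m ≠ lAC ∧ m ≠ lAD →
      ∃! R, R ∈ m ∧ R ≠ A ∧ R ∉ lBC ∧ R ∉ lBD ∧ R ∉ lCD := by
    rintro m ⟨⟨hmL, hAm⟩, hmAB, hmAC, hmAD⟩
    have hBm : B ∉ m := fun h => hmAB (p4_line_unique hL hAB hmL hlAB hAm h hA_AB hB_AB)
    have hCm : C ∉ m := fun h => hmAC (p4_line_unique hL hAC hmL hlAC hAm h hA_AC hC_AC)
    have hDm : D ∉ m := fun h => hmAD (p4_line_unique hL hAD hmL hlAD hAm h hA_AD hD_AD)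
    have hBC_BD : lBC ≠ lBD := fun h => hD_BC (h ▸ hD_BD)
    have hBC_CD : lBC ≠ lCD := fun h => hD_BC (h ▸ hD_CD)
    have hBD_CD : lBD ≠ lCD := fun h => hC_BD (h ▸ hC_CD)
    apply p4_free_line hα hL hmL hlBC hlBD hlCD hAm hA_BC hA_BD hA_CD
    · intro x hx1 hx2 hxm
      have : x = B := by
        by_contra hxB
        exact hBC_BD (p4_line_unique hL hxB hlBC hlBD hx1 hB_BC hx2 hB_BD)
      exact hBm (this ▸ hxm)
    · intro x hx1 hx2 hxm
      have : x = C := by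
        by_contra hxC
        exact hBC_CD (p4_line_unique hL hxC hlBC hlCD hx1 hC_BC hx2 hC_CD)
      exact hCm (this ▸ hxm)
    · intro x hx1 hx2 hxm
      have : x = D := by
        by_contra hxD
        exact hBD_CD (p4_line_unique hL hxD hlBD hlCD hx1 hD_BD hx2 hD_CD)
      exact hDm (this ▸ hxm)
  obtain ⟨X, ⟨hXm, hXA, hX_BC, hX_BD, hX_CD⟩, hXu⟩ := hfreeline m1 hm1
  obtain ⟨Y, ⟨hYm, hYA, hY_BC, hY_BD, hY_CD⟩, hYu⟩ := hfreeline m2 hm2
  -- a point of a free line other than A is on no side through A and not in S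
  have hfreept : ∀ m, (m ∈ L ∧ A ∈ m) ∧ m ≠ lAB ∧ m ≠ lAC ∧ m ≠ lAD → ∀ R, R ∈ m → R ≠ A →
      R ∉ lBC → R ∉ lBD → R ∉ lCD → R ∈ p4Ext L S := by
    rintro m ⟨⟨hmL, hAm⟩, hmAB, hmAC, hmAD⟩ R hRm hRA h4 h5 h6
    rw [hext]
    refine ⟨?_, ?_, ?_, ?_, h4, h5, h6⟩
    · intro hRS
      rcases (hS R).mp hRS with rfl | rfl | rfl | rfl
      · exact hRA rfl
      · exact h4 hB_BC
      · exact h4 hC_BC
      · exact h5 hD_BD
    · intro h; exact hmAB (p4_line_unique hL hRA hmL hlAB hRm hAm h hA_AB)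
    · intro h; exact hmAC (p4_line_unique hL hRA hmL hlAC hRm hAm h hA_AC)
    · intro h; exact hmAD (p4_line_unique hL hRA hmL hlAD hRm hAm h hA_AD)
  have hXY : X ≠ Y := by
    rintro rfl
    exact hm12 (p4_line_unique hL hXA hm1.1.1 hm2.1.1 hXm hm1.1.2 hYm hm2.1.2)
  refine ⟨X, Y, hXY, ?_, ?_⟩
  · ext P
    simp only [Finset.mem_insert, Finset.mem_singleton]
    constructor
    · intro hP
      have hP' := (hext P).mp hP
      obtain ⟨hPS, h1, h2, h3, h4, h5, h6⟩ := hP'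
      have hPA : P ≠ A := fun h => hPS (h ▸ hA)
      obtain ⟨m, hmL, hPm, hAm⟩ := p4_exists_line hL hPA
      have hmfree : m ∈ blocksThrough L {A} \ {lAB, lAC, lAD} := by
        rw [hmem_free]
        refine ⟨⟨hmL, hAm⟩, ?_, ?_, ?_⟩
        · rintro rfl; exact h1 hPm
        · rintro rfl; exact h2 hPm
        · rintro rfl; exact h3 hPm
      rw [hfree'] at hmfree
      simp only [Finset.mem_insert, Finset.mem_singleton] at hmfree
      rcases hmfree with rfl | rfl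
      · exact Or.inl (hXu P ⟨hPm, hPA, h4, h5, h6⟩)
      · exact Or.inr (hYu P ⟨hPm, hPA, h4, h5, h6⟩)
    · rintro (rfl | rfl)
      · exact hfreept m1 hm1 _ hXm hXA hX_BC hX_BD hX_CD
      · exact hfreept m2 hm2 _ hYm hYA hY_BC hY_BD hY_CD
  · intro l hl hAl hXl hYl
    have h1 : l = m1 := p4_line_unique hL hXA hl hm1.1.1 hXl hAl hXm hm1.1.2
    have h2 : l = m2 := p4_line_unique hL hYA hl hm2.1.1 hYl hAl hYm hm2.1.2
    exact hm12 (h1.symm.trans h2)

/-- A quadrangle has exactly two exterior points. -/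
theorem p4_card_ext (hα : Fintype.card α = 21) (hL : IsSteinerSystem 2 5 L) {S : Finset α}
    (hS4 : S.card = 4) (hind : ∀ l ∈ L, (l ∩ S).card ≤ 2) : (p4Ext L S).card = 2 := by
  have hne : S.Nonempty := by rw [← Finset.card_pos, hS4]; norm_num
  obtain ⟨A, hA⟩ := hne
  obtain ⟨X, Y, hXY, hE, -⟩ := p4_quadrangle_core hα hL hS4 hind hA
  rw [hE, Finset.card_pair hXY]

theorem p4_disjoint_ext (S : Finset α) : Disjoint S (p4Ext L S) := by
  classical
  rw [Finset.disjoint_left]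
  intro x hx hx'
  exact (mem_p4Ext.mp hx').1 hx

/-- A quadrangle together with its two exterior points is a hyperoval. -/
theorem p4_indep_union_ext (hα : Fintype.card α = 21) (hL : IsSteinerSystem 2 5 L) {S : Finset α}
    (hS4 : S.card = 4) (hind : ∀ l ∈ L, (l ∩ S).card ≤ 2) :
    ∀ l ∈ L, (l ∩ (S ∪ p4Ext L S)).card ≤ 2 := by
  intro l hl
  by_contra hcon
  push Not at hcon
  have hunion : l ∩ (S ∪ p4Ext L S) = (l ∩ S) ∪ (l ∩ p4Ext L S) := Finset.inter_union_distrib_left _ _ _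
  have hle : (l ∩ (S ∪ p4Ext L S)).card ≤ (l ∩ S).card + (l ∩ p4Ext L S).card := by
    rw [hunion]; exact Finset.card_union_le _ _
  have hS2 := hind l hl
  have hE2 : (l ∩ p4Ext L S).card ≤ 2 := by
    rw [← p4_card_ext hα hL hS4 hind]
    exact Finset.card_le_card Finset.inter_subset_right
  by_cases h2 : 2 ≤ (l ∩ S).card
  · -- a secant contains no exterior point
    have : l ∩ p4Ext L S = ∅ := by
      rw [Finset.eq_empty_iff_forall_notMem]
      intro P hP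
      rw [Finset.mem_inter] at hP
      exact (mem_p4Ext.mp hP.2).2 l hl h2 hP.1
    rw [this, Finset.card_empty] at hle
    omega
  · -- the line contains both exterior points and one point of S
    have hE2' : (l ∩ p4Ext L S).card = 2 := by omega
    have hS1 : 0 < (l ∩ S).card := by omega
    obtain ⟨Z, hZ⟩ := Finset.card_pos.mp hS1
    rw [Finset.mem_inter] at hZ
    obtain ⟨X, Y, hXY, hE, hcol⟩ := p4_quadrangle_core hα hL hS4 hind hZ.2
    have hsub : p4Ext L S ⊆ l := by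
      have : l ∩ p4Ext L S = p4Ext L S :=
        Finset.eq_of_subset_of_card_le Finset.inter_subset_right
          (by rw [hE2', p4_card_ext hα hL hS4 hind])
      rw [← this]
      exact Finset.inter_subset_left
    have hX : X ∈ l := hsub (by rw [hE]; simp)
    have hY : Y ∈ l := hsub (by rw [hE]; simp)
    exact hcol l hl hZ.1 hX hY

theorem p4_card_union_ext (hα : Fintype.card α = 21) (hL : IsSteinerSystem 2 5 L) {S : Finset α}
    (hS4 : S.card = 4) (hind : ∀ l ∈ L, (l ∩ S).card ≤ 2) : (S ∪ p4Ext L S).card = 6 := by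
  rw [Finset.card_union_of_disjoint (p4_disjoint_ext S), hS4, p4_card_ext hα hL hS4 hind]

/-- The hyperoval containing a given quadrangle is unique. -/
theorem p4_hyperoval_unique (hα : Fintype.card α = 21) (hL : IsSteinerSystem 2 5 L) {S H : Finset α}
    (hS4 : S.card = 4) (hind : ∀ l ∈ L, (l ∩ S).card ≤ 2) (hH6 : H.card = 6)
    (hHind : ∀ l ∈ L, (l ∩ H).card ≤ 2) (hSH : S ⊆ H) : H = S ∪ p4Ext L S := by
  have hsub : H \ S ⊆ p4Ext L S := by
    intro P hP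
    rw [Finset.mem_sdiff] at hP
    rw [mem_p4Ext]
    refine ⟨hP.2, fun l hl h2 hPl => ?_⟩
    have h1 : insert P (l ∩ S) ⊆ l ∩ H := by
      intro x hx
      rw [Finset.mem_insert] at hx
      rw [Finset.mem_inter]
      rcases hx with rfl | hx
      · exact ⟨hPl, hP.1⟩
      · rw [Finset.mem_inter] at hx
        exact ⟨hx.1, hSH hx.2⟩
    have h3 := Finset.card_le_card h1
    rw [Finset.card_insert_of_notMem (fun h => hP.2 (Finset.mem_inter.mp h).2)] at h3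
    have := hHind l hl
    omega
  have hcard : (H \ S).card = 2 := by
    rw [Finset.card_sdiff_of_subset hSH, hH6, hS4]
  have heq : H \ S = p4Ext L S :=
    Finset.eq_of_subset_of_card_le hsub (by rw [hcard, p4_card_ext hα hL hS4 hind])
  rw [← heq, Finset.union_sdiff_of_subset hSH]

end Cfsg.Agent.Lib.Helper6
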