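import Mathlib
import Cfsg.Prelude.Def_Sporadic_a
import Cfsg.Agent.Lib.Helper6.Plane4Quad

/-!
# Hyperovals in the projective plane of order 4 (helper6)

Every line meets a hyperoval in `0` or `2` points; a point off the hyperoval lies on exactly two
exterior lines.
-/

set_option autoImplicit false

namespace Cfsg.Agent.Lib.Helper6

open Finset Cfsg

variable {α : Type*} [Fintype α] [DecidableEq α] {L : Set (Finset α)}

/-- A hyperoval: six points, no three collinear. -/
def P4Hov (L : Set (Finset α)) (H : Finset α) : Prop :=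
  H.card = 6 ∧ ∀ l ∈ L, (l ∩ H).card ≤ 2

/-- A line through a point of a hyperoval meets it in exactly two points. -/
theorem p4hov_card_inter_of_mem (hα : Fintype.card α = 21) (hL : IsSteinerSystem 2 5 L)
    {H : Finset α} (hH : P4Hov L H) {x : α} (hx : x ∈ H) {l : Finset α} (hl : l ∈ L)
    (hxl : x ∈ l) : (l ∩ H).card = 2 := by
  classical
  have hne : ∀ y ∈ H.erase x, x ≠ y := fun y hy h => (Finset.mem_erase.mp hy).1 h.symm
  let f : α → Finset α := fun y =>
    if h : x = y then l else Classical.choose (p4_exists_line hL h)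
  have hf : ∀ y ∈ H.erase x, f y ∈ L ∧ x ∈ f y ∧ y ∈ f y := by
    intro y hy
    have h := hne y hy
    simp only [f, dif_neg h]
    exact Classical.choose_spec (p4_exists_line hL h)
  have hinj : Set.InjOn f (H.erase x : Set α) := by
    intro y hy z hz hyz
    by_contra hne'
    obtain ⟨h1, h2, h3⟩ := hf y hy
    obtain ⟨-, -, h6⟩ := hf z hz
    rw [← hyz] at h6
    have hsub : ({x, y, z} : Finset α) ⊆ f y ∩ H := by
      intro w hw
      simp only [Finset.mem_insert, Finset.mem_singleton] at hw
      rw [Finset.mem_inter]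
      rcases hw with rfl | rfl | rfl
      · exact ⟨h2, hx⟩
      · exact ⟨h3, (Finset.mem_erase.mp hy).2⟩
      · exact ⟨h6, (Finset.mem_erase.mp hz).2⟩
    have hc := Finset.card_le_card hsub
    rw [Finset.card_eq_three.mpr ⟨x, y, z, hne y hy, hne z hz, hne', rfl⟩] at hc
    have := hH.2 (f y) h1
    omega
  have himg : (H.erase x).image f = blocksThrough L {x} := by
    apply Finset.eq_of_subset_of_card_le
    · intro m hm
      obtain ⟨y, hy, rfl⟩ := Finset.mem_image.mp hm
      obtain ⟨h1, h2, -⟩ := hf y hy
      rw [mem_blocksThrough]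
      exact ⟨h1, by simpa using h2⟩
    · rw [Finset.card_image_of_injOn hinj, Finset.card_erase_of_mem hx, hH.1,
        p4_card_lines_through hα hL]
  have hmem : l ∈ blocksThrough L {x} := by
    rw [mem_blocksThrough]
    exact ⟨hl, by simpa using hxl⟩
  rw [← himg] at hmem
  obtain ⟨y, hy, hfy⟩ := Finset.mem_image.mp hmem
  have hyl : y ∈ l := hfy ▸ (hf y hy).2.2
  have h2 := two_le_card_inter_of_mem (hne y hy) hxl hyl hx (Finset.mem_erase.mp hy).2
  have := hH.2 l hl
  omega

/-- Every line meets a hyperoval in `0` or `2` points. -/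
theorem p4hov_inter_empty_or_card (hα : Fintype.card α = 21) (hL : IsSteinerSystem 2 5 L)
    {H : Finset α} (hH : P4Hov L H) {l : Finset α} (hl : l ∈ L) :
    l ∩ H = ∅ ∨ (l ∩ H).card = 2 := by
  rcases Finset.eq_empty_or_nonempty (l ∩ H) with h | ⟨x, hx⟩
  · exact Or.inl h
  · rw [Finset.mem_inter] at hx
    exact Or.inr (p4hov_card_inter_of_mem hα hL hH hx.2 hl hx.1)

/-- A point off a hyperoval lies on exactly two exterior lines. -/
theorem p4hov_card_exterior_through (hα : Fintype.card α = 21) (hL : IsSteinerSystem 2 5 L)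
    {H : Finset α} (hH : P4Hov L H) {P : α} (hP : P ∉ H) :
    ((blocksThrough L {P}).filter (fun l => l ∩ H = ∅)).card = 2 := by
  classical
  have hdc := Finset.sum_card_bipartiteAbove_eq_sum_card_bipartiteBelow
    (s := blocksThrough L {P}) (t := H) (fun (l : Finset α) (x : α) => x ∈ l)
  simp only [Finset.bipartiteAbove, Finset.bipartiteBelow] at hdc
  have hright : ∑ x ∈ H, ((blocksThrough L {P}).filter (fun l => x ∈ l)).card = 6 := by
    rw [Finset.sum_const_nat (m := 1), hH.1]
    intro x hx
    have hPx : P ≠ x := fun h => hP (h ▸ hx)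
    have : (blocksThrough L {P}).filter (fun l => x ∈ l) = blocksThrough L {P, x} := by
      ext l
      simp only [Finset.mem_filter, mem_blocksThrough, Finset.singleton_subset_iff,
        Finset.insert_subset_iff]
      tauto
    rw [this, card_blocksThrough_eq_one hL (Finset.card_pair hPx)]
  have hleft : ∑ l ∈ blocksThrough L {P}, (H.filter (fun x => x ∈ l)).card =
      2 * ((blocksThrough L {P}).filter (fun l => ¬ l ∩ H = ∅)).card := by
    rw [Finset.card_filter, Finset.mul_sum]
    apply Finset.sum_congr rfl
    intro l hl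
    rw [mem_blocksThrough] at hl
    have hfl : H.filter (fun x => x ∈ l) = l ∩ H := by
      ext x
      simp only [Finset.mem_filter, Finset.mem_inter]
      tauto
    rw [hfl]
    rcases p4hov_inter_empty_or_card hα hL hH hl.1 with h | h
    · simp [h]
    · have hne : ¬ l ∩ H = ∅ := by
        intro h0
        rw [h0] at h
        simp at h
      simp [hne, h]
  have htot := Finset.card_filter_add_card_filter_not (s := blocksThrough L {P})
    (fun l => l ∩ H = ∅)
  rw [p4_card_lines_through hα hL] at htot
  rw [hleft, hright] at hdc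
  omega

end Cfsg.Agent.Lib.Helper6
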