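import Mathlib
import Cfsg.Prelude.Def_Sporadic_a
import Cfsg.Agent.Lib.Helper6.Plane4Hov

/-!
# Collinearity with pairs of points of a hyperoval (helper6)

A point off a hyperoval `H` of the plane of order 4 determines a partition of `H` into three pairs.
-/

set_option autoImplicit false

namespace Cfsg.Agent.Lib.Helper6

open Finset Cfsg

variable {α : Type*} [Fintype α] [DecidableEq α] {L : Set (Finset α)}

/-- `P` is collinear with `x` and `y`. -/
def P4Col (L : Set (Finset α)) (P x y : α) : Prop := ∃ l ∈ L, P ∈ l ∧ x ∈ l ∧ y ∈ l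

omit [Fintype α] [DecidableEq α] in
theorem P4Col.symm {P x y : α} (h : P4Col L P x y) : P4Col L P y x := by
  obtain ⟨l, hl, h1, h2, h3⟩ := h
  exact ⟨l, hl, h1, h3, h2⟩

omit [Fintype α] in
theorem p4col_left (hL : IsSteinerSystem 2 5 L) {x y : α} (hxy : x ≠ y) : P4Col L x x y := by
  obtain ⟨l, hl, h1, h2⟩ := p4_exists_line hL hxy
  exact ⟨l, hl, h1, h1, h2⟩

omit [Fintype α] in
theorem p4col_right (hL : IsSteinerSystem 2 5 L) {x y : α} (hxy : x ≠ y) : P4Col L y x y := by
  obtain ⟨l, hl, h1, h2⟩ := p4_exists_line hL hxy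
  exact ⟨l, hl, h2, h1, h2⟩

omit [Fintype α] in
/-- A point of the hyperoval collinear with two distinct points of the hyperoval is one of them. -/
theorem p4col_mem_hov {H : Finset α} (hH : P4Hov L H) {P x y : α} (hP : P ∈ H) (hx : x ∈ H)
    (hy : y ∈ H) (hxy : x ≠ y) (h : P4Col L P x y) : P = x ∨ P = y := by
  by_contra hcon
  push Not at hcon
  obtain ⟨l, hl, h1, h2, h3⟩ := h
  have hsub : ({P, x, y} : Finset α) ⊆ l ∩ H := by
    intro w hw
    simp only [Finset.mem_insert, Finset.mem_singleton] at hw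
    rw [Finset.mem_inter]
    rcases hw with rfl | rfl | rfl
    · exact ⟨h1, hP⟩
    · exact ⟨h2, hx⟩
    · exact ⟨h3, hy⟩
  have hc := Finset.card_le_card hsub
  rw [Finset.card_eq_three.mpr ⟨P, x, y, hcon.1, hcon.2, hxy, rfl⟩] at hc
  have := hH.2 l hl
  omega

/-- For a point `P` off the hyperoval, the partner of `x ∈ H` on the line `P x`. -/
theorem p4col_exists_partner (hα : Fintype.card α = 21) (hL : IsSteinerSystem 2 5 L)
    {H : Finset α} (hH : P4Hov L H) {P x : α} (hP : P ∉ H) (hx : x ∈ H) :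
    ∃ y ∈ H, y ≠ x ∧ P4Col L P x y := by
  have hPx : P ≠ x := fun h => hP (h ▸ hx)
  obtain ⟨l, hl, hPl, hxl⟩ := p4_exists_line hL hPx
  have h2 := p4hov_card_inter_of_mem hα hL hH hx hl hxl
  obtain ⟨y, hy, hyx⟩ := Finset.exists_mem_ne (by omega : 1 < (l ∩ H).card) x
  rw [Finset.mem_inter] at hy
  exact ⟨y, hy.2, hyx, l, hl, hPl, hxl, hy.1⟩

omit [Fintype α] in
/-- The partner is unique. -/
theorem p4col_partner_unique (hL : IsSteinerSystem 2 5 L) {H : Finset α} (hH : P4Hov L H)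
    {P x y z : α} (hP : P ∉ H) (hx : x ∈ H) (hy : y ∈ H) (hz : z ∈ H) (hyx : y ≠ x) (hzx : z ≠ x)
    (h1 : P4Col L P x y) (h2 : P4Col L P x z) : y = z := by
  by_contra hyz
  have hPx : P ≠ x := fun h => hP (h ▸ hx)
  obtain ⟨l, hl, a1, a2, a3⟩ := h1
  obtain ⟨l', hl', b1, b2, b3⟩ := h2
  have hll : l = l' := p4_line_unique hL hPx hl hl' a1 a2 b1 b2
  subst hll
  have hsub : ({x, y, z} : Finset α) ⊆ l ∩ H := by
    intro w hw
    simp only [Finset.mem_insert, Finset.mem_singleton] at hw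
    rw [Finset.mem_inter]
    rcases hw with rfl | rfl | rfl
    · exact ⟨a2, hx⟩
    · exact ⟨a3, hy⟩
    · exact ⟨b3, hz⟩
  have hc := Finset.card_le_card hsub
  rw [Finset.card_eq_three.mpr ⟨x, y, z, hyx.symm, hzx.symm, hyz, rfl⟩] at hc
  have := hH.2 l hl
  omega

/-- If two of the three pairs of an enumeration of the hyperoval are collinear with `P`, so is the
third. -/
theorem p4col_third (hα : Fintype.card α = 21) (hL : IsSteinerSystem 2 5 L) {H : Finset α}
    (hH : P4Hov L H) {P a b c d e f : α} (hP : P ∉ H) (hnd : [a, b, c, d, e, f].Nodup)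
    (hmem : ∀ x, x ∈ H ↔ x = a ∨ x = b ∨ x = c ∨ x = d ∨ x = e ∨ x = f)
    (h1 : P4Col L P a b) (h2 : P4Col L P c d) : P4Col L P e f := by
  simp only [List.nodup_cons, List.mem_cons, List.not_mem_nil, or_false, not_or,
    List.nodup_nil, and_true, not_false_eq_true] at hnd
  obtain ⟨⟨hab, hac, had, hae, haf⟩, ⟨hbc, hbd, hbe, hbf⟩, ⟨hcd, hce, hcf⟩, ⟨hde, hdf⟩, hef⟩ := hnd
  have ha : a ∈ H := (hmem a).mpr (Or.inl rfl)
  have hb : b ∈ H := (hmem b).mpr (Or.inr (Or.inl rfl))
  have hc : c ∈ H := (hmem c).mpr (Or.inr (Or.inr (Or.inl rfl)))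
  have hd : d ∈ H := (hmem d).mpr (Or.inr (Or.inr (Or.inr (Or.inl rfl))))
  have he : e ∈ H := (hmem e).mpr (Or.inr (Or.inr (Or.inr (Or.inr (Or.inl rfl)))))
  obtain ⟨w, hw, hwe, hcol⟩ := p4col_exists_partner hα hL hH hP he
  rcases (hmem w).mp hw with rfl | rfl | rfl | rfl | rfl | rfl
  · exact absurd (p4col_partner_unique hL hH hP hw he hb (Ne.symm hae) (Ne.symm hab) hcol.symm h1) (Ne.symm hbe)
  · exact absurd (p4col_partner_unique hL hH hP hw he ha (Ne.symm hbe) hab hcol.symm h1.symm) (Ne.symm hae)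
  · exact absurd (p4col_partner_unique hL hH hP hw he hd (Ne.symm hce) (Ne.symm hcd) hcol.symm h2) (Ne.symm hde)
  · exact absurd (p4col_partner_unique hL hH hP hw he hc (Ne.symm hde) hcd hcol.symm h2.symm) (Ne.symm hce)
  · exact absurd rfl hwe
  · exact hcol

/-- A point off the hyperoval splits it into three collinear pairs. -/
theorem p4col_decomposition (hα : Fintype.card α = 21) (hL : IsSteinerSystem 2 5 L) {H : Finset α}
    (hH : P4Hov L H) {P : α} (hP : P ∉ H) :
    ∃ a b c d e f : α, [a, b, c, d, e, f].Nodup ∧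
      (∀ x, x ∈ H ↔ x = a ∨ x = b ∨ x = c ∨ x = d ∨ x = e ∨ x = f) ∧
      P4Col L P a b ∧ P4Col L P c d ∧ P4Col L P e f := by
  have hne : H.Nonempty := by rw [← Finset.card_pos, hH.1]; norm_num
  obtain ⟨a, ha⟩ := hne
  obtain ⟨b, hb, hba, hcolab⟩ := p4col_exists_partner hα hL hH hP ha
  have hab : a ≠ b := Ne.symm hba
  have hsub2 : ({a, b} : Finset α) ⊆ H := by
    intro x hx
    simp only [Finset.mem_insert, Finset.mem_singleton] at hx
    rcases hx with rfl | rfl <;> assumption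
  have hc4 : (H \ {a, b}).card = 4 := by
    rw [Finset.card_sdiff_of_subset hsub2, hH.1, Finset.card_pair hab]
  obtain ⟨c, hc⟩ := Finset.card_pos.mp (by omega : 0 < (H \ {a, b}).card)
  simp only [Finset.mem_sdiff, Finset.mem_insert, Finset.mem_singleton, not_or] at hc
  obtain ⟨hcH, hca, hcb⟩ := hc
  obtain ⟨d, hd, hdc, hcolcd⟩ := p4col_exists_partner hα hL hH hP hcH
  have hda : d ≠ a := by
    rintro rfl
    exact hcb (p4col_partner_unique hL hH hP ha hcH hb hca hba hcolcd.symm hcolab)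
  have hdb : d ≠ b := by
    rintro rfl
    exact hca (p4col_partner_unique hL hH hP hb hcH ha hcb hab hcolcd.symm hcolab.symm)
  have hsub4 : ({a, b, c, d} : Finset α) ⊆ H := by
    intro x hx
    simp only [Finset.mem_insert, Finset.mem_singleton] at hx
    rcases hx with rfl | rfl | rfl | rfl <;> assumption
  have hcard4 : ({a, b, c, d} : Finset α).card = 4 :=
    Finset.card_eq_four.mpr ⟨a, b, c, d, hab, Ne.symm hca, Ne.symm hda, Ne.symm hcb, Ne.symm hdb,
      Ne.symm hdc, rfl⟩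
  have hc2 : (H \ {a, b, c, d}).card = 2 := by
    rw [Finset.card_sdiff_of_subset hsub4, hH.1, hcard4]
  obtain ⟨e, f, hef, hEF⟩ := Finset.card_eq_two.mp hc2
  have he : e ∈ H \ {a, b, c, d} := by rw [hEF]; simp
  have hf : f ∈ H \ {a, b, c, d} := by rw [hEF]; simp
  simp only [Finset.mem_sdiff, Finset.mem_insert, Finset.mem_singleton, not_or] at he hf
  obtain ⟨heH, hea, heb, hec, hed⟩ := he
  obtain ⟨hfH, hfa, hfb, hfc, hfd⟩ := hf
  have hnd : [a, b, c, d, e, f].Nodup := by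
    simp only [List.nodup_cons, List.mem_cons, List.not_mem_nil, or_false, not_or,
      List.nodup_nil, and_true, not_false_eq_true]
    exact ⟨⟨hab, Ne.symm hca, Ne.symm hda, Ne.symm hea, Ne.symm hfa⟩,
      ⟨Ne.symm hcb, Ne.symm hdb, Ne.symm heb, Ne.symm hfb⟩,
      ⟨Ne.symm hdc, Ne.symm hec, Ne.symm hfc⟩, ⟨Ne.symm hed, Ne.symm hfd⟩, hef⟩
  have hmem : ∀ x, x ∈ H ↔ x = a ∨ x = b ∨ x = c ∨ x = d ∨ x = e ∨ x = f := by
    intro x
    constructor
    · intro hx
      by_cases hx4 : x ∈ ({a, b, c, d} : Finset α)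
      · simp only [Finset.mem_insert, Finset.mem_singleton] at hx4
        tauto
      · have : x ∈ H \ {a, b, c, d} := Finset.mem_sdiff.mpr ⟨hx, hx4⟩
        rw [hEF] at this
        simp only [Finset.mem_insert, Finset.mem_singleton] at this
        tauto
    · rintro (rfl | rfl | rfl | rfl | rfl | rfl) <;> assumption
  exact ⟨a, b, c, d, e, f, hnd, hmem, hcolab, hcolcd,
    p4col_third hα hL hH hP hnd hmem hcolab hcolcd⟩

end Cfsg.Agent.Lib.Helper6
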