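import Mathlib
import Cfsg.Prelude.Def_Sporadic_a
import Cfsg.Agent.Lib.Helper6.Plane4Col

/-!
# Extending a bijection between hyperovals of two planes of order 4: the point relation (helper6)
-/

set_option autoImplicit false

namespace Cfsg.Agent.Lib.Helper6

open Finset Cfsg

universe u v

variable {α : Type u} {β : Type v} [Fintype α] [DecidableEq α] [Fintype β] [DecidableEq β]
  {L : Set (Finset α)} {L' : Set (Finset β)} {H : Finset α} {H' : Finset β}

/-- A bijection between two finsets, given by mutually inverse functions. -/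
structure HovBij (H : Finset α) (H' : Finset β) where
  /-- the forward map -/
  s : α → β
  /-- the backward map -/
  t : β → α
  hs : ∀ x ∈ H, s x ∈ H'
  ht : ∀ y ∈ H', t y ∈ H
  hts : ∀ x ∈ H, t (s x) = x
  hst : ∀ y ∈ H', s (t y) = y

omit [Fintype α] [DecidableEq α] [Fintype β] [DecidableEq β] in
/-- The inverse bijection. -/
def HovBij.symm (σ : HovBij H H') : HovBij H' H := ⟨σ.t, σ.s, σ.ht, σ.hs, σ.hst, σ.hts⟩

omit [Fintype α] [DecidableEq α] [Fintype β] [DecidableEq β] in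
theorem HovBij.s_ne (σ : HovBij H H') {x y : α} (hx : x ∈ H) (hy : y ∈ H) (hxy : x ≠ y) :
    σ.s x ≠ σ.s y := fun h => hxy (by rw [← σ.hts x hx, h, σ.hts y hy])

omit [Fintype α] [DecidableEq α] [Fintype β] [DecidableEq β] in
/-- Transport of an enumeration of `H` to `H'`. -/
theorem HovBij.enum (σ : HovBij H H') {a b c d e f : α} (hnd : [a, b, c, d, e, f].Nodup)
    (hmem : ∀ x, x ∈ H ↔ x = a ∨ x = b ∨ x = c ∨ x = d ∨ x = e ∨ x = f) :
    [σ.s a, σ.s b, σ.s c, σ.s d, σ.s e, σ.s f].Nodup ∧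
      ∀ y, y ∈ H' ↔ y = σ.s a ∨ y = σ.s b ∨ y = σ.s c ∨ y = σ.s d ∨ y = σ.s e ∨ y = σ.s f := by
  simp only [List.nodup_cons, List.mem_cons, List.not_mem_nil, or_false, not_or,
    List.nodup_nil, and_true, not_false_eq_true] at hnd ⊢
  obtain ⟨⟨hab, hac, had, hae, haf⟩, ⟨hbc, hbd, hbe, hbf⟩, ⟨hcd, hce, hcf⟩, ⟨hde, hdf⟩, hef⟩ := hnd
  have ha : a ∈ H := (hmem a).mpr (Or.inl rfl)
  have hb : b ∈ H := (hmem b).mpr (Or.inr (Or.inl rfl))
  have hc : c ∈ H := (hmem c).mpr (Or.inr (Or.inr (Or.inl rfl)))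
  have hd : d ∈ H := (hmem d).mpr (Or.inr (Or.inr (Or.inr (Or.inl rfl))))
  have he : e ∈ H := (hmem e).mpr (Or.inr (Or.inr (Or.inr (Or.inr (Or.inl rfl)))))
  have hf : f ∈ H := (hmem f).mpr (Or.inr (Or.inr (Or.inr (Or.inr (Or.inr rfl)))))
  refine ⟨⟨⟨σ.s_ne ha hb hab, σ.s_ne ha hc hac, σ.s_ne ha hd had, σ.s_ne ha he hae,
    σ.s_ne ha hf haf⟩, ⟨σ.s_ne hb hc hbc, σ.s_ne hb hd hbd, σ.s_ne hb he hbe, σ.s_ne hb hf hbf⟩,
    ⟨σ.s_ne hc hd hcd, σ.s_ne hc he hce, σ.s_ne hc hf hcf⟩, ⟨σ.s_ne hd he hde, σ.s_ne hd hf hdf⟩,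
    σ.s_ne he hf hef⟩, ?_⟩
  intro y
  constructor
  · intro hy
    have h1 := σ.ht y hy
    have h2 := σ.hst y hy
    rcases (hmem _).mp h1 with h | h | h | h | h | h <;> rw [h] at h2 <;> simp [← h2]
  · rintro (rfl | rfl | rfl | rfl | rfl | rfl)
    · exact σ.hs a ha
    · exact σ.hs b hb
    · exact σ.hs c hc
    · exact σ.hs d hd
    · exact σ.hs e he
    · exact σ.hs f hf

/-- The relation between points of the two planes induced by a bijection of hyperovals: pairs of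
`H` collinear with `P` are mapped to pairs of `H'` collinear with `P'`. -/
def P4Rel (L : Set (Finset α)) (L' : Set (Finset β)) (σ : HovBij H H') (P : α) (P' : β) : Prop :=
  ∀ x ∈ H, ∀ y ∈ H, x ≠ y → P4Col L P x y → P4Col L' P' (σ.s x) (σ.s y)

section Rel

variable (hα : Fintype.card α = 21) (hL : IsSteinerSystem 2 5 L) (hH : P4Hov L H)
  (hβ : Fintype.card β = 21) (hL' : IsSteinerSystem 2 5 L') (hH' : P4Hov L' H') (σ : HovBij H H')

include hL hH hL' in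
/-- A point of `H` is related to its image. -/
theorem p4rel_of_mem {P : α} (hP : P ∈ H) : P4Rel L L' σ P (σ.s P) := by
  intro x hx y hy hxy hcol
  have hne := σ.s_ne hx hy hxy
  rcases p4col_mem_hov hH hP hx hy hxy hcol with rfl | rfl
  · exact p4col_left hL' hne
  · exact p4col_right hL' hne

include hα hL hH hβ hL' hH' in
/-- A point of `H` is related only to its image. -/
theorem p4rel_mem_eq {P : α} {P' : β} (hP : P ∈ H) (h : P4Rel L L' σ P P') : P' = σ.s P := by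
  by_contra hne
  have h5 : (H.erase P).card = 5 := by rw [Finset.card_erase_of_mem hP, hH.1]
  obtain ⟨y, hy, z, hz, hyz⟩ := Finset.one_lt_card.mp (by omega : 1 < (H.erase P).card)
  rw [Finset.mem_erase] at hy hz
  have h1 := h P hP y hy.2 (Ne.symm hy.1) (p4col_left hL (Ne.symm hy.1))
  have h2 := h P hP z hz.2 (Ne.symm hz.1) (p4col_left hL (Ne.symm hz.1))
  obtain ⟨l1, hl1, a1, a2, a3⟩ := h1
  obtain ⟨l2, hl2, b1, b2, b3⟩ := h2
  have hll : l1 = l2 := p4_line_unique hL' hne hl1 hl2 a1 a2 b1 b2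
  subst hll
  have hsub : ({σ.s P, σ.s y, σ.s z} : Finset β) ⊆ l1 ∩ H' := by
    intro w hw
    simp only [Finset.mem_insert, Finset.mem_singleton] at hw
    rw [Finset.mem_inter]
    rcases hw with rfl | rfl | rfl
    · exact ⟨a2, σ.hs P hP⟩
    · exact ⟨a3, σ.hs y hy.2⟩
    · exact ⟨b3, σ.hs z hz.2⟩
  have hc := Finset.card_le_card hsub
  rw [Finset.card_eq_three.mpr ⟨_, _, _, σ.s_ne hP hy.2 (Ne.symm hy.1),
    σ.s_ne hP hz.2 (Ne.symm hz.1), σ.s_ne hy.2 hz.2 hyz, rfl⟩] at hc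
  have := hH'.2 l1 hl1
  omega

include hL hH in
/-- For a point off `H` with a given decomposition, the relation amounts to three
collinearities. -/
theorem p4rel_iff_of_decomposition {P : α} {P' : β} (hP : P ∉ H) {a b c d e f : α}
    (hmem : ∀ x, x ∈ H ↔ x = a ∨ x = b ∨ x = c ∨ x = d ∨ x = e ∨ x = f)
    (hnd : [a, b, c, d, e, f].Nodup)
    (h1 : P4Col L P a b) (h2 : P4Col L P c d) (h3 : P4Col L P e f) :
    P4Rel L L' σ P P' ↔ P4Col L' P' (σ.s a) (σ.s b) ∧ P4Col L' P' (σ.s c) (σ.s d) ∧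
      P4Col L' P' (σ.s e) (σ.s f) := by
  simp only [List.nodup_cons, List.mem_cons, List.not_mem_nil, or_false, not_or,
    List.nodup_nil, and_true, not_false_eq_true] at hnd
  obtain ⟨⟨hab, hac, had, hae, haf⟩, ⟨hbc, hbd, hbe, hbf⟩, ⟨hcd, hce, hcf⟩, ⟨hde, hdf⟩, hef⟩ := hnd
  have ha : a ∈ H := (hmem a).mpr (Or.inl rfl)
  have hb : b ∈ H := (hmem b).mpr (Or.inr (Or.inl rfl))
  have hc : c ∈ H := (hmem c).mpr (Or.inr (Or.inr (Or.inl rfl)))
  have hd : d ∈ H := (hmem d).mpr (Or.inr (Or.inr (Or.inr (Or.inl rfl))))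
  have he : e ∈ H := (hmem e).mpr (Or.inr (Or.inr (Or.inr (Or.inr (Or.inl rfl)))))
  have hf : f ∈ H := (hmem f).mpr (Or.inr (Or.inr (Or.inr (Or.inr (Or.inr rfl)))))
  constructor
  · intro h
    exact ⟨h a ha b hb hab h1, h c hc d hd hcd h2, h e he f hf hef h3⟩
  · rintro ⟨k1, k2, k3⟩ x hx y hy hxy hcol
    rcases (hmem x).mp hx with rfl | rfl | rfl | rfl | rfl | rfl
    · have : y = b := p4col_partner_unique hL hH hP hx hy hb (Ne.symm hxy) (Ne.symm hab) hcol h1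
      rw [this]; exact k1
    · have : y = a := p4col_partner_unique hL hH hP hx hy ha (Ne.symm hxy) hab hcol h1.symm
      rw [this]; exact k1.symm
    · have : y = d := p4col_partner_unique hL hH hP hx hy hd (Ne.symm hxy) (Ne.symm hcd) hcol h2
      rw [this]; exact k2
    · have : y = c := p4col_partner_unique hL hH hP hx hy hc (Ne.symm hxy) hcd hcol h2.symm
      rw [this]; exact k2.symm
    · have : y = f := p4col_partner_unique hL hH hP hx hy hf (Ne.symm hxy) (Ne.symm hef) hcol h3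
      rw [this]; exact k3
    · have : y = e := p4col_partner_unique hL hH hP hx hy he (Ne.symm hxy) hef hcol h3.symm
      rw [this]; exact k3.symm

include hα hL hH hH' in
/-- A point off `H` is only related to points off `H'`. -/
theorem p4rel_not_mem {P : α} {P' : β} (hP : P ∉ H) (h : P4Rel L L' σ P P') : P' ∉ H' := by
  intro hP'
  obtain ⟨a, b, c, d, e, f, hnd, hmem, h1, h2, h3⟩ := p4col_decomposition hα hL hH hP
  obtain ⟨k1, k2, -⟩ := (p4rel_iff_of_decomposition hL hH σ hP hmem hnd h1 h2 h3).mp h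
  obtain ⟨hnd', -⟩ := σ.enum hnd hmem
  simp only [List.nodup_cons, List.mem_cons, List.not_mem_nil, or_false, not_or,
    List.nodup_nil, and_true, not_false_eq_true] at hnd hnd'
  obtain ⟨⟨hab, hac, had, hae, haf⟩, ⟨hbc, hbd, hbe, hbf⟩, ⟨hcd, hce, hcf⟩, ⟨hde, hdf⟩, hef⟩ := hnd'
  have ha : a ∈ H := (hmem a).mpr (Or.inl rfl)
  have hb : b ∈ H := (hmem b).mpr (Or.inr (Or.inl rfl))
  have hc : c ∈ H := (hmem c).mpr (Or.inr (Or.inr (Or.inl rfl)))
  have hd : d ∈ H := (hmem d).mpr (Or.inr (Or.inr (Or.inr (Or.inl rfl))))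
  rcases p4col_mem_hov hH' hP' (σ.hs a ha) (σ.hs b hb) hab k1 with r1 | r1 <;>
    rcases p4col_mem_hov hH' hP' (σ.hs c hc) (σ.hs d hd) hcd k2 with r2 | r2 <;>
    rw [r1] at r2
  · exact hac r2
  · exact had r2
  · exact hbc r2
  · exact hbd r2

include hα hL hH hβ hL' hH' in
/-- Every point is related to some point. -/
theorem p4rel_exists (P : α) : ∃ P', P4Rel L L' σ P P' := by
  by_cases hP : P ∈ H
  · exact ⟨σ.s P, p4rel_of_mem hL hH hL' σ hP⟩
  obtain ⟨a, b, c, d, e, f, hnd, hmem, h1, h2, h3⟩ := p4col_decomposition hα hL hH hP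
  obtain ⟨hnd', hmem'⟩ := σ.enum hnd hmem
  have hnd'' := hnd'
  simp only [List.nodup_cons, List.mem_cons, List.not_mem_nil, or_false, not_or,
    List.nodup_nil, and_true, not_false_eq_true] at hnd''
  obtain ⟨⟨hab, hac, had, hae, haf⟩, ⟨hbc, hbd, hbe, hbf⟩, ⟨hcd, hce, hcf⟩, ⟨hde, hdf⟩, hef⟩ := hnd''
  have ha : σ.s a ∈ H' := (hmem' _).mpr (Or.inl rfl)
  have hb : σ.s b ∈ H' := (hmem' _).mpr (Or.inr (Or.inl rfl))
  have hc : σ.s c ∈ H' := (hmem' _).mpr (Or.inr (Or.inr (Or.inl rfl)))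
  have hd : σ.s d ∈ H' := (hmem' _).mpr (Or.inr (Or.inr (Or.inr (Or.inl rfl))))
  obtain ⟨l1, hl1, a1, a2⟩ := p4_exists_line hL' hab
  obtain ⟨l2, hl2, b1, b2⟩ := p4_exists_line hL' hcd
  have hl12 : l1 ≠ l2 := by
    rintro rfl
    have hsub : ({σ.s a, σ.s b, σ.s c} : Finset β) ⊆ l1 ∩ H' := by
      intro w hw
      simp only [Finset.mem_insert, Finset.mem_singleton] at hw
      rw [Finset.mem_inter]
      rcases hw with rfl | rfl | rfl
      · exact ⟨a1, ha⟩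
      · exact ⟨a2, hb⟩
      · exact ⟨b1, hc⟩
    have hcc := Finset.card_le_card hsub
    rw [Finset.card_eq_three.mpr ⟨_, _, _, hab, hac, hbc, rfl⟩] at hcc
    have := hH'.2 l1 hl1
    omega
  obtain ⟨P', ⟨hP'1, hP'2⟩, -⟩ := p4_exists_unique_meet hβ hL' hl1 hl2 hl12
  have k1 : P4Col L' P' (σ.s a) (σ.s b) := ⟨l1, hl1, hP'1, a1, a2⟩
  have k2 : P4Col L' P' (σ.s c) (σ.s d) := ⟨l2, hl2, hP'2, b1, b2⟩
  have hP'H : P' ∉ H' := by
    intro hP'
    rcases p4col_mem_hov hH' hP' ha hb hab k1 with r1 | r1 <;>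
      rcases p4col_mem_hov hH' hP' hc hd hcd k2 with r2 | r2 <;>
      rw [r1] at r2
    · exact hac r2
    · exact had r2
    · exact hbc r2
    · exact hbd r2
  have k3 := p4col_third hβ hL' hH' hP'H hnd' hmem' k1 k2
  exact ⟨P', (p4rel_iff_of_decomposition hL hH σ hP hmem hnd h1 h2 h3).mpr ⟨k1, k2, k3⟩⟩

include hα hL hH hβ hL' hH' in
/-- The related point is unique. -/
theorem p4rel_unique {P : α} {P' P'' : β} (h : P4Rel L L' σ P P') (h' : P4Rel L L' σ P P'') :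
    P' = P'' := by
  by_cases hP : P ∈ H
  · rw [p4rel_mem_eq hα hL hH hβ hL' hH' σ hP h, p4rel_mem_eq hα hL hH hβ hL' hH' σ hP h']
  obtain ⟨a, b, c, d, e, f, hnd, hmem, h1, h2, h3⟩ := p4col_decomposition hα hL hH hP
  obtain ⟨hnd', hmem'⟩ := σ.enum hnd hmem
  simp only [List.nodup_cons, List.mem_cons, List.not_mem_nil, or_false, not_or,
    List.nodup_nil, and_true, not_false_eq_true] at hnd'
  obtain ⟨⟨hab, hac, had, hae, haf⟩, ⟨hbc, hbd, hbe, hbf⟩, ⟨hcd, hce, hcf⟩, ⟨hde, hdf⟩, hef⟩ := hnd'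
  have ha : σ.s a ∈ H' := (hmem' _).mpr (Or.inl rfl)
  have hb : σ.s b ∈ H' := (hmem' _).mpr (Or.inr (Or.inl rfl))
  have hc : σ.s c ∈ H' := (hmem' _).mpr (Or.inr (Or.inr (Or.inl rfl)))
  obtain ⟨⟨l1, hl1, a1, a2, a3⟩, ⟨l2, hl2, b1, b2, b3⟩, -⟩ :=
    (p4rel_iff_of_decomposition hL hH σ hP hmem hnd h1 h2 h3).mp h
  obtain ⟨⟨m1, hm1, c1, c2, c3⟩, ⟨m2, hm2, d1, d2, d3⟩, -⟩ :=
    (p4rel_iff_of_decomposition hL hH σ hP hmem hnd h1 h2 h3).mp h'
  have e1 : l1 = m1 := p4_line_unique hL' hab hl1 hm1 a2 a3 c2 c3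
  have e2 : l2 = m2 := p4_line_unique hL' hcd hl2 hm2 b2 b3 d2 d3
  subst e1 e2
  have hl12 : l1 ≠ l2 := by
    rintro rfl
    have hsub : ({σ.s a, σ.s b, σ.s c} : Finset β) ⊆ l1 ∩ H' := by
      intro w hw
      simp only [Finset.mem_insert, Finset.mem_singleton] at hw
      rw [Finset.mem_inter]
      rcases hw with rfl | rfl | rfl
      · exact ⟨a2, ha⟩
      · exact ⟨a3, hb⟩
      · exact ⟨b2, hc⟩
    have hcc := Finset.card_le_card hsub
    rw [Finset.card_eq_three.mpr ⟨_, _, _, hab, hac, hbc, rfl⟩] at hcc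
    have := hH'.2 l1 hl1
    omega
  by_contra hne
  exact hl12 (p4_line_unique hL' hne hl1 hl2 a1 c1 b1 d1)

include hα hL hH hβ hL' hH' in
/-- The relation is symmetric. -/
theorem p4rel_symm {P : α} {P' : β} (h : P4Rel L L' σ P P') : P4Rel L' L σ.symm P' P := by
  by_cases hP : P ∈ H
  · have hP' := p4rel_mem_eq hα hL hH hβ hL' hH' σ hP h
    have := p4rel_of_mem hL' hH' hL σ.symm (σ.hs P hP)
    rw [hP']
    have e : σ.symm.s (σ.s P) = P := σ.hts P hP
    rw [e] at this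
    exact this
  have hP'H := p4rel_not_mem hα hL hH hH' σ hP h
  obtain ⟨a, b, c, d, e, f, hnd, hmem, h1, h2, h3⟩ := p4col_decomposition hα hL hH hP
  obtain ⟨hnd', hmem'⟩ := σ.enum hnd hmem
  obtain ⟨k1, k2, k3⟩ := (p4rel_iff_of_decomposition hL hH σ hP hmem hnd h1 h2 h3).mp h
  rw [p4rel_iff_of_decomposition hL' hH' σ.symm hP'H hmem' hnd' k1 k2 k3]
  have ha : a ∈ H := (hmem a).mpr (Or.inl rfl)
  have hb : b ∈ H := (hmem b).mpr (Or.inr (Or.inl rfl))
  have hc : c ∈ H := (hmem c).mpr (Or.inr (Or.inr (Or.inl rfl)))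
  have hd : d ∈ H := (hmem d).mpr (Or.inr (Or.inr (Or.inr (Or.inl rfl))))
  have he : e ∈ H := (hmem e).mpr (Or.inr (Or.inr (Or.inr (Or.inr (Or.inl rfl)))))
  have hf : f ∈ H := (hmem f).mpr (Or.inr (Or.inr (Or.inr (Or.inr (Or.inr rfl)))))
  have ea : σ.symm.s (σ.s a) = a := σ.hts a ha
  have eb : σ.symm.s (σ.s b) = b := σ.hts b hb
  have ec : σ.symm.s (σ.s c) = c := σ.hts c hc
  have ed : σ.symm.s (σ.s d) = d := σ.hts d hd
  have ee : σ.symm.s (σ.s e) = e := σ.hts e he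
  have ef : σ.symm.s (σ.s f) = f := σ.hts f hf
  rw [ea, eb, ec, ed, ee, ef]
  exact ⟨h1, h2, h3⟩

end Rel

end Cfsg.Agent.Lib.Helper6
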