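import Mathlib
import Cfsg.Prelude.Def_Sporadic_a
import Cfsg.Agent.Lib.Helper6.Plane4Rel

/-!
# Extending a bijection between hyperovals of two planes of order 4 to an isomorphism (helper6)
-/

set_option autoImplicit false

namespace Cfsg.Agent.Lib.Helper6

open Finset Cfsg

universe u v

variable {α : Type u} {β : Type v} [Fintype α] [DecidableEq α] [Fintype β] [DecidableEq β]
  {L : Set (Finset α)} {L' : Set (Finset β)} {H : Finset α} {H' : Finset β}

/-- Three exterior lines through a point off the hyperoval cannot be pairwise distinct. -/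
theorem p4hov_exterior_trichotomy (hα : Fintype.card α = 21) (hL : IsSteinerSystem 2 5 L)
    (hH : P4Hov L H) {P : α} (hP : P ∉ H) {m1 m2 m3 : Finset α} (h1 : m1 ∈ L) (h2 : m2 ∈ L)
    (h3 : m3 ∈ L) (hP1 : P ∈ m1) (hP2 : P ∈ m2) (hP3 : P ∈ m3) (e1 : m1 ∩ H = ∅)
    (e2 : m2 ∩ H = ∅) (e3 : m3 ∩ H = ∅) (h12 : m1 ≠ m2) : m3 = m1 ∨ m3 = m2 := by
  classical
  have hcard := p4hov_card_exterior_through hα hL hH hP
  have hmem : ∀ m, m ∈ L → P ∈ m → m ∩ H = ∅ →
      m ∈ (blocksThrough L {P}).filter (fun l => l ∩ H = ∅) := by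
    intro m hm hPm hme
    rw [Finset.mem_filter, mem_blocksThrough]
    exact ⟨⟨hm, by simpa using hPm⟩, hme⟩
  have hsub : ({m1, m2} : Finset (Finset α)) ⊆
      (blocksThrough L {P}).filter (fun l => l ∩ H = ∅) := by
    intro m hm
    simp only [Finset.mem_insert, Finset.mem_singleton] at hm
    rcases hm with rfl | rfl
    · exact hmem _ h1 hP1 e1
    · exact hmem _ h2 hP2 e2
  have heq := Finset.eq_of_subset_of_card_le hsub (by rw [hcard, Finset.card_pair h12])
  have := hmem m3 h3 hP3 e3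
  rw [← heq] at this
  simpa using this

section Map

variable (hα : Fintype.card α = 21) (hL : IsSteinerSystem 2 5 L) (hH : P4Hov L H)
  (hβ : Fintype.card β = 21) (hL' : IsSteinerSystem 2 5 L') (hH' : P4Hov L' H') (σ : HovBij H H')

/-- The extension of a bijection between hyperovals to all points. -/
noncomputable def p4map (P : α) : β :=
  Classical.choose (p4rel_exists hα hL hH hβ hL' hH' σ P)

theorem p4map_spec (P : α) : P4Rel L L' σ P (p4map hα hL hH hβ hL' hH' σ P) :=
  Classical.choose_spec (p4rel_exists hα hL hH hβ hL' hH' σ P)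

theorem p4map_eq_of_rel {P : α} {P' : β} (h : P4Rel L L' σ P P') :
    p4map hα hL hH hβ hL' hH' σ P = P' :=
  p4rel_unique hα hL hH hβ hL' hH' σ (p4map_spec hα hL hH hβ hL' hH' σ P) h

theorem p4map_of_mem {P : α} (hP : P ∈ H) : p4map hα hL hH hβ hL' hH' σ P = σ.s P :=
  p4map_eq_of_rel hα hL hH hβ hL' hH' σ (p4rel_of_mem hL hH hL' σ hP)

theorem p4map_symm_p4map (P : α) :
    p4map hβ hL' hH' hα hL hH σ.symm (p4map hα hL hH hβ hL' hH' σ P) = P :=
  p4map_eq_of_rel hβ hL' hH' hα hL hH σ.symm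
    (p4rel_symm hα hL hH hβ hL' hH' σ (p4map_spec hα hL hH hβ hL' hH' σ P))

theorem p4map_injective : Function.Injective (p4map hα hL hH hβ hL' hH' σ) := by
  intro P Q h
  rw [← p4map_symm_p4map hα hL hH hβ hL' hH' σ P, h, p4map_symm_p4map]

theorem p4map_not_mem {P : α} (hP : P ∉ H) : p4map hα hL hH hβ hL' hH' σ P ∉ H' :=
  p4rel_not_mem hα hL hH hH' σ hP (p4map_spec hα hL hH hβ hL' hH' σ P)

/-- The image of a secant line is a line. -/
theorem p4map_image_secant {l : Finset α} (hl : l ∈ L) {x y : α} (hx : x ∈ H) (hy : y ∈ H)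
    (hxy : x ≠ y) (hxl : x ∈ l) (hyl : y ∈ l) :
    l.image (p4map hα hL hH hβ hL' hH' σ) ∈ L' ∧
      σ.s x ∈ l.image (p4map hα hL hH hβ hL' hH' σ) := by
  have hne := σ.s_ne hx hy hxy
  obtain ⟨l', hl', hxl', hyl'⟩ := p4_exists_line hL' hne
  have hsub : l.image (p4map hα hL hH hβ hL' hH' σ) ⊆ l' := by
    intro P' hP'
    obtain ⟨P, hP, rfl⟩ := Finset.mem_image.mp hP'
    obtain ⟨m, hm, a1, a2, a3⟩ := p4map_spec hα hL hH hβ hL' hH' σ P x hx y hy hxy
      ⟨l, hl, hP, hxl, hyl⟩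
    have : m = l' := p4_line_unique hL' hne hm hl' a2 a3 hxl' hyl'
    exact this ▸ a1
  have heq : l.image (p4map hα hL hH hβ hL' hH' σ) = l' := by
    apply Finset.eq_of_subset_of_card_le hsub
    rw [Finset.card_image_of_injective _ (p4map_injective hα hL hH hβ hL' hH' σ), hL.1 l hl,
      hL'.1 l' hl']
  rw [heq]
  exact ⟨hl', hxl'⟩

/-- The line joining the images of two points of an exterior line is exterior. -/
theorem p4map_exterior_pair {l : Finset α} (hl : l ∈ L) (hlH : l ∩ H = ∅) {P Q : α} (hP : P ∈ l)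
    (hQ : Q ∈ l) (hPQ : P ≠ Q) {l' : Finset β} (hl' : l' ∈ L')
    (hPl' : p4map hα hL hH hβ hL' hH' σ P ∈ l') (hQl' : p4map hα hL hH hβ hL' hH' σ Q ∈ l') :
    l' ∩ H' = ∅ := by
  rcases p4hov_inter_empty_or_card hβ hL' hH' hl' with h | h
  · exact h
  exfalso
  obtain ⟨x', hx', y', hy', hxy'⟩ := Finset.one_lt_card.mp (by omega : 1 < (l' ∩ H').card)
  rw [Finset.mem_inter] at hx' hy'
  obtain ⟨hm, hxm⟩ := p4map_image_secant hβ hL' hH' hα hL hH σ.symm hl' hx'.2 hy'.2 hxy' hx'.1 hy'.1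
  set m := l'.image (p4map hβ hL' hH' hα hL hH σ.symm) with hmdef
  have hPm : P ∈ m := by
    rw [hmdef, Finset.mem_image]
    exact ⟨_, hPl', p4map_symm_p4map hα hL hH hβ hL' hH' σ P⟩
  have hQm : Q ∈ m := by
    rw [hmdef, Finset.mem_image]
    exact ⟨_, hQl', p4map_symm_p4map hα hL hH hβ hL' hH' σ Q⟩
  have hml : m = l := p4_line_unique hL hPQ hm hl hPm hQm hP hQ
  have hmem : σ.symm.s x' ∈ l ∩ H := by
    rw [Finset.mem_inter]
    exact ⟨hml ▸ hxm, σ.ht x' hx'.2⟩
  rw [hlH] at hmem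
  simp at hmem

/-- The image of an exterior line is a line. -/
theorem p4map_image_exterior {l : Finset α} (hl : l ∈ L) (hlH : l ∩ H = ∅) :
    l.image (p4map hα hL hH hβ hL' hH' σ) ∈ L' := by
  set e := p4map hα hL hH hβ hL' hH' σ with he
  have hinj : Function.Injective e := p4map_injective hα hL hH hβ hL' hH' σ
  have hoff : ∀ P ∈ l, e P ∉ H' := by
    intro P hP
    apply p4map_not_mem
    intro hPH
    have : P ∈ l ∩ H := Finset.mem_inter.mpr ⟨hP, hPH⟩
    rw [hlH] at this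
    simp at this
  have h5 : l.card = 5 := hL.1 l hl
  obtain ⟨P1, hP1, P2, hP2, hP12⟩ := Finset.one_lt_card.mp (by omega : 1 < l.card)
  have hne12 : e P1 ≠ e P2 := fun h => hP12 (hinj h)
  obtain ⟨l', hl', h1l', h2l'⟩ := p4_exists_line hL' hne12
  have hl'ext : l' ∩ H' = ∅ :=
    p4map_exterior_pair hα hL hH hβ hL' hH' σ hl hlH hP1 hP2 hP12 hl' h1l' h2l'
  have hall : ∀ R ∈ l, e R ∈ l' := by
    intro R hR
    by_contra hRl'
    have hR1 : R ≠ P1 := by rintro rfl; exact hRl' h1l'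
    have hR2 : R ≠ P2 := by rintro rfl; exact hRl' h2l'
    -- a fourth point
    have hsub3 : ({P1, P2, R} : Finset α) ⊆ l := by
      intro w hw
      simp only [Finset.mem_insert, Finset.mem_singleton] at hw
      rcases hw with rfl | rfl | rfl <;> assumption
    have hc3 : ({P1, P2, R} : Finset α).card = 3 :=
      Finset.card_eq_three.mpr ⟨P1, P2, R, hP12, Ne.symm hR1, Ne.symm hR2, rfl⟩
    have hc2 : (l \ {P1, P2, R}).card = 2 := by
      rw [Finset.card_sdiff_of_subset hsub3, h5, hc3]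
    obtain ⟨S, hS⟩ := Finset.card_pos.mp (by omega : 0 < (l \ {P1, P2, R}).card)
    simp only [Finset.mem_sdiff, Finset.mem_insert, Finset.mem_singleton, not_or] at hS
    obtain ⟨hSl, hS1, hS2, hSR⟩ := hS
    -- the lines
    obtain ⟨m1, hm1, a1, a2⟩ := p4_exists_line hL' (fun h => hR1 (hinj h).symm : e P1 ≠ e R)
    obtain ⟨m2, hm2, b1, b2⟩ := p4_exists_line hL' (fun h => hR2 (hinj h).symm : e P2 ≠ e R)
    obtain ⟨n1, hn1, c1, c2⟩ := p4_exists_line hL' (fun h => hS1 (hinj h) : e S ≠ e P1)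
    obtain ⟨n2, hn2, d1, d2⟩ := p4_exists_line hL' (fun h => hS2 (hinj h) : e S ≠ e P2)
    obtain ⟨n3, hn3, f1, f2⟩ := p4_exists_line hL' (fun h => hSR (hinj h) : e S ≠ e R)
    have hm1e := p4map_exterior_pair hα hL hH hβ hL' hH' σ hl hlH hP1 hR (Ne.symm hR1) hm1 a1 a2
    have hm2e := p4map_exterior_pair hα hL hH hβ hL' hH' σ hl hlH hP2 hR (Ne.symm hR2) hm2 b1 b2
    have hn1e := p4map_exterior_pair hα hL hH hβ hL' hH' σ hl hlH hSl hP1 hS1 hn1 c1 c2
    have hn2e := p4map_exterior_pair hα hL hH hβ hL' hH' σ hl hlH hSl hP2 hS2 hn2 d1 d2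
    have hn3e := p4map_exterior_pair hα hL hH hβ hL' hH' σ hl hlH hSl hR hSR hn3 f1 f2
    have hl'm1 : l' ≠ m1 := by rintro rfl; exact hRl' a2
    have hl'm2 : l' ≠ m2 := by rintro rfl; exact hRl' b2
    have hm12 : m1 ≠ m2 := by
      rintro rfl
      exact hl'm1 (p4_line_unique hL' hne12 hl' hm1 h1l' h2l' a1 b1)
    have t1 := p4hov_exterior_trichotomy hβ hL' hH' (hoff P1 hP1) hl' hm1 hn1 h1l' a1 c2
      hl'ext hm1e hn1e hl'm1
    have t2 := p4hov_exterior_trichotomy hβ hL' hH' (hoff P2 hP2) hl' hm2 hn2 h2l' b1 d2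
      hl'ext hm2e hn2e hl'm2
    have t3 := p4hov_exterior_trichotomy hβ hL' hH' (hoff R hR) hm1 hm2 hn3 a2 b2 f2
      hm1e hm2e hn3e hm12
    by_cases hSl' : e S ∈ l'
    · rcases t3 with rfl | rfl
      · -- e S ∈ l' ∩ m1 = {e P1}
        have : e S = e P1 := by
          by_contra hne
          exact hl'm1 (p4_line_unique hL' hne hl' hm1 hSl' h1l' f1 a1)
        exact hS1 (hinj this)
      · have : e S = e P2 := by
          by_contra hne
          exact hl'm2 (p4_line_unique hL' hne hl' hm2 hSl' h2l' f1 b1)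
        exact hS2 (hinj this)
    · have hn1m1 : n1 = m1 := by
        rcases t1 with rfl | rfl
        · exact absurd c1 hSl'
        · rfl
      have hn2m2 : n2 = m2 := by
        rcases t2 with rfl | rfl
        · exact absurd d1 hSl'
        · rfl
      subst hn1m1 hn2m2
      have : e S = e R := by
        by_contra hne
        exact hm12 (p4_line_unique hL' hne hn1 hn2 c1 a2 d1 b2)
      exact hSR (hinj this)
  have hsub : l.image e ⊆ l' := by
    intro P' hP'
    obtain ⟨P, hP, rfl⟩ := Finset.mem_image.mp hP'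
    exact hall P hP
  have heq : l.image e = l' := by
    apply Finset.eq_of_subset_of_card_le hsub
    rw [Finset.card_image_of_injective _ hinj, h5, hL'.1 l' hl']
  rw [heq]
  exact hl'

/-- The image of every line is a line. -/
theorem p4map_image_mem {l : Finset α} (hl : l ∈ L) :
    l.image (p4map hα hL hH hβ hL' hH' σ) ∈ L' := by
  rcases p4hov_inter_empty_or_card hα hL hH hl with h | h
  · exact p4map_image_exterior hα hL hH hβ hL' hH' σ hl h
  · obtain ⟨x, hx, y, hy, hxy⟩ := Finset.one_lt_card.mp (by omega : 1 < (l ∩ H).card)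
    rw [Finset.mem_inter] at hx hy
    exact (p4map_image_secant hα hL hH hβ hL' hH' σ hl hx.2 hy.2 hxy hx.1 hy.1).1

include hα hL hH hβ hL' hH' in
/-- A bijection between hyperovals of two planes of order 4 extends to an isomorphism of the
planes. -/
theorem p4_exists_equiv : ∃ e : α ≃ β, (∀ x ∈ H, e x = σ.s x) ∧
    (fun b : Finset α => b.image e) '' L = L' := by
  let e : α ≃ β :=
    { toFun := p4map hα hL hH hβ hL' hH' σ
      invFun := p4map hβ hL' hH' hα hL hH σ.symm
      left_inv := p4map_symm_p4map hα hL hH hβ hL' hH' σ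
      right_inv := p4map_symm_p4map hβ hL' hH' hα hL hH σ.symm }
  refine ⟨e, fun x hx => p4map_of_mem hα hL hH hβ hL' hH' σ hx, ?_⟩
  ext l'
  constructor
  · rintro ⟨l, hl, rfl⟩
    exact p4map_image_mem hα hL hH hβ hL' hH' σ hl
  · intro hl'
    refine ⟨l'.image (p4map hβ hL' hH' hα hL hH σ.symm),
      p4map_image_mem hβ hL' hH' hα hL hH σ.symm hl', ?_⟩
    show (l'.image (p4map hβ hL' hH' hα hL hH σ.symm)).image (p4map hα hL hH hβ hL' hH' σ) = l'
    rw [Finset.image_image]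
    have : (p4map hα hL hH hβ hL' hH' σ) ∘ (p4map hβ hL' hH' hα hL hH σ.symm) = id := by
      funext y
      exact p4map_symm_p4map hβ hL' hH' hα hL hH σ.symm y
    rw [this, Finset.image_id]

end Map

end Cfsg.Agent.Lib.Helper6
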