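import Mathlib
import Cfsg.Prelude.Def_Sporadic_a
import Cfsg.Agent.Lib.Helper6.Plane4Iso

/-!
# Existence of hyperovals, bijections between them, automorphisms (helper6)
-/

set_option autoImplicit false

namespace Cfsg.Agent.Lib.Helper6

open Finset Cfsg
open scoped Pointwise

universe u v

variable {α : Type u} {β : Type v} [Fintype α] [DecidableEq α] [Fintype β] [DecidableEq β]
  {L : Set (Finset α)} {L' : Set (Finset β)} {H : Finset α} {H' : Finset β}

/-- A plane of order 4 has a hyperoval. -/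
theorem p4_exists_hov (hα : Fintype.card α = 21) (hL : IsSteinerSystem 2 5 L) :
    ∃ H, P4Hov L H := by
  have h := p4_card_quadrangles hα hL
  have hne : {S : Finset α | S.card = 4 ∧ ∀ l ∈ L, (l ∩ S).card ≤ 2}.Nonempty := by
    rw [Set.nonempty_iff_ne_empty]
    intro h0
    rw [h0, Set.ncard_empty] at h
    norm_num at h
  obtain ⟨S, hS4, hind⟩ := hne
  exact ⟨S ∪ p4Ext L S, p4_card_union_ext hα hL hS4 hind, p4_indep_union_ext hα hL hS4 hind⟩

omit [Fintype α] [DecidableEq α] [Fintype β] [DecidableEq β] in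
/-- A bijection between two finsets as a pair of mutually inverse functions. -/
theorem exists_hovBij_of_equiv [Nonempty α] [Nonempty β] (e0 : ↥H ≃ ↥H') :
    ∃ σ : HovBij H H', ∀ p : ↥H, σ.s (p : α) = (e0 p : β) := by
  classical
  obtain ⟨a0⟩ := ‹Nonempty α›
  obtain ⟨b0⟩ := ‹Nonempty β›
  refine ⟨⟨fun x => if hx : x ∈ H then ((e0 ⟨x, hx⟩ : ↥H') : β) else b0,
    fun y => if hy : y ∈ H' then ((e0.symm ⟨y, hy⟩ : ↥H) : α) else a0, ?_, ?_, ?_, ?_⟩, ?_⟩
  · intro x hx
    simp only [dif_pos hx]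
    exact (e0 ⟨x, hx⟩).2
  · intro y hy
    simp only [dif_pos hy]
    exact (e0.symm ⟨y, hy⟩).2
  · intro x hx
    simp only [dif_pos hx, (e0 ⟨x, hx⟩).2, Subtype.coe_eta, Equiv.symm_apply_apply, dite_true]
  · intro y hy
    simp only [dif_pos hy, (e0.symm ⟨y, hy⟩).2, Subtype.coe_eta, Equiv.apply_symm_apply, dite_true]
  · intro p
    simp only [dif_pos p.2, Subtype.coe_eta]

omit [Fintype α] in
/-- Membership in the automorphism group in terms of images of blocks. -/
theorem mem_setSystemAut_iff (g : Equiv.Perm α) :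
    g ∈ setSystemAut L ↔ (fun b : Finset α => b.image g) '' L = L := by
  rw [MulAction.mem_stabilizer_iff]
  have : g • L = (fun b : Finset α => b.image g) '' L := by
    ext b
    simp only [Set.mem_smul_set, Set.mem_image]
    constructor
    · rintro ⟨c, hc, rfl⟩
      exact ⟨c, hc, rfl⟩
    · rintro ⟨c, hc, rfl⟩
      exact ⟨c, hc, rfl⟩
  rw [this]

end Cfsg.Agent.Lib.Helper6
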