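import Mathlib

set_option autoImplicit false
set_option linter.style.haveILetI false

namespace Cfsg.Agent.Lib.Helper6


section FF

variable {C : Type*} [Field C] [Finite C]

theorem ff_pow_card {f : ℕ} (hcard : Nat.card C = 2 ^ f) (r : C) : r ^ (2 ^ f) = r := by
  have := Fintype.ofFinite C
  rw [← hcard, Nat.card_eq_fintype_card]
  exact FiniteField.pow_card r

theorem ff_exists_generator {f : ℕ} (hcard : Nat.card C = 2 ^ f) :
    ∃ ζ : Cˣ, orderOf ζ = 2 ^ f - 1 := by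
  obtain ⟨ζ, hζ⟩ := IsCyclic.exists_generator (α := Cˣ)
  refine ⟨ζ, ?_⟩
  rw [orderOf_eq_card_of_forall_mem_zpowers hζ, Nat.card_units, hcard]

theorem ff_exists_moved {f d : ℕ} (hcard : Nat.card C = 2 ^ f) (hd0 : 0 < d) (hdf : d < f) :
    ∃ r : C, r ^ (2 ^ d) ≠ r := by
  obtain ⟨ζ, hζ⟩ := ff_exists_generator hcard
  refine ⟨(ζ : C), fun h => ?_⟩
  have h1 : ζ ^ (2 ^ d - 1) = 1 := by
    apply Units.ext
    have h2 : (ζ : C) ^ (2 ^ d - 1) * ζ = 1 * ζ := by
      rw [← pow_succ, Nat.sub_add_cancel Nat.one_le_two_pow, h, one_mul]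
    have := mul_right_cancel₀ ζ.ne_zero h2
    simpa using this
  have h3 := orderOf_dvd_of_pow_eq_one h1
  rw [hζ] at h3
  have h4 : 2 ^ d < 2 ^ f := Nat.pow_lt_pow_right (by norm_num) hdf
  have h5 : 2 ≤ 2 ^ d := by
    calc 2 = 2 ^ 1 := by norm_num
      _ ≤ 2 ^ d := Nat.pow_le_pow_right (by norm_num) hd0
  have h6 := Nat.le_of_dvd (by omega) h3
  omega

theorem ff_exists_fixed {f d : ℕ} (hcard : Nat.card C = 2 ^ f) (hd2 : 2 ≤ d) (hdf : d < f)
    (hdvd : d ∣ f) : ∃ x : C, x ≠ 0 ∧ x ≠ 1 ∧ x ^ (2 ^ d) = x := by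
  obtain ⟨ζ, hζ⟩ := ff_exists_generator hcard
  obtain ⟨t, rfl⟩ := hdvd
  have hdiv : 2 ^ d - 1 ∣ 2 ^ (d * t) - 1 := by
    have := Nat.sub_dvd_pow_sub_pow (2 ^ d) 1 t
    rwa [one_pow, ← pow_mul] at this
  obtain ⟨e, he⟩ := hdiv
  have h4 : 2 ^ d < 2 ^ (d * t) := Nat.pow_lt_pow_right (by norm_num) hdf
  have h5 : 4 ≤ 2 ^ d := by
    calc 4 = 2 ^ 2 := by norm_num
      _ ≤ 2 ^ d := Nat.pow_le_pow_right (by norm_num) hd2
  have he0 : 0 < e := by
    rcases Nat.eq_zero_or_pos e with h | h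
    · rw [h, mul_zero] at he; omega
    · exact h
  have helt : e < 2 ^ (d * t) - 1 := by
    rw [he]
    have : 1 < 2 ^ d - 1 := by omega
    nlinarith
  have hx1 : ζ ^ e ≠ 1 := by
    apply pow_ne_one_of_lt_orderOf he0.ne'
    rw [hζ]; exact helt
  have hx2 : (ζ ^ e) ^ (2 ^ d - 1) = 1 := by
    rw [← pow_mul, mul_comm, ← he, ← hζ, pow_orderOf_eq_one]
  refine ⟨((ζ ^ e : Cˣ) : C), (ζ ^ e).ne_zero, fun h => hx1 (Units.ext h), ?_⟩
  have : 2 ^ d = (2 ^ d - 1) + 1 := by omega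
  rw [this, pow_succ, ← Units.val_pow_eq_pow_val, hx2, Units.val_one, one_mul]

omit [Finite C] in
theorem ff_pow_two_pow_mul {d : ℕ} {x : C} (hx : x ^ (2 ^ d) = x) (t : ℕ) :
    x ^ (2 ^ (d * t)) = x := by
  induction t with
  | zero => simp
  | succ t ih => rw [Nat.mul_succ, pow_add, pow_mul, ih, hx]

theorem ff_pow_two_pow_mod {f : ℕ} (hcard : Nat.card C = 2 ^ f) (x : C) (a : ℕ) :
    x ^ (2 ^ a) = x ^ (2 ^ (a % f)) := by
  conv_lhs => rw [← Nat.mod_add_div a f]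
  rw [pow_add, pow_mul]
  exact ff_pow_two_pow_mul (ff_pow_card hcard _) _

end FF


section SingerField

variable {X V : Type*} [Group X] [AddCommGroup V] [DistribMulAction X V]

/-- the representation `X →* End V` -/
def sgRho (X V : Type*) [Group X] [AddCommGroup V] [DistribMulAction X V] :
    X →* AddMonoid.End V := DistribMulAction.toAddMonoidEnd X V

theorem sgRho_apply (x : X) (v : V) : sgRho X V x v = x • v := rfl

/-- the centraliser ring of `K` -/
def sgC (V : Type*) [AddCommGroup V] [DistribMulAction X V] (K : Subgroup X) :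
    Subring (AddMonoid.End V) := Subring.centralizer (sgRho X V '' (K : Set X))

theorem mem_sgC {K : Subgroup X} {r : AddMonoid.End V} :
    r ∈ sgC V K ↔ ∀ k ∈ K, ∀ v : V, k • r v = r (k • v) := by
  unfold sgC
  rw [Subring.mem_centralizer_iff]
  constructor
  · intro h k hk v
    have := h (sgRho X V k) ⟨k, hk, rfl⟩
    exact DFunLike.congr_fun this v
  · rintro h _ ⟨k, hk, rfl⟩
    ext v
    exact h k hk v

theorem sgRho_mem_sgC {K : Subgroup X} (hKcomm : ∀ x ∈ K, ∀ y ∈ K, x * y = y * x) {k : X}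
    (hk : k ∈ K) : sgRho X V k ∈ sgC V K := by
  rw [mem_sgC]
  intro k' hk' v
  rw [sgRho_apply, sgRho_apply, ← mul_smul, ← mul_smul, hKcomm k' hk' k hk]

/-- kernel lemma -/
theorem sgC_eq_zero {K : Subgroup X}
    (hKtrans : ∀ v w : V, v ≠ 0 → w ≠ 0 → ∃ k ∈ K, k • v = w)
    {r : AddMonoid.End V} (hr : r ∈ sgC V K) {v : V} (hv : v ≠ 0) (hrv : r v = 0) : r = 0 := by
  ext w
  by_cases hw : w = 0
  · rw [hw, map_zero, map_zero]
  · obtain ⟨k, hk, rfl⟩ := hKtrans v w hv hw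
    rw [← (mem_sgC.mp hr) k hk v, hrv, smul_zero]
    rfl

theorem sgC_eq_zero_or_rho {K : Subgroup X} (hKcomm : ∀ x ∈ K, ∀ y ∈ K, x * y = y * x)
    (hKtrans : ∀ v w : V, v ≠ 0 → w ≠ 0 → ∃ k ∈ K, k • v = w) {v0 : V} (hv0 : v0 ≠ 0)
    {r : AddMonoid.End V} (hr : r ∈ sgC V K) : r = 0 ∨ ∃ k ∈ K, r = sgRho X V k := by
  by_cases h : r v0 = 0
  · exact Or.inl (sgC_eq_zero hKtrans hr hv0 h)
  · right
    obtain ⟨k, hk, hkv⟩ := hKtrans v0 (r v0) hv0 h
    refine ⟨k, hk, ?_⟩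
    have hmem : r - sgRho X V k ∈ sgC V K := (sgC V K).sub_mem hr (sgRho_mem_sgC hKcomm hk)
    have h0 : (r - sgRho X V k) v0 = 0 := by
      show r v0 - sgRho X V k v0 = 0
      rw [sgRho_apply, hkv, sub_self]
    exact sub_eq_zero.mp (sgC_eq_zero hKtrans hmem hv0 h0)

/-- the centraliser ring is commutative -/
@[reducible] def sgCommRing {K : Subgroup X} (hKcomm : ∀ x ∈ K, ∀ y ∈ K, x * y = y * x)
    (hKtrans : ∀ v w : V, v ≠ 0 → w ≠ 0 → ∃ k ∈ K, k • v = w) {v0 : V} (hv0 : v0 ≠ 0) :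
    CommRing (sgC V K) :=
  { (sgC V K).toRing with
    mul_comm := fun a b => by
      apply Subtype.ext
      show (a : AddMonoid.End V) * b = b * a
      rcases sgC_eq_zero_or_rho hKcomm hKtrans hv0 b.2 with h | ⟨k, hk, h⟩
      · rw [h, mul_zero, zero_mul]
      · rw [h]
        exact ((Subring.mem_centralizer_iff.mp a.2) _ ⟨k, hk, rfl⟩).symm }

theorem sgC_mul_eq_zero {K : Subgroup X}
    (hKtrans : ∀ v w : V, v ≠ 0 → w ≠ 0 → ∃ k ∈ K, k • v = w) {v0 : V} (hv0 : v0 ≠ 0)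
    {r s : AddMonoid.End V} (hr : r ∈ sgC V K) (hs : s ∈ sgC V K) (h : r * s = 0) :
    r = 0 ∨ s = 0 := by
  by_cases hs0 : s v0 = 0
  · exact Or.inr (sgC_eq_zero hKtrans hs hv0 hs0)
  · left
    apply sgC_eq_zero hKtrans hr hs0
    have := DFunLike.congr_fun h v0
    simpa using this


theorem card_eq_two_pow_prime_of_singer [Finite V]
    (hV2 : ∀ v : V, v + v = 0)
    (K : Subgroup X)
    (hKcomm : ∀ x ∈ K, ∀ y ∈ K, x * y = y * x)
    (hKtrans : ∀ v w : V, v ≠ 0 → w ≠ 0 → ∃ k ∈ K, k • v = w)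
    (h : X) (hhK : ∀ k, k ∈ K ↔ h * k * h⁻¹ ∈ K)
    (v0 : V) (hv0 : v0 ≠ 0) (hh0 : h • v0 = v0)
    (hfix : ∀ j : ℕ, h ^ j ≠ 1 → ∀ v : V, h ^ j • v = v → v = 0 ∨ v = v0)
    (hh1 : h ≠ 1) (hw : ∃ w : V, w ≠ 0 ∧ w ≠ v0) :
    ∃ p : ℕ, p.Prime ∧ Nat.card V = 2 ^ p := by
  classical
  letI : CommRing (sgC V K) := sgCommRing hKcomm hKtrans hv0
  haveI : Nontrivial (sgC V K) := ⟨⟨0, 1, fun h01 => by
    have h1 : ((0 : sgC V K) : AddMonoid.End V) v0 = ((1 : sgC V K) : AddMonoid.End V) v0 := by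
      rw [h01]
    exact hv0 h1.symm⟩⟩
  haveI : NoZeroDivisors (sgC V K) := ⟨fun {a b} hab => by
    have h1 : (a : AddMonoid.End V) * b = 0 := congrArg Subtype.val hab
    rcases sgC_mul_eq_zero hKtrans hv0 a.2 b.2 h1 with h2 | h2
    · exact Or.inl (Subtype.ext h2)
    · exact Or.inr (Subtype.ext h2)⟩
  haveI : IsDomain (sgC V K) := NoZeroDivisors.to_isDomain _
  haveI : Finite (AddMonoid.End V) := DFunLike.finite (V →+ V)
  haveI : Finite (sgC V K) := Subtype.finite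
  letI : Fintype (sgC V K) := Fintype.ofFinite _
  letI : Field (sgC V K) := Fintype.fieldOfDomain _
  -- evaluation
  have hevinj : ∀ r s : sgC V K, (r : AddMonoid.End V) v0 = (s : AddMonoid.End V) v0 → r = s := by
    intro r s hrs
    have hmem : (r : AddMonoid.End V) - s ∈ sgC V K := (sgC V K).sub_mem r.2 s.2
    have h0 : ((r : AddMonoid.End V) - s) v0 = 0 := by
      show (r : AddMonoid.End V) v0 - (s : AddMonoid.End V) v0 = 0
      rw [hrs, sub_self]
    exact Subtype.ext (sub_eq_zero.mp (sgC_eq_zero hKtrans hmem hv0 h0))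
  have hevsurj : ∀ w : V, ∃ r : sgC V K, (r : AddMonoid.End V) v0 = w := by
    intro w
    by_cases hw0 : w = 0
    · exact ⟨0, by rw [hw0]; rfl⟩
    · obtain ⟨k, hk, hkw⟩ := hKtrans v0 w hv0 hw0
      exact ⟨⟨sgRho X V k, sgRho_mem_sgC hKcomm hk⟩, hkw⟩
  have hcardVC : Nat.card V = Nat.card (sgC V K) := by
    symm
    apply Nat.card_congr
    exact Equiv.ofBijective (fun r : sgC V K => (r : AddMonoid.End V) v0)
      ⟨fun r s hrs => hevinj r s hrs, hevsurj⟩
  -- characteristic two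
  haveI : Fact (Nat.Prime 2) := ⟨Nat.prime_two⟩
  have h2C : (2 : sgC V K) = 0 := by
    rw [← one_add_one_eq_two]
    apply Subtype.ext
    ext v
    show v + v = 0
    exact hV2 v
  haveI : CharP (sgC V K) 2 := CharTwo.of_one_ne_zero_of_two_eq_zero one_ne_zero h2C
  letI : Algebra (ZMod 2) (sgC V K) := ZMod.algebra _ 2
  -- conjugation by `h`
  have hh0' : h⁻¹ • v0 = v0 := by rw [inv_smul_eq_iff, hh0]
  have hcjmem : ∀ r : AddMonoid.End V, r ∈ sgC V K →
      sgRho X V h * r * sgRho X V h⁻¹ ∈ sgC V K := by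
    intro r hr
    rw [mem_sgC] at hr ⊢
    intro k hk v
    show k • h • r (h⁻¹ • v) = h • r (h⁻¹ • k • v)
    have hk' : h⁻¹ * k * h ∈ K := by
      rw [hhK]
      have : h * (h⁻¹ * k * h) * h⁻¹ = k := by group
      rw [this]; exact hk
    have h1 := hr _ hk' (h⁻¹ • v)
    have h2 : (h⁻¹ * k * h) • h⁻¹ • v = h⁻¹ • k • v := by
      rw [← mul_smul, ← mul_smul]
      congr 1
      group
    rw [h2] at h1
    rw [← h1, ← mul_smul, ← mul_smul]
    congr 1
    group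
  have hρinv : sgRho X V h⁻¹ * sgRho X V h = 1 := by
    rw [← map_mul, inv_mul_cancel, map_one]
  let cj : sgC V K →+* sgC V K :=
    { toFun := fun r => ⟨sgRho X V h * r * sgRho X V h⁻¹, hcjmem r r.2⟩
      map_one' := by
        apply Subtype.ext
        show sgRho X V h * 1 * sgRho X V h⁻¹ = 1
        rw [mul_one, ← map_mul, mul_inv_cancel, map_one]
      map_mul' := fun a b => by
        apply Subtype.ext
        show sgRho X V h * ((a : AddMonoid.End V) * b) * sgRho X V h⁻¹ =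
          (sgRho X V h * a * sgRho X V h⁻¹) * (sgRho X V h * b * sgRho X V h⁻¹)
        calc sgRho X V h * ((a : AddMonoid.End V) * b) * sgRho X V h⁻¹
            = sgRho X V h * a * 1 * b * sgRho X V h⁻¹ := by simp only [mul_one, mul_assoc]
          _ = _ := by rw [← hρinv]; simp only [mul_assoc]
      map_zero' := by
        apply Subtype.ext
        show sgRho X V h * 0 * sgRho X V h⁻¹ = 0
        rw [mul_zero, zero_mul]
      map_add' := fun a b => by
        apply Subtype.ext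
        show sgRho X V h * ((a : AddMonoid.End V) + b) * sgRho X V h⁻¹ =
          (sgRho X V h * a * sgRho X V h⁻¹) + (sgRho X V h * b * sgRho X V h⁻¹)
        rw [mul_add, add_mul] }
  have hcjval : ∀ r : sgC V K, ((cj r : sgC V K) : AddMonoid.End V) =
      sgRho X V h * r * sgRho X V h⁻¹ := fun r => rfl
  let cjA : sgC V K →ₐ[ZMod 2] sgC V K :=
    { cj with
      commutes' := fun x => RingHom.congr_fun
        (Subsingleton.elim (cj.comp (algebraMap (ZMod 2) (sgC V K)))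
          (algebraMap (ZMod 2) (sgC V K))) x }
  obtain ⟨n, hn⟩ := (FiniteField.bijective_frobeniusAlgHom_pow (ZMod 2) (sgC V K)).2 cjA
  have hcj : ∀ r : sgC V K, cj r = r ^ (2 ^ n.1) := by
    intro r
    have h1 := DFunLike.congr_fun hn r
    simp only [] at h1
    rw [AlgHom.coe_pow, FiniteField.coe_frobeniusAlgHom, pow_iterate, ZMod.card] at h1
    exact h1.symm
  obtain ⟨f, hfdef⟩ : ∃ f, f = Module.finrank (ZMod 2) (sgC V K) := ⟨_, rfl⟩
  have hnf : n.1 < f := hfdef ▸ n.2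
  have hcardC : Nat.card (sgC V K) = 2 ^ f := by
    rw [Module.natCard_eq_pow_finrank (K := ZMod 2), Nat.card_zmod, hfdef]
  -- iterate
  have hh0j : ∀ j : ℕ, h ^ j • v0 = v0 := by
    intro j
    induction j with
    | zero => simp
    | succ j ih => rw [pow_succ, mul_smul, hh0, ih]
  have hcjpow : ∀ (j : ℕ) (r : sgC V K), ((r ^ (2 ^ (n.1 * j)) : sgC V K) : AddMonoid.End V) =
      sgRho X V (h ^ j) * r * sgRho X V (h ^ j)⁻¹ := by
    intro j
    induction j with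
    | zero => intro r; simp
    | succ j ih =>
      intro r
      rw [Nat.mul_succ, pow_add, pow_mul, ← hcj, hcjval, ih, pow_succ', mul_inv_rev, map_mul,
        map_mul]
      simp only [mul_assoc]
  have hfixC : ∀ j : ℕ, h ^ j ≠ 1 → ∀ r : sgC V K, r ^ (2 ^ (n.1 * j)) = r → r = 0 ∨ r = 1 := by
    intro j hj r hr
    have h1 := hcjpow j r
    rw [hr] at h1
    have hinv : (h ^ j)⁻¹ • v0 = v0 := by rw [inv_smul_eq_iff, hh0j]
    have h2 : (r : AddMonoid.End V) v0 = h ^ j • (r : AddMonoid.End V) v0 := by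
      have h3 := DFunLike.congr_fun h1 v0
      calc (r : AddMonoid.End V) v0 = (sgRho X V (h ^ j) * r * sgRho X V (h ^ j)⁻¹) v0 := h3
        _ = h ^ j • (r : AddMonoid.End V) ((h ^ j)⁻¹ • v0) := rfl
        _ = _ := by rw [hinv]
    rcases hfix j hj _ h2.symm with h3 | h3
    · left; exact hevinj r 0 (by rw [h3]; rfl)
    · right; exact hevinj r 1 (by rw [h3]; rfl)
  have hh1' : h ^ 1 ≠ 1 := by rwa [pow_one]
  have hn0 : 0 < n.1 := by
    rcases Nat.eq_zero_or_pos n.1 with h0 | h0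
    · exfalso
      obtain ⟨w, hw0, hwv⟩ := hw
      obtain ⟨r, hr⟩ := hevsurj w
      rcases hfixC 1 hh1' r (by rw [h0, zero_mul, pow_zero, pow_one]) with h3 | h3
      · apply hw0; rw [← hr, h3]; rfl
      · apply hwv; rw [← hr, h3]; rfl
    · exact h0
  have hcop : Nat.Coprime n.1 f := by
    by_contra hg
    obtain ⟨g, hgdef⟩ : ∃ g, g = Nat.gcd n.1 f := ⟨_, rfl⟩
    have hgn : g ∣ n.1 := hgdef ▸ Nat.gcd_dvd_left _ _
    have hgf' : g ∣ f := hgdef ▸ Nat.gcd_dvd_right _ _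
    have hg1 : g ≠ 1 := fun h1 => hg (by rw [Nat.coprime_iff_gcd_eq_one, ← hgdef, h1])
    have hg0 : g ≠ 0 := fun h0 => by
      rw [h0, zero_dvd_iff] at hgn; omega
    have hg2 : 2 ≤ g := by omega
    have hgf : g < f := lt_of_le_of_lt (Nat.le_of_dvd hn0 hgn) hnf
    obtain ⟨x, hx0, hx1, hxg⟩ := ff_exists_fixed hcardC hg2 hgf hgf'
    obtain ⟨t, ht⟩ := hgn
    have hx' : x ^ (2 ^ (n.1 * 1)) = x := by
      rw [mul_one, ht]; exact ff_pow_two_pow_mul hxg t
    rcases hfixC 1 hh1' x hx' with h3 | h3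
    · exact hx0 h3
    · exact hx1 h3
  have hf2 : 2 ≤ f := by omega
  refine ⟨f, ?_, by rw [hcardVC, hcardC]⟩
  by_contra hnp
  obtain ⟨d, hdvd, hd2, hdf⟩ : ∃ d, d ∣ f ∧ 2 ≤ d ∧ d < f :=
    (Nat.not_prime_iff_exists_dvd_lt hf2).mp hnp
  obtain ⟨x, hx0, hx1, hxd⟩ := ff_exists_fixed hcardC hd2 hdf hdvd
  obtain ⟨m, -, hm⟩ := Nat.exists_mul_mod_eq_of_coprime d hcop (by omega : f ≠ 0)
  have hmd : n.1 * m % f = d := by rw [hm, Nat.mod_eq_of_lt hdf]
  have hhm : h ^ m ≠ 1 := by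
    intro hm1
    obtain ⟨r, hr⟩ := ff_exists_moved hcardC (by omega : 0 < d) hdf
    apply hr
    have h1 := hcjpow m r
    rw [hm1, inv_one, map_one, one_mul, mul_one] at h1
    have h2 : r ^ (2 ^ (n.1 * m)) = r := Subtype.ext h1
    rw [ff_pow_two_pow_mod hcardC, hmd] at h2
    exact h2
  have hx' : x ^ (2 ^ (n.1 * m)) = x := by
    rw [ff_pow_two_pow_mod hcardC, hmd]; exact hxd
  rcases hfixC m hhm x hx' with h3 | h3
  · exact hx0 h3
  · exact hx1 h3

end SingerField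

end Cfsg.Agent.Lib.Helper6
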