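import Mathlib
import Cfsg.Agent.Lib.Helper32.SLMD.Defs2

/-!
# SLMD-[G-IRRISO] (helper6): an irreducible representation stays irreducible after composing
with a group isomorphism
-/

set_option autoImplicit false
set_option linter.unusedSectionVars false
set_option linter.unusedVariables false

namespace Cfsg.Agent.Lib.Helper6.SLMD

/-- subrepresentations of `ρ ∘ e` and of `ρ` are the same thing -/
def subrepCompEquiv {G : Type*} [Group G] {G' : Type*} [Group G']
    {V : Type*} [AddCommGroup V] [Module ℂ V] (e : G' ≃* G) (ρ : Representation ℂ G V) :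
    Subrepresentation (MonoidHom.comp ρ e.toMonoidHom : Representation ℂ G' V) ≃o
      Subrepresentation ρ where
  toFun S := ⟨S.toSubmodule, fun g v hv => by
    have := S.apply_mem_toSubmodule (e.symm g) hv
    simpa using this⟩
  invFun S := ⟨S.toSubmodule, fun g v hv => by
    have := S.apply_mem_toSubmodule (e g) hv
    simpa using this⟩
  left_inv S := rfl
  right_inv S := rfl
  map_rel_iff' := Iff.rfl

end Cfsg.Agent.Lib.Helper6.SLMD

namespace Cfsg.Agent.Lib.Helper32.SLMD

open Matrix Cfsg.Agent.Lib.Helper41 Cfsg.Agent.Lib.Helper39 Module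
open scoped LinearAlgebra.Projectivization

/-- [G-IRRISO] -/
theorem isIrreducible_comp_mulEquiv {G : Type*} [Group G] {G' : Type*} [Group G']
    {V : Type*} [AddCommGroup V] [Module ℂ V] (e : G' ≃* G) (ρ : Representation ℂ G V)
    (hρ : ρ.IsIrreducible) :
    Representation.IsIrreducible (MonoidHom.comp ρ e.toMonoidHom : Representation ℂ G' V) :=
  (OrderIso.isSimpleOrder_iff (Cfsg.Agent.Lib.Helper6.SLMD.subrepCompEquiv e ρ)).mpr hρ

end Cfsg.Agent.Lib.Helper32.SLMD
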