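import Mathlib
import Cfsg.Agent.Lib.Helper6.Steiner

/-!
# Steiner systems: blocks meeting a fixed block in a prescribed subset (helper6)
-/

set_option autoImplicit false

namespace Cfsg.Agent.Lib.Helper6

open Finset Cfsg

variable {α : Type*} [Fintype α] [DecidableEq α]

/-- the blocks `c` with `b ∩ c = t`. -/
noncomputable def exactBlocks (B : Set (Finset α)) (b t : Finset α) : Finset (Finset α) :=
  (blocksOf B).filter (fun c => b ∩ c = t)

theorem mem_exactBlocks {B : Set (Finset α)} {b t c : Finset α} :
    c ∈ exactBlocks B b t ↔ c ∈ B ∧ b ∩ c = t := by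
  simp [exactBlocks, mem_blocksOf]

theorem ncard_exact_eq (B : Set (Finset α)) (b t : Finset α) :
    {c : Finset α | c ∈ B ∧ b ∩ c = t}.ncard = (exactBlocks B b t).card := by
  rw [← Set.ncard_coe_finset]
  congr 1
  ext c
  simp [mem_exactBlocks]

/-- Partition of the blocks through `s ⊆ b` according to their intersection with `b`. -/
theorem card_blocksThrough_eq_sum_exact (B : Set (Finset α)) {b s : Finset α} (hs : s ⊆ b) :
    (blocksThrough B s).card =
      ∑ t ∈ b.powerset.filter (fun t => s ⊆ t), (exactBlocks B b t).card := by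
  rw [Finset.card_eq_sum_card_fiberwise (f := fun c => b ∩ c) (s := blocksThrough B s)
    (t := b.powerset.filter (fun t => s ⊆ t))]
  · apply Finset.sum_congr rfl
    intro t ht
    rw [Finset.mem_filter, Finset.mem_powerset] at ht
    congr 1
    ext c
    simp only [Finset.mem_filter, mem_blocksThrough, mem_exactBlocks]
    constructor
    · rintro ⟨⟨h1, _⟩, h3⟩
      exact ⟨h1, h3⟩
    · rintro ⟨h1, h3⟩
      refine ⟨⟨h1, ?_⟩, h3⟩
      rw [← h3] at ht
      exact ht.2.trans Finset.inter_subset_right
  · intro c hc
    rw [Finset.mem_coe, mem_blocksThrough] at hc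
    simp only [Finset.mem_coe, Finset.mem_filter, Finset.mem_powerset]
    exact ⟨Finset.inter_subset_left, Finset.subset_inter hs hc.2⟩

/-- Summation over the sets between `s` and `b` of a function of the cardinality. -/
theorem sum_between_eq (b s : Finset α) (hs : s ⊆ b) (f : Finset α → ℕ) (g : ℕ → ℕ)
    (hf : ∀ t, s ⊆ t → t ⊆ b → f t = g t.card) :
    ∑ t ∈ b.powerset.filter (fun t => s ⊆ t), f t =
      ∑ j ∈ Finset.range ((b \ s).card + 1), (b \ s).card.choose j * g (s.card + j) := by
  have h1 : ∑ t ∈ b.powerset.filter (fun t => s ⊆ t), f t =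
      ∑ u ∈ (b \ s).powerset, g (s.card + u.card) := by
    apply Finset.sum_bij' (fun t _ => t \ s) (fun u _ => s ∪ u)
    · intro t ht
      rw [Finset.mem_filter, Finset.mem_powerset] at ht
      rw [Finset.mem_powerset]
      exact Finset.sdiff_subset_sdiff ht.1 (le_refl s)
    · intro u hu
      rw [Finset.mem_powerset] at hu
      rw [Finset.mem_filter, Finset.mem_powerset]
      exact ⟨Finset.union_subset hs (hu.trans Finset.sdiff_subset), Finset.subset_union_left⟩
    · intro t ht
      rw [Finset.mem_filter, Finset.mem_powerset] at ht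
      exact Finset.union_sdiff_of_subset ht.2
    · intro u hu
      rw [Finset.mem_powerset] at hu
      have hdisj : Disjoint u s := (Finset.disjoint_of_subset_left hu Finset.sdiff_disjoint)
      rw [Finset.union_sdiff_left, Finset.sdiff_eq_self_of_disjoint hdisj]
    · intro t ht
      rw [Finset.mem_filter, Finset.mem_powerset] at ht
      rw [hf t ht.2 ht.1, Finset.card_sdiff_of_subset ht.2]
      congr 1
      have := Finset.card_le_card ht.2
      omega
  rw [h1]
  have h2 := Finset.sum_powerset_apply_card (fun j => g (s.card + j)) (x := b \ s)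
  rw [h2]
  apply Finset.sum_congr rfl
  intro j _
  rw [smul_eq_mul]

end Cfsg.Agent.Lib.Helper6
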