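import Mathlib
import Cfsg.Agent.Lib.Helper6.SuzOrd3

/-!
# Suzuki's order theorem, module 4: the block `Δ = {a} ∪ Z(U) b` and its stabiliser (helper6)

Case I: some involution `τ` moving `a` to `b` has its fixed point in `Z(U) b`.  Then
`Δ = {a} ∪ Z(U) b` is invariant under `Z(U)`, `G_{ab}` and `τ`, and its setwise stabiliser `X`
is 2-transitive on `Δ` and contains the stabiliser in `G` of any two points of `Δ`.
-/

set_option autoImplicit false
set_option linter.unusedSectionVars false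
set_option linter.style.haveILetI false

namespace Cfsg.Agent.Lib.Helper6.SuzOrd

open MulAction Cfsg.Agent.Lib.Helper6 Cfsg.Agent.Lib.Helper25.ZassInv

/-- the block -/
def blk {G Ω : Type*} [Group G] [MulAction G Ω] (a : Ω) (U : Subgroup G) (b : Ω) : Set Ω :=
  {p | p = a ∨ ∃ z ∈ cen U, p = z • b}

/-- the setwise stabiliser of the block -/
def blkStab {G Ω : Type*} [Group G] [MulAction G Ω] (a : Ω) (U : Subgroup G) (b : Ω) :
    Subgroup G where
  carrier := {g | (∀ p ∈ blk a U b, g • p ∈ blk a U b) ∧ (∀ p ∈ blk a U b, g⁻¹ • p ∈ blk a U b)}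
  one_mem' := by
    constructor
    · intro p hp
      rwa [one_smul]
    · intro p hp
      rwa [inv_one, one_smul]
  mul_mem' := by
    rintro g h ⟨hg1, hg2⟩ ⟨hh1, hh2⟩
    constructor
    · intro p hp
      rw [mul_smul]
      exact hg1 _ (hh1 p hp)
    · intro p hp
      rw [mul_inv_rev, mul_smul]
      exact hh2 _ (hg2 p hp)
  inv_mem' := by
    rintro g ⟨hg1, hg2⟩
    refine ⟨hg2, ?_⟩
    intro p hp
    rw [inv_inv]
    exact hg1 p hp

theorem mem_blkStab {G Ω : Type*} [Group G] [MulAction G Ω] {a : Ω} {U : Subgroup G} {b : Ω}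
    {g : G} : g ∈ blkStab a U b ↔
      (∀ p ∈ blk a U b, g • p ∈ blk a U b) ∧ (∀ p ∈ blk a U b, g⁻¹ • p ∈ blk a U b) := Iff.rfl

/-- Case I data: an involution `τ` moving `a` to `b` whose fixed point is `z • b` with `z` a
central involution of `U` -/
structure CIData {G Ω : Type*} [Group G] [MulAction G Ω] (a : Ω) (U : Subgroup G) (z τ : G)
    (b : Ω) : Prop where
  hb : b ≠ a
  hz : z ∈ cen U
  hz1 : z ≠ 1
  hτ2 : τ * τ = 1
  hτa : τ • a = b
  hfix : τ • (z • b) = z • b

namespace KData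

variable {G Ω : Type*} [Group G] [MulAction G Ω] {a : Ω} {U : Subgroup G} (D : KData G Ω a U)
include D

theorem a_mem_blk (b : Ω) : a ∈ blk a U b := Or.inl rfl

theorem b_mem_blk (b : Ω) : b ∈ blk a U b := Or.inr ⟨1, (cen U).one_mem, (one_smul _ _).symm⟩

theorem smul_mem_blk {b : Ω} {z : G} (hz : z ∈ cen U) : z • b ∈ blk a U b := Or.inr ⟨z, hz, rfl⟩

theorem mem_blk_of_ne {b p : Ω} (hp : p ∈ blk a U b) (hpa : p ≠ a) : ∃ z ∈ cen U, p = z • b := by
  rcases hp with h | h
  · exact absurd h hpa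
  · exact h

/-- the centre of `U` stabilises the block -/
theorem cen_le_blkStab (b : Ω) : cen U ≤ blkStab a U b := by
  have key : ∀ z ∈ cen U, ∀ p ∈ blk a U b, z • p ∈ blk a U b := by
    intro z hz p hp
    rcases hp with rfl | ⟨z', hz', rfl⟩
    · rw [D.cen_fix hz]
      exact D.a_mem_blk b
    · rw [← mul_smul]
      exact D.smul_mem_blk ((cen U).mul_mem hz hz')
  intro z hz
  exact ⟨key z hz, key z⁻¹ ((cen U).inv_mem hz)⟩

/-- the two-point stabiliser stabilises the block -/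
theorem stab2_le_blkStab (b : Ω) : stabilizer G a ⊓ stabilizer G b ≤ blkStab a U b := by
  have key : ∀ k ∈ (stabilizer G a ⊓ stabilizer G b : Subgroup G),
      ∀ p ∈ blk a U b, k • p ∈ blk a U b := by
    intro k hk p hp
    have hka : k • a = a := hk.1
    have hkb : k • b = b := hk.2
    rcases hp with rfl | ⟨z', hz', rfl⟩
    · rw [hka]
      exact D.a_mem_blk b
    · have : k • z' • b = (k * z' * k⁻¹) • b := by
        rw [mul_smul, mul_smul, inv_smul_eq_iff.mpr hkb.symm]
      rw [this]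
      exact D.smul_mem_blk (D.cen_conj hka hz')
  intro k hk
  exact ⟨key k hk, key k⁻¹ (inv_mem hk)⟩

variable {z τ : G} {b : Ω} (C : CIData a U z τ b)
include C

theorem CI_τb : τ • b = a := by
  rw [← C.hτa, ← mul_smul, C.hτ2, one_smul]

theorem CI_τ_inv : τ⁻¹ = τ := inv_eq_of_mul_eq_one_left C.hτ2

theorem CI_τ1 : τ ≠ 1 := by
  intro h
  have := C.hτa
  rw [h, one_smul] at this
  exact C.hb this.symm

/-- `τ` stabilises the block -/
theorem τ_mem_blkStab [Finite G] [Finite Ω] : τ ∈ blkStab a U b := by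
  have key : ∀ p ∈ blk a U b, τ • p ∈ blk a U b := by
    intro p hp
    rcases hp with rfl | ⟨z', hz', rfl⟩
    · rw [C.hτa]
      exact D.b_mem_blk b
    · by_cases hz1' : z' = 1
      · rw [hz1', one_smul, D.CI_τb C]
        exact D.a_mem_blk b
      · obtain ⟨η, hηa, hηb, hη⟩ := D.cen_trans C.hb C.hz C.hz1 hz' hz1'
        have hinv := D.swap_inv τ a b (Ne.symm C.hb) C.hτa (D.CI_τb C) η hηa hηb
        have hτη : τ * η = η⁻¹ * τ := by
          calc τ * η = (τ * η * τ⁻¹) * τ := by group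
            _ = η⁻¹ * τ := by rw [hinv]
        have hηb' : η⁻¹ • b = b := by rw [inv_smul_eq_iff, hηb]
        have hηa' : η⁻¹ • a = a := by rw [inv_smul_eq_iff, hηa]
        have e : τ • z' • b = (η⁻¹ * z * η⁻¹⁻¹) • b := by
          rw [← hη]
          calc τ • (η * z * η⁻¹) • b = τ • η • z • η⁻¹ • b := by rw [mul_smul, mul_smul]
            _ = τ • η • z • b := by rw [hηb']
            _ = (τ * η) • z • b := by rw [mul_smul]
            _ = (η⁻¹ * τ) • z • b := by rw [hτη]
            _ = η⁻¹ • z • b := by rw [mul_smul, C.hfix]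
            _ = η⁻¹ • z • η⁻¹⁻¹ • b := by rw [inv_inv, hηb]
            _ = (η⁻¹ * z * η⁻¹⁻¹) • b := by rw [mul_smul, mul_smul]
        rw [e]
        exact D.smul_mem_blk (D.cen_conj hηa' C.hz)
  refine ⟨key, ?_⟩
  rw [D.CI_τ_inv C]
  exact key

/-- the stabiliser of the block is transitive on it -/
theorem blkStab_trans [Finite G] [Finite Ω] {p : Ω} (hp : p ∈ blk a U b) :
    ∃ x ∈ blkStab a U b, x • a = p := by
  rcases hp with rfl | ⟨z', hz', rfl⟩
  · exact ⟨1, Subgroup.one_mem _, one_smul _ _⟩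
  · refine ⟨z' * τ, Subgroup.mul_mem _ (D.cen_le_blkStab b hz') (D.τ_mem_blkStab C), ?_⟩
    rw [mul_smul, C.hτa]

/-- the stabiliser of the block is 2-transitive on it -/
theorem blkStab_trans2 [Finite G] [Finite Ω] {p p' : Ω} (hp : p ∈ blk a U b)
    (hp' : p' ∈ blk a U b) (hne : p ≠ p') :
    ∃ x ∈ blkStab a U b, x • a = p ∧ x • b = p' := by
  obtain ⟨x1, hx1, hx1a⟩ := D.blkStab_trans C hp
  have h1 : x1⁻¹ • p' ∈ blk a U b := hx1.2 p' hp'
  have h2 : x1⁻¹ • p' ≠ a := by
    intro h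
    apply hne
    rw [inv_smul_eq_iff] at h
    rw [h, hx1a]
  obtain ⟨z', hz', hz'b⟩ := D.mem_blk_of_ne h1 h2
  refine ⟨x1 * z', Subgroup.mul_mem _ hx1 (D.cen_le_blkStab b hz'), ?_, ?_⟩
  · rw [mul_smul, D.cen_fix hz', hx1a]
  · rw [mul_smul, ← hz'b, smul_inv_smul]

/-- the stabiliser in `G` of two points of the block stabilises the block -/
theorem stab2_le_blkStab' [Finite G] [Finite Ω] {p p' : Ω} (hp : p ∈ blk a U b)
    (hp' : p' ∈ blk a U b) (hne : p ≠ p') {k : G} (hkp : k • p = p) (hkp' : k • p' = p') :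
    k ∈ blkStab a U b := by
  obtain ⟨x, hx, hxa, hxb⟩ := D.blkStab_trans2 C hp hp' hne
  have h1 : x⁻¹ * k * x ∈ blkStab a U b := by
    apply D.stab2_le_blkStab b
    constructor
    · show (x⁻¹ * k * x) • a = a
      rw [mul_smul, mul_smul, hxa, hkp, inv_smul_eq_iff, hxa]
    · show (x⁻¹ * k * x) • b = b
      rw [mul_smul, mul_smul, hxb, hkp', inv_smul_eq_iff, hxb]
  have : k = x * (x⁻¹ * k * x) * x⁻¹ := by group
  rw [this]
  exact Subgroup.mul_mem _ (Subgroup.mul_mem _ hx h1) (Subgroup.inv_mem _ hx)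

/-- an element mapping two points of the block into the block stabilises it -/
theorem blk_block [Finite G] [Finite Ω] {h : G} {p p' : Ω} (hp : p ∈ blk a U b)
    (hp' : p' ∈ blk a U b) (hne : p ≠ p') (hhp : h • p ∈ blk a U b) (hhp' : h • p' ∈ blk a U b) :
    h ∈ blkStab a U b := by
  have hne' : h • p ≠ h • p' := fun e => hne (smul_left_cancel h e)
  obtain ⟨x, hx, hxa, hxb⟩ := D.blkStab_trans2 C hp hp' hne
  obtain ⟨y, hy, hya, hyb⟩ := D.blkStab_trans2 C hhp hhp' hne'
  -- `y⁻¹ h x` fixes `a` and `b`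
  have h1 : y⁻¹ * h * x ∈ blkStab a U b := by
    apply D.stab2_le_blkStab b
    constructor
    · show (y⁻¹ * h * x) • a = a
      rw [mul_smul, mul_smul, hxa, inv_smul_eq_iff, hya]
    · show (y⁻¹ * h * x) • b = b
      rw [mul_smul, mul_smul, hxb, inv_smul_eq_iff, hyb]
  have : h = y * (y⁻¹ * h * x) * x⁻¹ := by group
  rw [this]
  exact Subgroup.mul_mem _ (Subgroup.mul_mem _ hy h1) (Subgroup.inv_mem _ hx)

/-- the elements of `U` stabilising the block are central -/
theorem blkStab_inf_U {u : G} (hu : u ∈ U) (hx : u ∈ blkStab a U b) : u ∈ cen U := by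
  have h1 : u • b ∈ blk a U b := hx.1 b (D.b_mem_blk b)
  have h2 : u • b ≠ a := D.smul_ne_a (D.U_fix hu) C.hb
  obtain ⟨z', hz', hz'b⟩ := D.mem_blk_of_ne h1 h2
  have := D.U_inj C.hb hu (D.cen_le hz') hz'b
  rw [this]
  exact hz'

end KData

end Cfsg.Agent.Lib.Helper6.SuzOrd
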