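import Mathlib
import Cfsg.Agent.Lib.Helper6.SuzOrd4
import Cfsg.Agent.Lib.Helper70.SuzPA

/-!
# Suzuki's order theorem, module 5: the counting system of the block stabiliser (helper6)
-/

set_option autoImplicit false
set_option linter.unusedSectionVars false
set_option linter.style.haveILetI false

namespace Cfsg.Agent.Lib.Helper6.SuzOrd

open MulAction Cfsg.Agent.Lib.Helper6 Cfsg.Agent.Lib.Helper25.ZassInv

/-- the action of the block stabiliser on the block -/
instance blkAction {G Ω : Type*} [Group G] [MulAction G Ω] (a : Ω) (U : Subgroup G) (b : Ω) :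
    MulAction (blkStab a U b) (blk a U b) where
  smul x p := ⟨(x : G) • (p : Ω), x.2.1 p p.2⟩
  one_smul p := Subtype.ext (one_smul G (p : Ω))
  mul_smul x y p := Subtype.ext (mul_smul (x : G) (y : G) (p : Ω))

theorem blk_smul_coe {G Ω : Type*} [Group G] [MulAction G Ω] {a : Ω} {U : Subgroup G} {b : Ω}
    (x : blkStab a U b) (p : blk a U b) : ((x • p : blk a U b) : Ω) = (x : G) • (p : Ω) := rfl

namespace KData

variable {G Ω : Type*} [Group G] [MulAction G Ω] {a : Ω} {U : Subgroup G} (D : KData G Ω a U)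
include D

/-- the block has `|Z(U)| + 1` points -/
theorem card_blk [Finite G] {b : Ω} (hb : b ≠ a) :
    Nat.card (blk a U b) = Nat.card (cen U) + 1 := by
  rw [← Finite.card_option]
  symm
  apply Nat.card_congr
  let f : Option (cen U) → blk a U b := fun o =>
    match o with
    | none => ⟨a, D.a_mem_blk b⟩
    | some z => ⟨(z : G) • b, D.smul_mem_blk z.2⟩
  apply Equiv.ofBijective f
  constructor
  · intro o o' h
    have h' : (f o : Ω) = (f o' : Ω) := congrArg Subtype.val h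
    match o, o' with
    | none, none => rfl
    | none, some z =>
      exfalso
      exact D.smul_ne_a (D.cen_fix z.2) hb h'.symm
    | some z, none =>
      exfalso
      exact D.smul_ne_a (D.cen_fix z.2) hb h'
    | some z, some z' =>
      have : (z : G) = (z' : G) := D.U_inj hb (D.cen_le z.2) (D.cen_le z'.2) h'
      rw [Subtype.ext this]
  · rintro ⟨p, hp⟩
    rcases hp with rfl | ⟨z, hz, rfl⟩
    · exact ⟨none, rfl⟩
    · exact ⟨some ⟨z, hz⟩, rfl⟩

variable {z τ : G} {b : Ω} (C : CIData a U z τ b)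
include C

/-- the counting system of the block stabiliser -/
theorem blk_ASys [Finite G] [Finite Ω] :
    ASys (blkStab a U b) (blk a U b) (Nat.card (cen U)) (Nat.card (cen U) - 1) := by
  have hq := D.card_cen_eq C.hb
  have hodd := D.stab2_odd (Ne.symm C.hb)
  refine ⟨D.card_blk C.hb, ?_, ?_, ?_, ?_, ?_, ?_, ?_, ?_⟩
  · rw [hq]
    exact hodd.add_one
  · rw [hq]
    obtain ⟨k, hk⟩ := hodd
    omega
  · rw [hq, Nat.add_sub_cancel]
    exact hodd
  · rintro ⟨p1, hp1⟩ ⟨p1', hp1'⟩ ⟨p2, hp2⟩ ⟨p2', hp2'⟩ hne1 hne2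
    have hne1' : p1 ≠ p1' := fun h => hne1 (Subtype.ext h)
    have hne2' : p2 ≠ p2' := fun h => hne2 (Subtype.ext h)
    obtain ⟨x1, hx1, hx1a, hx1b⟩ := D.blkStab_trans2 C hp1 hp1' hne1'
    obtain ⟨x2, hx2, hx2a, hx2b⟩ := D.blkStab_trans2 C hp2 hp2' hne2'
    refine ⟨⟨x2 * x1⁻¹, Subgroup.mul_mem _ hx2 (Subgroup.inv_mem _ hx1)⟩, ?_, ?_⟩
    · apply Subtype.ext
      show (x2 * x1⁻¹) • p1 = p2
      rw [mul_smul, inv_smul_eq_iff.mpr hx1a.symm, hx2a]
    · apply Subtype.ext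
      show (x2 * x1⁻¹) • p1' = p2'
      rw [mul_smul, inv_smul_eq_iff.mpr hx1b.symm, hx2b]
  · rintro ⟨g, hg⟩ ⟨p1, hp1⟩ ⟨p2, hp2⟩ ⟨p3, hp3⟩ h12 h23 h13 e1 e2 e3
    apply Subtype.ext
    show g = 1
    exact D.h3 g p1 p2 p3 (fun h => h12 (Subtype.ext h)) (fun h => h23 (Subtype.ext h))
      (fun h => h13 (Subtype.ext h)) (congrArg Subtype.val e1) (congrArg Subtype.val e2)
      (congrArg Subtype.val e3)
  · rintro ⟨p, hp⟩ ⟨p', hp'⟩ hne
    have hne' : p ≠ p' := fun h => hne (Subtype.ext h)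
    have h1 : Nat.card ↥(stabilizer G p ⊓ stabilizer G p' : Subgroup G) = Nat.card (cen U) - 1 := by
      rw [hq, Nat.add_sub_cancel]
      exact card_stab2_eq D.h2 (Ne.symm C.hb) hne'
    rw [← h1]
    apply Nat.card_congr
    refine ⟨fun k => ⟨(k : blkStab a U b), ?_, ?_⟩, fun k => ⟨⟨k, ?_⟩, ?_, ?_⟩, ?_, ?_⟩
    · exact congrArg Subtype.val k.2.1
    · exact congrArg Subtype.val k.2.2
    · exact D.stab2_le_blkStab' C hp hp' hne' k.2.1 k.2.2
    · apply Subtype.ext
      exact k.2.1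
    · apply Subtype.ext
      exact k.2.2
    · intro k; rfl
    · intro k; rfl
  · rintro ⟨s, hs⟩ ⟨p, hp⟩ ⟨p', hp'⟩ hne e1 e2
    apply Subtype.ext
    show s * s = 1
    exact D.swap_sq (fun h => hne (Subtype.ext h)) (congrArg Subtype.val e1)
      (congrArg Subtype.val e2)
  · rintro ⟨t, ht⟩ ⟨g, hg⟩ ht1 ht2 hgt
    have ht1' : t ≠ 1 := fun h => ht1 (Subtype.ext h)
    have ht2' : t * t = 1 := congrArg Subtype.val ht2
    have hgt' : g * t = t * g := congrArg Subtype.val hgt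
    obtain ⟨k, hk⟩ := D.cent_inv_two ht1' ht2' hgt'
    exact ⟨k, Subtype.ext hk⟩

/-- in the block stabiliser there is a product of two involutions, without fixed points on the
block, centralised by a subgroup of order `|Z(U)| + 1` of the block stabiliser -/
theorem exists_blk_torus [Finite G] [Finite Ω] :
    ∃ (j1 j2 : G) (T : Subgroup G), (j1 ≠ 1 ∧ j1 * j1 = 1) ∧ (j2 ≠ 1 ∧ j2 * j2 = 1) ∧
      j1 ∈ blkStab a U b ∧ j2 ∈ blkStab a U b ∧ (∀ p ∈ blk a U b, (j1 * j2) • p ≠ p) ∧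
      T ≤ blkStab a U b ∧ T ≤ Subgroup.centralizer ({j1 * j2} : Set G) ∧
      Nat.card T = Nat.card (cen U) + 1 ∧ j1 * j2 ∈ T := by
  have hq := D.card_cen_eq C.hb
  obtain ⟨g, j1, j2, h1, h2, hg, hfpf, hcard⟩ :=
    Cfsg.Agent.Lib.Helper70.SuzPA.exists_real_fpf (D.blk_ASys C) (by rw [hq, Nat.add_sub_cancel])
  refine ⟨(j1 : G), (j2 : G),
    (Subgroup.centralizer ({g} : Set (blkStab a U b))).map (blkStab a U b).subtype,
    ⟨fun h => h1.1 (Subtype.ext h), congrArg Subtype.val h1.2⟩,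
    ⟨fun h => h2.1 (Subtype.ext h), congrArg Subtype.val h2.2⟩, j1.2, j2.2, ?_, ?_, ?_, ?_, ?_⟩
  · intro p hp hfix
    apply hfpf ⟨p, hp⟩
    apply Subtype.ext
    rw [hg]
    exact hfix
  · rintro _ ⟨x, -, rfl⟩
    exact x.2
  · rintro _ ⟨x, hx, rfl⟩
    have hx' : x ∈ Subgroup.centralizer ({g} : Set (blkStab a U b)) := hx
    rw [Subgroup.mem_centralizer_singleton_iff] at hx' ⊢
    have := congrArg Subtype.val hx'
    rw [hg] at this
    exact this
  · rw [Subgroup.card_map_of_injective (Subgroup.subtype_injective _), hcard]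
  · refine ⟨g, ?_, ?_⟩
    · show g ∈ Subgroup.centralizer ({g} : Set (blkStab a U b))
      rw [Subgroup.mem_centralizer_singleton_iff]
    · rw [hg]
      rfl

end KData

end Cfsg.Agent.Lib.Helper6.SuzOrd
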