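import Mathlib
import Cfsg.Agent.Lib.Helper6.SuzOrd5

/-!
# Suzuki's order theorem, module 6: the interface of Case I (helper6)

If some product of two involutions has order three, then the block `Δ = {a} ∪ Z(U) b`, its
stabiliser `X`, and a torus `T ≤ X` of order `|Z(U)| + 1` exist with all the properties used in the
final contradiction.
-/

set_option autoImplicit false
set_option linter.unusedSectionVars false
set_option linter.style.haveILetI false

namespace Cfsg.Agent.Lib.Helper6.SuzOrd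

open MulAction Cfsg.Agent.Lib.Helper6 Cfsg.Agent.Lib.Helper25.ZassInv

namespace KData

variable {G Ω : Type*} [Group G] [MulAction G Ω] {a : Ω} {U : Subgroup G} (D : KData G Ω a U)
include D

theorem exists_smul_eq (x y : Ω) : ∃ g : G, g • x = y := by
  by_cases h : x = y
  · exact ⟨1, by rw [one_smul, h]⟩
  · obtain ⟨g, hg, -⟩ := D.h2 x y y x h (Ne.symm h)
    exact ⟨g, hg⟩

/-- normalisation of Case I -/
theorem exists_CIData [Finite G] [Finite Ω]
    (hI : ∃ j1 j2 : G, (j1 ≠ 1 ∧ j1 * j1 = 1) ∧ (j2 ≠ 1 ∧ j2 * j2 = 1) ∧ j1 * j2 ≠ 1 ∧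
      (j1 * j2) ^ 3 = 1) :
    ∃ (z τ : G) (b : Ω), CIData a U z τ b := by
  obtain ⟨j1, j2, ⟨h11, h12⟩, ⟨h21, h22⟩, hp1, hp3⟩ := hI
  obtain ⟨c1, hc1, -⟩ := D.inv_fix h11 h12
  obtain ⟨h, hh⟩ := D.exists_smul_eq c1 a
  have hconj1 : ∀ t : G, t ≠ 1 → h * t * h⁻¹ ≠ 1 := by
    intro t ht h'
    apply ht
    have := congrArg (fun w => h⁻¹ * w * h) h'
    simpa [mul_assoc] using this
  have hconj2 : ∀ t : G, t * t = 1 → h * t * h⁻¹ * (h * t * h⁻¹) = 1 := by
    intro t ht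
    calc h * t * h⁻¹ * (h * t * h⁻¹) = h * (t * t) * h⁻¹ := by group
      _ = 1 := by rw [ht]; group
  obtain ⟨z, hz⟩ : ∃ z : G, z = h * j1 * h⁻¹ := ⟨_, rfl⟩
  obtain ⟨τ, hτ⟩ : ∃ τ : G, τ = h * j2 * h⁻¹ := ⟨_, rfl⟩
  have hza : z • a = a := by
    rw [hz, mul_smul, mul_smul, inv_smul_eq_iff.mpr hh.symm, hc1, hh]
  have hzc : z ∈ cen U ∧ z ≠ 1 :=
    D.inv_iff_cen.mp ⟨hz ▸ hconj1 j1 h11, hz ▸ hconj2 j1 h12, hza⟩
  have hτ1 : τ ≠ 1 := hτ ▸ hconj1 j2 h21
  have hτ2 : τ * τ = 1 := hτ ▸ hconj2 j2 h22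
  have hzτ : z * τ = h * (j1 * j2) * h⁻¹ := by rw [hz, hτ]; group
  have hzτ1 : z * τ ≠ 1 := by
    rw [hzτ]
    exact hconj1 _ hp1
  have hzτ3 : (z * τ) ^ 3 = 1 := by
    rw [hzτ, conj_pow, hp3]
    group
  have hzτ3' : z * τ * (z * τ) * (z * τ) = 1 := by
    rw [← hzτ3, pow_succ, pow_two]
  have hzinv : z⁻¹ = z := D.cen_inv_eq hzc.1
  have hτinv : τ⁻¹ = τ := inv_eq_of_mul_eq_one_left hτ2
  have hb : τ • a ≠ a := by
    intro hτa
    have hτc : τ ∈ cen U ∧ τ ≠ 1 := D.inv_iff_cen.mp ⟨hτ1, hτ2, hτa⟩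
    have h2 : (z * τ) * (z * τ) = 1 := D.cen_sq ((cen U).mul_mem hzc.1 hτc.1)
    apply hzτ1
    calc z * τ = (z * τ * (z * τ) * (z * τ)) * ((z * τ) * (z * τ))⁻¹ := by group
      _ = 1 := by rw [hzτ3', h2]; group
  have hbraid : τ * z * τ = z * τ * z := by
    have h1 : (z * τ * z) * (τ * z * τ) = 1 := by
      rw [← hzτ3']
      group
    calc τ * z * τ = (z * τ * z)⁻¹ := (inv_eq_of_mul_eq_one_right h1).symm
      _ = z⁻¹ * τ⁻¹ * z⁻¹ := by group
      _ = z * τ * z := by rw [hzinv, hτinv]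
  refine ⟨z, τ, τ • a, ⟨hb, hzc.1, hzc.2, hτ2, rfl, ?_⟩⟩
  calc τ • z • τ • a = (τ * z * τ) • a := by rw [mul_smul, mul_smul]
    _ = (z * τ * z) • a := by rw [hbraid]
    _ = z • τ • a := by rw [mul_smul, mul_smul, hza]

variable {z τ : G} {b : Ω} (C : CIData a U z τ b)
include C

/-- an involution of the block stabiliser has its fixed point in the block -/
theorem blk_inv_fix [Finite G] [Finite Ω] {i : G} (hi : i ∈ blkStab a U b) (hi1 : i ≠ 1)
    (hi2 : i * i = 1) : ∃ c ∈ blk a U b, i • c = c := by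
  have h1 : (⟨i, hi⟩ : blkStab a U b) ≠ 1 := fun h => hi1 (congrArg Subtype.val h)
  have h2 : (⟨i, hi⟩ : blkStab a U b) * ⟨i, hi⟩ = 1 := Subtype.ext hi2
  haveI : Finite (blk a U b) := Subtype.finite
  obtain ⟨p, hp, -⟩ := (D.blk_ASys C).fix_unique h1 h2
  exact ⟨p.1, p.2, congrArg Subtype.val hp⟩

/-- the 2-elements of the block stabiliser are involutions -/
theorem blkStab_two [Finite G] [Finite Ω] {x : G} (hx : x ∈ blkStab a U b) {k : ℕ}
    (hk : x ^ 2 ^ k = 1) : x * x = 1 := by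
  by_cases hx1 : x = 1
  · rw [hx1, mul_one]
  -- the involution in `⟨x⟩`
  have hdvd : orderOf x ∣ 2 ^ k := orderOf_dvd_of_pow_eq_one hk
  obtain ⟨m, -, hm⟩ := (Nat.dvd_prime_pow Nat.prime_two).mp hdvd
  have hm1 : 1 ≤ m := by
    by_contra h
    have : m = 0 := by omega
    rw [this, pow_zero, orderOf_eq_one_iff] at hm
    exact hx1 hm
  set i := x ^ 2 ^ (m - 1) with hi
  have hi1 : i ≠ 1 := by
    intro h
    have h1 : orderOf x ∣ 2 ^ (m - 1) := orderOf_dvd_of_pow_eq_one h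
    rw [hm] at h1
    have h2 : 2 ^ m ≤ 2 ^ (m - 1) := Nat.le_of_dvd (by positivity) h1
    have h3 : 2 ^ (m - 1) < 2 ^ m := Nat.pow_lt_pow_right (by norm_num) (by omega)
    omega
  have hi2 : i * i = 1 := by
    rw [hi, ← pow_add, ← two_mul, ← pow_succ']
    have : m - 1 + 1 = m := by omega
    rw [this, ← hm, pow_orderOf_eq_one]
  have hiX : i ∈ blkStab a U b := Subgroup.pow_mem _ hx _
  have hxi : x * i = i * x := by
    rw [hi, ← pow_succ', ← pow_succ]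
  obtain ⟨c, hc, hic⟩ := D.blk_inv_fix C hiX hi1 hi2
  have hxc : x • c = c := by
    obtain ⟨p, -, hp⟩ := D.inv_fix hi1 hi2
    have h1 : i • (x • c) = x • c := by
      rw [← mul_smul, ← hxi, mul_smul, hic]
    exact (hp _ h1).trans (hp c hic).symm
  obtain ⟨y, hy, hya⟩ := D.blkStab_trans C hc
  have hyinv : y⁻¹ • c = a := by rw [inv_smul_eq_iff, hya]
  have hi' : y⁻¹ * i * y ∈ cen U ∧ y⁻¹ * i * y ≠ 1 := by
    apply D.inv_iff_cen.mp
    refine ⟨?_, ?_, ?_⟩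
    · intro h'
      apply hi1
      have := congrArg (fun w => y * w * y⁻¹) h'
      simpa [mul_assoc] using this
    · calc y⁻¹ * i * y * (y⁻¹ * i * y) = y⁻¹ * (i * i) * y := by group
        _ = 1 := by rw [hi2]; group
    · rw [mul_smul, mul_smul, hya, hic, hyinv]
  have hx'U : y⁻¹ * x * y ∈ U := by
    apply D.cent_le_U hi'.1 hi'.2
    calc y⁻¹ * x * y * (y⁻¹ * i * y) = y⁻¹ * (x * i) * y := by group
      _ = y⁻¹ * (i * x) * y := by rw [hxi]
      _ = y⁻¹ * i * y * (y⁻¹ * x * y) := by group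
  have hx'X : y⁻¹ * x * y ∈ blkStab a U b :=
    Subgroup.mul_mem _ (Subgroup.mul_mem _ (Subgroup.inv_mem _ hy) hx) hy
  have hx'c := D.blkStab_inf_U C hx'U hx'X
  have h2 := D.cen_sq hx'c
  have h3 : y⁻¹ * (x * x) * y = 1 := by
    rw [← h2]
    group
  have := congrArg (fun w => y * w * y⁻¹) h3
  simpa [mul_assoc] using this

/-- the interface of Case I -/
theorem caseI_interface [Finite G] [Finite Ω] :
    ∃ (j1 j2 : G) (T : Subgroup G) (c : Ω), (j1 ≠ 1 ∧ j1 * j1 = 1) ∧ (j2 ≠ 1 ∧ j2 * j2 = 1) ∧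
      (∀ p : Ω, (j1 * j2) • p ≠ p) ∧
      T ≤ blkStab a U b ∧ T ≤ Subgroup.centralizer ({j1 * j2} : Set G) ∧
      Nat.card T = Nat.card (cen U) + 1 ∧ c ∈ blk a U b ∧ j1 • c = c := by
  obtain ⟨j1, j2, T, h1, h2, hj1X, hj2X, hfpf, hTX, hTC, hTcard, hgT⟩ := D.exists_blk_torus C
  obtain ⟨c, hc, hj1c⟩ := D.blk_inv_fix C hj1X h1.1 h1.2
  refine ⟨j1, j2, T, c, h1, h2, ?_, hTX, hTC, hTcard, hc, hj1c⟩
  set g := j1 * j2 with hg
  have hg1 : g ≠ 1 := by
    intro h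
    apply hfpf a (D.a_mem_blk b)
    rw [h, one_smul]
  have hj1inv : j1⁻¹ = j1 := inv_eq_of_mul_eq_one_left h1.2
  have hj2inv : j2⁻¹ = j2 := inv_eq_of_mul_eq_one_left h2.2
  have hinvert : j1 * g⁻¹ = g * j1 := by
    rw [hg, mul_inv_rev, hj1inv, hj2inv]
    exact (mul_assoc _ _ _).symm
  intro p hp
  have hginv : g⁻¹ • p = p := by rw [inv_smul_eq_iff, hp]
  have hp' : g • (j1 • p) = j1 • p := by
    rw [← mul_smul, ← hinvert, mul_smul, hginv]
  by_cases hpp : j1 • p = p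
  · -- `p` is the fixed point of `j1`, in the block
    obtain ⟨p0, -, hp0⟩ := D.inv_fix h1.1 h1.2
    have : p = c := (hp0 p hpp).trans (hp0 c hj1c).symm
    rw [this] at hp
    exact hfpf c hc hp
  · -- `g` lies in a two-point stabiliser
    have hmem : g ∈ (stabilizer G (j1 • p) ⊓ stabilizer G p : Subgroup G) := ⟨hp', hp⟩
    have hd1 : orderOf (⟨g, hmem⟩ : ↥(stabilizer G (j1 • p) ⊓ stabilizer G p : Subgroup G)) ∣
        Nat.card ↥(stabilizer G (j1 • p) ⊓ stabilizer G p : Subgroup G) := orderOf_dvd_natCard _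
    rw [Subgroup.orderOf_mk, D.toASys.card_stab2 _ _ hpp] at hd1
    have hd2 : orderOf (⟨g, hgT⟩ : T) ∣ Nat.card T := orderOf_dvd_natCard _
    rw [Subgroup.orderOf_mk, hTcard] at hd2
    have hq := D.card_cen_eq C.hb
    have hodd := D.stab2_odd (Ne.symm C.hb)
    have hcop : Nat.Coprime (Nat.card (cen U) - 1) (Nat.card (cen U) + 1) := by
      rw [hq, Nat.add_sub_cancel]
      set d := Nat.card ↥(stabilizer G a ⊓ stabilizer G b : Subgroup G)
      have h3 : Nat.Coprime d 2 := Nat.coprime_two_right.mpr hodd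
      have : d + 1 + 1 = 2 + d := by ring
      rw [this]
      exact (Nat.coprime_add_self_right).mpr h3
    have h4 : orderOf g ∣ 1 := by
      have := Nat.dvd_gcd hd1 hd2
      rwa [hcop] at this
    exact hg1 (orderOf_eq_one_iff.mp (Nat.dvd_one.mp h4))

end KData

end Cfsg.Agent.Lib.Helper6.SuzOrd
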