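import Mathlib
import Cfsg.Agent.Lib.Helper6.SuzOrd6
import Cfsg.Agent.Lib.Helper12.SuzCaseI
import Cfsg.Agent.Lib.Helper70.SuzCaseII
import Cfsg.Agent.S0739
import Cfsg.Agent.Lib.Helper59.Zassenhaus

/-!
# Suzuki's order theorem, module 7: the main theorem (helper6)

A simple Zassenhaus group whose point stabiliser has a regular normal non-abelian 2-subgroup `U`
satisfies `|Z(U)| = q = 2 ^ f` with `f ≥ 3` odd, and `|U| = q²`.
(Case I by helper12, Case II by helper70, the torus package by helper29.)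
-/

set_option autoImplicit false
set_option linter.unusedSectionVars false
set_option linter.style.haveILetI false

namespace Cfsg.Agent.Lib.Helper6.SuzOrd

open MulAction Cfsg.Agent.Lib.Helper6 Cfsg.Agent.Lib.Helper25.ZassInv Cfsg.Agent.Lib.Helper59

/-- Suzuki's order theorem for the data `KData` -/
theorem KData.order_theorem {G Ω : Type*} [Group G] [MulAction G Ω] {a : Ω} {U : Subgroup G}
    (D : KData G Ω a U) [Finite G] [Finite Ω] :
    ∃ f : ℕ, Odd f ∧ 3 ≤ f ∧ Nat.card (cen U) = 2 ^ f ∧ Nat.card U = (2 ^ f) ^ 2 := by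
  apply Cfsg.Agent.Lib.Helper70.SuzCaseII.caseII D
  intro hI
  obtain ⟨z, τ, b, C⟩ := D.exists_CIData hI
  obtain ⟨j1, j2, T, c, h1, h2, hfpf, hTX, hTC, hTcard, hc, hj1c⟩ := D.caseI_interface C
  exact Cfsg.Agent.Lib.Helper12.SuzCaseI.caseI_false D (blkStab a U b) (blk a U b) j1 j2 T h1 h2
    hfpf hTX hTC hTcard c hc hj1c (fun x hx p hp => hx.1 p hp)
    (fun h p p' hp hp' hne hhp hhp' => D.blk_block C hp hp' hne hhp hhp')
    (fun x hx k hk => D.blkStab_two C hx hk)

/-- the data `KData` from a simple Zassenhaus group -/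
theorem kdata_of_zassenhaus {G Ω : Type*} [Group G] [Finite G] [MulAction G Ω] [Finite Ω]
    (hZ : Cfsg.IsZassenhausGroup G Ω) [IsSimpleGroup G] {a : Ω}
    (U : Subgroup G) (hUle : U ≤ stabilizer G a)
    (hUn : ∀ h ∈ stabilizer G a, ∀ u ∈ U, h * u * h⁻¹ ∈ U)
    (hreg : ∀ c d : Ω, c ≠ a → d ≠ a → ∃! u : U, (u : G) • c = d)
    (hU2 : IsPGroup 2 U) (hUna : ∃ u ∈ U, ∃ v ∈ U, u * v ≠ v * u) : KData G Ω a U := by
  classical
  letI : Fintype Ω := Fintype.ofFinite Ω
  have h2 : ∀ x y z w : Ω, x ≠ y → z ≠ w → ∃ g : G, g • x = z ∧ g • y = w :=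
    fun x y z w hxy hzw => zass_two_trans hZ x y z w hxy hzw
  have h3 := hZ.2.2.1
  -- a second point
  obtain ⟨b, hb⟩ : ∃ b : Ω, b ≠ a := by
    obtain ⟨g, -, c, d, hcd, -, -⟩ := hZ.2.2.2.1
    by_cases h : c = a
    · exact ⟨d, fun hd => hcd (h.trans hd.symm)⟩
    · exact ⟨c, h⟩
  -- the degree is `|U| + 1`
  have hsmul_ne : ∀ u ∈ U, u • b ≠ a := by
    intro u hu h
    apply hb
    have hua : u • a = a := hUle hu
    have : u • b = u • a := by rw [h, hua]
    exact smul_left_cancel u this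
  have hcard : Nat.card Ω = Nat.card U + 1 := by
    let f : U → {c : Ω // c ≠ a} := fun u => ⟨(u : G) • b, hsmul_ne u u.2⟩
    have hbij : Function.Bijective f := by
      constructor
      · intro u v huv
        have h1 : (u : G) • b = (v : G) • b := congrArg Subtype.val huv
        obtain ⟨w, -, hw⟩ := hreg b ((u : G) • b) hb (hsmul_ne u u.2)
        exact (hw u rfl).trans (hw v h1.symm).symm
      · rintro ⟨c, hc⟩
        obtain ⟨u, hu, -⟩ := hreg b c hb hc
        exact ⟨u, Subtype.ext hu⟩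
    have e1 : Nat.card U = Nat.card {c : Ω // c ≠ a} :=
      Nat.card_congr (Equiv.ofBijective f hbij)
    have e2 : Nat.card {c : Ω // c ≠ a} = Fintype.card Ω - 1 := by
      rw [Nat.card_eq_fintype_card, Fintype.card_subtype_compl, Fintype.card_subtype_eq]
    have e3 : 0 < Fintype.card Ω := Fintype.card_pos_iff.mpr ⟨a⟩
    rw [Nat.card_eq_fintype_card, e1, e2]
    omega
  -- `|U|` is even
  have hUeven : Even (Nat.card U) := by
    haveI : Fact (Nat.Prime 2) := ⟨Nat.prime_two⟩
    obtain ⟨e, he⟩ := hU2.exists_card_eq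
    rw [he]
    apply (Nat.even_pow.mpr ⟨even_two, ?_⟩)
    intro he0
    rw [he0, pow_zero] at he
    obtain ⟨u, hu, v, hv, huv⟩ := hUna
    have hsub : Subsingleton U := (Nat.card_eq_one_iff_unique.mp he).1
    apply huv
    have e1 : (⟨u, hu⟩ : U) = ⟨v, hv⟩ := Subsingleton.elim _ _
    have e2 : u = v := congrArg Subtype.val e1
    rw [e2]
  have hoddΩ : Odd (Nat.card Ω) := by
    rw [hcard]
    exact hUeven.add_one
  have hstab_odd : ∀ x y : Ω, x ≠ y →
      Odd (Nat.card ↥(stabilizer G x ⊓ stabilizer G y : Subgroup G)) :=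
    fun x y hxy => odd_card_stab2 h3 hoddΩ hxy
  -- the hypothesis of S0739
  have hGpos : Nat.card G ≠ 0 := Nat.card_pos.ne'
  have hnil : ∀ x y : Ω, x ≠ y → ∀ q : ℕ, q.Prime →
      q ∣ Nat.card ↥(stabilizer G x ⊓ stabilizer G y : Subgroup G) →
      ¬ ∃ N : Subgroup G, N.Normal ∧ N.index = q ^ (Nat.card G).factorization q := by
    intro x y hxy q hq hqe
    rintro ⟨N, hNn, hidx⟩
    have hcG := card_group_eq h2 hxy
    have h2G : 2 ∣ Nat.card G := by
      rw [hcG, ← Nat.card_eq_fintype_card, hcard, Nat.add_sub_cancel]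
      exact Dvd.dvd.mul_right (Dvd.dvd.mul_left (even_iff_two_dvd.mp hUeven) _) _
    have heG : Nat.card ↥(stabilizer G x ⊓ stabilizer G y : Subgroup G) ∣ Nat.card G := by
      rw [hcG]
      exact Dvd.intro_left _ rfl
    rcases (inferInstance : IsSimpleGroup G).eq_bot_or_eq_top_of_normal N hNn with rfl | rfl
    · rw [Subgroup.index_bot] at hidx
      rw [hidx] at h2G
      have h2q : 2 ∣ q := Nat.Prime.dvd_of_dvd_pow Nat.prime_two h2G
      have : 2 ∣ Nat.card ↥(stabilizer G x ⊓ stabilizer G y : Subgroup G) := h2q.trans hqe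
      rcases hstab_odd x y hxy with ⟨k, hk⟩
      omega
    · rw [Subgroup.index_top] at hidx
      have hk : (Nat.card G).factorization q = 0 := by
        rcases (Nat.pow_eq_one.mp hidx.symm) with h | h
        · exact absurd h hq.one_lt.ne'
        · exact h
      rcases (Nat.factorization_eq_zero_iff _ _).mp hk with h | h | h
      · exact h hq
      · exact h (hqe.trans heG)
      · exact hGpos h
  refine ⟨h2, h3, hUle, hUn, hreg, hU2, hUna, hZ.2.2.2.1, ?_, ?_⟩
  · intro s x y hxy hsx hsy k hkx hky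
    obtain ⟨-, -, hinv⟩ := Cfsg.Agent.S0739.result hZ hxy (hstab_odd x y hxy) (hnil x y hxy)
    exact hinv s hsx hsy k (mem_stab2.mpr ⟨hkx, hky⟩)
  · intro x y hxy
    exact (Cfsg.Agent.S0739.result hZ hxy (hstab_odd x y hxy) (hnil x y hxy)).1

end Cfsg.Agent.Lib.Helper6.SuzOrd
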