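import Mathlib
import Cfsg.Agent.Lib.Helper6.SzSol9
import Cfsg.Agent.Lib.Helper6.SzSylow

/-!
# Automorphisms of the Suzuki 2-group, part 1: the field-theoretic core (helper6)

If `α, β` are additive bijections of a finite field `F` of order `2^(2m+1)` with
`β (a σ(a)) = α(a) σ(α(a))` (σ the Tits endomorphism), then `α = l · τ` for a nonzero
scalar `l` and a field automorphism `τ`.
-/

set_option autoImplicit false
set_option linter.unusedSectionVars false

namespace Cfsg.Agent.Lib.Helper6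

open Cfsg

/-- Hua's identity. -/
theorem hua_identity {K : Type*} [Field K] (a b : K) (ha : a ≠ 0) (hb : b ≠ 0) (hab : a * b ≠ 1) :
    a - (a⁻¹ + (b⁻¹ - a)⁻¹)⁻¹ = a ^ 2 * b := by
  have h1 : b⁻¹ - a ≠ 0 := by
    intro h
    apply hab
    have : b⁻¹ = a := sub_eq_zero.mp h
    rw [← this, inv_mul_cancel₀ hb]
  have h2 : 1 - a * b ≠ 0 := sub_ne_zero.mpr (Ne.symm hab)
  have h4 : b⁻¹ - a = (1 - a * b) / b := by
    field_simp
  have h3 : a⁻¹ + (b⁻¹ - a)⁻¹ = (a * (1 - a * b))⁻¹ := by
    rw [h4]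
    field_simp
    ring
  rw [h3, inv_inv]; ring

section AutField

variable {F : Type*} [Field F] [Fintype F] [CharP F 2] {m : ℕ}

/-- Membership in the image of `e ↦ σ(e) + e`. -/
def InW (m : ℕ) (x : F) : Prop := ∃ e : F, sg m e + e = x

theorem inW_zero : InW m (0 : F) := ⟨0, by simp⟩

theorem inW_add {x y : F} (hx : InW m x) (hy : InW m y) : InW m (x + y) := by
  obtain ⟨e, rfl⟩ := hx
  obtain ⟨e', rfl⟩ := hy
  exact ⟨e + e', by rw [map_add]; ring⟩

theorem not_inW_one (hσ : SgSq (F := F) m) : ¬ InW m (1 : F) := by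
  rintro ⟨e, he⟩
  exact one_not_mem_range_sgAddId hσ ⟨e, he⟩

theorem inW_add_iff (hσ : SgSq (F := F) m) (x y : F) :
    InW m (x + y) ↔ (InW m x ↔ InW m y) := by
  by_cases hx : InW m x
  · by_cases hy : InW m y
    · simp [hx, hy, inW_add hx hy]
    · have : ¬ InW m (x + y) := by
        intro h
        apply hy
        have := inW_add hx h
        rwa [← add_assoc, CharTwo.add_self_eq_zero, zero_add] at this
      simp [hx, hy, this]
  · by_cases hy : InW m y
    · have : ¬ InW m (x + y) := by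
        intro h
        apply hx
        have := inW_add h hy
        rwa [add_assoc, CharTwo.add_self_eq_zero, add_zero] at this
      simp [hx, hy, this]
    · have hx1 : InW m (x + 1) := (sgAddId_cover hσ x).resolve_left hx
      have hy1 : InW m (y + 1) := (sgAddId_cover hσ y).resolve_left hy
      have := inW_add hx1 hy1
      have e : x + 1 + (y + 1) = x + y := by
        have h1 : (1 : F) + 1 = 0 := CharTwo.add_self_eq_zero 1
        linear_combination h1
      rw [e] at this
      simp [hx, hy, this]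

theorem aut_polar (α β : F ≃+ F)
    (h1 : ∀ a, β (a * sg m a) = α a * sg m (α a)) (a c : F) :
    β (sg m a * c + sg m c * a) = sg m (α a) * α c + sg m (α c) * α a := by
  have := h1 (a + c)
  have e1 : (a + c) * sg m (a + c) = a * sg m a + c * sg m c + (sg m a * c + sg m c * a) := by
    rw [map_add]; ring
  have e2 : α (a + c) * sg m (α (a + c)) =
      α a * sg m (α a) + α c * sg m (α c) + (sg m (α a) * α c + sg m (α c) * α a) := by
    rw [map_add, map_add]; ring
  rw [e1, e2, map_add, map_add, h1 a, h1 c] at this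
  exact add_left_cancel this

theorem aut_W (hσ : SgSq (F := F) m) (α β : F ≃+ F)
    (h1 : ∀ a, β (a * sg m a) = α a * sg m (α a)) (c w : F) (hc : c ≠ 0) :
    InW m (w / c) ↔ InW m (β w / β c) := by
  obtain ⟨a, ha⟩ : ∃ a, a * sg m a = c :=
    (Finite.injective_iff_surjective.mp (mul_sg_injective hσ)) c
  have ha0 : a ≠ 0 := by
    rintro rfl
    simp at ha
    exact hc ha.symm
  have hsa : sg m a ≠ 0 := (map_ne_zero (sg m)).mpr ha0
  have hαa : α a ≠ 0 := (AddEquivClass.map_ne_zero_iff).mpr ha0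
  have hsαa : sg m (α a) ≠ 0 := (map_ne_zero (sg m)).mpr hαa
  have hβc : β c = α a * sg m (α a) := by rw [← ha, h1]
  have hβc0 : β c ≠ 0 := (AddEquivClass.map_ne_zero_iff).mpr hc
  constructor
  · rintro ⟨e, he⟩
    have hw : w = sg m a * (a * e) + sg m (a * e) * a := by
      have : w = c * (sg m e + e) := by rw [he]; field_simp
      rw [this, ← ha, map_mul]; ring
    refine ⟨α (a * e) / α a, ?_⟩
    rw [hw, aut_polar α β h1, hβc, map_div₀]
    field_simp
    ring
  · rintro ⟨e', he'⟩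
    obtain ⟨c', hc'⟩ := α.surjective (α a * e')
    have hw : β w = β (sg m a * c' + sg m c' * a) := by
      rw [aut_polar α β h1, hc']
      have : β w = β c * (sg m e' + e') := by rw [he']; field_simp
      rw [this, hβc, map_mul]; ring
    have hw' := β.injective hw
    refine ⟨c' / a, ?_⟩
    rw [hw', ← ha, map_div₀]
    field_simp
    ring

/-- The companion map `z ↦ (β z⁻¹)⁻¹`. -/
noncomputable def gam (β : F ≃+ F) (z : F) : F := (β z⁻¹)⁻¹

theorem gam_zero (β : F ≃+ F) : gam β 0 = 0 := by simp [gam]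

theorem gam_inv (β : F ≃+ F) (x : F) : gam β x⁻¹ = (β x)⁻¹ := by simp [gam]

theorem beta_inv (β : F ≃+ F) (u : F) : β u⁻¹ = (gam β u)⁻¹ := by simp [gam]

theorem gam_ne_zero (β : F ≃+ F) {z : F} (hz : z ≠ 0) : gam β z ≠ 0 := by
  unfold gam
  exact inv_ne_zero ((AddEquivClass.map_ne_zero_iff).mpr (inv_ne_zero hz))

theorem aut_W' (hσ : SgSq (F := F) m) (α β : F ≃+ F)
    (h1 : ∀ a, β (a * sg m a) = α a * sg m (α a)) (w z : F) :
    InW m (w * z) ↔ InW m (β w * gam β z) := by
  by_cases hz : z = 0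
  · subst hz
    rw [gam_zero, mul_zero, mul_zero]
  · have := aut_W hσ α β h1 z⁻¹ w (inv_ne_zero hz)
    rw [div_inv_eq_mul] at this
    rw [this, gam, div_eq_mul_inv]

theorem gam_add (hσ : SgSq (F := F) m) (α β : F ≃+ F)
    (h1 : ∀ a, β (a * sg m a) = α a * sg m (α a)) (z z' : F) :
    gam β (z + z') = gam β z + gam β z' := by
  have key : ∀ y, InW m (y * (gam β (z + z') + gam β z + gam β z')) := by
    intro y
    obtain ⟨w, rfl⟩ := β.surjective y
    have hA := aut_W' hσ α β h1 w (z + z')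
    have hB := aut_W' hσ α β h1 w z
    have hC := aut_W' hσ α β h1 w z'
    rw [mul_add, inW_add_iff hσ] at hA
    rw [mul_add, mul_add, inW_add_iff hσ, inW_add_iff hσ]
    tauto
  by_contra hne
  have hg : gam β (z + z') + gam β z + gam β z' ≠ 0 := by
    intro h
    apply hne
    have h' : gam β (z + z') + (gam β z + gam β z') = 0 := by rw [← add_assoc]; exact h
    exact CharTwo.add_eq_zero.mp h'
  have := key (gam β (z + z') + gam β z + gam β z')⁻¹
  rw [inv_mul_cancel₀ hg] at this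
  exact not_inW_one hσ this

theorem beta_sq_mul (hσ : SgSq (F := F) m) (α β : F ≃+ F)
    (h1 : ∀ a, β (a * sg m a) = α a * sg m (α a)) (a b : F) :
    β (a ^ 2 * b) = (β a) ^ 2 * gam β b := by
  by_cases ha : a = 0
  · subst ha; simp
  by_cases hb : b = 0
  · subst hb; simp [gam_zero]
  have hβa : β a ≠ 0 := (AddEquivClass.map_ne_zero_iff).mpr ha
  by_cases hab : a * b = 1
  · have hb' : b = a⁻¹ := eq_inv_of_mul_eq_one_right hab
    subst hb'
    rw [gam_inv]
    have e1 : a ^ 2 * a⁻¹ = a := by field_simp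
    rw [e1]
    field_simp
  · have hγb : gam β b ≠ 0 := gam_ne_zero β hb
    have hAB : β a * gam β b ≠ 1 := by
      intro h
      have h2 : β a = β b⁻¹ := by rw [beta_inv]; exact eq_inv_of_mul_eq_one_left h
      have h3 := β.injective h2
      apply hab; rw [h3, inv_mul_cancel₀ hb]
    have H1 := hua_identity a b ha hb hab
    have H2 := hua_identity (β a) (gam β b) hβa hγb hAB
    calc β (a ^ 2 * b) = β (a - (a⁻¹ + (b⁻¹ - a)⁻¹)⁻¹) := by rw [H1]
      _ = β a - (gam β (a⁻¹ + (b⁻¹ - a)⁻¹))⁻¹ := by rw [map_sub, beta_inv]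
      _ = β a - ((β a)⁻¹ + (β (b⁻¹ - a))⁻¹)⁻¹ := by
          rw [gam_add hσ α β h1, gam_inv, gam_inv]
      _ = β a - ((β a)⁻¹ + ((gam β b)⁻¹ - β a)⁻¹)⁻¹ := by rw [map_sub, beta_inv]
      _ = _ := H2

/-- The main field-theoretic theorem. -/
theorem aut_field_main (hσ : SgSq (F := F) m) (α β : F ≃+ F)
    (h1 : ∀ a, β (a * sg m a) = α a * sg m (α a)) :
    ∃ (l : F) (τ : F ≃+* F), l ≠ 0 ∧ (∀ a, α a = l * τ a) ∧
      ∀ b, β b = (l * sg m l) * τ b := by
  set κ := β 1 with hκ
  have hκ0 : κ ≠ 0 := (AddEquivClass.map_ne_zero_iff).mpr one_ne_zero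
  have hg1 : gam β 1 = κ⁻¹ := by simp [gam, hκ]
  have hb1 : ∀ b, β b = κ ^ 2 * gam β b := by
    intro b
    have := beta_sq_mul hσ α β h1 1 b
    simpa using this
  have hgam : ∀ b, gam β b = β b / κ ^ 2 := by
    intro b
    rw [hb1 b]
    field_simp
  have hsq : ∀ a b, β (a ^ 2 * b) = (β a) ^ 2 * β b / κ ^ 2 := by
    intro a b
    rw [beta_sq_mul hσ α β h1, hgam, mul_div_assoc]
  -- the normalised map
  have f_one : κ⁻¹ * β 1 = 1 := inv_mul_cancel₀ hκ0
  have f_sq_mul : ∀ a b, κ⁻¹ * β (a ^ 2 * b) = (κ⁻¹ * β a) ^ 2 * (κ⁻¹ * β b) := by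
    intro a b
    rw [hsq]
    field_simp
  have f_sq : ∀ a, κ⁻¹ * β (a ^ 2) = (κ⁻¹ * β a) ^ 2 := by
    intro a
    have := f_sq_mul a 1
    rwa [mul_one, f_one, mul_one] at this
  have f_mul : ∀ x y, κ⁻¹ * β (x * y) = (κ⁻¹ * β x) * (κ⁻¹ * β y) := by
    intro x y
    obtain ⟨r, hr⟩ := FiniteField.isSquare_of_char_two (ringChar.eq F 2) x
    have hx : x = r ^ 2 := by rw [hr, sq]
    rw [hx, f_sq_mul, f_sq]
  let f : F →+* F :=
    { toFun := fun x => κ⁻¹ * β x
      map_one' := f_one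
      map_mul' := f_mul
      map_zero' := by simp
      map_add' := by intro x y; rw [map_add, mul_add] }
  have hfinj : Function.Injective f := f.injective
  let τ : F ≃+* F := RingEquiv.ofBijective f ⟨hfinj, Finite.injective_iff_surjective.mp hfinj⟩
  have hτ : ∀ x, τ x = κ⁻¹ * β x := fun x => rfl
  have hβτ : ∀ x, β x = κ * τ x := by
    intro x
    rw [hτ]
    field_simp
  have hτσ : ∀ x, τ (sg m x) = sg m (τ x) := by
    intro x
    rw [sg_apply, sg_apply, map_pow]
  obtain ⟨l, hl⟩ : ∃ l, l * sg m l = κ :=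
    (Finite.injective_iff_surjective.mp (mul_sg_injective hσ)) κ
  have hl0 : l ≠ 0 := by
    rintro rfl
    simp at hl
    exact hκ0 hl.symm
  refine ⟨l, τ, hl0, ?_, ?_⟩
  · intro a
    apply mul_sg_injective hσ
    show α a * sg m (α a) = (l * τ a) * sg m (l * τ a)
    rw [← h1, hβτ, map_mul, hτσ, map_mul, ← hl]
    ring
  · intro b
    rw [hl, hβτ]

end AutField

end Cfsg.Agent.Lib.Helper6
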