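import Mathlib
import Cfsg.Agent.Lib.Helper6.SzAut1

/-!
# Automorphisms of the Suzuki 2-group, part 2: the concrete group (helper6)

`SuzP F m` is the group on `F × F` with `(a,b)(c,d) = (a+c, b+d+σ(a)c)`.  We define the
homomorphism `autPsi : MulAut (SuzP F m) →* Equiv.Perm F` (action on the Frattini quotient),
determine its kernel (shears by additive maps) and its range (maps `a ↦ l τ(a)`).
-/

set_option autoImplicit false
set_option linter.unusedSectionVars false

namespace Cfsg.Agent.Lib.Helper6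

open Cfsg

noncomputable section

/-- The Suzuki 2-group on `F × F`. -/
@[ext] structure SuzP (F : Type*) (m : ℕ) where
  /-- first coordinate -/
  fst : F
  /-- second coordinate -/
  snd : F

namespace SuzP

variable {F : Type*} [Field F] [CharP F 2] {m : ℕ}

instance instMulSuzP : Mul (SuzP F m) :=
  ⟨fun x y => ⟨x.fst + y.fst, x.snd + y.snd + sg m x.fst * y.fst⟩⟩

instance instOneSuzP : One (SuzP F m) := ⟨⟨0, 0⟩⟩

instance instInvSuzP : Inv (SuzP F m) := ⟨fun x => ⟨x.fst, x.snd + sg m x.fst * x.fst⟩⟩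

instance instGroupSuzP : Group (SuzP F m) := Group.ofLeftAxioms
  (by
    intro x y z
    apply SuzP.ext
    · show x.fst + y.fst + z.fst = x.fst + (y.fst + z.fst)
      ring
    · show x.snd + y.snd + sg m x.fst * y.fst + z.snd + sg m (x.fst + y.fst) * z.fst =
        x.snd + (y.snd + z.snd + sg m y.fst * z.fst) + sg m x.fst * (y.fst + z.fst)
      rw [map_add]; ring)
  (by
    intro x
    apply SuzP.ext
    · show 0 + x.fst = x.fst
      ring
    · show 0 + x.snd + sg m 0 * x.fst = x.snd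
      rw [map_zero]; ring)
  (by
    intro x
    have h2 : (2 : F) = 0 := two_eq_zero'
    apply SuzP.ext
    · show x.fst + x.fst = 0
      exact CharTwo.add_self_eq_zero _
    · show x.snd + sg m x.fst * x.fst + x.snd + sg m x.fst * x.fst = 0
      linear_combination (x.snd + sg m x.fst * x.fst) * h2)

@[simp] theorem mul_fst (x y : SuzP F m) : (x * y).fst = x.fst + y.fst := rfl

@[simp] theorem mul_snd (x y : SuzP F m) :
    (x * y).snd = x.snd + y.snd + sg m x.fst * y.fst := rfl

@[simp] theorem one_fst : (1 : SuzP F m).fst = 0 := rfl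

@[simp] theorem one_snd : (1 : SuzP F m).snd = 0 := rfl

theorem mk_mul_mk (a b c d : F) :
    (⟨a, b⟩ : SuzP F m) * ⟨c, d⟩ = ⟨a + c, b + d + sg m a * c⟩ := rfl

theorem one_eq : (1 : SuzP F m) = ⟨0, 0⟩ := rfl

theorem sq_eq (x : SuzP F m) : x * x = ⟨0, x.fst * sg m x.fst⟩ := by
  apply SuzP.ext
  · exact CharTwo.add_self_eq_zero _
  · show x.snd + x.snd + sg m x.fst * x.fst = x.fst * sg m x.fst
    rw [CharTwo.add_self_eq_zero, zero_add, mul_comm]

theorem split (x : SuzP F m) : x = ⟨x.fst, 0⟩ * ⟨0, x.snd⟩ := by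
  apply SuzP.ext
  · show x.fst = x.fst + 0
    rw [add_zero]
  · show x.snd = 0 + x.snd + sg m x.fst * 0
    ring

/-- Automorphisms preserve the centre `{(0,b)}`. -/
theorem map_zero_fst (φ : MulAut (SuzP F m)) (b : F) : (φ ⟨0, b⟩).fst = 0 := by
  have h : (⟨0, b⟩ : SuzP F m) * ⟨0, b⟩ = 1 := by
    rw [sq_eq]
    apply SuzP.ext
    · rfl
    · show (0 : F) * sg m 0 = 0
      rw [zero_mul]
  have h2 := congrArg φ h
  rw [map_mul, map_one, sq_eq] at h2
  have h3 : (φ ⟨0, b⟩).fst * sg m (φ ⟨0, b⟩).fst = 0 := congrArg SuzP.snd h2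
  rcases mul_eq_zero.mp h3 with h | h
  · exact h
  · exact (map_eq_zero (sg m)).mp h

/-- The action on the first coordinate. -/
def alphaFun (φ : MulAut (SuzP F m)) (a : F) : F := (φ ⟨a, 0⟩).fst

/-- The action on the centre. -/
def betaFun (φ : MulAut (SuzP F m)) (b : F) : F := (φ ⟨0, b⟩).snd

theorem map_fst (φ : MulAut (SuzP F m)) (x : SuzP F m) : (φ x).fst = alphaFun φ x.fst := by
  conv_lhs => rw [split x]
  rw [map_mul, mul_fst, map_zero_fst, add_zero]
  rfl

theorem map_center (φ : MulAut (SuzP F m)) (b : F) : φ ⟨0, b⟩ = ⟨0, betaFun φ b⟩ := by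
  apply SuzP.ext
  · exact map_zero_fst φ b
  · rfl

theorem alphaFun_add (φ : MulAut (SuzP F m)) (a c : F) :
    alphaFun φ (a + c) = alphaFun φ a + alphaFun φ c := by
  have h := map_fst φ ((⟨a, 0⟩ : SuzP F m) * ⟨c, 0⟩)
  rw [map_mul, mul_fst, mul_fst] at h
  exact h.symm

theorem alphaFun_mul (φ ψ : MulAut (SuzP F m)) (a : F) :
    alphaFun (φ * ψ) a = alphaFun φ (alphaFun ψ a) := by
  show (φ (ψ ⟨a, 0⟩)).fst = _
  rw [map_fst]
  rfl

theorem alphaFun_one (a : F) : alphaFun (1 : MulAut (SuzP F m)) a = a := rfl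

theorem betaFun_add (φ : MulAut (SuzP F m)) (b d : F) :
    betaFun φ (b + d) = betaFun φ b + betaFun φ d := by
  have h : (⟨0, b + d⟩ : SuzP F m) = ⟨0, b⟩ * ⟨0, d⟩ := by
    rw [mk_mul_mk, map_zero, zero_mul, add_zero, add_zero]
  have h2 := congrArg (fun x => (φ x).snd) h
  simp only [map_mul, mul_snd, map_zero_fst, map_zero, zero_mul, add_zero] at h2
  exact h2

theorem betaFun_mul (φ ψ : MulAut (SuzP F m)) (b : F) :
    betaFun (φ * ψ) b = betaFun φ (betaFun ψ b) := by
  show (φ (ψ ⟨0, b⟩)).snd = _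
  rw [map_center ψ]
  rfl

theorem betaFun_one (b : F) : betaFun (1 : MulAut (SuzP F m)) b = b := rfl

/-- The key relation between the two actions. -/
theorem betaFun_norm (φ : MulAut (SuzP F m)) (a : F) :
    betaFun φ (a * sg m a) = alphaFun φ a * sg m (alphaFun φ a) := by
  have h : (⟨a, 0⟩ : SuzP F m) * ⟨a, 0⟩ = ⟨0, a * sg m a⟩ := sq_eq _
  have h2 := congrArg (fun x => (φ x).snd) h
  simp only [map_mul] at h2
  rw [sq_eq] at h2
  exact h2.symm

/-- The action on the Frattini quotient as a homomorphism to `Equiv.Perm F`. -/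
def autPsi : MulAut (SuzP F m) →* Equiv.Perm F where
  toFun φ :=
    { toFun := alphaFun φ
      invFun := alphaFun φ⁻¹
      left_inv := fun a => by rw [← alphaFun_mul, inv_mul_cancel, alphaFun_one]
      right_inv := fun a => by rw [← alphaFun_mul, mul_inv_cancel, alphaFun_one] }
  map_one' := by
    ext a
    rfl
  map_mul' φ ψ := by
    ext a
    exact alphaFun_mul φ ψ a

@[simp] theorem autPsi_apply (φ : MulAut (SuzP F m)) (a : F) : autPsi φ a = alphaFun φ a := rfl

/-- `alphaFun` as an additive equivalence. -/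
def alphaEquiv (φ : MulAut (SuzP F m)) : F ≃+ F := AddEquiv.mk' (autPsi φ) (alphaFun_add φ)

/-- `betaFun` as an additive equivalence. -/
def betaEquiv (φ : MulAut (SuzP F m)) : F ≃+ F :=
  AddEquiv.mk'
    { toFun := betaFun φ
      invFun := betaFun φ⁻¹
      left_inv := fun a => by rw [← betaFun_mul, inv_mul_cancel, betaFun_one]
      right_inv := fun a => by rw [← betaFun_mul, mul_inv_cancel, betaFun_one] }
    (betaFun_add φ)

@[simp] theorem alphaEquiv_apply (φ : MulAut (SuzP F m)) (a : F) :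
    alphaEquiv φ a = alphaFun φ a := rfl

@[simp] theorem betaEquiv_apply (φ : MulAut (SuzP F m)) (a : F) :
    betaEquiv φ a = betaFun φ a := rfl

/-- Every automorphism acts on the Frattini quotient as `a ↦ l τ(a)`. -/
theorem autPsi_form [Fintype F] (hσ : SgSq (F := F) m) (φ : MulAut (SuzP F m)) :
    ∃ (l : F) (τ : F ≃+* F), l ≠ 0 ∧ ∀ a, autPsi φ a = l * τ a := by
  obtain ⟨l, τ, hl, h1, -⟩ := aut_field_main hσ (alphaEquiv φ) (betaEquiv φ)
    (fun a => betaFun_norm φ a)
  exact ⟨l, τ, hl, h1⟩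

/-! ### The kernel -/

/-- The shear automorphism attached to an additive map. -/
def shearAut (γ : F →+ F) : MulAut (SuzP F m) where
  toFun x := ⟨x.fst, x.snd + γ x.fst⟩
  invFun x := ⟨x.fst, x.snd + γ x.fst⟩
  left_inv x := by
    apply SuzP.ext
    · rfl
    · show x.snd + γ x.fst + γ x.fst = x.snd
      rw [add_assoc, CharTwo.add_self_eq_zero, add_zero]
  right_inv x := by
    apply SuzP.ext
    · rfl
    · show x.snd + γ x.fst + γ x.fst = x.snd
      rw [add_assoc, CharTwo.add_self_eq_zero, add_zero]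
  map_mul' x y := by
    apply SuzP.ext
    · rfl
    · show x.snd + y.snd + sg m x.fst * y.fst + γ (x.fst + y.fst) =
        x.snd + γ x.fst + (y.snd + γ y.fst) + sg m x.fst * y.fst
      rw [map_add]; ring

theorem shearAut_apply (γ : F →+ F) (x : SuzP F m) :
    shearAut γ x = ⟨x.fst, x.snd + γ x.fst⟩ := rfl

/-- Shears form a homomorphic image of the additive group `F →+ F`. -/
def shearHom : Multiplicative (F →+ F) →* MulAut (SuzP F m) where
  toFun γ := shearAut (Multiplicative.toAdd γ)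
  map_one' := by
    ext x
    · rfl
    · show x.snd + (0 : F →+ F) x.fst = x.snd
      simp
  map_mul' γ γ' := by
    ext x
    · rfl
    · show x.snd + (Multiplicative.toAdd γ + Multiplicative.toAdd γ') x.fst =
        x.snd + (Multiplicative.toAdd γ') x.fst + (Multiplicative.toAdd γ) x.fst
      rw [AddMonoidHom.add_apply]; ring

theorem shearHom_injective : Function.Injective (shearHom (F := F) (m := m)) := by
  intro γ γ' h
  apply Multiplicative.toAdd.injective
  ext a
  have h2 := congrArg (fun φ : MulAut (SuzP F m) => (φ ⟨a, 0⟩).snd) h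
  have e : ∀ δ : Multiplicative (F →+ F),
      ((shearHom δ : MulAut (SuzP F m)) ⟨a, 0⟩).snd = 0 + (Multiplicative.toAdd δ) a := fun δ => rfl
  simp only [e, zero_add] at h2
  exact h2

theorem autPsi_shear (γ : Multiplicative (F →+ F)) :
    autPsi (shearHom (F := F) (m := m) γ) = 1 := by
  ext a
  rfl

/-- The kernel of `autPsi` consists of shears. -/
theorem exists_shear_of_autPsi_eq_one [Finite F] (hσ : SgSq (F := F) m)
    (φ : MulAut (SuzP F m)) (h : autPsi φ = 1) :
    ∃ γ : Multiplicative (F →+ F), shearHom γ = φ := by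
  have hα : ∀ a, alphaFun φ a = a := by
    intro a
    have := congrArg (fun p : Equiv.Perm F => p a) h
    exact this
  have hβ : ∀ b, betaFun φ b = b := by
    intro b
    obtain ⟨a, rfl⟩ : ∃ a, a * sg m a = b :=
      (Finite.injective_iff_surjective.mp (mul_sg_injective hσ)) b
    rw [betaFun_norm, hα]
  -- the additive map
  have hφa : ∀ a, φ ⟨a, 0⟩ = ⟨a, (φ ⟨a, 0⟩).snd⟩ := by
    intro a
    apply SuzP.ext
    · exact hα a
    · rfl
  have hγadd : ∀ a c, (φ ⟨a + c, 0⟩).snd = (φ ⟨a, 0⟩).snd + (φ ⟨c, 0⟩).snd := by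
    intro a c
    have e : (⟨a, 0⟩ : SuzP F m) * ⟨c, 0⟩ = ⟨a + c, 0⟩ * ⟨0, sg m a * c⟩ := by
      rw [mk_mul_mk, mk_mul_mk]
      apply SuzP.ext
      · show a + c = a + c + 0
        ring
      · show 0 + 0 + sg m a * c = 0 + sg m a * c + sg m (a + c) * 0
        ring
    have h2 := congrArg (fun x => (φ x).snd) e
    simp only [map_mul, mul_snd] at h2
    have e0 : (φ ⟨a, 0⟩).fst = a := hα a
    have e1 : (φ ⟨c, 0⟩).fst = c := hα c
    rw [map_center, hβ, e0, e1] at h2
    dsimp only at h2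
    rw [mul_zero, add_zero] at h2
    exact (add_right_cancel h2).symm
  let γ : F →+ F :=
    { toFun := fun a => (φ ⟨a, 0⟩).snd
      map_zero' := by
        have : φ ⟨0, 0⟩ = 1 := by rw [← one_eq, map_one]
        rw [this]; rfl
      map_add' := hγadd }
  refine ⟨Multiplicative.ofAdd γ, ?_⟩
  ext x
  · show x.fst = (φ x).fst
    rw [map_fst, hα]
  · show x.snd + (φ ⟨x.fst, 0⟩).snd = (φ x).snd
    conv_rhs => rw [split x]
    rw [map_mul, mul_snd, map_center, hβ]
    show _ = _ + _ + sg m _ * (0 : F)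
    ring

/-! ### The range -/

theorem sg_ringEquiv_comm (τ : F ≃+* F) (x : F) : τ (sg m x) = sg m (τ x) := by
  rw [sg_apply, sg_apply, map_pow]

/-- The diagonal automorphism attached to a scalar and a field automorphism. -/
def diagAut (l : Fˣ) (τ : F ≃+* F) : MulAut (SuzP F m) where
  toFun x := ⟨(l : F) * τ x.fst, ((l : F) * sg m (l : F)) * τ x.snd⟩
  invFun x := ⟨τ.symm ((l : F)⁻¹ * x.fst), τ.symm (((l : F) * sg m (l : F))⁻¹ * x.snd)⟩
  left_inv x := by
    have hl : (l : F) ≠ 0 := l.ne_zero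
    have hsl : sg m (l : F) ≠ 0 := (map_ne_zero (sg m)).mpr hl
    apply SuzP.ext
    · show τ.symm ((l : F)⁻¹ * ((l : F) * τ x.fst)) = x.fst
      rw [← mul_assoc, inv_mul_cancel₀ hl, one_mul, RingEquiv.symm_apply_apply]
    · show τ.symm (((l : F) * sg m (l : F))⁻¹ * (((l : F) * sg m (l : F)) * τ x.snd)) = x.snd
      rw [← mul_assoc, inv_mul_cancel₀ (mul_ne_zero hl hsl), one_mul,
        RingEquiv.symm_apply_apply]
  right_inv x := by
    have hl : (l : F) ≠ 0 := l.ne_zero
    have hsl : sg m (l : F) ≠ 0 := (map_ne_zero (sg m)).mpr hl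
    apply SuzP.ext
    · show (l : F) * τ (τ.symm ((l : F)⁻¹ * x.fst)) = x.fst
      rw [RingEquiv.apply_symm_apply, ← mul_assoc, mul_inv_cancel₀ hl, one_mul]
    · show ((l : F) * sg m (l : F)) * τ (τ.symm (((l : F) * sg m (l : F))⁻¹ * x.snd)) = x.snd
      rw [RingEquiv.apply_symm_apply, ← mul_assoc, mul_inv_cancel₀ (mul_ne_zero hl hsl),
        one_mul]
  map_mul' x y := by
    apply SuzP.ext
    · show (l : F) * τ (x.fst + y.fst) = (l : F) * τ x.fst + (l : F) * τ y.fst
      rw [map_add]; ring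
    · show ((l : F) * sg m (l : F)) * τ (x.snd + y.snd + sg m x.fst * y.fst) =
        ((l : F) * sg m (l : F)) * τ x.snd + ((l : F) * sg m (l : F)) * τ y.snd +
          sg m ((l : F) * τ x.fst) * ((l : F) * τ y.fst)
      rw [map_add, map_add, map_mul, map_mul, sg_ringEquiv_comm]; ring

theorem autPsi_diag (l : Fˣ) (τ : F ≃+* F) (a : F) :
    autPsi (diagAut (m := m) l τ) a = l * τ a := rfl

/-- Description of the range of `autPsi`. -/
theorem mem_range_autPsi_iff [Fintype F] (hσ : SgSq (F := F) m) (p : Equiv.Perm F) :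
    p ∈ (autPsi (F := F) (m := m)).range ↔ ∃ (l : Fˣ) (τ : F ≃+* F), ∀ a, p a = l * τ a := by
  constructor
  · rintro ⟨φ, rfl⟩
    obtain ⟨l, τ, hl, h⟩ := autPsi_form hσ φ
    exact ⟨Units.mk0 l hl, τ, h⟩
  · rintro ⟨l, τ, h⟩
    refine ⟨diagAut l τ, ?_⟩
    ext a
    rw [h a]
    rfl

end SuzP

end

end Cfsg.Agent.Lib.Helper6
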