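import Mathlib
import Cfsg.Prelude.Def_Solvable
import Cfsg.Prelude.Def_Transfer
import Cfsg.Agent.Lib.Helper6.SzAut2

/-!
# Automorphisms of the Suzuki 2-group, part 3: counting and the structure theorem (helper6)
-/

set_option autoImplicit false
set_option linter.unusedSectionVars false
set_option linter.style.haveILetI false

namespace Cfsg.Agent.Lib.Helper6

open Cfsg

section Count

variable {F : Type*} [Field F] [Fintype F] [CharP F 2]

theorem finrank_zmod_two {n : ℕ} (hF : Fintype.card F = 2 ^ n) :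
    @Module.finrank (ZMod 2) F _ _ (ZMod.algebra F 2).toModule = n := by
  letI := ZMod.algebra F 2
  have h := Module.card_eq_pow_finrank (K := ZMod 2) (V := F)
  rw [ZMod.card, hF] at h
  exact (Nat.pow_right_injective (le_refl 2) h).symm

theorem card_addMonoidHom_self {n : ℕ} (hF : Fintype.card F = 2 ^ n) :
    Nat.card (F →+ F) = 2 ^ (n ^ 2) := by
  letI := ZMod.algebra F 2
  have e := (AddMonoidHom.toZModLinearMapEquiv 2 (M := F) (M₁ := F)).toEquiv
  rw [Nat.card_congr e, Module.natCard_eq_pow_finrank (K := ZMod 2), Module.finrank_linearMap,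
    finrank_zmod_two hF, Nat.card_zmod, sq]

theorem card_ringEquiv_self {n : ℕ} (hF : Fintype.card F = 2 ^ n) :
    Nat.card (F ≃+* F) = n := by
  letI := ZMod.algebra F 2
  have hcomm : ∀ (τ : F ≃+* F) (x : ZMod 2),
      τ (algebraMap (ZMod 2) F x) = algebraMap (ZMod 2) F x := by
    intro τ x
    have : (τ : F →+* F).comp (algebraMap (ZMod 2) F) = algebraMap (ZMod 2) F :=
      Subsingleton.elim _ _
    exact DFunLike.congr_fun this x
  let e : (F ≃+* F) ≃ (F ≃ₐ[ZMod 2] F) :=
    { toFun := fun τ => AlgEquiv.ofRingEquiv (f := τ) (hcomm τ)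
      invFun := fun τ => τ.toRingEquiv
      left_inv := fun τ => by ext; rfl
      right_inv := fun τ => by ext; rfl }
  rw [Nat.card_congr e, IsGalois.card_aut_eq_finrank, finrank_zmod_two hF]

end Count

section GroupLemmas

/-- If the kernel of `Ψ` is a `2`-group and its range has odd order then `O₂(G) = ker Ψ`. -/
theorem pCore_two_eq_ker {G R : Type*} [Group G] [Group R] (Ψ : G →* R)
    (h2 : IsPGroup 2 Ψ.ker) (hodd : Odd (Nat.card Ψ.range)) : Cfsg.pCore 2 G = Ψ.ker := by
  apply le_antisymm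
  · apply sSup_le
    rintro N ⟨-, hp⟩ g hg
    rw [MonoidHom.mem_ker]
    obtain ⟨k, hk⟩ := hp ⟨g, hg⟩
    have hk' : g ^ 2 ^ k = 1 := by
      have := congrArg Subtype.val hk
      simpa using this
    have h1 : orderOf (Ψ g) ∣ 2 ^ k :=
      orderOf_dvd_of_pow_eq_one (by rw [← map_pow, hk', map_one])
    have h3 : orderOf (⟨Ψ g, MonoidHom.mem_range.mpr ⟨g, rfl⟩⟩ : Ψ.range) ∣ Nat.card Ψ.range :=
      orderOf_dvd_natCard _
    rw [Subgroup.orderOf_mk] at h3
    have hcop : Nat.Coprime (2 ^ k) (Nat.card Ψ.range) :=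
      Nat.Coprime.pow_left k (Nat.coprime_two_left.mpr hodd)
    have := Nat.eq_one_of_dvd_coprimes hcop h1 h3
    exact orderOf_eq_one_iff.mp this
  · apply le_sSup
    exact ⟨inferInstance, h2⟩

/-- A subgroup which is the range of an injective homomorphism from an additive group of
exponent two. -/
theorem range_of_exponent_two {G A : Type*} [Group G] [AddCommGroup A]
    (hA : ∀ a : A, a + a = 0) (ι : Multiplicative A →* G) (hι : Function.Injective ι)
    (K : Subgroup G) (hK : ∀ g, g ∈ K ↔ ∃ a, ι a = g) :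
    Cfsg.IsElementaryAbelian 2 K ∧ Nat.card K = Nat.card A ∧ IsPGroup 2 K := by
  have hsq : ∀ g ∈ K, g ^ 2 = 1 := by
    intro g hg
    obtain ⟨a, rfl⟩ := (hK g).mp hg
    rw [← map_pow]
    have : a ^ 2 = 1 := by
      rw [sq]
      exact congrArg Multiplicative.ofAdd (hA (Multiplicative.toAdd a))
    rw [this, map_one]
  refine ⟨⟨⟨⟨?_⟩⟩, hsq⟩, ?_, ?_⟩
  · rintro ⟨g, hg⟩ ⟨h, hh⟩
    obtain ⟨a, rfl⟩ := (hK g).mp hg
    obtain ⟨b, rfl⟩ := (hK h).mp hh
    apply Subtype.ext
    show ι a * ι b = ι b * ι a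
    rw [← map_mul, ← map_mul, mul_comm]
  · have hbij : Function.Bijective (fun a : Multiplicative A =>
        (⟨ι a, (hK _).mpr ⟨a, rfl⟩⟩ : K)) := by
      constructor
      · intro a b h
        exact hι (congrArg Subtype.val h)
      · rintro ⟨g, hg⟩
        obtain ⟨a, rfl⟩ := (hK g).mp hg
        exact ⟨a, rfl⟩
    rw [← Nat.card_congr (Equiv.ofBijective _ hbij)]
    exact Nat.card_congr Multiplicative.toAdd
  · rintro ⟨g, hg⟩
    refine ⟨1, ?_⟩
    apply Subtype.ext
    show g ^ 2 ^ 1 = 1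
    rw [pow_one]
    exact hsq g hg

end GroupLemmas

section Structure

variable {F : Type*} [Field F] [Fintype F] [CharP F 2] {m : ℕ}

open SuzP

/-- The order of the range of `autPsi`. -/
theorem card_range_autPsi (hF : Fintype.card F = 2 ^ (2 * m + 1)) :
    Nat.card (autPsi (F := F) (m := m)).range = (2 ^ (2 * m + 1) - 1) * (2 * m + 1) := by
  have hσ := sgSq_of_card m hF
  let J : Fˣ × (F ≃+* F) → Equiv.Perm F := fun p => autPsi (diagAut (m := m) p.1 p.2)
  have hJ : Function.Injective J := by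
    rintro ⟨l, τ⟩ ⟨l', τ'⟩ h
    have h1 : ∀ a, (l : F) * τ a = (l' : F) * τ' a := by
      intro a
      have := congrArg (fun p : Equiv.Perm F => p a) h
      exact this
    have hl : l = l' := by
      apply Units.ext
      have := h1 1
      rwa [map_one, map_one, mul_one, mul_one] at this
    subst hl
    have hτ : τ = τ' := by
      ext a
      exact mul_left_cancel₀ l.ne_zero (h1 a)
    rw [hτ]
  have hrange : ((autPsi (F := F) (m := m)).range : Set (Equiv.Perm F)) = Set.range J := by
    ext p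
    rw [SetLike.mem_coe, mem_range_autPsi_iff hσ]
    constructor
    · rintro ⟨l, τ, h⟩
      refine ⟨(l, τ), ?_⟩
      ext a
      rw [h a]
      rfl
    · rintro ⟨⟨l, τ⟩, rfl⟩
      exact ⟨l, τ, fun a => rfl⟩
  have e1 : Nat.card (autPsi (F := F) (m := m)).range = Nat.card (Set.range J) := by
    have : Nat.card (autPsi (F := F) (m := m)).range =
        Nat.card ((autPsi (F := F) (m := m)).range : Set (Equiv.Perm F)) := rfl
    rw [this, hrange]
  rw [e1, Nat.card_range_of_injective hJ, Nat.card_prod, Nat.card_units,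
    Nat.card_eq_fintype_card, hF, card_ringEquiv_self hF]

/-- The structure of the automorphism group of a group isomorphic to the Suzuki 2-group. -/
theorem aut_suzP_structure {S : Type*} [Group S] (hF : Fintype.card F = 2 ^ (2 * m + 1))
    (e : S ≃* SuzP F m) :
    Cfsg.IsElementaryAbelian 2 (Cfsg.pCore 2 (MulAut S)) ∧
      Nat.card ↥(Cfsg.pCore 2 (MulAut S)) = 2 ^ ((2 * m + 1) ^ 2) ∧
      Nat.card (MulAut S) = 2 ^ ((2 * m + 1) ^ 2) * ((2 * m + 1) * (2 ^ (2 * m + 1) - 1)) := by
  have hσ := sgSq_of_card m hF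
  let c : MulAut S ≃* MulAut (SuzP F m) := MulAut.congr e
  let Ψ : MulAut S →* Equiv.Perm F := (autPsi (F := F) (m := m)).comp c.toMonoidHom
  let ι : Multiplicative (F →+ F) →* MulAut S :=
    c.symm.toMonoidHom.comp (shearHom (F := F) (m := m))
  have hι : Function.Injective ι := by
    intro a b h
    apply shearHom_injective (F := F) (m := m)
    exact c.symm.injective h
  have hK : ∀ g, g ∈ Ψ.ker ↔ ∃ a, ι a = g := by
    intro g
    rw [MonoidHom.mem_ker]
    constructor
    · intro h
      obtain ⟨γ, hγ⟩ := exists_shear_of_autPsi_eq_one hσ (c g) h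
      refine ⟨γ, ?_⟩
      show c.symm (shearHom γ) = g
      rw [hγ, MulEquiv.symm_apply_apply]
    · rintro ⟨γ, rfl⟩
      show autPsi (c (c.symm (shearHom γ))) = 1
      rw [MulEquiv.apply_symm_apply, autPsi_shear]
  have hA : ∀ a : F →+ F, a + a = 0 := by
    intro a
    ext x
    show a x + a x = 0
    exact CharTwo.add_self_eq_zero _
  obtain ⟨hel, hcard, hp⟩ := range_of_exponent_two hA ι hι Ψ.ker hK
  have hrange : Ψ.range = (autPsi (F := F) (m := m)).range := by
    ext p
    constructor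
    · rintro ⟨g, rfl⟩
      exact ⟨c g, rfl⟩
    · rintro ⟨φ, rfl⟩
      refine ⟨c.symm φ, ?_⟩
      show autPsi (c (c.symm φ)) = autPsi φ
      rw [MulEquiv.apply_symm_apply]
  have hrc : Nat.card Ψ.range = (2 ^ (2 * m + 1) - 1) * (2 * m + 1) := by
    rw [hrange, card_range_autPsi hF]
  have hodd : Odd (Nat.card Ψ.range) := by
    rw [hrc]
    apply Odd.mul
    · apply Nat.Even.sub_odd (Nat.one_le_two_pow)
      · exact (Nat.even_pow.mpr ⟨even_two, by omega⟩)
      · exact odd_one
    · exact ⟨m, rfl⟩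
  have hcore := pCore_two_eq_ker Ψ hp hodd
  rw [hcore]
  refine ⟨hel, ?_, ?_⟩
  · rw [hcard, card_addMonoidHom_self hF]
  · rw [← Subgroup.card_mul_index Ψ.ker, Subgroup.index_ker, hcard, card_addMonoidHom_self hF,
      hrc, mul_comm (2 ^ (2 * m + 1) - 1)]

end Structure

end Cfsg.Agent.Lib.Helper6
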