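import Mathlib
import Cfsg.Agent.Lib.Helper6.SzAut3
import Cfsg.Agent.Lib.Helper6.SzTI
import Cfsg.Agent.Lib.Helper95.SzIso

/-!
# Automorphisms of the Suzuki 2-group, part 4: identifying the Sylow 2-subgroup (helper6)
-/

set_option autoImplicit false
set_option linter.unusedSectionVars false

namespace Cfsg.Agent.Lib.Helper6

open Cfsg

section

variable {F : Type*} [Field F] [Fintype F] [CharP F 2] {m : ℕ}

/-- The translation subgroup is isomorphic to the concrete group `SuzP F m`. -/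
noncomputable def suzPEquiv (hσ : SgSq (F := F) m) : SuzP F m ≃* szTsub hσ :=
  MulEquiv.ofBijective
    ({ toFun := fun x => tq hσ x.fst x.snd
       map_one' := tq_one hσ
       map_mul' := fun x y => (tq_mul hσ x.fst x.snd y.fst y.snd).symm } : SuzP F m →* szTsub hσ)
    (by
      constructor
      · intro x y h
        obtain ⟨h1, h2⟩ := tq_inj hσ h
        exact SuzP.ext h1 h2
      · intro g
        obtain ⟨a, b, rfl⟩ := tq_surj hσ g
        exact ⟨⟨a, b⟩, rfl⟩)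

/-- Any group isomorphic to a Sylow 2-subgroup of the Suzuki group (`Sp₄` model) is isomorphic
to `SuzP F m`. -/
theorem nonempty_equiv_suzP {S : Type*} [Group S] (hm : 1 ≤ m)
    (hF : Fintype.card F = 2 ^ (2 * m + 1))
    (P : Sylow 2 ↥(Cfsg.Lie.Sz F (2 ^ (m + 1))))
    (hS : Nonempty (S ≃* ↥(P : Subgroup ↥(Cfsg.Lie.Sz F (2 ^ (m + 1)))))) :
    Nonempty (S ≃* SuzP F m) := by
  have hσ := sgSq_of_card m hF
  obtain ⟨e0⟩ := hS
  set f := (Cfsg.Agent.Lib.Helper95.szIso hm hF).symm with hf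
  have : Fact (Nat.Prime 2) := ⟨Nat.prime_two⟩
  have : Finite ↥(Cfsg.Lie.Sz F (2 ^ (m + 1))) := Finite.of_equiv _ f.symm.toEquiv
  let Q : Subgroup (Sz F m) := (P : Subgroup ↥(Cfsg.Lie.Sz F (2 ^ (m + 1)))).map f.toMonoidHom
  let e1 : ↥(P : Subgroup ↥(Cfsg.Lie.Sz F (2 ^ (m + 1)))) ≃* Q :=
    f.subgroupMap (P : Subgroup ↥(Cfsg.Lie.Sz F (2 ^ (m + 1))))
  have hQ : Nat.card Q = 2 ^ (Nat.card (Sz F m)).factorization 2 := by
    rw [← Nat.card_congr e1.toEquiv, ← Nat.card_congr f.toEquiv]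
    exact P.card_eq_multiplicity
  let Q' : Sylow 2 (Sz F m) := Sylow.ofCard Q hQ
  let e2 : Q ≃* szTsub hσ := Sylow.equiv Q' (szSylow hσ hm hF)
  exact ⟨((e0.trans e1).trans e2).trans (suzPEquiv hσ).symm⟩

end

end Cfsg.Agent.Lib.Helper6
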