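import Mathlib
import Cfsg.Agent.Lib.Helper5.UnitaryCenter

/-!
# Automorphisms of the Sylow 2-subgroup of `SU₃(2ⁿ)`, part 1: the field-theoretic core (helper6)

`F` is a finite field with `q²` elements of characteristic two.  If `α : F ≃+ F` and a map `β`,
additive on the fixed field of `x ↦ x ^ q`, satisfy `β (a a^q) = α a (α a)^q`, then
`α a = l τ(a)` for a scalar `l ≠ 0` and a field automorphism `τ`.
-/

set_option autoImplicit false
set_option linter.unusedSectionVars false

namespace Cfsg.Agent.Lib.Helper6.UniAut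

open Cfsg.Agent.Lib.Helper5

variable {F : Type*} [Field F] [Fintype F] [CharP F 2] {q : ℕ}

theorem eq_of_add_eq_zero {x y : F} (h : x + y = 0) : y = x := by
  have h2 : (2 : F) = 0 := CharTwo.two_eq_zero
  linear_combination h - x * h2

theorem trace_fixed (hF : Fintype.card F = q ^ 2) (x : F) : (x + x ^ q) ^ q = x + x ^ q := by
  rw [add_pow_q hF, pow_q_pow_q hF, add_comm]

theorem trace_eq_zero_iff (x : F) : x + x ^ q = 0 ↔ x ^ q = x := by
  constructor
  · intro h
    exact eq_of_add_eq_zero h
  · intro h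
    rw [h]
    exact CharTwo.add_self_eq_zero x

theorem sq_inj {x y : F} (h : x * x = y * y) : x = y := by
  have h2 : (2 : F) = 0 := CharTwo.two_eq_zero
  have : (x - y) * (x - y) = 0 := by linear_combination h - x * y * h2 + y * y * h2
  have h3 : x - y = 0 := by
    rcases mul_eq_zero.mp this with h | h <;> exact h
  exact sub_eq_zero.mp h3

theorem exists_fixed_sqrt (_hF : Fintype.card F = q ^ 2) {c : F} (hc : c ^ q = c) :
    ∃ s : F, s ^ q = s ∧ s * s = c := by
  have hinj : Function.Injective (fun x : F => x * x) := fun x y h => sq_inj h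
  obtain ⟨s, hs⟩ := (Finite.injective_iff_surjective.mp hinj) c
  refine ⟨s, ?_, hs⟩
  apply sq_inj
  have hs' : s * s = c := hs
  rw [← mul_pow, hs', hc]

/-- The normalised statement: `α 1 = 1` forces `α` to be a field automorphism. -/
theorem semilinear_normalized (hF : Fintype.card F = q ^ 2) (α : F ≃+ F) (β : F → F)
    (hN : ∀ a, β (a * a ^ q) = α a * (α a) ^ q)
    (hadd : ∀ x y, x ^ q = x → y ^ q = y → β (x + y) = β x + β y)
    (hinj : ∀ x, x ^ q = x → β x = 0 → x = 0) (h1 : α 1 = 1) :
    ∃ τ : F ≃+* F, ∀ a, α a = τ a := by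
  have h2 : (2 : F) = 0 := CharTwo.two_eq_zero
  have hq2 := two_le_of_card_eq_sq hF
  have hq0 : q ≠ 0 := by omega
  have hβ0 : β 0 = 0 := by
    have h := hadd 0 0 (zero_pow hq0) (zero_pow hq0)
    rw [add_zero] at h
    linear_combination -h
  -- the polar form
  have hB : ∀ a c, β (a ^ q * c + a * c ^ q) =
      (α a) ^ q * α c + α a * (α c) ^ q := by
    intro a c
    have e1 : (a + c) * (a + c) ^ q = (a * a ^ q + c * c ^ q) + (a ^ q * c + a * c ^ q) := by
      rw [add_pow_q hF]; ring
    have hfix1 : (a * a ^ q + c * c ^ q) ^ q = a * a ^ q + c * c ^ q := by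
      rw [add_pow_q hF, norm_pow_q hF, norm_pow_q hF]
    have hfix2 : (a ^ q * c + a * c ^ q) ^ q = a ^ q * c + a * c ^ q := by
      rw [add_pow_q hF, mul_pow, mul_pow, pow_q_pow_q hF, pow_q_pow_q hF]; ring
    have e2 := hN (a + c)
    rw [e1, hadd _ _ hfix1 hfix2, hadd _ _ (norm_pow_q hF a) (norm_pow_q hF c), hN, hN,
      map_add, add_pow_q hF] at e2
    linear_combination e2
  have hT : ∀ c, β (c + c ^ q) = α c + (α c) ^ q := by
    intro c
    have h := hB 1 c
    rw [one_pow, one_mul, one_mul, h1, one_pow, one_mul, one_mul] at h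
    rw [← h, add_comm]
  have hfix : ∀ c, c ^ q = c → (α c) ^ q = α c := by
    intro c hc
    have h := hT c
    rw [hc, CharTwo.add_self_eq_zero, hβ0] at h
    exact eq_of_add_eq_zero h.symm
  have hfix' : ∀ x, (α x) ^ q = α x → x ^ q = x := by
    intro x hx
    have h := hT x
    rw [hx, CharTwo.add_self_eq_zero] at h
    exact (trace_eq_zero_iff x).mp (hinj _ (trace_fixed hF x) h)
  -- semilinearity for non-fixed `x`
  have hsemi1 : ∀ c x, c ^ q = c → x ^ q ≠ x → α (c * x) = α c * α x := by
    intro c x hc hx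
    have hu : (α x) ^ q ≠ α x := fun h => hx (hfix' x h)
    have hμ := hfix c hc
    have e1 : (α x) ^ q * α (c * x) + α x * (α (c * x)) ^ q = 0 := by
      rw [← hB x (c * x)]
      have : x ^ q * (c * x) + x * (c * x) ^ q = 0 := by
        rw [mul_pow, hc]
        linear_combination (c * x * x ^ q) * h2
      rw [this, hβ0]
    have e2 : (α (c * x)) ^ q + α (c * x) = (α x) ^ q * α c + α x * (α c) ^ q := by
      have ha := hB (c * x) 1
      have hb := hB x c
      have harg : (c * x) ^ q * 1 + c * x * 1 ^ q = x ^ q * c + x * c ^ q := by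
        rw [mul_pow, hc, one_pow]; ring
      rw [harg, hb, h1, one_pow, mul_one, mul_one] at ha
      exact ha.symm
    rw [hμ] at e2
    have hne : α x + (α x) ^ q ≠ 0 := fun h => hu ((trace_eq_zero_iff _).mp h)
    have e3 : (α (c * x) - α c * α x) * (α x + (α x) ^ q) = 0 := by
      linear_combination e1 + α x * e2 - (α x * (α (c * x)) ^ q) * h2
    rcases mul_eq_zero.mp e3 with h | h
    · exact sub_eq_zero.mp h
    · exact absurd h hne
  -- semilinearity for all `x`
  have hsemi : ∀ c x, c ^ q = c → α (c * x) = α c * α x := by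
    intro c x hc
    by_cases hx : x ^ q = x
    · by_cases hx0 : x = 0
      · rw [hx0, mul_zero, map_zero, mul_zero]
      · obtain ⟨y, hy⟩ := exists_pow_q_ne hF
        have hxy : (x * y) ^ q ≠ x * y := by
          intro h
          rw [mul_pow, hx] at h
          exact hy (mul_left_cancel₀ hx0 h)
        have hcx : (c * x) ^ q = c * x := by rw [mul_pow, hc, hx]
        have e1 := hsemi1 (c * x) y hcx hy
        have e2 := hsemi1 c (x * y) hc hxy
        have e3 := hsemi1 x y hx hy
        have hy0 : α y ≠ 0 := by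
          intro h
          have : y = 0 := by
            have := α.injective (h.trans (map_zero α).symm)
            exact this
          apply hy
          rw [this, zero_pow hq0]
        have : α (c * x) * α y = α c * α x * α y := by
          rw [← e1, mul_assoc, e2, e3, mul_assoc]
        exact mul_right_cancel₀ hy0 this
    · exact hsemi1 c x hc hx
  -- `β = α` on the fixed field
  have hβα : ∀ c, c ^ q = c → β c = α c := by
    intro c hc
    obtain ⟨s, hs, hsc⟩ := exists_fixed_sqrt hF hc
    have h := hN s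
    rw [hs, hfix s hs, hsc, ← hsemi s s hs, hsc] at h
    exact h
  have hαT : ∀ x, α (x + x ^ q) = α x + (α x) ^ q := by
    intro x
    rw [← hβα _ (trace_fixed hF x), hT]
  have hαN : ∀ x, α (x * x ^ q) = α x * (α x) ^ q := by
    intro x
    rw [← hβα _ (norm_pow_q hF x), hN]
  have hsq : ∀ x, α (x * x) = α x * α x := by
    intro x
    have e : x * x = (x + x ^ q) * x + x * x ^ q := by
      linear_combination -(x * x ^ q) * h2
    rw [e, map_add, hsemi _ _ (trace_fixed hF x), hαT, hαN]
    linear_combination (α x * (α x) ^ q) * h2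
  have hmul : ∀ x y, α (x * y) = α x * α y := by
    intro x y
    by_cases hx : x ^ q = x
    · exact hsemi x y hx
    · have ht : x + x ^ q ≠ 0 := fun h => hx ((trace_eq_zero_iff x).mp h)
      obtain ⟨d, hd⟩ : ∃ d, d = (y + y ^ q) / (x + x ^ q) := ⟨_, rfl⟩
      have hdfix : d ^ q = d := by
        rw [hd, div_pow, trace_fixed hF, trace_fixed hF]
      have hdt : d * (x + x ^ q) = y + y ^ q := by
        rw [hd, div_mul_cancel₀ _ ht]
      obtain ⟨c, hcdef⟩ : ∃ c, c = y + d * x := ⟨_, rfl⟩
      have hcfix : c ^ q = c := by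
        rw [hcdef, add_pow_q hF, mul_pow, hdfix]
        linear_combination hdt + (y ^ q - d * x) * h2
      have hy : y = c + d * x := by
        rw [hcdef]
        linear_combination -(d * x) * h2
      have e1 : x * y = c * x + d * (x * x) := by rw [hy]; ring
      rw [e1, map_add, hsemi c x hcfix, hsemi d (x * x) hdfix, hsq, hy, map_add,
        hsemi d x hdfix]
      ring
  exact ⟨{ toEquiv := α.toEquiv, map_mul' := hmul, map_add' := α.map_add }, fun a => rfl⟩

/-- The main field-theoretic statement. -/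
theorem semilinear_main (hF : Fintype.card F = q ^ 2) (α : F ≃+ F) (β : F → F)
    (hN : ∀ a, β (a * a ^ q) = α a * (α a) ^ q)
    (hadd : ∀ x y, x ^ q = x → y ^ q = y → β (x + y) = β x + β y)
    (hinj : ∀ x, x ^ q = x → β x = 0 → x = 0) :
    ∃ (l : F) (τ : F ≃+* F), l ≠ 0 ∧ ∀ a, α a = l * τ a := by
  have hl : α 1 ≠ 0 := by
    intro h
    exact one_ne_zero (α.injective (h.trans (map_zero α).symm))
  obtain ⟨l, hldef⟩ : ∃ l, l = α 1 := ⟨_, rfl⟩
  rw [← hldef] at hl
  have hnl : l * l ^ q ≠ 0 := mul_ne_zero hl (pow_ne_zero _ hl)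
  let α₁ : F ≃+ F := AddEquiv.mk' (α.toEquiv.trans (Equiv.mulLeft₀ l⁻¹ (inv_ne_zero hl)))
    (by
      intro a b
      show l⁻¹ * α (a + b) = l⁻¹ * α a + l⁻¹ * α b
      rw [map_add, mul_add])
  have hα₁ : ∀ a, α₁ a = l⁻¹ * α a := fun a => rfl
  obtain ⟨τ, hτ⟩ := semilinear_normalized hF α₁ (fun x => (l * l ^ q)⁻¹ * β x)
    (by
      intro a
      show (l * l ^ q)⁻¹ * β (a * a ^ q) = α₁ a * (α₁ a) ^ q
      rw [hα₁, hN, mul_pow, inv_pow, mul_inv]
      ring)
    (by
      intro x y hx hy
      show (l * l ^ q)⁻¹ * β (x + y) = (l * l ^ q)⁻¹ * β x + (l * l ^ q)⁻¹ * β y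
      rw [hadd x y hx hy, mul_add])
    (by
      intro x hx h
      have h' : (l * l ^ q)⁻¹ * β x = 0 := h
      rcases mul_eq_zero.mp h' with h0 | h0
      · exact absurd h0 (inv_ne_zero hnl)
      · exact hinj x hx h0)
    (by
      rw [hα₁, ← hldef, inv_mul_cancel₀ hl])
  refine ⟨l, τ, hl, fun a => ?_⟩
  rw [← hτ a, hα₁, ← mul_assoc, mul_inv_cancel₀ hl, one_mul]

end Cfsg.Agent.Lib.Helper6.UniAut
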