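import Mathlib
import Cfsg.Agent.S1141
import Cfsg.Agent.Lib.Helper6.UniAut1

/-!
# Automorphisms of the Sylow 2-subgroup of `SU₃(2ⁿ)`, part 2: the model group (helper6)

We work with helper98's model `Par hF h2` (pairs `(a,b)` with `b + b^q = a a^q`) and define
`autPsi : MulAut (Par hF h2) →* Equiv.Perm F` (action on the Frattini quotient), determine its
kernel (shears by additive maps into the fixed field) and its range (maps `a ↦ l τ(a)`).
-/

set_option autoImplicit false
set_option linter.unusedSectionVars false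
set_option linter.style.haveILetI false

namespace Cfsg.Agent.Lib.Helper6.UniAut

open Cfsg.Agent.Lib.Helper5 Cfsg.Agent.S1141

noncomputable section

variable {F : Type*} [Field F] [Fintype F] {q : ℕ}
variable {hF : Fintype.card F = q ^ 2} {h2 : (2 : F) = 0}

/-- The fixed field of `x ↦ x ^ q` as an additive subgroup. -/
def fixedAdd (hF : Fintype.card F = q ^ 2) : AddSubgroup F where
  carrier := {x | x ^ q = x}
  add_mem' := by
    intro a b ha hb
    show (a + b) ^ q = a + b
    rw [add_pow_q hF, ha, hb]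
  zero_mem' := by
    show (0 : F) ^ q = 0
    have := two_le_of_card_eq_sq hF
    exact zero_pow (by omega)
  neg_mem' := by
    intro a ha
    show (-a) ^ q = -a
    rw [neg_pow_q hF, ha]

theorem mem_fixedAdd (x : F) : x ∈ fixedAdd hF ↔ x ^ q = x := Iff.rfl

instance finitePar : Finite (Par hF h2) := by
  apply Nat.finite_of_card_ne_zero
  rw [card_par]
  have := two_le_of_card_eq_sq hF
  positivity

/-- A chosen element with prescribed first coordinate. -/
def lft (hF : Fintype.card F = q ^ 2) (h2 : (2 : F) = 0) (a : F) : Par hF h2 :=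
  lift hF h2 (Classical.choose (exists_theta hF h2)) (Classical.choose_spec (exists_theta hF h2)) a

@[simp] theorem lft_a (a : F) : (lft hF h2 a).a = a := rfl

/-- The central element with second coordinate `b`. -/
def cen (hF : Fintype.card F = q ^ 2) (h2 : (2 : F) = 0) (b : F) (hb : b ^ q = b) : Par hF h2 :=
  ⟨0, b, by
    have := two_le_of_card_eq_sq hF
    have := charP_two h2
    rw [hb, zero_mul]
    exact CharTwo.add_self_eq_zero b⟩

@[simp] theorem cen_a (b : F) (hb : b ^ q = b) : (cen hF h2 b hb).a = 0 := rfl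

@[simp] theorem cen_b (b : F) (hb : b ^ q = b) : (cen hF h2 b hb).b = b := rfl

theorem eq_cen (z : Par hF h2) (hz : z.a = 0) : z = cen hF h2 z.b (fixed_of_center z hz) := by
  apply Par.ext
  · exact hz
  · rfl

theorem sq_eq_cen (x : Par hF h2) :
    x * x = cen hF h2 (x.a * x.a ^ q) (norm_pow_q hF x.a) := by
  apply Par.ext
  · exact (sq_eq x).1
  · exact (sq_eq x).2

theorem a_eq_zero_of_sq (w : Par hF h2) (h : w * w = 1) : w.a = 0 := by
  have hq := two_le_of_card_eq_sq hF
  have h1 := congrArg Par.b h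
  rw [(sq_eq w).2, one_b] at h1
  rcases mul_eq_zero.mp h1 with h3 | h3
  · exact h3
  · exact pow_eq_zero_iff (by omega) |>.mp h3

theorem sq_eq_one_of_a (z : Par hF h2) (hz : z.a = 0) : z * z = 1 := by
  apply Par.ext
  · rw [(sq_eq z).1, one_a]
  · rw [(sq_eq z).2, one_b, hz, zero_mul]

/-- Automorphisms preserve the centre `{a = 0}`. -/
theorem map_a_zero (φ : MulAut (Par hF h2)) (z : Par hF h2) (hz : z.a = 0) : (φ z).a = 0 := by
  apply a_eq_zero_of_sq
  rw [← map_mul, sq_eq_one_of_a z hz, map_one]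

/-- The first coordinate of the image depends only on the first coordinate. -/
theorem map_a_congr (φ : MulAut (Par hF h2)) (x y : Par hF h2) (h : x.a = y.a) :
    (φ x).a = (φ y).a := by
  have := charP_two h2
  have hz : (y⁻¹ * x).a = 0 := by
    rw [mul_a, inv_a, h]
    exact CharTwo.add_self_eq_zero _
  have e : x = y * (y⁻¹ * x) := by group
  have h3 : (φ x).a = (φ y).a + (φ (y⁻¹ * x)).a := by
    conv_lhs => rw [e]
    rw [map_mul, mul_a]
  rw [h3, map_a_zero φ _ hz, add_zero]

/-- The action on the first coordinate. -/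
def alphaFun (φ : MulAut (Par hF h2)) (a : F) : F := (φ (lft hF h2 a)).a

open scoped Classical in
/-- The action on the centre. -/
def betaFun (φ : MulAut (Par hF h2)) (b : F) : F :=
  if hb : b ^ q = b then (φ (cen hF h2 b hb)).b else 0

theorem map_a (φ : MulAut (Par hF h2)) (x : Par hF h2) : (φ x).a = alphaFun φ x.a :=
  map_a_congr φ x (lft hF h2 x.a) rfl

theorem map_cen_b (φ : MulAut (Par hF h2)) (b : F) (hb : b ^ q = b) :
    (φ (cen hF h2 b hb)).b = betaFun φ b := by
  unfold betaFun
  rw [dif_pos hb]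

theorem betaFun_fixed (φ : MulAut (Par hF h2)) (b : F) (hb : b ^ q = b) :
    (betaFun φ b) ^ q = betaFun φ b := by
  have h := map_a_zero φ (cen hF h2 b hb) rfl
  have := fixed_of_center _ h
  rw [map_cen_b] at this
  exact this

theorem alphaFun_add (φ : MulAut (Par hF h2)) (a c : F) :
    alphaFun φ (a + c) = alphaFun φ a + alphaFun φ c := by
  have h := map_a φ (lft hF h2 a * lft hF h2 c)
  rw [map_mul, mul_a, mul_a, lft_a, lft_a] at h
  exact h.symm

theorem alphaFun_mul (φ ψ : MulAut (Par hF h2)) (a : F) :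
    alphaFun (φ * ψ) a = alphaFun φ (alphaFun ψ a) := by
  show (φ (ψ (lft hF h2 a))).a = _
  rw [map_a]
  rfl

theorem alphaFun_one (a : F) : alphaFun (1 : MulAut (Par hF h2)) a = a := rfl

theorem betaFun_add (φ : MulAut (Par hF h2)) (b d : F) (hb : b ^ q = b) (hd : d ^ q = d) :
    betaFun φ (b + d) = betaFun φ b + betaFun φ d := by
  have hq := two_le_of_card_eq_sq hF
  have hbd : (b + d) ^ q = b + d := by rw [add_pow_q hF, hb, hd]
  have h : cen hF h2 (b + d) hbd = cen hF h2 b hb * cen hF h2 d hd := by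
    apply Par.ext
    · rw [mul_a, cen_a, cen_a, cen_a, add_zero]
    · rw [mul_b, cen_b, cen_b, cen_b, cen_a, zero_mul, add_zero]
  have h3 : (φ (cen hF h2 (b + d) hbd)).b = (φ (cen hF h2 b hb) * φ (cen hF h2 d hd)).b := by
    rw [h, map_mul]
  rw [mul_b, map_a_zero φ _ (cen_a b hb), zero_mul, add_zero, map_cen_b, map_cen_b,
    map_cen_b] at h3
  exact h3

theorem betaFun_norm (φ : MulAut (Par hF h2)) (a : F) :
    betaFun φ (a * a ^ q) = alphaFun φ a * (alphaFun φ a) ^ q := by
  have h := sq_eq_cen (lft hF h2 a)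
  rw [lft_a] at h
  have h3 : (φ (lft hF h2 a) * φ (lft hF h2 a)).b =
      (φ (cen hF h2 (a * a ^ q) (norm_pow_q hF a))).b := by
    rw [← map_mul, h]
  rw [(sq_eq _).2, map_cen_b] at h3
  exact h3.symm

theorem betaFun_inj (φ : MulAut (Par hF h2)) (b : F) (hb : b ^ q = b) (h : betaFun φ b = 0) :
    b = 0 := by
  have h1 : φ (cen hF h2 b hb) = 1 := by
    apply Par.ext
    · rw [map_a_zero φ _ (cen_a b hb), one_a]
    · rw [map_cen_b, h, one_b]
  have h3 : cen hF h2 b hb = 1 := by
    have := φ.injective (h1.trans (map_one φ).symm)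
    exact this
  have := congrArg Par.b h3
  rwa [cen_b, one_b] at this

/-- The action on the Frattini quotient as a homomorphism to `Equiv.Perm F`. -/
def autPsi : MulAut (Par hF h2) →* Equiv.Perm F where
  toFun φ :=
    { toFun := alphaFun φ
      invFun := alphaFun φ⁻¹
      left_inv := fun a => by rw [← alphaFun_mul, inv_mul_cancel, alphaFun_one]
      right_inv := fun a => by rw [← alphaFun_mul, mul_inv_cancel, alphaFun_one] }
  map_one' := by
    ext a
    rfl
  map_mul' φ ψ := by
    ext a
    exact alphaFun_mul φ ψ a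

@[simp] theorem autPsi_apply (φ : MulAut (Par hF h2)) (a : F) : autPsi φ a = alphaFun φ a := rfl

/-- `alphaFun` as an additive equivalence. -/
def alphaEquiv (φ : MulAut (Par hF h2)) : F ≃+ F := AddEquiv.mk' (autPsi φ) (alphaFun_add φ)

@[simp] theorem alphaEquiv_apply (φ : MulAut (Par hF h2)) (a : F) :
    alphaEquiv φ a = alphaFun φ a := rfl

/-- Every automorphism acts on the Frattini quotient as `a ↦ l τ(a)`. -/
theorem autPsi_form (φ : MulAut (Par hF h2)) :
    ∃ (l : F) (τ : F ≃+* F), l ≠ 0 ∧ ∀ a, autPsi φ a = l * τ a := by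
  haveI := charP_two h2
  obtain ⟨l, τ, hl, h1⟩ := semilinear_main hF (alphaEquiv φ) (betaFun φ)
    (fun a => betaFun_norm φ a) (fun x y hx hy => betaFun_add φ x y hx hy)
    (fun x hx h => betaFun_inj φ x hx h)
  exact ⟨l, τ, hl, h1⟩

/-! ### The kernel -/

/-- The shear automorphism attached to an additive map into the fixed field. -/
def shearAut (γ : F →+ fixedAdd hF) : MulAut (Par hF h2) where
  toFun x := ⟨x.a, x.b + (γ x.a : F), by
    have := charP_two h2
    have h1 := x.h
    have h3 : ((γ x.a : F)) ^ q = (γ x.a : F) := (γ x.a).2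
    rw [add_pow_q hF, h3]
    linear_combination h1 + (γ x.a : F) * h2⟩
  invFun x := ⟨x.a, x.b + (γ x.a : F), by
    have := charP_two h2
    have h1 := x.h
    have h3 : ((γ x.a : F)) ^ q = (γ x.a : F) := (γ x.a).2
    rw [add_pow_q hF, h3]
    linear_combination h1 + (γ x.a : F) * h2⟩
  left_inv x := by
    have := charP_two h2
    apply Par.ext
    · rfl
    · show x.b + (γ x.a : F) + (γ x.a : F) = x.b
      rw [add_assoc, CharTwo.add_self_eq_zero, add_zero]
  right_inv x := by
    have := charP_two h2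
    apply Par.ext
    · rfl
    · show x.b + (γ x.a : F) + (γ x.a : F) = x.b
      rw [add_assoc, CharTwo.add_self_eq_zero, add_zero]
  map_mul' x y := by
    apply Par.ext
    · rfl
    · show x.b + y.b + x.a * y.a ^ q + (γ (x.a + y.a) : F) =
        x.b + (γ x.a : F) + (y.b + (γ y.a : F)) + x.a * y.a ^ q
      rw [map_add, AddSubgroup.coe_add]; ring

theorem shearAut_a (γ : F →+ fixedAdd hF) (x : Par hF h2) :
    (shearAut (h2 := h2) γ x).a = x.a := rfl

theorem shearAut_b (γ : F →+ fixedAdd hF) (x : Par hF h2) :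
    (shearAut (h2 := h2) γ x).b = x.b + (γ x.a : F) := rfl

/-- Shears form a homomorphic image of the additive group `F →+ fixedAdd hF`. -/
def shearHom : Multiplicative (F →+ fixedAdd hF) →* MulAut (Par hF h2) where
  toFun γ := shearAut (Multiplicative.toAdd γ)
  map_one' := by
    apply MulEquiv.ext
    intro x
    apply Par.ext
    · rfl
    · show x.b + (((0 : F →+ fixedAdd hF) x.a : fixedAdd hF) : F) = x.b
      simp
  map_mul' γ γ' := by
    apply MulEquiv.ext
    intro x
    apply Par.ext
    · rfl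
    · show x.b + (((Multiplicative.toAdd γ + Multiplicative.toAdd γ') x.a : fixedAdd hF) : F) =
        x.b + ((Multiplicative.toAdd γ') x.a : F) + ((Multiplicative.toAdd γ) x.a : F)
      rw [AddMonoidHom.add_apply, AddSubgroup.coe_add]; ring

theorem shearHom_injective : Function.Injective (shearHom (hF := hF) (h2 := h2)) := by
  intro γ γ' h
  apply Multiplicative.toAdd.injective
  ext a
  have h3 := congrArg (fun φ : MulAut (Par hF h2) => (φ (lft hF h2 a)).b) h
  have e : ∀ δ : Multiplicative (F →+ fixedAdd hF),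
      ((shearHom δ : MulAut (Par hF h2)) (lft hF h2 a)).b =
        (lft hF h2 a).b + ((Multiplicative.toAdd δ) a : F) := fun δ => rfl
  simp only [e] at h3
  exact add_left_cancel h3

theorem autPsi_shear (γ : Multiplicative (F →+ fixedAdd hF)) :
    autPsi (shearHom (hF := hF) (h2 := h2) γ) = 1 := by
  ext a
  rfl

/-- The kernel of `autPsi` consists of shears. -/
theorem exists_shear_of_autPsi_eq_one (φ : MulAut (Par hF h2)) (h : autPsi φ = 1) :
    ∃ γ : Multiplicative (F →+ fixedAdd hF), shearHom γ = φ := by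
  have hchar := charP_two h2
  have hα : ∀ a, alphaFun φ a = a := by
    intro a
    have := congrArg (fun p : Equiv.Perm F => p a) h
    exact this
  have hβ : ∀ b, b ^ q = b → betaFun φ b = b := by
    intro b hb
    obtain ⟨a, rfl⟩ := exists_norm_eq hF hb
    rw [betaFun_norm, hα]
  have hφa : ∀ x : Par hF h2, (φ x).a = x.a := fun x => by rw [map_a, hα]
  -- the defect
  have hδfix : ∀ x : Par hF h2, ((φ x).b + x.b) ^ q = (φ x).b + x.b := by
    intro x
    have h1 := (φ x).h
    have h3 := x.h
    rw [hφa] at h1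
    rw [add_pow_q hF]
    linear_combination h1 - h3 + (x.b ^ q - (φ x).b) * h2
  have hδmul : ∀ x y : Par hF h2,
      (φ (x * y)).b + (x * y).b = ((φ x).b + x.b) + ((φ y).b + y.b) := by
    intro x y
    rw [map_mul, mul_b, mul_b, hφa, hφa]
    linear_combination (x.a * y.a ^ q) * h2
  have hδcen : ∀ z : Par hF h2, z.a = 0 → (φ z).b + z.b = 0 := by
    intro z hz
    have e : (φ z).b = betaFun φ z.b :=
      (congrArg (fun w => (φ w).b) (eq_cen z hz)).trans (map_cen_b φ _ _)
    rw [e, hβ _ (fixed_of_center z hz)]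
    exact CharTwo.add_self_eq_zero _
  have hδcongr : ∀ x y : Par hF h2, x.a = y.a → (φ x).b + x.b = (φ y).b + y.b := by
    intro x y hxy
    have hz : (y⁻¹ * x).a = 0 := by
      rw [mul_a, inv_a, hxy]
      exact CharTwo.add_self_eq_zero _
    have e : x = y * (y⁻¹ * x) := by group
    have h3 := hδmul y (y⁻¹ * x)
    rw [← e, hδcen _ hz, add_zero] at h3
    exact h3
  let γ : F →+ fixedAdd hF :=
    { toFun := fun a => ⟨(φ (lft hF h2 a)).b + (lft hF h2 a).b, hδfix _⟩
      map_zero' := by
        apply Subtype.ext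
        show (φ (lft hF h2 0)).b + (lft hF h2 0).b = 0
        exact hδcen _ rfl
      map_add' := by
        intro a c
        apply Subtype.ext
        show (φ (lft hF h2 (a + c))).b + (lft hF h2 (a + c)).b =
          ((φ (lft hF h2 a)).b + (lft hF h2 a).b) + ((φ (lft hF h2 c)).b + (lft hF h2 c).b)
        rw [← hδmul]
        apply hδcongr
        rw [mul_a, lft_a, lft_a, lft_a] }
  refine ⟨Multiplicative.ofAdd γ, ?_⟩
  apply MulEquiv.ext
  intro x
  apply Par.ext
  · show x.a = (φ x).a
    rw [hφa]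
  · show x.b + ((φ (lft hF h2 x.a)).b + (lft hF h2 x.a).b) = (φ x).b
    rw [← hδcongr x (lft hF h2 x.a) rfl]
    linear_combination (x.b) * h2

/-! ### The range -/

/-- The diagonal endomorphism attached to a scalar and a field automorphism. -/
def diagHom (hF : Fintype.card F = q ^ 2) (h2 : (2 : F) = 0) (l : Fˣ) (τ : F ≃+* F) :
    Par hF h2 →* Par hF h2 :=
  MonoidHom.mk'
    (fun x => ⟨(l : F) * τ x.a, ((l : F) * (l : F) ^ q) * τ x.b, by
      have h1 := congrArg τ x.h
      rw [map_add, map_pow, map_mul, map_pow] at h1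
      rw [mul_pow, norm_pow_q hF, mul_pow]
      linear_combination ((l : F) * (l : F) ^ q) * h1⟩)
    (by
      intro x y
      apply Par.ext
      · show (l : F) * τ (x.a + y.a) = (l : F) * τ x.a + (l : F) * τ y.a
        rw [map_add]; ring
      · show ((l : F) * (l : F) ^ q) * τ (x.b + y.b + x.a * y.a ^ q) =
          ((l : F) * (l : F) ^ q) * τ x.b + ((l : F) * (l : F) ^ q) * τ y.b +
            ((l : F) * τ x.a) * ((l : F) * τ y.a) ^ q
        rw [map_add, map_add, map_mul, map_pow, mul_pow]; ring)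

theorem diagHom_a (l : Fˣ) (τ : F ≃+* F) (x : Par hF h2) :
    (diagHom hF h2 l τ x).a = (l : F) * τ x.a := rfl

theorem diagHom_b (l : Fˣ) (τ : F ≃+* F) (x : Par hF h2) :
    (diagHom hF h2 l τ x).b = ((l : F) * (l : F) ^ q) * τ x.b := rfl

theorem diagHom_injective (l : Fˣ) (τ : F ≃+* F) :
    Function.Injective (diagHom hF h2 l τ) := by
  intro x y h
  have hl : (l : F) ≠ 0 := l.ne_zero
  have hnl : (l : F) * (l : F) ^ q ≠ 0 := mul_ne_zero hl (pow_ne_zero _ hl)
  apply Par.ext
  · have := congrArg Par.a h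
    rw [diagHom_a, diagHom_a] at this
    exact τ.injective (mul_left_cancel₀ hl this)
  · have := congrArg Par.b h
    rw [diagHom_b, diagHom_b] at this
    exact τ.injective (mul_left_cancel₀ hnl this)

/-- The diagonal automorphism attached to a scalar and a field automorphism. -/
def diagAut (hF : Fintype.card F = q ^ 2) (h2 : (2 : F) = 0) (l : Fˣ) (τ : F ≃+* F) :
    MulAut (Par hF h2) :=
  MulEquiv.ofBijective (diagHom hF h2 l τ)
    (Finite.injective_iff_bijective.mp (diagHom_injective l τ))

theorem diagAut_apply (l : Fˣ) (τ : F ≃+* F) (x : Par hF h2) :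
    diagAut hF h2 l τ x = diagHom hF h2 l τ x := rfl

theorem autPsi_diag (l : Fˣ) (τ : F ≃+* F) (a : F) :
    autPsi (diagAut hF h2 l τ) a = l * τ a := rfl

/-- Description of the range of `autPsi`. -/
theorem mem_range_autPsi_iff (p : Equiv.Perm F) :
    p ∈ (autPsi (hF := hF) (h2 := h2)).range ↔
      ∃ (l : Fˣ) (τ : F ≃+* F), ∀ a, p a = l * τ a := by
  constructor
  · rintro ⟨φ, rfl⟩
    obtain ⟨l, τ, hl, h⟩ := autPsi_form φ
    exact ⟨Units.mk0 l hl, τ, h⟩
  · rintro ⟨l, τ, h⟩
    refine ⟨diagAut hF h2 l τ, ?_⟩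
    ext a
    rw [h a]
    rfl

end

end Cfsg.Agent.Lib.Helper6.UniAut
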