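import Mathlib
import Cfsg.Prelude.Def_Solvable
import Cfsg.Prelude.Def_Transfer
import Cfsg.Agent.Lib.Helper6.SzAut3
import Cfsg.Agent.Lib.Helper6.UniAut2

/-!
# Automorphisms of the Sylow 2-subgroup of `SU₃(2ⁿ)`, part 3: counting and the structure theorem
(helper6)
-/

set_option autoImplicit false
set_option linter.unusedSectionVars false
set_option linter.style.haveILetI false

namespace Cfsg.Agent.Lib.Helper6.UniAut

open Cfsg Cfsg.Agent.Lib.Helper5 Cfsg.Agent.S1141 Cfsg.Agent.Lib.Helper6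

section GroupLemmas

/-- If the kernel of `Ψ` is a `2`-group and every normal `2`-subgroup lies in the kernel, then
`O₂(G) = ker Ψ`. -/
theorem pCore_two_eq_ker_of_trivial {G R : Type*} [Group G] [Group R] (Ψ : G →* R)
    (h2 : IsPGroup 2 Ψ.ker)
    (htriv : ∀ N : Subgroup G, N.Normal → IsPGroup 2 N → N ≤ Ψ.ker) :
    Cfsg.pCore 2 G = Ψ.ker := by
  apply le_antisymm
  · apply sSup_le
    rintro N ⟨hN, hp⟩
    exact htriv N hN hp
  · apply le_sSup
    exact ⟨inferInstance, h2⟩

end GroupLemmas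

section Field

variable {F : Type*} [Field F] [CharP F 2]

theorem eq_one_of_pow_two_pow {x : F} (j : ℕ) (h : x ^ 2 ^ j = 1) : x = 1 := by
  induction j with
  | zero => simpa using h
  | succ j ih =>
    apply ih
    have h2 : (2 : F) = 0 := CharTwo.two_eq_zero
    have e : x ^ 2 ^ (j + 1) = x ^ 2 ^ j * x ^ 2 ^ j := by
      rw [pow_succ, pow_mul, sq]
    rw [e] at h
    have : (x ^ 2 ^ j - 1) * (x ^ 2 ^ j - 1) = 0 := by
      linear_combination h + (1 - x ^ 2 ^ j) * h2
    rcases mul_eq_zero.mp this with h3 | h3 <;> exact sub_eq_zero.mp h3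

theorem perm_pow_apply (p : Equiv.Perm F) (ν : F) (hp : ∀ a, p a = ν * a) (m : ℕ) (a : F) :
    (p ^ m) a = ν ^ m * a := by
  induction m generalizing a with
  | zero => simp
  | succ m ih =>
    rw [pow_succ, Equiv.Perm.mul_apply, hp, ih]
    ring

end Field

section Count

variable {F : Type*} [Field F] [Fintype F] {n : ℕ}

theorem card_fixedAdd (hF : Fintype.card F = (2 ^ n) ^ 2) :
    Nat.card (fixedAdd hF) = 2 ^ n := by
  exact (Nat.card_congr (Equiv.subtypeEquivRight (fun x => Iff.rfl))).trans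
    (card_fixed (q := 2 ^ n) hF)

theorem card_hom_fixedAdd [CharP F 2] (hF : Fintype.card F = (2 ^ n) ^ 2) :
    Nat.card (F →+ fixedAdd hF) = 2 ^ (2 * n ^ 2) := by
  have hF' : Fintype.card F = 2 ^ (2 * n) := by rw [hF, ← pow_mul, mul_comm]
  letI := ZMod.algebra F 2
  letI : Module (ZMod 2) (fixedAdd hF) := AddCommGroup.zmodModule (by
    intro x
    apply Subtype.ext
    show (2 • x : fixedAdd hF).1 = 0
    rw [AddSubgroup.coe_nsmul, two_nsmul]
    exact CharTwo.add_self_eq_zero _)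
  have e := (AddMonoidHom.toZModLinearMapEquiv 2 (M := F) (M₁ := fixedAdd hF)).toEquiv
  have hfr : Module.finrank (ZMod 2) (fixedAdd hF) = n := by
    have h := Module.natCard_eq_pow_finrank (K := ZMod 2) (V := fixedAdd hF)
    rw [card_fixedAdd hF, Nat.card_zmod] at h
    exact (Nat.pow_right_injective (le_refl 2) h).symm
  rw [Nat.card_congr e, Module.natCard_eq_pow_finrank (K := ZMod 2), Module.finrank_linearMap,
    finrank_zmod_two hF', hfr, Nat.card_zmod]
  congr 1
  ring

end Count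

section Structure

variable {F : Type*} [Field F] [Fintype F] {n : ℕ}
variable {hF : Fintype.card F = (2 ^ n) ^ 2} {h2 : (2 : F) = 0}

/-- The order of the range of `autPsi`. -/
theorem card_range_autPsi :
    Nat.card (autPsi (hF := hF) (h2 := h2)).range = ((2 ^ n) ^ 2 - 1) * (2 * n) := by
  haveI := charP_two h2
  have hF' : Fintype.card F = 2 ^ (2 * n) := by rw [hF, ← pow_mul, mul_comm]
  let J : Fˣ × (F ≃+* F) → Equiv.Perm F := fun p => autPsi (diagAut hF h2 p.1 p.2)
  have hJ : Function.Injective J := by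
    rintro ⟨l, τ⟩ ⟨l', τ'⟩ h
    have h1 : ∀ a, (l : F) * τ a = (l' : F) * τ' a := by
      intro a
      have := congrArg (fun p : Equiv.Perm F => p a) h
      exact this
    have hl : l = l' := by
      apply Units.ext
      have := h1 1
      rwa [map_one, map_one, mul_one, mul_one] at this
    subst hl
    have hτ : τ = τ' := by
      ext a
      exact mul_left_cancel₀ l.ne_zero (h1 a)
    rw [hτ]
  have hrange : ((autPsi (hF := hF) (h2 := h2)).range : Set (Equiv.Perm F)) = Set.range J := by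
    ext p
    rw [SetLike.mem_coe, mem_range_autPsi_iff]
    constructor
    · rintro ⟨l, τ, h⟩
      refine ⟨(l, τ), ?_⟩
      ext a
      rw [h a]
      rfl
    · rintro ⟨⟨l, τ⟩, rfl⟩
      exact ⟨l, τ, fun a => rfl⟩
  have e1 : Nat.card (autPsi (hF := hF) (h2 := h2)).range = Nat.card (Set.range J) := by
    have : Nat.card (autPsi (hF := hF) (h2 := h2)).range =
        Nat.card ((autPsi (hF := hF) (h2 := h2)).range : Set (Equiv.Perm F)) := rfl
    rw [this, hrange]
  rw [e1, Nat.card_range_of_injective hJ, Nat.card_prod, Nat.card_units,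
    Nat.card_eq_fintype_card, hF, card_ringEquiv_self hF']

/-- A normal `2`-subgroup of the automorphism group acts trivially on the Frattini quotient. -/
theorem autPsi_eq_one_of_normal_two (N : Subgroup (MulAut (Par hF h2))) (hN : N.Normal)
    (hp : IsPGroup 2 N) (φ : MulAut (Par hF h2)) (hφ : φ ∈ N) : autPsi φ = 1 := by
  haveI := charP_two h2
  obtain ⟨l, τ, hl, hform⟩ := autPsi_form φ
  have hpow : ∀ k ∈ N, ∃ j : ℕ, k ^ 2 ^ j = 1 := by
    intro k hk
    obtain ⟨j, hj⟩ := hp ⟨k, hk⟩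
    exact ⟨j, by simpa using congrArg Subtype.val hj⟩
  -- step 1: τ fixes every unit
  have hτu : ∀ μ : Fˣ, τ (μ : F) = μ := by
    intro μ
    obtain ⟨d, hd⟩ : ∃ d, d = diagAut hF h2 μ (RingEquiv.refl F) := ⟨_, rfl⟩
    have hD : ∀ a, autPsi d a = (μ : F) * a := by
      intro a
      rw [hd]
      rfl
    have hk : φ * (d * φ⁻¹ * d⁻¹) ∈ N := N.mul_mem hφ (hN.conj_mem φ⁻¹ (N.inv_mem hφ) d)
    have hDinv : ∀ a, (autPsi d)⁻¹ a = (μ : F)⁻¹ * a := by
      intro a
      rw [Equiv.Perm.inv_eq_iff_eq, hD, ← mul_assoc, mul_inv_cancel₀ μ.ne_zero, one_mul]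
    have hval : ∀ a, autPsi (φ * (d * φ⁻¹ * d⁻¹)) a = (τ (μ : F) * (μ : F)⁻¹) * a := by
      intro a
      rw [map_mul, map_mul, map_mul, map_inv, map_inv, Equiv.Perm.mul_apply,
        Equiv.Perm.mul_apply, Equiv.Perm.mul_apply, hDinv]
      obtain ⟨y, hy⟩ : ∃ y, y = (autPsi φ)⁻¹ ((μ : F)⁻¹ * a) := ⟨_, rfl⟩
      have hy' : autPsi φ y = (μ : F)⁻¹ * a := Equiv.Perm.eq_inv_iff_eq.mp hy
      rw [← hy, hD, hform, map_mul]
      rw [hform] at hy'
      linear_combination (τ (μ : F)) * hy'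
    obtain ⟨j, hj⟩ := hpow _ hk
    have h3 := perm_pow_apply _ _ hval (2 ^ j) 1
    rw [← map_pow, hj, map_one (autPsi (hF := hF) (h2 := h2)), Equiv.Perm.one_apply,
      mul_one] at h3
    have h4 := eq_one_of_pow_two_pow j h3.symm
    exact (mul_inv_eq_one₀ μ.ne_zero).mp h4
  have hτ : ∀ a, τ a = a := by
    intro a
    by_cases ha : a = 0
    · rw [ha, map_zero]
    · exact hτu (Units.mk0 a ha)
  -- step 2: the scalar is trivial
  have hval : ∀ a, autPsi φ a = l * a := fun a => by rw [hform, hτ]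
  obtain ⟨j, hj⟩ := hpow φ hφ
  have h3 := perm_pow_apply _ _ hval (2 ^ j) 1
  rw [← map_pow, hj, map_one (autPsi (hF := hF) (h2 := h2)), Equiv.Perm.one_apply,
    mul_one] at h3
  have hl1 : l = 1 := eq_one_of_pow_two_pow j h3.symm
  ext a
  rw [hval, hl1, one_mul, Equiv.Perm.one_apply]

/-- The structure of the automorphism group of a group isomorphic to the model group. -/
theorem aut_par_structure {S : Type*} [Group S] (e : S ≃* Par hF h2) :
    Cfsg.IsElementaryAbelian 2 (Cfsg.pCore 2 (MulAut S)) ∧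
      Nat.card ↥(Cfsg.pCore 2 (MulAut S)) = 2 ^ (2 * n ^ 2) ∧
      Nat.card (MulAut S) = 2 ^ (2 * n ^ 2) * (2 * n * ((2 ^ n) ^ 2 - 1)) := by
  haveI := charP_two h2
  let c : MulAut S ≃* MulAut (Par hF h2) := MulAut.congr e
  let Ψ : MulAut S →* Equiv.Perm F := (autPsi (hF := hF) (h2 := h2)).comp c.toMonoidHom
  let ι : Multiplicative (F →+ fixedAdd hF) →* MulAut S :=
    c.symm.toMonoidHom.comp (shearHom (hF := hF) (h2 := h2))
  have hι : Function.Injective ι := by
    intro a b h
    apply shearHom_injective (hF := hF) (h2 := h2)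
    exact c.symm.injective h
  have hK : ∀ g, g ∈ Ψ.ker ↔ ∃ a, ι a = g := by
    intro g
    rw [MonoidHom.mem_ker]
    constructor
    · intro h
      obtain ⟨γ, hγ⟩ := exists_shear_of_autPsi_eq_one (c g) h
      refine ⟨γ, ?_⟩
      show c.symm (shearHom γ) = g
      rw [hγ, MulEquiv.symm_apply_apply]
    · rintro ⟨γ, rfl⟩
      show autPsi (c (c.symm (shearHom γ))) = 1
      rw [MulEquiv.apply_symm_apply, autPsi_shear]
  have hA : ∀ a : F →+ fixedAdd hF, a + a = 0 := by
    intro a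
    ext x
    show ((a x + a x : fixedAdd hF) : F) = 0
    rw [AddSubgroup.coe_add]
    exact CharTwo.add_self_eq_zero _
  obtain ⟨hel, hcard, hp⟩ := range_of_exponent_two hA ι hι Ψ.ker hK
  have hrange : Ψ.range = (autPsi (hF := hF) (h2 := h2)).range := by
    ext p
    constructor
    · rintro ⟨g, rfl⟩
      exact ⟨c g, rfl⟩
    · rintro ⟨φ, rfl⟩
      refine ⟨c.symm φ, ?_⟩
      show autPsi (c (c.symm φ)) = autPsi φ
      rw [MulEquiv.apply_symm_apply]
  have hrc : Nat.card Ψ.range = ((2 ^ n) ^ 2 - 1) * (2 * n) := by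
    rw [hrange, card_range_autPsi]
  have htriv : ∀ N : Subgroup (MulAut S), N.Normal → IsPGroup 2 N → N ≤ Ψ.ker := by
    intro N hN hpN g hg
    rw [MonoidHom.mem_ker]
    show autPsi (c g) = 1
    have hN' : (N.map c.toMonoidHom).Normal :=
      hN.map c.toMonoidHom c.surjective
    have hpN' : IsPGroup 2 (N.map c.toMonoidHom) := hpN.map c.toMonoidHom
    exact autPsi_eq_one_of_normal_two _ hN' hpN' (c g) (Subgroup.mem_map_of_mem _ hg)
  have hcore := pCore_two_eq_ker_of_trivial Ψ hp htriv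
  rw [hcore]
  refine ⟨hel, ?_, ?_⟩
  · rw [hcard, card_hom_fixedAdd hF]
  · rw [← Subgroup.card_mul_index Ψ.ker, Subgroup.index_ker, hcard, card_hom_fixedAdd hF,
      hrc, mul_comm ((2 ^ n) ^ 2 - 1)]

end Structure

end Cfsg.Agent.Lib.Helper6.UniAut
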