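import Mathlib
import Cfsg.Agent.Lib.Helper6.UniAut3

/-!
# Automorphisms of the Sylow 2-subgroup of `SU₃(2ⁿ)`, part 4: the Sylow 2-subgroup is the model
group (helper6)
-/

set_option autoImplicit false
set_option linter.unusedSectionVars false
set_option linter.style.haveILetI false

namespace Cfsg.Agent.Lib.Helper6.UniAut

open Cfsg Cfsg.Agent.Lib.Helper5 Cfsg.Agent.S1141

variable {F : Type*} [Field F] [Fintype F] {n : ℕ}

theorem card_SU3 (hF : Fintype.card F = (2 ^ n) ^ 2) :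
    Nat.card (Cfsg.SU 3 F (2 ^ n)) =
      (2 ^ n) ^ 3 * (((2 ^ n) ^ 2 - 1) * ((2 ^ n) ^ 3 + 1)) := by
  have h3 := card_SU_mul hF (by omega : 1 ≤ 3)
  rw [card_GU hF 3] at h3
  simp [Finset.prod_range_succ] at h3
  have hpos : 0 < 2 ^ n + 1 := by positivity
  apply Nat.eq_of_mul_eq_mul_left hpos
  rw [h3]
  ring

instance finiteSU3 : Finite (Cfsg.SU 3 F (2 ^ n)) := by
  have hSL : Finite (Matrix.SpecialLinearGroup (Fin 3) F) := by
    unfold Matrix.SpecialLinearGroup; infer_instance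
  infer_instance

theorem sylow_card_SU3 (hn : 1 ≤ n) (hF : Fintype.card F = (2 ^ n) ^ 2)
    (Q : Sylow 2 (Cfsg.SU 3 F (2 ^ n))) : Nat.card Q = (2 ^ n) ^ 3 := by
  have : Fact (Nat.Prime 2) := ⟨Nat.prime_two⟩
  have hmulA := card_SU3 hF
  have hq2 : 2 ∣ 2 ^ n := dvd_pow_self 2 (by omega)
  have hqpos : 0 < 2 ^ n := by positivity
  obtain ⟨k, hk⟩ := IsPGroup.iff_card.mp Q.isPGroup'
  have hidx : ¬ 2 ∣ (Q : Subgroup (Cfsg.SU 3 F (2 ^ n))).index := Q.not_dvd_index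
  have hmul : Nat.card Q * (Q : Subgroup (Cfsg.SU 3 F (2 ^ n))).index =
      Nat.card (Cfsg.SU 3 F (2 ^ n)) := Subgroup.card_mul_index _
  rw [hk] at hmul ⊢
  have hv : ¬ 2 ∣ ((2 ^ n) ^ 2 - 1) * ((2 ^ n) ^ 3 + 1) := by
    have h1 : 2 ∣ (2 ^ n) ^ 2 := dvd_pow hq2 (by norm_num)
    have h3 : 2 ∣ (2 ^ n) ^ 3 := dvd_pow hq2 (by norm_num)
    have h4 : 1 ≤ (2 ^ n) ^ 2 := Nat.one_le_pow _ _ hqpos
    intro h
    rcases (Nat.Prime.dvd_mul Nat.prime_two).mp h with h | h <;> omega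
  have heq : 2 ^ k * (Q : Subgroup (Cfsg.SU 3 F (2 ^ n))).index =
      2 ^ (n * 3) * (((2 ^ n) ^ 2 - 1) * ((2 ^ n) ^ 3 + 1)) := by
    rw [hmul, hmulA, pow_mul]
  rw [two_adic heq hidx hv, pow_mul]

/-- A group isomorphic to a Sylow 2-subgroup of `SU₃(2ⁿ)` is isomorphic to the model group. -/
theorem nonempty_equiv_par {S : Type*} [Group S] (hn : 1 ≤ n)
    (hF : Fintype.card F = (2 ^ n) ^ 2) (h2 : (2 : F) = 0)
    (P : Sylow 2 ↥(Cfsg.SU 3 F (2 ^ n)))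
    (hS : Nonempty (S ≃* ↥(P : Subgroup ↥(Cfsg.SU 3 F (2 ^ n))))) :
    Nonempty (S ≃* Par hF h2) := by
  have : Fact (Nat.Prime 2) := ⟨Nat.prime_two⟩
  obtain ⟨eS⟩ := hS
  obtain ⟨t, ht⟩ := exists_theta hF h2
  let e₁ := MonoidHom.ofInjective (Phi_injective hF h2 t ht)
  have hR : Nat.card (Phi hF h2 t ht).range = (2 ^ n) ^ 3 := by
    rw [← Nat.card_congr e₁.toEquiv]; exact card_par
  have hR2 : IsPGroup 2 (Phi hF h2 t ht).range :=
    IsPGroup.of_card (n := n * 3) (by rw [hR, pow_mul])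
  obtain ⟨Q, hQ⟩ := hR2.exists_le_sylow
  have hRQ : (Phi hF h2 t ht).range = (Q : Subgroup (Cfsg.SU 3 F (2 ^ n))) :=
    Subgroup.eq_of_le_of_card_ge hQ (by rw [sylow_card_SU3 hn hF Q, hR])
  let e₂ := MulEquiv.subgroupCongr hRQ
  let e₃ := Sylow.equiv Q P
  exact ⟨eS.trans (e₁.trans (e₂.trans e₃)).symm⟩

end Cfsg.Agent.Lib.Helper6.UniAut
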