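import Mathlib
import Cfsg.Agent.Lib.Helper6.ZassOdd1

/-!
# Zassenhaus groups with `|G_{ab}| = (n-1)/2` odd: field coordinates and the inversion (helper6)
-/

set_option autoImplicit false
set_option linter.unusedSectionVars false

namespace Cfsg.Agent.Lib.Helper6.ZassPSL

open MulAction Cfsg.Agent.Lib.Helper59

/-- field coordinates on `V` in which `K` acts as the multiplications by the non-zero squares,
the field having `q ≡ 3 (mod 4)` elements -/
structure ZCoordO {G Ω V : Type*} [Group G] [MulAction G Ω] [AddCommGroup V] (D : ZDataO G Ω V)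
    (C : Type*) [Field C] [Fintype C] where
  e : C ≃+ V
  card_mod : Fintype.card C % 4 = 3
  sq_of_K : ∀ k : D.K, ∃ s : C, s ≠ 0 ∧ IsSquare s ∧ ∀ c, e (s * c) = D.act k (e c)
  K_of_sq : ∀ s : C, s ≠ 0 → IsSquare s → ∃ k : D.K, ∀ c, e (s * c) = D.act k (e c)

namespace ZCoordO

variable {G Ω V : Type*} [Group G] [MulAction G Ω] [AddCommGroup V] {D : ZDataO G Ω V}
  {C : Type*} [Field C] [Fintype C] (Z : ZCoordO D C)

include Z

/-- the point with field coordinate `x` -/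
def q (x : C) : Ω := D.pt (Z.e x)

theorem q_zero : Z.q 0 = D.b := by
  unfold q
  rw [map_zero, D.pt_zero]

theorem q_inj : Function.Injective Z.q := fun _ _ h => Z.e.injective (D.pt_inj h)

theorem q_ne_a (x : C) : Z.q x ≠ D.a := D.pt_ne_a _

theorem q_ne_b {x : C} (hx : x ≠ 0) : Z.q x ≠ D.b := by
  rw [← Z.q_zero]
  exact fun h => hx (Z.q_inj h)

theorem exists_q {c : Ω} (hc : c ≠ D.a) : ∃ x, Z.q x = c := by
  obtain ⟨v, hv⟩ := D.exists_pt hc
  exact ⟨Z.e.symm v, by unfold q; rw [AddEquiv.apply_symm_apply, hv]⟩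

/-- the translation by `c` -/
def u (c : C) : G := D.tr (Z.e c)

theorem u_smul_q (c x : C) : Z.u c • Z.q x = Z.q (c + x) := by
  unfold u q
  rw [D.tr_smul_pt, map_add]

theorem u_smul_a (c : C) : Z.u c • D.a = D.a := D.tr_a _

theorem exists_K_of_sq {s : C} (hs : s ≠ 0) (hsq : IsSquare s) :
    ∃ k : D.K, ∀ x, (k : G) • Z.q x = Z.q (s * x) := by
  obtain ⟨k, hk⟩ := Z.K_of_sq s hs hsq
  refine ⟨k, fun x => ?_⟩
  unfold q
  rw [D.smul_pt, hk]

theorem exists_sq_of_K (k : D.K) :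
    ∃ s : C, s ≠ 0 ∧ IsSquare s ∧ ∀ x, (k : G) • Z.q x = Z.q (s * x) := by
  obtain ⟨s, hs, hsq, hk⟩ := Z.sq_of_K k
  refine ⟨s, hs, hsq, fun x => ?_⟩
  unfold q
  rw [D.smul_pt, hk]

theorem not_isSquare_neg_one : ¬ IsSquare (-1 : C) := by
  rw [FiniteField.isSquare_neg_one_iff, Z.card_mod]
  decide

theorem card_odd : Fintype.card C % 2 = 1 := by
  have := Z.card_mod
  omega

theorem ringChar_ne_two : ringChar C ≠ 2 := by
  intro h
  have := FiniteField.even_card_of_char_two h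
  have h2 := Z.card_odd
  omega

/-- the product of two non-squares is a square -/
theorem isSquare_mul_of_not {x y : C} (hx : ¬ IsSquare x) (hy : ¬ IsSquare y) :
    IsSquare (x * y) := by
  classical
  have hx0 : x ≠ 0 := fun h => hx (h ▸ IsSquare.zero)
  have hy0 : y ≠ 0 := fun h => hy (h ▸ IsSquare.zero)
  rw [← quadraticChar_one_iff_isSquare (mul_ne_zero hx0 hy0), map_mul,
    (quadraticChar_neg_one_iff_not_isSquare).mpr hx,
    (quadraticChar_neg_one_iff_not_isSquare).mpr hy]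
  norm_num

/-- one of `x`, `-x` is a square -/
theorem isSquare_or_neg (x : C) : IsSquare x ∨ IsSquare (-x) := by
  by_cases hx : IsSquare x
  · exact Or.inl hx
  · right
    have := Z.isSquare_mul_of_not Z.not_isSquare_neg_one hx
    rwa [neg_one_mul] at this

theorem τ_smul_q_ne_a {x : C} (hx : x ≠ 0) : D.τ • Z.q x ≠ D.a := by
  intro h
  apply Z.q_ne_b hx
  have := congrArg (fun c => D.τ • c) h
  simp only [D.τ_τ, D.τ_a] at this
  exact this

open Classical in
/-- the action of `τ` in coordinates -/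
noncomputable def t (x : C) : C :=
  if h : x = 0 then 0 else Classical.choose (Z.exists_q (Z.τ_smul_q_ne_a h))

theorem q_t {x : C} (hx : x ≠ 0) : Z.q (Z.t x) = D.τ • Z.q x := by
  unfold t
  rw [dif_neg hx]
  exact Classical.choose_spec (Z.exists_q (Z.τ_smul_q_ne_a hx))

theorem t_ne_zero {x : C} (hx : x ≠ 0) : Z.t x ≠ 0 := by
  intro h
  have h1 := Z.q_t hx
  rw [h, Z.q_zero] at h1
  have := congrArg (fun c => D.τ • c) h1
  simp only [D.τ_τ, D.τ_b] at this
  exact Z.q_ne_a x this.symm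

theorem t_t {x : C} (hx : x ≠ 0) : Z.t (Z.t x) = x := by
  apply Z.q_inj
  rw [Z.q_t (Z.t_ne_zero hx), Z.q_t hx, D.τ_τ]

theorem t_ne_self {x : C} (hx : x ≠ 0) : Z.t x ≠ x := by
  intro h
  have h1 := Z.q_t hx
  rw [h] at h1
  exact D.fpf _ h1.symm

theorem t_mul {s x : C} (hsq : IsSquare s) (hs : s ≠ 0) (hx : x ≠ 0) :
    Z.t (s * x) = s⁻¹ * Z.t x := by
  obtain ⟨k, hk⟩ := Z.exists_K_of_sq hs hsq
  apply Z.q_inj
  rw [Z.q_t (mul_ne_zero hs hx), ← hk, ← mul_smul, D.τ_mul_K, mul_smul, ← Z.q_t hx,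
    inv_smul_eq_iff, hk, mul_inv_cancel_left₀ hs]

/-- the constant `c = t 1` -/
noncomputable def c : C := Z.t 1

theorem c_ne_zero : Z.c ≠ 0 := Z.t_ne_zero one_ne_zero

theorem t_of_sq {x : C} (hsq : IsSquare x) (hx : x ≠ 0) : Z.t x = Z.c / x := by
  have h := Z.t_mul hsq hx one_ne_zero
  rw [mul_one] at h
  rw [h, div_eq_inv_mul]
  rfl

theorem c_not_isSquare : ¬ IsSquare Z.c := by
  rintro ⟨r, hr⟩
  have hr0 : r ≠ 0 := by
    intro h
    rw [h, mul_zero] at hr
    exact Z.c_ne_zero hr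
  rcases Z.isSquare_or_neg r with h | h
  · apply Z.t_ne_self hr0
    rw [Z.t_of_sq h hr0, hr]
    field_simp
  · have hnr0 : -r ≠ 0 := neg_ne_zero.mpr hr0
    apply Z.t_ne_self hnr0
    rw [Z.t_of_sq h hnr0, hr]
    field_simp

theorem isSquare_neg_c : IsSquare (-Z.c) := by
  have := Z.isSquare_mul_of_not Z.not_isSquare_neg_one Z.c_not_isSquare
  rwa [neg_one_mul] at this

/-- `τ` acts as `x ↦ c / x` -/
theorem t_eq {x : C} (hx : x ≠ 0) : Z.t x = Z.c / x := by
  by_cases hsq : IsSquare x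
  · exact Z.t_of_sq hsq hx
  · have hy : IsSquare (Z.c / x) := by
      have hxi : ¬ IsSquare x⁻¹ := by
        intro h
        apply hsq
        have := h.inv
        rwa [inv_inv] at this
      rw [div_eq_mul_inv]
      exact Z.isSquare_mul_of_not Z.c_not_isSquare hxi
    have hy0 : Z.c / x ≠ 0 := div_ne_zero Z.c_ne_zero hx
    have h1 := Z.t_of_sq hy hy0
    have h2 : Z.c / (Z.c / x) = x := by
      field_simp [Z.c_ne_zero]
    rw [h2] at h1
    have h3 := Z.t_t hy0
    rw [h1] at h3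
    exact h3

theorem τ_smul_q {x : C} (hx : x ≠ 0) : D.τ • Z.q x = Z.q (Z.c / x) := by
  rw [← Z.q_t hx, Z.t_eq hx]

end ZCoordO

end Cfsg.Agent.Lib.Helper6.ZassPSL
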