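import Mathlib
import Cfsg.Agent.S0885
import Cfsg.Agent.S0739
import Cfsg.Agent.S0740
import Cfsg.Agent.Lib.Helper25.ZassReduce
import Cfsg.Agent.Lib.Helper25.ZassInv

/-!
# Zassenhaus groups with abelian kernel and `|G_{ab}| = (n-1)/2` odd are simple, and `G_{ab}` is
inverted by a fixed-point-free involution (helper6)
-/

set_option autoImplicit false
set_option linter.unusedSectionVars false
set_option linter.style.haveILetI false

namespace Cfsg.Agent.Lib.Helper6.ZassPSL

open MulAction Cfsg.Agent.Lib.Helper59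

/-- A Zassenhaus group of degree `2d + 2` with `d = |G_{ab}|` odd and abelian kernel is simple. -/
theorem isSimpleGroup_of_odd_half {G Ω : Type*} [Group G] [Finite G] [MulAction G Ω] [Fintype Ω]
    (hZ : Cfsg.IsZassenhausGroup G Ω) {a b : Ω} (hab : a ≠ b)
    (hodd : Odd (Nat.card ↥(stabilizer G a ⊓ stabilizer G b : Subgroup G)))
    (hd : 2 * Nat.card ↥(stabilizer G a ⊓ stabilizer G b : Subgroup G) + 2 = Fintype.card Ω)
    (F : Subgroup G) (hFa : F ≤ stabilizer G a) (hFcard : Nat.card F + 1 = Fintype.card Ω)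
    (hFfix : ∀ u ∈ F, u ≠ 1 → ∀ c : Ω, u • c = c → c = a)
    (hFcomm : ∀ u ∈ F, ∀ v ∈ F, u * v = v * u) : IsSimpleGroup G := by
  have htop : (⊤ : Subgroup G) ≠ ⊥ := by
    obtain ⟨g, hg, -⟩ := hZ.2.2.2.1
    intro h
    apply hg
    have : g ∈ (⊤ : Subgroup G) := Subgroup.mem_top g
    rw [h, Subgroup.mem_bot] at this
    exact this
  obtain ⟨N, hNn, hN1, -, hmin⟩ :=
    Cfsg.Agent.Lib.Helper81.exists_minimal_normal_le (⊤ : Subgroup G) htop
  have hNs : IsSimpleGroup N :=
    Cfsg.Agent.Lib.Helper25.ZassReduce.isSimpleGroup_of_minimal_normal hZ N hN1 hmin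
  have hZN : Cfsg.IsZassenhausGroup N Ω :=
    Cfsg.Agent.Lib.Helper25.ZassReduce.isZassenhaus_of_normal_simple hZ N hN1
  have hFcard' : Nat.card F + 1 = Nat.card Ω := by rw [hFcard, Nat.card_eq_fintype_card]
  have hFN : F ≤ N :=
    Cfsg.Agent.Lib.Helper25.ZassReduce.kernel_le_of_isZassenhaus hZ N hZN a F hFa hFcard' hFfix
  have hdvd := Cfsg.Agent.Lib.Helper25.ZassReduce.card_stab2_subgroup_dvd N a b (G := G) (Ω := Ω)
  set e := Nat.card ↥(stabilizer G a ⊓ stabilizer G b : Subgroup G) with he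
  set e2 := Nat.card ↥(stabilizer N a ⊓ stabilizer N b : Subgroup N) with he2
  have hodd2 : Odd e2 := by
    obtain ⟨k, hk⟩ := hdvd
    rw [hk] at hodd
    exact (Nat.odd_mul.mp hodd).1
  have hepos : 0 < e := by
    rcases hodd with ⟨k, hk⟩
    omega
  have hle : e2 ≤ e := Nat.le_of_dvd hepos hdvd
  let φ : F.subgroupOf N ≃* F := Subgroup.subgroupOfEquivOfLe hFN
  have key := Cfsg.Agent.S0885.result hZN hab (2 * e + 1) e2 (by omega) rfl hodd2 (F.subgroupOf N)
    (by
      intro u hu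
      rw [mem_stabilizer_iff]
      have := hFa (Subgroup.mem_subgroupOf.mp hu)
      rw [mem_stabilizer_iff] at this
      exact this)
    (by rw [Nat.card_congr φ.toEquiv, hFcard])
    (by
      intro u hu hu1 c hc
      exact hFfix (u : G) (Subgroup.mem_subgroupOf.mp hu)
        (fun h => hu1 (Subtype.ext h)) c hc)
  have he2e : e2 = e := by
    rcases key with key | ⟨-, ⟨u, v, huv⟩, -⟩
    · omega
    · exfalso
      apply huv
      apply Subtype.ext
      apply Subtype.ext
      exact hFcomm _ (Subgroup.mem_subgroupOf.mp u.2) _ (Subgroup.mem_subgroupOf.mp v.2)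
  -- orders
  have hcG := Cfsg.Agent.Lib.Helper25.ZassInv.card_group_eq
    (fun a b c d hab hcd => zass_two_trans hZ a b c d hab hcd) hab
  have hcN := Cfsg.Agent.Lib.Helper25.ZassInv.card_group_eq
    (fun a b c d hab hcd => zass_two_trans hZN a b c d hab hcd) hab
  rw [← he2, he2e] at hcN
  rw [← he, ← hcN] at hcG
  have hNtop : N = ⊤ := (Subgroup.card_eq_iff_eq_top N).mp hcG.symm
  subst hNtop
  exact (Subgroup.topEquiv (G := G)).symm.isSimpleGroup

/-- In a Zassenhaus group of degree `2d + 2` with `d = |G_{ab}|` odd and abelian kernel, there is a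
fixed-point-free involution interchanging `a` and `b` and inverting `G_{ab}`. -/
theorem exists_inverting_involution {G Ω : Type*} [Group G] [Finite G] [MulAction G Ω] [Fintype Ω]
    (hZ : Cfsg.IsZassenhausGroup G Ω) {a b : Ω} (hab : a ≠ b)
    (hodd : Odd (Nat.card ↥(stabilizer G a ⊓ stabilizer G b : Subgroup G)))
    (hd : 2 * Nat.card ↥(stabilizer G a ⊓ stabilizer G b : Subgroup G) + 2 = Fintype.card Ω)
    (F : Subgroup G) (hFa : F ≤ stabilizer G a) (hFcard : Nat.card F + 1 = Fintype.card Ω)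
    (hFfix : ∀ u ∈ F, u ≠ 1 → ∀ c : Ω, u • c = c → c = a)
    (hFcomm : ∀ u ∈ F, ∀ v ∈ F, u * v = v * u) :
    ∃ τ : G, τ * τ = 1 ∧ τ • a = b ∧ τ • b = a ∧
      (∀ k : G, k • a = a → k • b = b → τ * k * τ⁻¹ = k⁻¹) ∧ ∀ c : Ω, τ • c ≠ c := by
  classical
  have hS := isSimpleGroup_of_odd_half hZ hab hodd hd F hFa hFcard hFfix hFcomm
  have hcG := Cfsg.Agent.Lib.Helper25.ZassInv.card_group_eq
    (fun a b c d hab hcd => zass_two_trans hZ a b c d hab hcd) hab
  set e := Nat.card ↥(stabilizer G a ⊓ stabilizer G b : Subgroup G) with he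
  have hepos : 0 < e := by
    rcases hodd with ⟨k, hk⟩
    omega
  have hGpos : Nat.card G ≠ 0 := Nat.card_pos.ne'
  have h2G : 2 ∣ Nat.card G := by
    rw [hcG, ← hd]
    exact Dvd.dvd.mul_right (Dvd.dvd.mul_right ⟨e + 1, by ring⟩ _) _
  have heG : e ∣ Nat.card G := by
    rw [hcG]
    exact Dvd.intro_left _ rfl
  have hnil : ∀ q : ℕ, q.Prime → q ∣ e →
      ¬ ∃ N : Subgroup G, N.Normal ∧ N.index = q ^ (Nat.card G).factorization q := by
    rintro q hq hqe ⟨N, hNn, hidx⟩
    rcases hS.eq_bot_or_eq_top_of_normal N hNn with rfl | rfl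
    · rw [Subgroup.index_bot] at hidx
      rw [hidx] at h2G
      have h2q : 2 ∣ q := Nat.Prime.dvd_of_dvd_pow Nat.prime_two h2G
      have : 2 ∣ e := h2q.trans hqe
      rcases hodd with ⟨k, hk⟩
      omega
    · rw [Subgroup.index_top] at hidx
      have hk : (Nat.card G).factorization q = 0 := by
        rcases (Nat.pow_eq_one.mp hidx.symm) with h | h
        · exact absurd h hq.one_lt.ne'
        · exact h
      rcases (Nat.factorization_eq_zero_iff _ _).mp hk with h | h | h
      · exact h hq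
      · exact h (hqe.trans heG)
      · exact hGpos h
  obtain ⟨-, -, hinv⟩ := Cfsg.Agent.S0739.result hZ hab hodd hnil
  obtain ⟨⟨τ, hτ2, hτa, hτb⟩, -, -⟩ := Cfsg.Agent.S0740.result hZ hab
  have hττ : τ * τ = 1 := by
    rw [← pow_two, ← hτ2, pow_orderOf_eq_one]
  have hτ1 : τ ≠ 1 := by
    intro h
    rw [h, orderOf_one] at hτ2
    omega
  refine ⟨τ, hττ, hτa, hτb, fun k hka hkb => hinv τ hτa hτb k (mem_stab2.mpr ⟨hka, hkb⟩), ?_⟩
  have heven : Even (Fintype.card Ω) := ⟨e + 1, by omega⟩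
  exact Cfsg.Agent.Lib.Helper25.ZassInv.fpf_of_even
    (fun a b c d hab hcd => zass_two_trans hZ a b c d hab hcd) hab heven hodd hτ1 hττ

end Cfsg.Agent.Lib.Helper6.ZassPSL
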