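import Mathlib
import Cfsg.Agent.Lib.Helper64.ZassEven
import Cfsg.Agent.Lib.Helper57.PSLMap
import Cfsg.Agent.Lib.Helper6.ZassOdd3
import Cfsg.Agent.Lib.Helper6.ZassOdd4

/-!
# Zassenhaus groups with abelian kernel: the three cases (helper6)
-/

set_option autoImplicit false
set_option linter.unusedSectionVars false
set_option linter.style.haveILetI false

namespace Cfsg.Agent.Lib.Helper6.ZassPSL

open MulAction Cfsg.Agent.Lib.Helper59 Cfsg.Agent.Lib.Helper64
open scoped MatrixGroups

section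

variable {G Ω : Type*} [Group G] [MulAction G Ω]

/-- the order `d` of the two-point stabiliser is `n - 1` or at most `(n - 1) / 2` -/
theorem stab2_card_cases [Finite G] [Fintype Ω] (hZ : Cfsg.IsZassenhausGroup G Ω) {a b : Ω}
    (hab : a ≠ b) :
    Nat.card ↥(stabilizer G a ⊓ stabilizer G b) = Fintype.card Ω - 2 ∨
      2 * Nat.card ↥(stabilizer G a ⊓ stabilizer G b) ≤ Fintype.card Ω - 2 := by
  obtain ⟨x₀, hx₀1, hx₀a, hx₀b⟩ := zass_stab2_ne_bot hZ hab
  have hex : ∃ c : Ω, x₀ • c ≠ c := by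
    by_contra hcon
    push Not at hcon
    apply hx₀1
    have := hZ.1
    apply FaithfulSMul.eq_of_smul_eq_smul (α := Ω)
    intro e
    rw [hcon e, one_smul]
  obtain ⟨c, hc⟩ := hex
  have hca : c ≠ a := fun h => hc (by rw [h, hx₀a])
  have hcb : c ≠ b := fun h => hc (by rw [h, hx₀b])
  by_cases hd : Nat.card ↥(stabilizer G a ⊓ stabilizer G b) = Fintype.card Ω - 2
  · exact Or.inl hd
  · right
    have hne : stab2Orb G a b c ≠ ({a, b} : Set Ω)ᶜ := by
      intro h
      apply hd
      rw [← zass_stab2_orbit_ncard hZ hab hca hcb, h, ncard_compl_pair hab]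
    obtain ⟨y, hy, hyc⟩ : ∃ y ∈ ({a, b} : Set Ω)ᶜ, y ∉ stab2Orb G a b c := by
      by_contra hcon
      push Not at hcon
      exact hne (Set.Subset.antisymm (stab2Orb_subset hca hcb) hcon)
    simp only [Set.mem_compl_iff, Set.mem_insert_iff, Set.mem_singleton_iff, not_or] at hy
    have hdisj : Disjoint (stab2Orb G a b c) (stab2Orb G a b y) := by
      rw [Set.disjoint_left]
      intro w hw1 hw2
      apply hyc
      obtain ⟨h₁, h₁a, h₁b, h₁c⟩ := mem_stab2Orb.mp hw1
      obtain ⟨h₂, h₂a, h₂b, h₂y⟩ := mem_stab2Orb.mp hw2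
      have h₂a' : h₂⁻¹ • a = a := by rw [inv_smul_eq_iff, h₂a]
      have h₂b' : h₂⁻¹ • b = b := by rw [inv_smul_eq_iff, h₂b]
      refine mem_stab2Orb.mpr ⟨h₂⁻¹ * h₁, ?_, ?_, ?_⟩
      · rw [mul_smul, h₁a, h₂a']
      · rw [mul_smul, h₁b, h₂b']
      · rw [mul_smul, h₁c, ← h₂y, inv_smul_smul]
    have hunion : (stab2Orb G a b c ∪ stab2Orb G a b y).ncard ≤ Fintype.card Ω - 2 := by
      rw [← ncard_compl_pair hab]
      exact Set.ncard_le_ncard
        (Set.union_subset (stab2Orb_subset hca hcb) (stab2Orb_subset hy.1 hy.2))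
    rw [Set.ncard_union_eq hdisj, zass_stab2_orbit_ncard hZ hab hca hcb,
      zass_stab2_orbit_ncard hZ hab hy.1 hy.2] at hunion
    omega

/-- if `d = n - 1`, the group is sharply 3-transitive -/
theorem sharp3_of_card [Finite G] [Fintype Ω] (hZ : Cfsg.IsZassenhausGroup G Ω) {a b : Ω}
    (hab : a ≠ b) (hd : Nat.card ↥(stabilizer G a ⊓ stabilizer G b) = Fintype.card Ω - 2) :
    IsMultiplyPretransitive G Ω 3 ∧ ∀ t : Fin 3 ↪ Ω, stabilizer G t = ⊥ := by
  constructor
  · rw [isMultiplyPretransitive_iff]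
    -- every triple can be moved to one starting with `a, b`
    have key : ∀ t : Fin 3 ↪ Ω, ∃ g : G, g • t 0 = a ∧ g • t 1 = b := by
      intro t
      exact zass_two_trans hZ (t 0) (t 1) a b (t.injective.ne (by decide)) hab
    intro t t'
    obtain ⟨g, hg0, hg1⟩ := key t
    obtain ⟨g', hg0', hg1'⟩ := key t'
    have h2a : g • t 2 ≠ a := by
      rw [← hg0]
      exact fun h => (t.injective.ne (by decide : (2 : Fin 3) ≠ 0)) (MulAction.injective g h)
    have h2b : g • t 2 ≠ b := by
      rw [← hg1]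
      exact fun h => (t.injective.ne (by decide : (2 : Fin 3) ≠ 1)) (MulAction.injective g h)
    have h2a' : g' • t' 2 ≠ a := by
      rw [← hg0']
      exact fun h => (t'.injective.ne (by decide : (2 : Fin 3) ≠ 0)) (MulAction.injective g' h)
    have h2b' : g' • t' 2 ≠ b := by
      rw [← hg1']
      exact fun h => (t'.injective.ne (by decide : (2 : Fin 3) ≠ 1)) (MulAction.injective g' h)
    obtain ⟨k, hka, hkb, hk⟩ :=
      zass_stab2_trans_of_card hZ hab hd (g • t 2) (g' • t' 2) h2a h2b h2a' h2b'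
    refine ⟨g'⁻¹ * k * g, ?_⟩
    ext i
    rw [Function.Embedding.smul_apply, mul_smul, mul_smul, inv_smul_eq_iff]
    fin_cases i
    · show k • g • t 0 = g' • t' 0
      rw [hg0, hka, hg0']
    · show k • g • t 1 = g' • t' 1
      rw [hg1, hkb, hg1']
    · show k • g • t 2 = g' • t' 2
      exact hk
  · intro t
    rw [eq_bot_iff]
    intro g hg
    rw [mem_stabilizer_iff] at hg
    rw [Subgroup.mem_bot]
    have h : ∀ i, g • t i = t i := fun i => by
      rw [← Function.Embedding.smul_apply, hg]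
    exact zass_three hZ g (t 0) (t 1) (t 2) (t.injective.ne (by decide))
      (t.injective.ne (by decide)) (t.injective.ne (by decide)) (h 0) (h 1) (h 2)

end

/-- the order of a regular kernel -/
theorem kernel_card {G Ω : Type*} [Group G] [MulAction G Ω] [Fintype Ω] {a b : Ω} (hab : a ≠ b)
    (F : Subgroup G) (hFle : F ≤ stabilizer G a)
    (hFtr : ∀ y z : Ω, y ≠ a → z ≠ a → ∃ u ∈ F, u • y = z)
    (hFfree : ∀ u ∈ F, ∀ c : Ω, c ≠ a → u • c = c → u = 1) :
    Nat.card F + 1 = Fintype.card Ω := by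
  classical
  have hbij : Function.Bijective (fun u : F => (⟨(u : G) • b, by
      intro h
      have h1 : (u : G) • b = (u : G) • a := by rw [h, hFle u.2]
      exact hab (MulAction.injective (u : G) h1).symm⟩ : {c : Ω // c ≠ a})) := by
    constructor
    · intro u u' h
      have h1 : (u : G) • b = (u' : G) • b := congrArg Subtype.val h
      have h2 : ((u' : G)⁻¹ * (u : G)) • b = b := by
        rw [mul_smul, h1, inv_smul_smul]
      have := hFfree _ (F.mul_mem (F.inv_mem u'.2) u.2) b (Ne.symm hab) h2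
      apply Subtype.ext
      exact (inv_mul_eq_one.mp this).symm
    · rintro ⟨c, hc⟩
      obtain ⟨u, hu, huc⟩ := hFtr b c (Ne.symm hab) hc
      exact ⟨⟨u, hu⟩, Subtype.ext huc⟩
  rw [Nat.card_congr (Equiv.ofBijective _ hbij), Nat.card_eq_fintype_card,
    Fintype.card_subtype_compl, Fintype.card_subtype_eq]
  have : 0 < Fintype.card Ω := Fintype.card_pos_iff.mpr ⟨a⟩
  omega

/-- the case `d = (n - 1) / 2` odd -/
theorem psl_of_odd_half {G Ω : Type*} [Group G] [Finite G] [MulAction G Ω] [Fintype Ω]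
    (hZ : Cfsg.IsZassenhausGroup G Ω) {a b : Ω} (hab : a ≠ b)
    (hodd : Odd (Nat.card ↥(stabilizer G a ⊓ stabilizer G b : Subgroup G)))
    (hd : 2 * Nat.card ↥(stabilizer G a ⊓ stabilizer G b : Subgroup G) + 2 = Fintype.card Ω)
    (F : Subgroup G) (hFle : F ≤ stabilizer G a)
    (hFconj : ∀ g : G, g • a = a → ∀ u ∈ F, g * u * g⁻¹ ∈ F)
    (hFcomm : ∀ u ∈ F, ∀ v ∈ F, u * v = v * u)
    (hFtr : ∀ y z : Ω, y ≠ a → z ≠ a → ∃ u ∈ F, u • y = z)
    (hFfree : ∀ u ∈ F, ∀ c : Ω, c ≠ a → u • c = c → u = 1) :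
    ∃ (C : Type) (_ : Field C) (_ : Fintype C), ringChar C ≠ 2 ∧ Nonempty (G ≃* PSL(2, C)) := by
  classical
  have hfaith : FaithfulSMul G Ω := hZ.1
  have hthree := hZ.2.2.1
  set K : Subgroup G := stabilizer G a ⊓ stabilizer G b with hKdef
  have hFcard := kernel_card hab F hFle hFtr hFfree
  have hFfix : ∀ u ∈ F, u ≠ 1 → ∀ c : Ω, u • c = c → c = a := by
    intro u hu hu1 c hc
    by_contra hca
    exact hu1 (hFfree u hu c hca hc)
  obtain ⟨τ, hτsq, hτa, hτb, hinv, hfpf⟩ :=
    exists_inverting_involution hZ hab hodd hd F hFle hFcard hFfix hFcomm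
  letI : CommGroup F :=
    { (inferInstance : Group F) with
      mul_comm := fun u v => Subtype.ext (hFcomm u u.2 v v.2) }
  let D : ZDataO G Ω (Additive F) :=
    { a := a
      b := b
      hab := hab
      three := hthree
      tr := fun v => ((Additive.toMul v : F) : G)
      tr_add := fun v w => rfl
      tr_inj := fun v w h => Additive.toMul.injective (Subtype.ext h)
      tr_a := fun v => hFle (Additive.toMul v : F).2
      conj := fun g hg v => ⟨Additive.ofMul ⟨g * ((Additive.toMul v : F) : G) * g⁻¹,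
        hFconj g hg _ (Additive.toMul v : F).2⟩, rfl⟩
      reg := fun c hc => by
        obtain ⟨u, hu, huc⟩ := hFtr b c (Ne.symm hab) hc
        exact ⟨Additive.ofMul ⟨u, hu⟩, huc⟩
      free := fun v c hvc hc => by
        have := hFfree _ (Additive.toMul v : F).2 c hc hvc
        apply Additive.toMul.injective
        apply Subtype.ext
        exact this
      τ := τ
      τ_sq := hτsq
      τ_a := hτa
      τ_b := hτb
      inv := hinv
      fpf := hfpf }
  have hDK : D.K = K := rfl
  have hVcard : Nat.card (Additive F) = Nat.card F := Nat.card_congr Additive.toMul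
  have hK' : 2 * Nat.card D.K + 1 = Nat.card (Additive F) := by
    rw [hDK, hVcard]
    omega
  have hG : Nat.card G = (Nat.card (Additive F) + 1) * Nat.card (Additive F) * Nat.card D.K := by
    rw [hDK, hVcard, Cfsg.Agent.Lib.Helper25.ZassInv.card_group_eq
      (fun a b c d hab hcd => zass_two_trans hZ a b c d hab hcd) hab, ← hFcard]
    rfl
  haveI : Finite (Additive F) := Finite.of_equiv F Additive.ofMul
  obtain ⟨C, fC, ftC, hcardC, ⟨iso⟩⟩ := D.exists_iso hK' (by rw [hDK]; exact hodd) hG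
  -- transfer to a field in `Type`
  obtain ⟨p, -, n, hp, hpn⟩ := FiniteField.card' C
  haveI : Fact p.Prime := ⟨hp⟩
  letI : Fintype (GaloisField p n) := Fintype.ofFinite _
  have hcardGF : Fintype.card (GaloisField p n) = p ^ (n : ℕ) := by
    rw [← Nat.card_eq_fintype_card, GaloisField.card p n n.ne_zero]
  have hcardC' : Fintype.card C = Fintype.card (GaloisField p n) := by
    rw [hcardGF, hpn]
  let φ : C ≃+* GaloisField p n := FiniteField.ringEquivOfCardEq hcardC'
  refine ⟨GaloisField p n, inferInstance, inferInstance, ?_,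
    ⟨iso.trans (Cfsg.Agent.Lib.Helper57.pslMapEquiv φ)⟩⟩
  intro h2
  have heven := FiniteField.even_card_of_char_two h2
  rw [← hcardC', hcardC, hVcard] at heven
  have hK1 : Nat.card F = 2 * Nat.card K + 1 := by omega
  rw [hK1] at heven
  omega

end Cfsg.Agent.Lib.Helper6.ZassPSL
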