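import Mathlib
import Cfsg.Agent.Lib.Helper6.ZassPSL7

/-!
# Zassenhaus groups: the Frobenius kernel with the cardinality and regularity statements (helper6)
-/

set_option autoImplicit false
set_option linter.unusedSectionVars false

namespace Cfsg.Agent.Lib.Helper6.ZassPSL

open MulAction Cfsg.Agent.Lib.Helper59

variable {G Ω : Type*} [Group G] [MulAction G Ω]

/-- the Frobenius kernel of a point stabiliser, in the forms used by the Zassenhaus statements -/
theorem exists_kernel' [Finite G] [Fintype Ω] (hZ : Cfsg.IsZassenhausGroup G Ω) {a b : Ω}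
    (hab : a ≠ b) :
    ∃ F : Subgroup G, F ≤ stabilizer G a ∧ (∀ g : G, g • a = a → ∀ u ∈ F, g * u * g⁻¹ ∈ F) ∧
      (∀ u ∈ F, u ≠ 1 → ∀ c : Ω, u • c = c → c = a) ∧
      (∀ c d : Ω, c ≠ a → d ≠ a → ∃ u ∈ F, u • c = d) ∧
      (F.subgroupOf (stabilizer G a)).Normal ∧
      (∀ y z : Ω, y ≠ a → z ≠ a → ∃! u : F, (u : G) • y = z) ∧
      Nat.card F + 1 = Fintype.card Ω := by
  classical
  obtain ⟨F, hFle, hFconj, hFfix, hFtr⟩ := exists_kernel hZ hab
  have hFn : (F.subgroupOf (stabilizer G a)).Normal := by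
    constructor
    intro u hu g
    rw [Subgroup.mem_subgroupOf] at hu ⊢
    exact hFconj g g.2 u hu
  have hFfree : ∀ u ∈ F, ∀ c : Ω, c ≠ a → u • c = c → u = 1 := by
    intro u hu c hc huc
    by_contra hu1
    exact hc (hFfix u hu hu1 c huc)
  have hreg : ∀ y z : Ω, y ≠ a → z ≠ a → ∃! u : F, (u : G) • y = z := by
    intro y z hy hz
    obtain ⟨u, hu, huy⟩ := hFtr y z hy hz
    refine ⟨⟨u, hu⟩, huy, ?_⟩
    intro u' hu'
    have h1 : ((u : G)⁻¹ * (u' : G)) • y = y := by
      rw [mul_smul, hu', ← huy, inv_smul_smul]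
    have := hFfree _ (F.mul_mem (F.inv_mem hu) u'.2) y hy h1
    apply Subtype.ext
    exact (inv_mul_eq_one.mp this).symm
  refine ⟨F, hFle, hFconj, hFfix, hFtr, hFn, hreg, ?_⟩
  have hbij : Function.Bijective (fun u : F => (⟨(u : G) • b, by
      intro h
      have h1 : (u : G) • b = (u : G) • a := by rw [h, hFle u.2]
      exact hab (MulAction.injective (u : G) h1).symm⟩ : {c : Ω // c ≠ a})) := by
    constructor
    · intro u u' h
      have h1 : (u : G) • b = (u' : G) • b := congrArg Subtype.val h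
      obtain ⟨w, -, hw⟩ := hreg b ((u' : G) • b) (Ne.symm hab) (by
        intro h
        have h1 : (u' : G) • b = (u' : G) • a := by rw [h, hFle u'.2]
        exact hab (MulAction.injective (u' : G) h1).symm)
      rw [hw u h1, hw u' rfl]
    · rintro ⟨c, hc⟩
      obtain ⟨u, hu, huc⟩ := hFtr b c (Ne.symm hab) hc
      exact ⟨⟨u, hu⟩, Subtype.ext huc⟩
  rw [Nat.card_congr (Equiv.ofBijective _ hbij), Nat.card_eq_fintype_card,
    Fintype.card_subtype_compl, Fintype.card_subtype_eq]
  have : 0 < Fintype.card Ω := Fintype.card_pos_iff.mpr ⟨a⟩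
  omega

end Cfsg.Agent.Lib.Helper6.ZassPSL
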